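import Mathlib
import Groth.Prelude.Def_AlgGrp
import Groth.Agent.Lib.Helper4.StalkEtale2
import Groth.Agent.Lib.Helper2.Sch.GrpHomFlat2

/-!
# A monomorphism of locally algebraic groups inducing iso on completed local rings at the unit is an open immersion (helper4)
-/

set_option backward.isDefEq.respectTransparency.types false
set_option synthInstance.maxHeartbeats 400000
set_option autoImplicit false
set_option linter.unusedSectionVars false
set_option linter.style.haveILetI false
set_option linter.unusedSimpArgs false
universe u v w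
open CategoryTheory CategoryTheory.Limits AlgebraicGeometry TopologicalSpace Opposite
open MonoidalCategory CartesianMonoidalCategory MonObj GrpObj

namespace Groth.Agent.Lib.Helper4.GrpOpenImm1

theorem main (k : Type u) [Field k]
    (H G : Over (Spec (CommRingCat.of k))) [GrpObj H] [GrpObj G]
    [LocallyOfFiniteType H.hom] [LocallyOfFiniteType G.hom] (f : H ⟶ G) [IsMonHom f] [Mono f.left]
    (pt : ↥(𝟙_ (Over (Spec (CommRingCat.of k)))).left)
    (h : ∀ n : ℕ,
      Function.Surjective ((Ideal.Quotient.mk (IsLocalRing.maximalIdeal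
          ↑(H.left.presheaf.stalk (η[H].left.base pt)) ^ (n + 1))).comp
        (f.left.stalkMap (η[H].left.base pt)).hom) ∧
      ∀ a : ↑(G.left.presheaf.stalk (f.left.base (η[H].left.base pt))),
        (f.left.stalkMap (η[H].left.base pt)).hom a ∈
            IsLocalRing.maximalIdeal ↑(H.left.presheaf.stalk (η[H].left.base pt)) ^ (n + 1) ↔
          a ∈ IsLocalRing.maximalIdeal ↑(G.left.presheaf.stalk (f.left.base (η[H].left.base pt))) ^ (n + 1)) :
    IsOpenImmersion f.left := by
  haveI : LocallyOfFiniteType (f.left ≫ G.hom) := by rw [Over.w]; infer_instance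
  haveI : LocallyOfFiniteType f.left := locallyOfFiniteType_of_comp f.left G.hom
  haveI : IsLocallyNoetherian G.left := LocallyOfFiniteType.isLocallyNoetherian G.hom
  haveI : LocallyOfFinitePresentation f.left :=
    LocallyOfFinitePresentation.iff_locallyOfFiniteType.2 inferInstance
  obtain ⟨x, hx⟩ : ∃ x : H.left, x = η[H].left.base pt := ⟨_, rfl⟩
  rw [← hx] at h
  have hres : Function.Surjective (f.left.residueFieldMap x) := by
    apply Groth.Agent.Lib.Helper4.StalkEtale2.residueFieldMap_surjective_of_stalk_res
    intro s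
    obtain ⟨r, hr⟩ := (h 0).1 (Ideal.Quotient.mk _ s)
    refine ⟨r, ?_⟩
    rw [RingHom.comp_apply, Eq.comm, Ideal.Quotient.eq, zero_add, pow_one] at hr
    exact hr
  have het : ∃ U : H.left.Opens, x ∈ U ∧ Etale (U.ι ≫ f.left) := by
    rw [Groth.Agent.Lib.Helper4.StalkEtale2.S2734_main f.left x (Or.inl hres)]
    intro n
    cases n with
    | zero =>
      constructor
      · intro t
        obtain ⟨s, rfl⟩ := Ideal.Quotient.mk_surjective t
        refine ⟨0, ?_⟩
        rw [RingHom.comp_apply, Ideal.Quotient.eq, pow_zero, Ideal.one_eq_top]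
        trivial
      · rw [pow_zero, pow_zero, Ideal.one_eq_top, Ideal.one_eq_top, eq_top_iff]
        intro a _
        rw [RingHom.mem_ker, RingHom.comp_apply, Ideal.Quotient.eq_zero_iff_mem]
        trivial
    | succ m =>
      refine ⟨(h m).1, ?_⟩
      ext a
      rw [RingHom.mem_ker, RingHom.comp_apply, Ideal.Quotient.eq_zero_iff_mem]
      exact (h m).2 a
  have hflat : (f.left.stalkMap x).hom.Flat :=
    ((Groth.Agent.Lib.Helper4.StalkEtale1.exists_etale_nhd_iff_flat_formallyUnramified f.left x).mp
      het).1
  haveI : Subsingleton (Spec (CommRingCat.of k)) :=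
    inferInstanceAs (Subsingleton (PrimeSpectrum k))
  haveI : Flat H.hom := inferInstance
  haveI : Flat f.left := Groth.Agent.Helper2.GrpHom.S5336_main k H G f ⟨x, hflat⟩
  exact IsOpenImmersion.of_flat_of_mono f.left

end Groth.Agent.Lib.Helper4.GrpOpenImm1
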