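import Mathlib
import Groth.Prelude.Def_Grpd
import Groth.Prelude.Def_Mor2
import Groth.Agent.Lib.Helper4.GrpdGlue1
import Groth.Agent.Lib.Helper4.GrpdRes1
import Groth.Agent.Lib.Helper4.GrpdQuotMono1
import Groth.Agent.Lib.Helper4.AffQuotCoeq1
import Groth.Agent.Lib.Helper2.Grpd.FiniteFlatQuot
import Groth.Agent.Lib.Helper2.Grpd.Points
import Groth.Agent.Lib.Helper2.Grpd.InvOpen4

/-!
# Quotient of a scheme by a finite locally free groupoid with orbits in affine opens: general case (S4085) (helper4)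
-/

set_option backward.isDefEq.respectTransparency.types false
set_option synthInstance.maxHeartbeats 400000
set_option autoImplicit false
set_option linter.unusedSectionVars false
set_option linter.style.haveILetI false
set_option linter.unusedSimpArgs false
universe u v w
open CategoryTheory CategoryTheory.Limits AlgebraicGeometry TopologicalSpace Opposite
open Groth.Agent.Lib.Helper4.GrpdGlue1 Groth.Agent.Lib.Helper4.GrpdRes1
open Groth.Agent.Lib.Helper4.GrpdQuotMono1 Groth.Agent.Lib.Helper4.AffQuotCoeq1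
open Groth.Agent.Helper2.GrpdLib

namespace Groth.Agent.Lib.Helper4.GrpdQuotGen1

variable {S : Scheme.{u}} (G : Grpd.GroupoidScheme S)

theorem isSTD_Spec_map {R S : CommRingCat.{u}} (φ : R ⟶ S) (h : Function.Injective φ.hom) :
    IsSchemeTheoreticallyDominant (Spec.map φ) := by
  rw [isSchemeTheoreticallyDominant_iff]
  refine Scheme.IdealSheafData.ext_of_isAffine ?_
  rw [Scheme.Hom.ker_apply]
  simp only [Scheme.IdealSheafData.ideal_bot, Pi.bot_apply]
  rw [← RingHom.injective_iff_ker_eq_bot]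
  have h1 : (Spec.map φ).appTop = (Scheme.ΓSpecIso R).hom ≫ φ ≫ (Scheme.ΓSpecIso S).inv := by
    rw [← Scheme.ΓSpecIso_naturality_assoc, Iso.hom_inv_id, Category.comp_id]
  have h2 : Function.Injective (Spec.map φ).appTop.hom := by
    rw [h1]
    simp only [CommRingCat.hom_comp, RingHom.coe_comp]
    exact ((ConcreteCategory.bijective_of_isIso (Scheme.ΓSpecIso S).inv).1.comp h).comp
      (ConcreteCategory.bijective_of_isIso (Scheme.ΓSpecIso R).hom).1
  exact h2

section AffG
variable [IsAffine G.U] [IsAffine G.R] [IsFinite G.s] [Flat G.s]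
  [LocallyOfFinitePresentation G.s] [IsFinite G.t]

theorem toQuot_appTop :
    G.toQuot.appTop = (Scheme.ΓSpecIso (CommRingCat.of G.invariants)).hom ≫
      CommRingCat.ofHom G.invariants.subtype := by
  unfold Grpd.GroupoidScheme.toQuot
  rw [Scheme.Hom.comp_appTop, Scheme.toSpecΓ_appTop, Scheme.ΓSpecIso_naturality]

theorem toQuot_appTop_injective : Function.Injective G.toQuot.appTop.hom := by
  rw [toQuot_appTop]
  simp only [CommRingCat.hom_comp, RingHom.coe_comp]
  exact Subtype.val_injective.comp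
    (ConcreteCategory.bijective_of_isIso (Scheme.ΓSpecIso (CommRingCat.of G.invariants)).hom).1

theorem toQuot_exact (a : Γ(G.U, ⊤)) (ha : G.s.appTop.hom a = G.t.appTop.hom a) :
    ∃ γ, G.toQuot.appTop.hom γ = a := by
  refine ⟨(Scheme.ΓSpecIso (CommRingCat.of G.invariants)).inv.hom ⟨a, ha⟩, ?_⟩
  rw [toQuot_appTop]
  have h1 : (Scheme.ΓSpecIso (CommRingCat.of G.invariants)).hom.hom
      ((Scheme.ΓSpecIso (CommRingCat.of G.invariants)).inv.hom ⟨a, ha⟩) = ⟨a, ha⟩ := by
    rw [← CommRingCat.comp_apply, Iso.inv_hom_id]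
    rfl
  rw [CommRingCat.hom_comp, RingHom.comp_apply, h1]
  rfl

theorem isSTD_toQuot : IsSchemeTheoreticallyDominant G.toQuot := by
  unfold Grpd.GroupoidScheme.toQuot
  haveI : IsSchemeTheoreticallyDominant (Spec.map (CommRingCat.ofHom G.invariants.subtype)) :=
    isSTD_Spec_map _ Subtype.val_injective
  haveI : IsIso G.U.toSpecΓ := inferInstance
  infer_instance

theorem isIntegralHom_toQuot' : IsIntegralHom G.toQuot := by
  unfold Grpd.GroupoidScheme.toQuot
  have hint : Algebra.IsIntegral G.invariants Γ(G.U, ⊤) := (isRG_of_groupoid G).isIntegral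
  have h1 : IsIntegralHom (Spec.map (CommRingCat.ofHom G.invariants.subtype)) := by
    rw [IsIntegralHom.SpecMap_iff]
    exact fun x => hint.isIntegral x
  have : IsIso G.U.toSpecΓ := inferInstance
  infer_instance

theorem isOpenMap_toQuot [Flat G.t] [LocallyOfFinitePresentation G.t] :
    IsOpenMap G.toQuot.base := by
  haveI := isIntegralHom_toQuot' G
  haveI : UniversallyOpen G.t := UniversallyOpen.of_flat G.t
  exact isOpenMap_of_orbits G.s G.t G.toQuot G.toQuot.isClosedMap (surjective_toQuot' G).1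
    G.t.isOpenMap (toQuot_eq_iff G)

end AffG


section Loc
variable [IsFinite G.s] [Flat G.s] [LocallyOfFinitePresentation G.s]
variable (W : G.U.Opens) (hW : G.s ⁻¹ᵁ W = G.t ⁻¹ᵁ W)

/-- fibres of the quotient map of the restricted groupoid, in terms of arrows of `G` -/
theorem fib_toQuot (hWa : IsAffineOpen W) (x y : (W : Scheme.{u})) :
    (res G W hW).toQuot.base x = (res G W hW).toQuot.base y ↔
      ∃ r : G.R, G.t.base r = W.ι.base x ∧ G.s.base r = W.ι.base y := by
  haveI := isAffine_res_U G W hW hWa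
  haveI := isAffine_res_R G W hW hWa
  refine (toQuot_eq_iff (res G W hW) x y).trans ?_
  constructor
  · rintro ⟨r, hr1, hr2⟩
    obtain ⟨r', hr'⟩ : ∃ r' : (RW G W : Scheme.{u}), r' = r := ⟨r, rfl⟩
    have h1 : (tW G W hW).base r' = x := by rw [hr']; exact hr1
    have h2 : (sW G W).base r' = y := by rw [hr']; exact hr2
    refine ⟨(RW G W).ι.base r', ?_, ?_⟩
    · rw [← Scheme.Hom.comp_apply, ← tW_ι G W hW, Scheme.Hom.comp_apply, h1]
    · rw [← Scheme.Hom.comp_apply, ← sW_ι G W, Scheme.Hom.comp_apply, h2]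
  · rintro ⟨r, hr1, hr2⟩
    have hr : r ∈ RW G W := by
      change G.s.base r ∈ W
      rw [hr2]
      exact y.2
    let r' : (RW G W : Scheme.{u}) := ⟨r, hr⟩
    have h1 : (tW G W hW).base r' = x := by
      apply W.ι.isOpenEmbedding.injective
      rw [← hr1, ← Scheme.Hom.comp_apply, tW_ι]
      rfl
    have h2 : (sW G W).base r' = y := by
      apply W.ι.isOpenEmbedding.injective
      rw [← hr2, ← Scheme.Hom.comp_apply, sW_ι]
      rfl
    exact ⟨r', h1, h2⟩

theorem coeqV_toQuot (hWa : IsAffineOpen W)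
    (V : (Spec (CommRingCat.of (res G W hW).invariants)).Opens) (W' : G.U.Opens) (hle : W' ≤ W)
    (hV : W.ι ''ᵁ ((res G W hW).toQuot ⁻¹ᵁ V) = W') (qV : (W' : Scheme.{u}) ⟶ V)
    (hqV : qV ≫ V.ι = G.U.homOfLE hle ≫ (res G W hW).toQuot) : IsCoeqOn G.s G.t W' qV := by
  haveI := isAffine_res_U G W hW hWa
  haveI := isAffine_res_R G W hW hWa
  haveI : IsAffine (W : Scheme.{u}) := hWa
  haveI : IsAffine (RW G W : Scheme.{u}) := isAffine_res_R G W hW hWa
  subst hV
  let q : (W : Scheme.{u}) ⟶ Spec (CommRingCat.of (res G W hW).invariants) := (res G W hW).toQuot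
  let e := W.ι.isoImage (q ⁻¹ᵁ V)
  have he : e.hom ≫ (W.ι ''ᵁ (q ⁻¹ᵁ V)).ι = (q ⁻¹ᵁ V).ι ≫ W.ι := Scheme.Hom.isoImage_hom_ι _ _
  have he' : e.hom ≫ G.U.homOfLE hle = (q ⁻¹ᵁ V).ι := by
    rw [← cancel_mono W.ι, Category.assoc, Scheme.homOfLE_ι, he]
  have heq : e.hom ≫ qV = q ∣_ V := by
    rw [← cancel_mono V.ι, Category.assoc, hqV, ← Category.assoc, he', morphismRestrict_ι]
  haveI : Surjective q := surjective_toQuot' (res G W hW)
  haveI : IsSchemeTheoreticallyDominant q := isSTD_toQuot (res G W hW)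
  haveI : IsIntegralHom q := isIntegralHom_toQuot' (res G W hW)
  haveI : Epi (q ∣_ V) := epi_restrict q V
  haveI hepi : Epi qV := by
    haveI : Epi (e.hom ≫ qV) := by rw [heq]; infer_instance
    exact epi_of_epi e.hom qV
  refine ⟨?_, ?_, ?_⟩
  · intro T r a b ha hb
    rw [← cancel_mono V.ι, Category.assoc, Category.assoc, hqV]
    exact (isInvHom_toQuot G W hW hWa).of_le hle r a b ha hb
  · intro Z f hf
    have hf' : InvOn (sW G W) (tW G W hW) (q ⁻¹ᵁ V) (e.hom ≫ f) := by
      intro T r a b ha hb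
      rw [← Category.assoc, ← Category.assoc]
      apply hf (r ≫ (RW G W).ι)
      · rw [Category.assoc, he, ← Category.assoc, ha, Category.assoc, Category.assoc, tW_ι]
      · rw [Category.assoc, he, ← Category.assoc, hb, Category.assoc, Category.assoc, sW_ι]
    obtain ⟨g, hg⟩ := affCoeq (sW G W) (tW G W hW) q (t_toQuot (res G W hW))
      (toQuot_exact (res G W hW)) (isOpenMap_toQuot (res G W hW)) (toQuot_eq_iff (res G W hW)) V
      (e.hom ≫ f) hf'
    refine ⟨g, ?_⟩
    rw [← cancel_epi e.hom, ← Category.assoc, heq, hg]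
  · intro Z g g' h
    exact (cancel_epi qV).mp h

/-- the local quotient on an invariant affine open, general case -/
noncomputable def locQ' (j : InvAff G.s G.t) : LocQ G.s G.t j.W := by
  haveI := isAffine_res_U G j.W j.inv j.aff
  haveI := isAffine_res_R G j.W j.inv j.aff
  let q : (j.W : Scheme.{u}) ⟶ Spec (CommRingCat.of (res G j.W j.inv).invariants) :=
    (res G j.W j.inv).toQuot
  haveI : IsIntegralHom q := isIntegralHom_toQuot' (res G j.W j.inv)
  exact
    { M := Spec (CommRingCat.of (res G j.W j.inv).invariants)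
      q := q
      aff := inferInstance
      affHom := inferInstance
      surj := (surjective_toQuot' (res G j.W j.inv)).1
      isOpenMap := isOpenMap_toQuot (res G j.W j.inv)
      fib := fib_toQuot G j.W j.inv j.aff
      coeqV := coeqV_toQuot G j.W j.inv j.aff }

end Loc


section Global
variable [IsFinite G.s] [Flat G.s] [LocallyOfFinitePresentation G.s]

/-- the atlas of local quotients, general case -/
noncomputable def atlasGen (hb : ∀ x : G.U, ∃ V : G.U.Opens, IsAffineOpen V ∧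
      G.t.base '' (G.s.base ⁻¹' {x}) ⊆ (V : Set G.U)) : QuotAtlas G.s G.t :=
  atlas (fun j => locQ' G j) (cover_invAff G hb)

theorem isOpenMap_p (D : QuotAtlas G.s G.t) (hq : ∀ i, IsOpenMap (D.q i).base) :
    IsOpenMap D.p.base := by
  intro O hO
  have : D.p.base '' O =
      ⋃ i : D.J, (D.ι i).base '' ((D.q i).base '' ((D.W i).ι.base ⁻¹' O)) := by
    ext y
    constructor
    · rintro ⟨x, hx, rfl⟩
      obtain ⟨i, hi⟩ := D.cover x
      exact Set.mem_iUnion.mpr ⟨i, _, ⟨⟨x, hi⟩, hx, rfl⟩, (D.p_apply i ⟨x, hi⟩).symm⟩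
    · intro hy
      obtain ⟨i, _, ⟨x, hx, rfl⟩, rfl⟩ := Set.mem_iUnion.mp hy
      exact ⟨(D.W i).ι.base x, hx, D.p_apply i x⟩
  rw [this]
  exact isOpen_iUnion fun i => (D.ι i).isOpenEmbedding.isOpenMap _
    (hq i _ (hO.preimage (D.W i).ι.base.hom.continuous))

theorem spec_field_base_eq {K : Type u} [Field K] {Z : Scheme.{u}}
    (f : Spec (CommRingCat.of K) ⟶ Z) (a b : Spec (CommRingCat.of K)) : f.base a = f.base b := by
  haveI : Subsingleton (Spec (CommRingCat.of K)) :=
    inferInstanceAs (Subsingleton (PrimeSpectrum K))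
  rw [Subsingleton.elim a b]

theorem surjective_lift_atlas {U R : Scheme.{u}} {s t : R ⟶ U} (D : QuotAtlas s t)
    (hk : ∀ (i : D.J) (K : Type u) [Field K] [IsAlgClosed K]
      (a b : Spec (CommRingCat.of K) ⟶ (D.W i : Scheme.{u})), a ≫ D.q i = b ≫ D.q i →
      ∃ r : Spec (CommRingCat.of K) ⟶ R, r ≫ t = a ≫ (D.W i).ι ∧ r ≫ s = b ≫ (D.W i).ι) :
    Function.Surjective (pullback.lift t s D.t_p : R ⟶ pullback D.p D.p).base := by
  intro z
  let P := pullback D.p D.p
  let K := AlgebraicClosure (P.residueField z)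
  let zK : Spec (CommRingCat.of K) ⟶ P :=
    Spec.map (CommRingCat.ofHom (algebraMap (P.residueField z) K)) ≫ P.fromSpecResidueField z
  obtain ⟨pt⟩ : Nonempty (Spec (CommRingCat.of K)) := inferInstance
  have hz : zK.base pt = z := by
    have := Scheme.range_fromSpecResidueField z
    have hz' : zK.base pt ∈ Set.range (P.fromSpecResidueField z).base := ⟨_, rfl⟩
    rw [this] at hz'
    exact hz'
  let xb : Spec (CommRingCat.of K) ⟶ U := zK ≫ pullback.fst D.p D.p
  let yb : Spec (CommRingCat.of K) ⟶ U := zK ≫ pullback.snd D.p D.p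
  have hxy : xb ≫ D.p = yb ≫ D.p := by
    simp only [xb, yb, Category.assoc, pullback.condition]
  obtain ⟨i, hi⟩ := D.cover (xb.base pt)
  have hyi : yb.base pt ∈ D.W i := by
    rw [← D.p_preimage i]
    change D.p.base (yb.base pt) ∈ (D.ι i).opensRange
    rw [← Scheme.Hom.comp_apply, ← hxy, Scheme.Hom.comp_apply]
    exact ⟨_, (D.p_apply i ⟨_, hi⟩).symm⟩
  have hrx : Set.range xb.base ⊆ Set.range (D.W i).ι.base := by
    rintro _ ⟨a, rfl⟩
    rw [Scheme.Opens.range_ι, spec_field_base_eq xb a pt]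
    exact hi
  have hry : Set.range yb.base ⊆ Set.range (D.W i).ι.base := by
    rintro _ ⟨a, rfl⟩
    rw [Scheme.Opens.range_ι, spec_field_base_eq yb a pt]
    exact hyi
  let xb' : Spec (CommRingCat.of K) ⟶ (D.W i : Scheme.{u}) :=
    IsOpenImmersion.lift (D.W i).ι xb hrx
  let yb' : Spec (CommRingCat.of K) ⟶ (D.W i : Scheme.{u}) :=
    IsOpenImmersion.lift (D.W i).ι yb hry
  have hx' : xb' ≫ (D.W i).ι = xb := IsOpenImmersion.lift_fac _ _ _
  have hy' : yb' ≫ (D.W i).ι = yb := IsOpenImmersion.lift_fac _ _ _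
  have hq' : xb' ≫ D.q i = yb' ≫ D.q i := by
    have h1 : (xb' ≫ D.q i) ≫ D.ι i = (yb' ≫ D.q i) ≫ D.ι i := by
      rw [Category.assoc, Category.assoc, ← D.ι_p i, ← Category.assoc, ← Category.assoc, hx', hy',
        hxy]
    exact (cancel_mono (D.ι i)).mp h1
  obtain ⟨rb, ht, hs⟩ := hk i K xb' yb' hq'
  rw [hx'] at ht
  rw [hy'] at hs
  have hfin : rb ≫ pullback.lift t s D.t_p = zK := by
    apply pullback.hom_ext
    · rw [Category.assoc, pullback.lift_fst, ht]
    · rw [Category.assoc, pullback.lift_snd, hs]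
  refine ⟨rb.base pt, ?_⟩
  rw [← Scheme.Hom.comp_apply, hfin, hz]

theorem kpoints_res (W : G.U.Opens) (hW : G.s ⁻¹ᵁ W = G.t ⁻¹ᵁ W) (hWa : IsAffineOpen W)
    (K : Type u) [Field K] [IsAlgClosed K] (a b : Spec (CommRingCat.of K) ⟶ (W : Scheme.{u}))
    (hab : a ≫ (res G W hW).toQuot = b ≫ (res G W hW).toQuot) :
    ∃ r : Spec (CommRingCat.of K) ⟶ G.R, r ≫ G.t = a ≫ W.ι ∧ r ≫ G.s = b ≫ W.ι := by
  haveI := isAffine_res_U G W hW hWa
  haveI := isAffine_res_R G W hW hWa
  obtain ⟨r', hr1, hr2⟩ := ((kpoints (res G W hW) K).2 a b).mp hab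
  obtain ⟨r'', hr1', hr2'⟩ : ∃ r'' : Spec (CommRingCat.of K) ⟶ (RW G W : Scheme.{u}),
      r'' ≫ tW G W hW = a ∧ r'' ≫ sW G W = b := ⟨r', hr1, hr2⟩
  refine ⟨r'' ≫ (RW G W).ι, ?_, ?_⟩
  · rw [← hr1', Category.assoc, Category.assoc, tW_ι]
  · rw [← hr2', Category.assoc, Category.assoc, sW_ι]

theorem surjective_lift (hb : ∀ x : G.U, ∃ V : G.U.Opens, IsAffineOpen V ∧
      G.t.base '' (G.s.base ⁻¹' {x}) ⊆ (V : Set G.U)) :
    Function.Surjective
      (pullback.lift G.t G.s (atlasGen G hb).t_p : G.R ⟶ pullback (atlasGen G hb).p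
        (atlasGen G hb).p).base :=
  surjective_lift_atlas (atlasGen G hb)
    (fun i K _ _ a b hab => kpoints_res G i.W i.inv i.aff K a b hab)

theorem main_gen (hb : ∀ x : G.U, ∃ V : G.U.Opens, IsAffineOpen V ∧
      G.t.base '' (G.s.base ⁻¹' {x}) ⊆ (V : Set G.U)) :
    ∃ (Y : Scheme.{u}) (p : G.U ⟶ Y) (w : G.t ≫ p = G.s ≫ p),
      Nonempty (IsColimit (Cofork.ofπ p w)) ∧ IsIntegralHom p ∧ Surjective p ∧ IsOpenMap p.base ∧
      (∀ x y : G.U, p.base x = p.base y ↔ ∃ r : G.R, G.t.base r = x ∧ G.s.base r = y) ∧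
      Function.Surjective (pullback.lift G.t G.s w).base ∧ (IsAffine G.U → IsAffine Y) := by
  let D := atlasGen G hb
  refine ⟨D.Y, D.p, D.t_p, ⟨D.isColimit⟩, ?_, ⟨D.p_surjective⟩, ?_, D.p_eq_iff, surjective_lift G hb,
    ?_⟩
  · apply D.of_charts @IsIntegralHom
    intro j
    haveI := isAffine_res_U G j.W j.inv j.aff
    haveI := isAffine_res_R G j.W j.inv j.aff
    exact isIntegralHom_toQuot' (res G j.W j.inv)
  · apply isOpenMap_p G D
    intro j
    exact (locQ' G j).isOpenMap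
  · intro hU
    let j₀ : InvAff G.s G.t := ⟨⊤, isAffineOpen_top _, rfl⟩
    haveI : IsIso (D.ι j₀) := D.isIso_ι_of_eq_top j₀ rfl
    haveI : IsAffine (D.M j₀) := (locQ' G j₀).aff
    exact IsAffine.of_isIso (inv (D.ι j₀))

end Global

theorem main (S : Scheme.{u}) (G : Grpd.GroupoidScheme S)
    (ha : Mor2.IsFinLocFree G.s)
    (hb : ∀ x : G.U, ∃ V : G.U.Opens, IsAffineOpen V ∧ G.t.base '' (G.s.base ⁻¹' {x}) ⊆ (V : Set G.U)) :
    ∃ (Y : Scheme.{u}) (p : G.U ⟶ Y) (w : G.t ≫ p = G.s ≫ p),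
      Nonempty (IsColimit (Cofork.ofπ p w)) ∧ IsIntegralHom p ∧ Surjective p ∧ IsOpenMap p.base ∧
      (∀ x y : G.U, p.base x = p.base y ↔ ∃ r : G.R, G.t.base r = x ∧ G.s.base r = y) ∧
      Function.Surjective (pullback.lift G.t G.s w).base ∧ (IsAffine G.U → IsAffine Y) := by
  obtain ⟨h1, h2, h3⟩ := ha
  haveI := h1
  haveI := h2
  haveI := h3
  exact main_gen G hb

end Groth.Agent.Lib.Helper4.GrpdQuotGen1
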