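import Mathlib
import Groth.Prelude.Def_Grpd
import Groth.Agent.Lib.Helper4.GrpdRes1

/-!
# Subgroupoids of a groupoid scheme on monomorphisms; the groupoid induced on a monomorphism U' -> U (helper4)
-/

set_option backward.isDefEq.respectTransparency.types false
set_option synthInstance.maxHeartbeats 400000
set_option autoImplicit false
set_option linter.unusedSectionVars false
set_option linter.style.haveILetI false
set_option linter.unusedSimpArgs false
universe u v w
open CategoryTheory CategoryTheory.Limits AlgebraicGeometry TopologicalSpace Opposite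
open Groth.Agent.Lib.Helper4.GrpdRes1

namespace Groth.Agent.Lib.Helper4.GrpdSub1

variable {S : Scheme.{u}} (G : Grpd.GroupoidScheme S)

section Sub
variable {U' R' : Scheme.{u}} (u : U' ⟶ G.U) [Mono u] (ιR : R' ⟶ G.R) [Mono ιR]
  (s' t' : R' ⟶ U') (hs : s' ≫ u = ιR ≫ G.s) (ht : t' ≫ u = ιR ≫ G.t)
  (e' : U' ⟶ R') (he : e' ≫ ιR = u ≫ G.e)
  (i' : R' ⟶ R') (hi : i' ≫ ιR = ιR ≫ G.i)
  (c' : pullback s' t' ⟶ R')
  (hc : c' ≫ ιR = pullback.map s' t' G.s G.t ιR ιR u hs ht ≫ G.c)

include hs ht in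
theorem sub_ι_s_eq_ι_t {T : Scheme.{u}} (α β : T ⟶ R') (h : α ≫ s' = β ≫ t') :
    (α ≫ ιR) ≫ G.s = (β ≫ ιR) ≫ G.t := by
  rw [Category.assoc, Category.assoc, ← hs, ← ht, ← Category.assoc, ← Category.assoc, h]

theorem sub_lift_pair {T : Scheme.{u}} (α β : T ⟶ R') (h : α ≫ s' = β ≫ t') :
    pullback.lift α β h ≫ pullback.map s' t' G.s G.t ιR ιR u hs ht =
      pullback.lift (α ≫ ιR) (β ≫ ιR) (sub_ι_s_eq_ι_t G u ιR s' t' hs ht α β h) := by
  apply pullback.hom_ext
  · rw [Category.assoc, pullback.lift_fst, pullback.lift_fst_assoc, pullback.lift_fst]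
  · rw [Category.assoc, pullback.lift_snd, pullback.lift_snd_assoc, pullback.lift_snd]

include hc in
theorem sub_comp_ι {T : Scheme.{u}} (α β : T ⟶ R') (h : α ≫ s' = β ≫ t') :
    (pullback.lift α β h ≫ c') ≫ ιR =
      comp G (α ≫ ιR) (β ≫ ιR) (sub_ι_s_eq_ι_t G u ιR s' t' hs ht α β h) := by
  rw [Category.assoc, hc, ← Category.assoc, sub_lift_pair]
  rfl

include he hs in
theorem sub_e_s : e' ≫ s' = 𝟙 _ := by
  rw [← cancel_mono u, Category.assoc, hs, ← Category.assoc, he, Category.assoc, G.e_s,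
    Category.comp_id, Category.id_comp]

include he ht in
theorem sub_e_t : e' ≫ t' = 𝟙 _ := by
  rw [← cancel_mono u, Category.assoc, ht, ← Category.assoc, he, Category.assoc, G.e_t,
    Category.comp_id, Category.id_comp]

include hi hs ht in
theorem sub_i_s : i' ≫ s' = t' := by
  rw [← cancel_mono u, Category.assoc, hs, ← Category.assoc, hi, Category.assoc, G.i_s, ht]

include hi hs ht in
theorem sub_i_t : i' ≫ t' = s' := by
  rw [← cancel_mono u, Category.assoc, ht, ← Category.assoc, hi, Category.assoc, G.i_t, hs]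

include hc in
theorem sub_comp_s {T : Scheme.{u}} (α β : T ⟶ R') (h : α ≫ s' = β ≫ t') :
    (pullback.lift α β h ≫ c') ≫ s' = β ≫ s' := by
  rw [← cancel_mono u, Category.assoc, hs, ← Category.assoc,
    sub_comp_ι G u ιR s' t' hs ht c' hc, comp_s, Category.assoc, Category.assoc, hs]

include hc in
theorem sub_comp_t {T : Scheme.{u}} (α β : T ⟶ R') (h : α ≫ s' = β ≫ t') :
    (pullback.lift α β h ≫ c') ≫ t' = α ≫ t' := by
  rw [← cancel_mono u, Category.assoc, ht, ← Category.assoc,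
    sub_comp_ι G u ιR s' t' hs ht c' hc, comp_t, Category.assoc, Category.assoc, ht]

include hc in
theorem sub_assoc {T : Scheme.{u}} (α β γ : T ⟶ R')
    (h₁ : α ≫ s' = β ≫ t') (h₂ : β ≫ s' = γ ≫ t')
    (h₃ : (pullback.lift α β h₁ ≫ c') ≫ s' = γ ≫ t')
    (h₄ : α ≫ s' = (pullback.lift β γ h₂ ≫ c') ≫ t') :
    pullback.lift (pullback.lift α β h₁ ≫ c') γ h₃ ≫ c' =
      pullback.lift α (pullback.lift β γ h₂ ≫ c') h₄ ≫ c' := by
  have eL := sub_comp_ι G u ιR s' t' hs ht c' hc (pullback.lift α β h₁ ≫ c') γ h₃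
  have eR := sub_comp_ι G u ιR s' t' hs ht c' hc α (pullback.lift β γ h₂ ≫ c') h₄
  have e1 := sub_comp_ι G u ιR s' t' hs ht c' hc α β h₁
  have e2 := sub_comp_ι G u ιR s' t' hs ht c' hc β γ h₂
  rw [← cancel_mono ιR]
  refine eL.trans (Eq.trans ?_ eR.symm)
  have k₁ := sub_ι_s_eq_ι_t G u ιR s' t' hs ht α β h₁
  have k₂ := sub_ι_s_eq_ι_t G u ιR s' t' hs ht β γ h₂
  have k₃ : comp G (α ≫ ιR) (β ≫ ιR) k₁ ≫ G.s = (γ ≫ ιR) ≫ G.t :=
    (comp_s G _ _ k₁).trans k₂
  have k₄ : (α ≫ ιR) ≫ G.s = comp G (β ≫ ιR) (γ ≫ ιR) k₂ ≫ G.t :=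
    k₁.trans (comp_t G _ _ k₂).symm
  exact (comp_congr G e1 rfl _ k₃).trans ((assoc' G _ _ _ k₁ k₂ k₃ k₄).trans
    (comp_congr G rfl e2 _ k₄).symm)

/-- a subgroupoid given by monomorphisms on objects and arrows -/
noncomputable def sub : Grpd.GroupoidScheme S where
  U := U'
  R := R'
  pU := u ≫ G.pU
  pR := ιR ≫ G.pR
  s := s'
  t := t'
  e := e'
  i := i'
  c := c'
  s_over := by rw [← Category.assoc, hs, Category.assoc, G.s_over]
  t_over := by rw [← Category.assoc, ht, Category.assoc, G.t_over]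
  comp_s := fun α β h => sub_comp_s G u ιR s' t' hs ht c' hc α β h
  comp_t := fun α β h => sub_comp_t G u ιR s' t' hs ht c' hc α β h
  assoc := fun α β γ h₁ h₂ => sub_assoc G u ιR s' t' hs ht c' hc α β γ h₁ h₂ _ _
  e_s := sub_e_s G u ιR s' hs e' he
  e_t := sub_e_t G u ιR t' ht e' he
  comp_e := fun α => by
    rw [← cancel_mono ιR, sub_comp_ι G u ιR s' t' hs ht c' hc]
    apply comp_e'
    rw [Category.assoc, Category.assoc, he, ← Category.assoc s', hs, Category.assoc,
      Category.assoc]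
  e_comp := fun α => by
    rw [← cancel_mono ιR, sub_comp_ι G u ιR s' t' hs ht c' hc]
    apply e_comp'
    rw [Category.assoc, Category.assoc, he, ← Category.assoc t', ht, Category.assoc,
      Category.assoc]
  i_s := sub_i_s G u ιR s' t' hs ht i' hi
  i_t := sub_i_t G u ιR s' t' hs ht i' hi
  comp_i := fun α => by
    rw [← cancel_mono ιR, sub_comp_ι G u ιR s' t' hs ht c' hc]
    rw [comp_i' G _ _ (by rw [Category.assoc, hi, Category.assoc])]
    simp only [Category.assoc]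
    rw [he, ← Category.assoc t', ht, Category.assoc]
  i_comp := fun α => by
    rw [← cancel_mono ιR, sub_comp_ι G u ιR s' t' hs ht c' hc]
    rw [i_comp' G _ _ (by rw [Category.assoc, hi, Category.assoc])]
    simp only [Category.assoc]
    rw [he, ← Category.assoc s', hs, Category.assoc]

end Sub


section Pb
variable {U' : Scheme.{u}} (u : U' ⟶ G.U)

/-- arrows with target in `U'` -/
noncomputable abbrev VV : Scheme.{u} := pullback G.t u

/-- the source map on arrows with target in `U'` -/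
noncomputable def vv : VV G u ⟶ G.U := pullback.fst G.t u ≫ G.s

/-- arrows with source and target in `U'` -/
noncomputable abbrev RR : Scheme.{u} := pullback (vv G u) u

noncomputable def ιRR : RR G u ⟶ G.R := pullback.fst (vv G u) u ≫ pullback.fst G.t u

noncomputable def tRR : RR G u ⟶ U' := pullback.fst (vv G u) u ≫ pullback.snd G.t u

noncomputable def sRR : RR G u ⟶ U' := pullback.snd (vv G u) u

theorem tRR_u : tRR G u ≫ u = ιRR G u ≫ G.t := by
  rw [tRR, ιRR, Category.assoc, Category.assoc, pullback.condition]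

theorem sRR_u : sRR G u ≫ u = ιRR G u ≫ G.s := by
  have h : pullback.fst (vv G u) u ≫ vv G u = pullback.snd (vv G u) u ≫ u := pullback.condition
  rw [sRR, ← h, ιRR, Category.assoc]
  rfl

/-- an arrow of `G` with source and target in `U'` is an arrow of the induced groupoid -/
noncomputable def mkRR {T : Scheme.{u}} (ρ : T ⟶ G.R) (a b : T ⟶ U') (h1 : ρ ≫ G.t = a ≫ u)
    (h2 : ρ ≫ G.s = b ≫ u) : T ⟶ RR G u :=
  pullback.lift (pullback.lift ρ a h1) b (by
    change pullback.lift ρ a h1 ≫ pullback.fst G.t u ≫ G.s = b ≫ u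
    rw [pullback.lift_fst_assoc, h2])

theorem mkRR_ι {T : Scheme.{u}} (ρ : T ⟶ G.R) (a b : T ⟶ U') (h1 : ρ ≫ G.t = a ≫ u)
    (h2 : ρ ≫ G.s = b ≫ u) : mkRR G u ρ a b h1 h2 ≫ ιRR G u = ρ := by
  rw [mkRR, ιRR, pullback.lift_fst_assoc, pullback.lift_fst]

theorem mkRR_t {T : Scheme.{u}} (ρ : T ⟶ G.R) (a b : T ⟶ U') (h1 : ρ ≫ G.t = a ≫ u)
    (h2 : ρ ≫ G.s = b ≫ u) : mkRR G u ρ a b h1 h2 ≫ tRR G u = a := by
  rw [mkRR, tRR, pullback.lift_fst_assoc, pullback.lift_snd]

theorem mkRR_s {T : Scheme.{u}} (ρ : T ⟶ G.R) (a b : T ⟶ U') (h1 : ρ ≫ G.t = a ≫ u)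
    (h2 : ρ ≫ G.s = b ≫ u) : mkRR G u ρ a b h1 h2 ≫ sRR G u = b := by
  rw [mkRR, sRR, pullback.lift_snd]

variable [Mono u]

theorem RR_ext {T : Scheme.{u}} (α β : T ⟶ RR G u) (h : α ≫ ιRR G u = β ≫ ιRR G u) : α = β := by
  have ht : α ≫ tRR G u = β ≫ tRR G u := by
    rw [← cancel_mono u, Category.assoc, Category.assoc, tRR_u, ← Category.assoc,
      ← Category.assoc, h]
  have hs : α ≫ sRR G u = β ≫ sRR G u := by
    rw [← cancel_mono u, Category.assoc, Category.assoc, sRR_u, ← Category.assoc,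
      ← Category.assoc, h]
  apply pullback.hom_ext
  · apply pullback.hom_ext
    · rw [Category.assoc, Category.assoc]
      exact h
    · rw [Category.assoc, Category.assoc]
      exact ht
  · exact hs

instance : Mono (ιRR G u) := ⟨fun α β h => RR_ext G u α β h⟩

/-- the groupoid induced on `U'` by a monomorphism `u : U' ⟶ U` -/
noncomputable def pb : Grpd.GroupoidScheme S :=
  sub G u (ιRR G u) (sRR G u) (tRR G u) (sRR_u G u) (tRR_u G u)
    (mkRR G u (u ≫ G.e) (𝟙 _) (𝟙 _) (by rw [Category.assoc, G.e_t, Category.comp_id, Category.id_comp])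
      (by rw [Category.assoc, G.e_s, Category.comp_id, Category.id_comp]))
    (mkRR_ι G u _ _ _ _ _)
    (mkRR G u (ιRR G u ≫ G.i) (sRR G u) (tRR G u) (by rw [Category.assoc, G.i_t, sRR_u])
      (by rw [Category.assoc, G.i_s, tRR_u]))
    (mkRR_ι G u _ _ _ _ _)
    (mkRR G u (pullback.map (sRR G u) (tRR G u) G.s G.t (ιRR G u) (ιRR G u) u (sRR_u G u)
        (tRR_u G u) ≫ G.c) (pullback.fst _ _ ≫ tRR G u) (pullback.snd _ _ ≫ sRR G u)
      (by rw [Category.assoc, c_t', pullback.lift_fst_assoc, Category.assoc, Category.assoc,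
        tRR_u])
      (by rw [Category.assoc, c_s', pullback.lift_snd_assoc, Category.assoc, Category.assoc,
        sRR_u]))
    (mkRR_ι G u _ _ _ _ _)

theorem pb_s : (pb G u).s = sRR G u := rfl
theorem pb_t : (pb G u).t = tRR G u := rfl

end Pb

end Groth.Agent.Lib.Helper4.GrpdSub1
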