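import Mathlib
import Groth.Prelude.Def_Grpd
import Groth.Prelude.Def_Mor2
import Groth.Agent.Lib.Helper4.GrpdRes1
import Groth.Agent.Lib.Helper4.GrpdSub1
import Groth.Agent.Lib.Helper4.GrpdQuotMono1
import Groth.Agent.Lib.Helper4.GrpdQuotGen1
import Groth.Agent.Lib.Helper2.AlgSp.Fpqc

/-!
# Quotient of a groupoid scheme with a quasi-section (induced groupoid on U' + finite locally free quotient + fpqc descent) (helper4)
-/

set_option backward.isDefEq.respectTransparency.types false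
set_option synthInstance.maxHeartbeats 400000
set_option autoImplicit false
set_option linter.unusedSectionVars false
set_option linter.style.haveILetI false
set_option linter.unusedSimpArgs false
universe u v w
open CategoryTheory CategoryTheory.Limits AlgebraicGeometry TopologicalSpace Opposite
open Groth.Agent.Lib.Helper4.GrpdRes1 Groth.Agent.Lib.Helper4.GrpdSub1

namespace Groth.Agent.Lib.Helper4.GrpdQuasiSec1

section General

/-- a square with jointly monic legs is cartesian as soon as lifts exist fpqc locally -/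
theorem isPullback_of_fpqc_local {R U Y : Scheme.{u}} (t s : R ⟶ U) (p : U ⟶ Y)
    (w : t ≫ p = s ≫ p)
    (hmono : ∀ {T : Scheme.{u}} (r r' : T ⟶ R), r ≫ t = r' ≫ t → r ≫ s = r' ≫ s → r = r')
    (hloc : ∀ {T : Scheme.{u}} (x y : T ⟶ U), x ≫ p = y ≫ p →
      ∃ (T' : Scheme.{u}) (c : T' ⟶ T), Flat c ∧ Surjective c ∧ QuasiCompact c ∧
        ∃ ρ : T' ⟶ R, ρ ≫ t = c ≫ x ∧ ρ ≫ s = c ≫ y) : IsPullback t s p p := by
  have hex : ∀ {T : Scheme.{u}} (x y : T ⟶ U), x ≫ p = y ≫ p →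
      ∃ ρ : T ⟶ R, ρ ≫ t = x ∧ ρ ≫ s = y := by
    intro T x y hxy
    obtain ⟨T', cc, hfl, hsu, hqc, ρ, hρt, hρs⟩ := hloc x y hxy
    haveI := hfl
    haveI := hsu
    haveI := hqc
    have hcompat : ∀ {Z : Scheme.{u}} (g₁ g₂ : Z ⟶ T'), g₁ ≫ cc = g₂ ≫ cc → g₁ ≫ ρ = g₂ ≫ ρ := by
      intro Z g₁ g₂ h
      apply hmono
      · rw [Category.assoc, Category.assoc, hρt, ← Category.assoc, ← Category.assoc, h]
      · rw [Category.assoc, Category.assoc, hρs, ← Category.assoc, ← Category.assoc, h]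
    haveI : Epi cc := Flat.epi_of_flat_of_surjective cc
    have hfac : cc ≫ EffectiveEpi.desc cc ρ hcompat = ρ := EffectiveEpi.fac _ _ _
    refine ⟨EffectiveEpi.desc cc ρ hcompat, ?_, ?_⟩
    · rw [← cancel_epi cc, ← Category.assoc, hfac, hρt]
    · rw [← cancel_epi cc, ← Category.assoc, hfac, hρs]
  refine ⟨⟨w⟩, ⟨PullbackCone.IsLimit.mk _ (fun c => (hex c.fst c.snd c.condition).choose)
    (fun c => (hex c.fst c.snd c.condition).choose_spec.1)
    (fun c => (hex c.fst c.snd c.condition).choose_spec.2) (fun c m h1 h2 => ?_)⟩⟩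
  apply hmono
  · rw [h1, (hex c.fst c.snd c.condition).choose_spec.1]
  · rw [h2, (hex c.fst c.snd c.condition).choose_spec.2]



/-- lifting a point along a surjective morphism, after passing to a one-point scheme -/
theorem exists_lift_point {A B T : Scheme.{u}} (f : A ⟶ B) (hf : Function.Surjective f.base)
    (b : T ⟶ B) (pt : T) :
    ∃ (T' : Scheme.{u}) (c : T' ⟶ T) (a : T' ⟶ A), Nonempty T' ∧ a ≫ f = c ≫ b ∧
      ∀ z, c.base z = pt := by
  obtain ⟨a₀, ha₀⟩ := hf (b.base pt)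
  obtain ⟨q, hq1, hq2⟩ := Scheme.Pullback.exists_preimage_pullback (f := f) (g := b) a₀ pt ha₀
  refine ⟨Spec ((pullback f b).residueField q),
    (pullback f b).fromSpecResidueField q ≫ pullback.snd f b,
    (pullback f b).fromSpecResidueField q ≫ pullback.fst f b, inferInstance, ?_, ?_⟩
  · rw [Category.assoc, Category.assoc, pullback.condition]
  · intro z
    have := Scheme.range_fromSpecResidueField q
    have hz : ((pullback f b).fromSpecResidueField q).base z ∈
        Set.range ((pullback f b).fromSpecResidueField q).base := ⟨z, rfl⟩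
    rw [this] at hz
    rw [Scheme.Hom.comp_apply, hz, hq2]

end General

section Arrows
variable {S : Scheme.{u}} (G : Grpd.GroupoidScheme S)

/-- `σ ∘ τ⁻¹` for two arrows with the same source -/
noncomputable def compInv {T : Scheme.{u}} (σ τ : T ⟶ G.R) (h : σ ≫ G.s = τ ≫ G.s) : T ⟶ G.R :=
  comp G σ (τ ≫ G.i) (by rw [h, Category.assoc, G.i_t])

theorem compInv_t {T : Scheme.{u}} (σ τ : T ⟶ G.R) (h : σ ≫ G.s = τ ≫ G.s) :
    compInv G σ τ h ≫ G.t = σ ≫ G.t := comp_t G _ _ _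

theorem compInv_s {T : Scheme.{u}} (σ τ : T ⟶ G.R) (h : σ ≫ G.s = τ ≫ G.s) :
    compInv G σ τ h ≫ G.s = τ ≫ G.t := by
  rw [compInv, comp_s, Category.assoc, G.i_s]

/-- `σ⁻¹ ∘ τ` for two arrows with the same target -/
noncomputable def invComp {T : Scheme.{u}} (σ τ : T ⟶ G.R) (h : σ ≫ G.t = τ ≫ G.t) : T ⟶ G.R :=
  comp G (σ ≫ G.i) τ (by rw [Category.assoc, G.i_s, h])

theorem invComp_t {T : Scheme.{u}} (σ τ : T ⟶ G.R) (h : σ ≫ G.t = τ ≫ G.t) :
    invComp G σ τ h ≫ G.t = σ ≫ G.s := by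
  rw [invComp, comp_t, Category.assoc, G.i_t]

theorem invComp_s {T : Scheme.{u}} (σ τ : T ⟶ G.R) (h : σ ≫ G.t = τ ≫ G.t) :
    invComp G σ τ h ≫ G.s = τ ≫ G.s := comp_s G _ _ _

end Arrows

section QS
variable {S : Scheme.{u}} (G : Grpd.GroupoidScheme S) {U' : Scheme.{u}} (u : U' ⟶ G.U) [Mono u]
variable {Y : Scheme.{u}} (p' : U' ⟶ Y) (w' : tRR G u ≫ p' = sRR G u ≫ p')

include w' in
/-- `p'` identifies the endpoints of arrows of `G` between points of `U'` -/
theorem p'_inv {T : Scheme.{u}} (ρ : T ⟶ G.R) (a b : T ⟶ U') (h1 : ρ ≫ G.t = a ≫ u)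
    (h2 : ρ ≫ G.s = b ≫ u) : a ≫ p' = b ≫ p' := by
  calc a ≫ p' = (mkRR G u ρ a b h1 h2 ≫ tRR G u) ≫ p' := by rw [mkRR_t]
    _ = (mkRR G u ρ a b h1 h2 ≫ sRR G u) ≫ p' := by rw [Category.assoc, w', Category.assoc]
    _ = b ≫ p' := by rw [mkRR_s]

theorem vv_eq : vv G u = pullback.fst G.t u ≫ G.s := rfl

include w' in
theorem compat {T : Scheme.{u}} (g₁ g₂ : T ⟶ VV G u) (h : g₁ ≫ vv G u = g₂ ≫ vv G u) :
    g₁ ≫ pullback.snd G.t u ≫ p' = g₂ ≫ pullback.snd G.t u ≫ p' := by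
  have hs : (g₁ ≫ pullback.fst G.t u) ≫ G.s = (g₂ ≫ pullback.fst G.t u) ≫ G.s := by
    rw [Category.assoc, Category.assoc]
    exact h
  rw [← Category.assoc, ← Category.assoc]
  apply p'_inv G u p' w' (compInv G (g₁ ≫ pullback.fst G.t u) (g₂ ≫ pullback.fst G.t u) hs)
  · rw [compInv_t, Category.assoc, Category.assoc, pullback.condition]
  · rw [compInv_s, Category.assoc, Category.assoc, pullback.condition]

variable [Flat (vv G u)] [Surjective (vv G u)] [QuasiCompact (vv G u)]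

/-- the quotient map of `U`, descended from `V ⟶ U' ⟶ Y` -/
noncomputable def pQ : G.U ⟶ Y :=
  EffectiveEpi.desc (vv G u) (pullback.snd G.t u ≫ p') (fun g₁ g₂ h => compat G u p' w' g₁ g₂ h)

theorem vv_pQ : vv G u ≫ pQ G u p' w' = pullback.snd G.t u ≫ p' := EffectiveEpi.fac _ _ _

instance : Epi (vv G u) := Flat.epi_of_flat_of_surjective _

/-- the unit section of `V ⟶ U` over `U'` -/
noncomputable def eV : U' ⟶ VV G u :=
  pullback.lift (u ≫ G.e) (𝟙 _) (by rw [Category.assoc, G.e_t, Category.comp_id, Category.id_comp])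

theorem eV_vv : eV G u ≫ vv G u = u := by
  rw [vv_eq, eV, pullback.lift_fst_assoc, Category.assoc, G.e_s, Category.comp_id]

theorem u_pQ : u ≫ pQ G u p' w' = p' := by
  calc u ≫ pQ G u p' w' = (eV G u ≫ vv G u) ≫ pQ G u p' w' := by rw [eV_vv]
    _ = eV G u ≫ pullback.snd G.t u ≫ p' := by rw [Category.assoc, vv_pQ]
    _ = p' := by rw [eV, pullback.lift_snd_assoc, Category.id_comp]

theorem t_pQ : G.t ≫ pQ G u p' w' = G.s ≫ pQ G u p' w' := by
  -- check on the cover `R ×_{s,U,v} V ⟶ R`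
  let π := pullback.fst G.s (vv G u)
  let g := pullback.snd G.s (vv G u)
  haveI : Epi π := Flat.epi_of_flat_of_surjective _
  rw [← cancel_epi π]
  have hc : π ≫ G.s = g ≫ vv G u := pullback.condition
  have hs : (g ≫ pullback.fst G.t u) ≫ G.s = π ≫ G.s := by
    rw [Category.assoc, hc]
    rfl
  let g₂ : pullback G.s (vv G u) ⟶ VV G u :=
    pullback.lift (compInv G (g ≫ pullback.fst G.t u) π hs) (g ≫ pullback.snd G.t u) (by
      rw [compInv_t, Category.assoc, Category.assoc, pullback.condition])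
  have hg₂ : g₂ ≫ vv G u = π ≫ G.t := by
    change g₂ ≫ pullback.fst G.t u ≫ G.s = π ≫ G.t
    rw [pullback.lift_fst_assoc, compInv_s]
  rw [← Category.assoc, ← hg₂, Category.assoc, vv_pQ, pullback.lift_snd_assoc,
    ← Category.assoc π, hc, Category.assoc, Category.assoc, vv_pQ]



theorem exists_desc_pQ
    (hdesc : ∀ {Z : Scheme.{u}} (f : U' ⟶ Z), tRR G u ≫ f = sRR G u ≫ f → ∃ h : Y ⟶ Z, p' ≫ h = f)
    {Z : Scheme.{u}} (f : G.U ⟶ Z) (hf : G.t ≫ f = G.s ≫ f) :
    ∃ h : Y ⟶ Z, pQ G u p' w' ≫ h = f := by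
  have hinv : tRR G u ≫ u ≫ f = sRR G u ≫ u ≫ f := by
    rw [← Category.assoc, tRR_u, Category.assoc, hf, ← Category.assoc, ← sRR_u, Category.assoc]
  obtain ⟨h, hh⟩ := hdesc (u ≫ f) hinv
  refine ⟨h, ?_⟩
  rw [← cancel_epi (vv G u), ← Category.assoc, vv_pQ, Category.assoc, hh, ← Category.assoc,
    ← pullback.condition, Category.assoc, hf, ← Category.assoc]
  rfl

theorem pQ_hom_ext
    (hext : ∀ {Z : Scheme.{u}} (h h' : Y ⟶ Z), p' ≫ h = p' ≫ h' → h = h')
    {Z : Scheme.{u}} (h h' : Y ⟶ Z) (hh : pQ G u p' w' ≫ h = pQ G u p' w' ≫ h') : h = h' := by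
  apply hext
  rw [← u_pQ G u p' w', Category.assoc, Category.assoc, hh]

/-- the descended map is a coequalizer of `(t, s)` -/
noncomputable def isColimit_pQ
    (hdesc : ∀ {Z : Scheme.{u}} (f : U' ⟶ Z), tRR G u ≫ f = sRR G u ≫ f → ∃ h : Y ⟶ Z, p' ≫ h = f)
    (hext : ∀ {Z : Scheme.{u}} (h h' : Y ⟶ Z), p' ≫ h = p' ≫ h' → h = h') :
    IsColimit (Cofork.ofπ (pQ G u p' w') (t_pQ G u p' w')) :=
  Cofork.IsColimit.mk' _ (fun c =>
    ⟨(exists_desc_pQ G u p' w' hdesc c.π c.condition).choose,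
    (exists_desc_pQ G u p' w' hdesc c.π c.condition).choose_spec, fun {m} hm => by
      apply pQ_hom_ext G u p' w' hext
      rw [(exists_desc_pQ G u p' w' hdesc c.π c.condition).choose_spec]
      exact hm⟩)

theorem surjective_pQ (hs' : Function.Surjective p'.base) :
    Function.Surjective (pQ G u p' w').base := by
  intro y
  obtain ⟨a, rfl⟩ := hs' y
  exact ⟨u.base a, by rw [← Scheme.Hom.comp_apply, u_pQ]⟩

theorem pQ_t_apply (r : G.R) :
    (pQ G u p' w').base (G.t.base r) = (pQ G u p' w').base (G.s.base r) := by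
  rw [← Scheme.Hom.comp_apply, ← Scheme.Hom.comp_apply, t_pQ]

theorem u_pQ_apply (a : U') : (pQ G u p' w').base (u.base a) = p'.base a := by
  rw [← Scheme.Hom.comp_apply, u_pQ]

theorem isOpenMap_pQ (hto : IsOpenMap G.t.base) (hopen' : IsOpenMap p'.base) :
    IsOpenMap (pQ G u p' w').base := by
  intro O hO
  have hsat : IsOpen (G.t.base '' (G.s.base ⁻¹' O)) := hto _ (hO.preimage G.s.base.hom.continuous)
  have : (pQ G u p' w').base '' O = p'.base '' (u.base ⁻¹' (G.t.base '' (G.s.base ⁻¹' O))) := by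
    ext y
    constructor
    · rintro ⟨x, hx, rfl⟩
      obtain ⟨g, hg⟩ := (inferInstance : Surjective (vv G u)).surj x
      let σ := (pullback.fst G.t u).base g
      let a := (pullback.snd G.t u).base g
      have hσs : G.s.base σ = x := by
        rw [← hg]
        rfl
      have hσt : G.t.base σ = u.base a := by
        change (pullback.fst G.t u ≫ G.t).base g = (pullback.snd G.t u ≫ u).base g
        rw [pullback.condition]
      refine ⟨a, ⟨σ, ?_, hσt⟩, ?_⟩
      · change G.s.base σ ∈ O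
        rw [hσs]
        exact hx
      · rw [← u_pQ_apply G u p' w', ← hσt, pQ_t_apply, hσs]
    · rintro ⟨a, ⟨r, hr, hra⟩, rfl⟩
      refine ⟨G.s.base r, hr, ?_⟩
      rw [← pQ_t_apply, hra, u_pQ_apply]
  rw [this]
  exact hopen' _ (hsat.preimage u.base.hom.continuous)

theorem universallyClosed_pQ [UniversallyClosed G.t] [UniversallyClosed p'] :
    UniversallyClosed (pQ G u p' w') := by
  haveI : UniversallyClosed (vv G u ≫ pQ G u p' w') := by
    rw [vv_pQ]
    infer_instance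
  exact UniversallyClosed.of_comp_surjective (vv G u) (pQ G u p' w')



theorem surjective_lift_pQ
    (hsl' : Function.Surjective
      (pullback.lift (tRR G u) (sRR G u) w' : RR G u ⟶ pullback p' p').base) :
    Function.Surjective (pullback.lift G.t G.s (t_pQ G u p' w') :
      G.R ⟶ pullback (pQ G u p' w') (pQ G u p' w')).base := by
  intro z
  let P := pullback (pQ G u p' w') (pQ G u p' w')
  let zK : Spec (P.residueField z) ⟶ P := P.fromSpecResidueField z
  have hzK : ∀ q, zK.base q = z := by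
    intro q
    have := Scheme.range_fromSpecResidueField z
    have hz : zK.base q ∈ Set.range (P.fromSpecResidueField z).base := ⟨q, rfl⟩
    rw [this] at hz
    exact hz
  obtain ⟨pt₀⟩ : Nonempty (Spec (P.residueField z)) := inferInstance
  let x : Spec (P.residueField z) ⟶ G.U := zK ≫ pullback.fst _ _
  let y : Spec (P.residueField z) ⟶ G.U := zK ≫ pullback.snd _ _
  have hxy : x ≫ pQ G u p' w' = y ≫ pQ G u p' w' := by
    simp only [x, y, Category.assoc, pullback.condition]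
  have hv : Function.Surjective (vv G u).base := (inferInstance : Surjective (vv G u)).surj
  obtain ⟨T₁, c₁, g₁, ⟨pt₁⟩, h₁, -⟩ := exists_lift_point (vv G u) hv x pt₀
  obtain ⟨T₂, c₂, g₂, ⟨pt₂⟩, h₂, -⟩ := exists_lift_point (vv G u) hv (c₁ ≫ y) pt₁
  let a : T₂ ⟶ U' := c₂ ≫ g₁ ≫ pullback.snd G.t u
  let b : T₂ ⟶ U' := g₂ ≫ pullback.snd G.t u
  have hab : a ≫ p' = b ≫ p' := by
    have ea : a ≫ p' = (c₂ ≫ c₁) ≫ x ≫ pQ G u p' w' := by
      simp only [a, Category.assoc]
      rw [← vv_pQ G u p' w', ← Category.assoc g₁, h₁, Category.assoc]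
    have eb : b ≫ p' = (c₂ ≫ c₁) ≫ y ≫ pQ G u p' w' := by
      simp only [b, Category.assoc]
      rw [← vv_pQ G u p' w', ← Category.assoc g₂, h₂, Category.assoc, Category.assoc]
    rw [ea, eb, hxy]
  obtain ⟨T₃, c₃, ρ', ⟨pt₃⟩, h₃, -⟩ :=
    exists_lift_point (pullback.lift (tRR G u) (sRR G u) w') hsl' (pullback.lift a b hab) pt₂
  have hρ't : ρ' ≫ tRR G u = c₃ ≫ a := by
    have := congrArg (· ≫ pullback.fst p' p') h₃
    simpa only [Category.assoc, pullback.lift_fst] using this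
  have hρ's : ρ' ≫ sRR G u = c₃ ≫ b := by
    have := congrArg (· ≫ pullback.snd p' p') h₃
    simpa only [Category.assoc, pullback.lift_snd] using this
  let σ : T₃ ⟶ G.R := c₃ ≫ c₂ ≫ g₁ ≫ pullback.fst G.t u
  let τ : T₃ ⟶ G.R := c₃ ≫ g₂ ≫ pullback.fst G.t u
  let ρι : T₃ ⟶ G.R := ρ' ≫ ιRR G u
  have hσt : σ ≫ G.t = (c₃ ≫ a) ≫ u := by
    simp only [σ, a, Category.assoc, pullback.condition]
  have hσs : σ ≫ G.s = (c₃ ≫ c₂ ≫ c₁) ≫ x := by
    simp only [σ, Category.assoc]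
    rw [← vv_eq G u, h₁]
  have hτt : τ ≫ G.t = (c₃ ≫ b) ≫ u := by
    simp only [τ, b, Category.assoc, pullback.condition]
  have hτs : τ ≫ G.s = (c₃ ≫ c₂ ≫ c₁) ≫ y := by
    simp only [τ, Category.assoc]
    rw [← vv_eq G u, h₂]
  have hριt : ρι ≫ G.t = (c₃ ≫ a) ≫ u := by
    simp only [ρι, Category.assoc]
    rw [← tRR_u, ← Category.assoc, hρ't, Category.assoc]
  have hριs : ρι ≫ G.s = (c₃ ≫ b) ≫ u := by
    simp only [ρι, Category.assoc]
    rw [← sRR_u, ← Category.assoc, hρ's, Category.assoc]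
  have e1 : ρι ≫ G.s = τ ≫ G.t := hριs.trans hτt.symm
  have e2 : σ ≫ G.t = comp G ρι τ e1 ≫ G.t := by rw [comp_t, hσt, hριt]
  let ρ : T₃ ⟶ G.R := invComp G σ (comp G ρι τ e1) e2
  have hρt : ρ ≫ G.t = (c₃ ≫ c₂ ≫ c₁) ≫ x := by rw [invComp_t, hσs]
  have hρs : ρ ≫ G.s = (c₃ ≫ c₂ ≫ c₁) ≫ y := by rw [invComp_s, comp_s, hτs]
  have hfin : ρ ≫ pullback.lift G.t G.s (t_pQ G u p' w') = (c₃ ≫ c₂ ≫ c₁) ≫ zK := by
    apply pullback.hom_ext
    · rw [Category.assoc, pullback.lift_fst, hρt]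
      simp only [x, Category.assoc]
    · rw [Category.assoc, pullback.lift_snd, hρs]
      simp only [y, Category.assoc]
  refine ⟨ρ.base pt₃, ?_⟩
  rw [← Scheme.Hom.comp_apply, hfin, Scheme.Hom.comp_apply, hzK]



omit [Flat (vv G u)] [Surjective (vv G u)] [QuasiCompact (vv G u)] in
/-- an arrow from `y` to `x`, from arrows of `x` and `y` into `U'` and an arrow of the induced
groupoid between their targets -/
theorem exists_arrow_of_lifts {T : Scheme.{u}} (x y : T ⟶ G.U) (g₁ g₂ : T ⟶ VV G u)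
    (h₁ : g₁ ≫ vv G u = x) (h₂ : g₂ ≫ vv G u = y) (ρ' : T ⟶ RR G u)
    (hρ't : ρ' ≫ tRR G u = g₁ ≫ pullback.snd G.t u)
    (hρ's : ρ' ≫ sRR G u = g₂ ≫ pullback.snd G.t u) :
    ∃ ρ : T ⟶ G.R, ρ ≫ G.t = x ∧ ρ ≫ G.s = y := by
  let σ : T ⟶ G.R := g₁ ≫ pullback.fst G.t u
  let τ : T ⟶ G.R := g₂ ≫ pullback.fst G.t u
  let ρι : T ⟶ G.R := ρ' ≫ ιRR G u
  have hσt : σ ≫ G.t = (g₁ ≫ pullback.snd G.t u) ≫ u := by
    simp only [σ, Category.assoc, pullback.condition]
  have hσs : σ ≫ G.s = x := by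
    simp only [σ, Category.assoc]
    rw [← vv_eq G u, h₁]
  have hτt : τ ≫ G.t = (g₂ ≫ pullback.snd G.t u) ≫ u := by
    simp only [τ, Category.assoc, pullback.condition]
  have hτs : τ ≫ G.s = y := by
    simp only [τ, Category.assoc]
    rw [← vv_eq G u, h₂]
  have hριt : ρι ≫ G.t = (g₁ ≫ pullback.snd G.t u) ≫ u := by
    simp only [ρι, Category.assoc]
    rw [← tRR_u, ← Category.assoc, hρ't, Category.assoc]
  have hριs : ρι ≫ G.s = (g₂ ≫ pullback.snd G.t u) ≫ u := by
    simp only [ρι, Category.assoc]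
    rw [← sRR_u, ← Category.assoc, hρ's, Category.assoc]
  have e1 : ρι ≫ G.s = τ ≫ G.t := hριs.trans hτt.symm
  have e2 : σ ≫ G.t = comp G ρι τ e1 ≫ G.t := by rw [comp_t, hσt, hριt]
  refine ⟨invComp G σ (comp G ρι τ e1) e2, ?_, ?_⟩
  · rw [invComp_t, hσs]
  · rw [invComp_s, comp_s, hτs]

theorem isPullback_pQ
    (hmonoG : ∀ {T : Scheme.{u}} (r r' : T ⟶ G.R), r ≫ G.t = r' ≫ G.t → r ≫ G.s = r' ≫ G.s →
      r = r')
    (hpb' : IsPullback (tRR G u) (sRR G u) p' p') :
    IsPullback G.t G.s (pQ G u p' w') (pQ G u p' w') := by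
  apply isPullback_of_fpqc_local G.t G.s (pQ G u p' w') (t_pQ G u p' w') hmonoG
  intro T x y hxy
  let c₁ := pullback.fst x (vv G u)
  let g₁ := pullback.snd x (vv G u)
  have h₁ : c₁ ≫ x = g₁ ≫ vv G u := pullback.condition
  let c₂ := pullback.fst (c₁ ≫ y) (vv G u)
  let g₂ := pullback.snd (c₁ ≫ y) (vv G u)
  have h₂ : c₂ ≫ c₁ ≫ y = g₂ ≫ vv G u := pullback.condition
  haveI : Surjective c₁ := MorphismProperty.pullback_fst (P := @Surjective) _ _ inferInstance
  haveI : Surjective c₂ := MorphismProperty.pullback_fst (P := @Surjective) _ _ inferInstance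
  haveI : QuasiCompact c₁ := MorphismProperty.pullback_fst (P := @QuasiCompact) _ _ inferInstance
  haveI : QuasiCompact c₂ := MorphismProperty.pullback_fst (P := @QuasiCompact) _ _ inferInstance
  haveI : Flat c₁ := MorphismProperty.pullback_fst (P := @Flat) _ _ inferInstance
  haveI : Flat c₂ := MorphismProperty.pullback_fst (P := @Flat) _ _ inferInstance
  refine ⟨_, c₂ ≫ c₁, inferInstance, inferInstance, inferInstance, ?_⟩
  have hab : (c₂ ≫ g₁ ≫ pullback.snd G.t u) ≫ p' = (g₂ ≫ pullback.snd G.t u) ≫ p' := by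
    have ea : (c₂ ≫ g₁ ≫ pullback.snd G.t u) ≫ p' = (c₂ ≫ c₁) ≫ x ≫ pQ G u p' w' := by
      simp only [Category.assoc]
      rw [← vv_pQ G u p' w', ← Category.assoc g₁, ← h₁, Category.assoc]
    have eb : (g₂ ≫ pullback.snd G.t u) ≫ p' = (c₂ ≫ c₁) ≫ y ≫ pQ G u p' w' := by
      simp only [Category.assoc]
      rw [← vv_pQ G u p' w', ← Category.assoc g₂, ← h₂, Category.assoc, Category.assoc]
    rw [ea, eb, hxy]
  obtain ⟨ρ, hρt, hρs⟩ := exists_arrow_of_lifts G u ((c₂ ≫ c₁) ≫ x) ((c₂ ≫ c₁) ≫ y)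
    (c₂ ≫ g₁) g₂ (by rw [Category.assoc, ← h₁, Category.assoc])
    (by rw [← h₂, Category.assoc])
    (hpb'.lift _ _ hab) (by rw [hpb'.lift_fst, Category.assoc]) (hpb'.lift_snd _ _ hab)
  exact ⟨ρ, hρt, hρs⟩

theorem flat_pQ [Flat G.t] [Flat p'] [Surjective p'] [QuasiCompact p']
    (hpb : IsPullback G.t G.s (pQ G u p' w') (pQ G u p' w')) : Flat (pQ G u p' w') := by
  have h1 : IsPullback (pullback.fst G.t u) (pullback.snd G.t u) G.t u :=
    IsPullback.of_hasPullback G.t u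
  have h2 := h1.paste_horiz hpb.flip
  rw [u_pQ] at h2
  have h3 : IsPullback (pullback.snd G.t u) (vv G u) p' (pQ G u p' w') := h2.flip
  exact MorphismProperty.of_isPullback_of_descendsAlong (P := @Flat)
    (Q := @Surjective ⊓ @Flat ⊓ @QuasiCompact) h3 ⟨⟨inferInstance, inferInstance⟩, inferInstance⟩
    inferInstance

end QS


section Main
open Groth.Agent.Lib.Helper4.GrpdQuotMono1

theorem uc_of_integral {X Y : Scheme.{u}} (f : X ⟶ Y) (h : IsIntegralHom f) :
    UniversallyClosed f := inferInstance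

theorem main (S : Scheme.{u}) (G : Grpd.GroupoidScheme S)
    (U' : Scheme.{u}) (u : U' ⟶ G.U) [IsImmersion u]
    (h1 : Mor2.IsFinLocFree (pullback.fst G.t u ≫ G.s) ∧ Surjective (pullback.fst G.t u ≫ G.s))
    (h2 : ∀ E : Set U', (∀ x ∈ E, ∀ y ∈ E, ∃ r : G.R, G.t.base r = u.base x ∧ G.s.base r = u.base y) →
      ∃ W : U'.Opens, IsAffineOpen W ∧ E ⊆ (W : Set U')) :
    ∃ (Y : Scheme.{u}) (p : G.U ⟶ Y) (w : G.t ≫ p = G.s ≫ p),
      Nonempty (IsColimit (Cofork.ofπ p w)) ∧ Surjective p ∧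
      (IsOpenMap G.t.base → IsOpenMap p.base) ∧ (UniversallyClosed G.t → UniversallyClosed p) ∧
      Function.Surjective (pullback.lift G.t G.s w).base ∧
      (Mono G.j → IsPullback G.t G.s p p ∧ (Flat G.t → Flat p)) := by
  haveI : Mono u := inferInstance
  obtain ⟨⟨hfin, hfl, hfp⟩, hsurj⟩ := h1
  haveI : IsFinite (vv G u) := hfin
  haveI : Flat (vv G u) := hfl
  haveI : LocallyOfFinitePresentation (vv G u) := hfp
  haveI : Surjective (vv G u) := hsurj
  haveI : QuasiCompact (vv G u) := inferInstance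
  haveI : IsFinite (pb G u).s :=
    (MorphismProperty.pullback_snd (P := @IsFinite) (vv G u) u hfin :
      IsFinite (pullback.snd (vv G u) u))
  haveI : Flat (pb G u).s :=
    (MorphismProperty.pullback_snd (P := @Flat) (vv G u) u hfl :
      Flat (pullback.snd (vv G u) u))
  haveI : LocallyOfFinitePresentation (pb G u).s :=
    (MorphismProperty.pullback_snd (P := @LocallyOfFinitePresentation) (vv G u) u hfp :
      LocallyOfFinitePresentation (pullback.snd (vv G u) u))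
  have hb' : ∀ x : (pb G u).U, ∃ V : (pb G u).U.Opens, IsAffineOpen V ∧
      (pb G u).t.base '' ((pb G u).s.base ⁻¹' {x}) ⊆ (V : Set (pb G u).U) := by
    intro x
    apply h2
    rintro _ ⟨r₁, hr₁, rfl⟩ _ ⟨r₂, hr₂, rfl⟩
    have hr₁' : (sRR G u).base r₁ = x := hr₁
    have hr₂' : (sRR G u).base r₂ = x := hr₂
    obtain ⟨z, hz1, hz2⟩ := Scheme.Pullback.exists_preimage_pullback (f := sRR G u)
      (g := sRR G u) r₁ r₂ (hr₁'.trans hr₂'.symm)
    let σ : pullback (sRR G u) (sRR G u) ⟶ G.R := pullback.fst _ _ ≫ ιRR G u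
    let τ : pullback (sRR G u) (sRR G u) ⟶ G.R := pullback.snd _ _ ≫ ιRR G u
    have hστ : σ ≫ G.s = τ ≫ G.s := by
      simp only [σ, τ, Category.assoc]
      rw [← sRR_u, ← Category.assoc, pullback.condition, Category.assoc]
    refine ⟨(compInv G σ τ hστ).base z, ?_, ?_⟩
    · rw [← Scheme.Hom.comp_apply, compInv_t]
      simp only [σ, Category.assoc]
      rw [← tRR_u, ← Category.assoc, Scheme.Hom.comp_apply, Scheme.Hom.comp_apply, hz1]
      rfl
    · rw [← Scheme.Hom.comp_apply, compInv_s]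
      simp only [τ, Category.assoc]
      rw [← tRR_u, ← Category.assoc, Scheme.Hom.comp_apply, Scheme.Hom.comp_apply, hz2]
      rfl
  obtain ⟨Y, p', w', ⟨hc'⟩, hint', hsurj', hopen', -, hsl', -⟩ :=
    Groth.Agent.Lib.Helper4.GrpdQuotGen1.main_gen (pb G u) hb'
  have hdesc : ∀ {Z : Scheme.{u}} (f : U' ⟶ Z), tRR G u ≫ f = sRR G u ≫ f →
      ∃ h : Y ⟶ Z, p' ≫ h = f := fun f hf =>
    ⟨Cofork.IsColimit.desc hc' f hf, Cofork.IsColimit.π_desc' hc' f hf⟩
  have hext : ∀ {Z : Scheme.{u}} (h h' : Y ⟶ Z), p' ≫ h = p' ≫ h' → h = h' := fun h h' e =>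
    Cofork.IsColimit.hom_ext hc' e
  refine ⟨Y, pQ G u p' w', t_pQ G u p' w', ⟨isColimit_pQ G u p' w' hdesc hext⟩,
    ⟨surjective_pQ G u p' w' hsurj'.1⟩, fun hto => isOpenMap_pQ G u p' w' hto hopen', ?_,
    surjective_lift_pQ G u p' w' hsl', ?_⟩
  · intro hcl
    haveI := hcl
    haveI : @UniversallyClosed U' Y p' := uc_of_integral (X := U') p' hint'
    exact universallyClosed_pQ G u p' w'
  · intro hmono
    haveI := hmono
    have hmonoG : ∀ {T : Scheme.{u}} (r r' : T ⟶ G.R), r ≫ G.t = r' ≫ G.t →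
        r ≫ G.s = r' ≫ G.s → r = r' := by
      intro T r r' e1 e2
      rw [← cancel_mono G.j]
      apply pullback.hom_ext
      · rw [Category.assoc, Category.assoc, Grpd.GroupoidScheme.j, pullback.lift_fst, e1]
      · rw [Category.assoc, Category.assoc, Grpd.GroupoidScheme.j, pullback.lift_snd, e2]
    haveI : Mono (pb G u).j := by
      constructor
      intro T α β hab
      have e1 : (pb G u).j ≫ pullback.fst (pb G u).pU (pb G u).pU = (pb G u).t :=
        pullback.lift_fst _ _ _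
      have e2 : (pb G u).j ≫ pullback.snd (pb G u).pU (pb G u).pU = (pb G u).s :=
        pullback.lift_snd _ _ _
      have ht0 : α ≫ (pb G u).t = β ≫ (pb G u).t := by
        rw [← e1, ← Category.assoc, ← Category.assoc, hab]
      have hs0 : α ≫ (pb G u).s = β ≫ (pb G u).s := by
        rw [← e2, ← Category.assoc, ← Category.assoc, hab]
      have ht : α ≫ tRR G u = β ≫ tRR G u := ht0
      have hs : α ≫ sRR G u = β ≫ sRR G u := hs0
      apply RR_ext G u
      apply hmonoG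
      · rw [Category.assoc, Category.assoc, ← tRR_u, ← Category.assoc, ← Category.assoc]
        exact congrArg (· ≫ u) ht
      · rw [Category.assoc, Category.assoc, ← sRR_u, ← Category.assoc, ← Category.assoc]
        exact congrArg (· ≫ u) hs
    obtain ⟨hpb', hfin', hfl', hfp'⟩ := Groth.Agent.Lib.Helper4.GrpdQuotMono1.main S (pb G u)
      ⟨inferInstance, inferInstance, inferInstance⟩ hb' Y p' w' hc'
    have hpb := isPullback_pQ G u p' w' hmonoG hpb'
    refine ⟨hpb, fun hflt => ?_⟩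
    haveI := hflt
    haveI : @IsFinite U' Y p' := hfin'
    haveI : @Flat U' Y p' := hfl'
    haveI : @Surjective U' Y p' := hsurj'
    exact flat_pQ G u p' w' hpb

end Main

end Groth.Agent.Lib.Helper4.GrpdQuasiSec1
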