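import Mathlib
import Groth.Prelude.Def_Grpd
import Groth.Prelude.Def_Mor2
import Groth.Agent.Lib.Helper4.GrpdQuotMono1
import Groth.Agent.Lib.Helper4.GrpdQuotGen1

/-!
# FGA form of the quotient by a finite locally free groupoid (S5690), from S4085+S4086 (helper4)
-/

set_option backward.isDefEq.respectTransparency.types false
set_option synthInstance.maxHeartbeats 400000
set_option autoImplicit false
set_option linter.unusedSectionVars false
set_option linter.style.haveILetI false
set_option linter.unusedSimpArgs false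
universe u v w
open CategoryTheory CategoryTheory.Limits AlgebraicGeometry TopologicalSpace Opposite

namespace Groth.Agent.Lib.Helper4.GrpdQuotFGA1

/-- swap the two arrows of a coequalizer cofork -/
noncomputable def isColimitSwap {C : Type*} [Category C] {X Y Z : C} {f g : X ⟶ Y} {p : Y ⟶ Z}
    (w : f ≫ p = g ≫ p) (h : IsColimit (Cofork.ofπ p w)) :
    IsColimit (Cofork.ofπ p w.symm) :=
  Cofork.IsColimit.mk' _ (fun c =>
    ⟨Cofork.IsColimit.desc h c.π c.condition.symm, Cofork.IsColimit.π_desc h,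
      fun {m} hm => Cofork.IsColimit.hom_ext h
        (hm.trans (Cofork.IsColimit.π_desc' h c.π c.condition.symm).symm)⟩)

theorem main {S : Scheme.{u}} (G : Grpd.GroupoidScheme S)
    [IsFinite G.s] [Flat G.s] [LocallyOfFinitePresentation G.s]
    (haff : ∀ x : ↥G.U, ∃ V : G.U.Opens, IsAffineOpen V ∧ G.t.base '' (G.s.base ⁻¹' {x}) ⊆ (V : Set ↥G.U)) :
    ∃ (Y : Scheme.{u}) (q : G.U ⟶ Y) (w : G.s ≫ q = G.t ≫ q),
      Nonempty (IsColimit (Cofork.ofπ q w)) ∧ IsAffineHom q ∧ IsIntegralHom q ∧ Surjective q ∧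
      (∀ x x' : ↥G.U, q.base x = q.base x' ↔ ∃ r : ↥G.R, G.s.base r = x ∧ G.t.base r = x') ∧
      (Mono G.j → IsFinite q ∧ Flat q ∧ LocallyOfFinitePresentation q ∧
        IsIso (pullback.lift G.t G.s w.symm : G.R ⟶ pullback q q)) := by
  have ha : Mor2.IsFinLocFree G.s := ⟨inferInstance, inferInstance, inferInstance⟩
  obtain ⟨Y, p, w, ⟨hc⟩, hint, hsurj, -, hfib, -, -⟩ :=
    Groth.Agent.Lib.Helper4.GrpdQuotGen1.main S G ha haff
  refine ⟨Y, p, w.symm, ⟨isColimitSwap w hc⟩, inferInstance, hint, hsurj, ?_, ?_⟩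
  · intro x x'
    rw [eq_comm, hfib x' x]
    constructor
    · rintro ⟨r, h1, h2⟩
      exact ⟨r, h2, h1⟩
    · rintro ⟨r, h1, h2⟩
      exact ⟨r, h2, h1⟩
  · intro hmono
    obtain ⟨hpb, h1, h2, h3⟩ := Groth.Agent.Lib.Helper4.GrpdQuotMono1.main S G ha haff Y p w hc
    refine ⟨h1, h2, h3, ?_⟩
    have : pullback.lift G.t G.s w = hpb.isoPullback.hom := by
      apply pullback.hom_ext
      · rw [pullback.lift_fst, hpb.isoPullback_hom_fst]
      · rw [pullback.lift_snd, hpb.isoPullback_hom_snd]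
    change IsIso (pullback.lift G.t G.s w)
    rw [this]
    infer_instance

end Groth.Agent.Lib.Helper4.GrpdQuotFGA1
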