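import Mathlib
import Groth.Prelude.Def_Grpd
import Groth.Prelude.Def_Mor2
import Groth.Prelude.Def_AlgSp
import Groth.Prelude.Def_QuotSh
import Groth.Agent.Lib.Helper4.GrpdGlue1
import Groth.Agent.Lib.Helper4.GrpdQuotMono1
import Groth.Agent.Lib.Helper2.Grpd.InvOpen4
import Groth.Agent.S5224

/-!
# Finite locally free equivalence relations: scheme quotient represents the fppf quotient sheaf (S10235) (helper4)
-/

set_option backward.isDefEq.respectTransparency.types false
set_option synthInstance.maxHeartbeats 400000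
set_option autoImplicit false
set_option linter.unusedSectionVars false
set_option linter.style.haveILetI false
set_option linter.unusedSimpArgs false
universe u v w
open CategoryTheory CategoryTheory.Limits AlgebraicGeometry TopologicalSpace Opposite
open Groth.Agent.Lib.Helper4.GrpdGlue1 Groth.Agent.Lib.Helper4.GrpdQuotMono1
open Groth.Agent.Helper2.GrpdLib

namespace Groth.Agent.Lib.Helper4.GrpdQuotFppf1

variable {S : Scheme.{u}} (G : Grpd.GroupoidScheme S)

/-- the weak orbit condition (a point with affine orbit in every nonempty closed set) implies the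
strong one -/
theorem hb_of_closed [IsFinite G.s] [Flat G.s] [LocallyOfFinitePresentation G.s]
    (h3 : ∀ Z : Set ↥G.U, IsClosed Z → Z.Nonempty →
      ∃ u ∈ Z, ∃ W : G.U.Opens, IsAffineOpen W ∧ ∀ r : ↥G.R, G.s r = u → G.t r ∈ W) (x : G.U) :
    ∃ V : G.U.Opens, IsAffineOpen V ∧ G.t.base '' (G.s.base ⁻¹' {x}) ⊆ (V : Set G.U) := by
  let W₀ : G.U.Opens := ⨆ j : InvAff G.s G.t, j.W
  have hW₀ : (W₀ : Set G.U)ᶜ = ∅ := by
    by_contra hne
    obtain ⟨u, huZ, W, hW, hu⟩ := h3 _ W₀.2.isClosed_compl (Set.nonempty_iff_ne_empty.mpr hne)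
    obtain ⟨W', hW'a, huW', -, hW'inv⟩ := InvOpen.exists_invariant_affine_open G u W hW hu
    apply huZ
    exact Opens.mem_iSup.mpr ⟨⟨W', hW'a, hW'inv⟩, huW'⟩
  have hx : x ∈ W₀ := by
    by_contra hx
    have : x ∈ (W₀ : Set G.U)ᶜ := hx
    rw [hW₀] at this
    exact this
  obtain ⟨j, hj⟩ := Opens.mem_iSup.mp hx
  refine ⟨j.W, j.aff, ?_⟩
  rintro _ ⟨r, hr, rfl⟩
  have hr' : G.s.base r = x := hr
  change G.t.base r ∈ j.W
  rw [mem_iff_of_inv j.inv r, hr']
  exact hj

theorem mono_j_of_eqvRel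
    (heq : AlgSp.IsEqvRel (Over.homMk G.s G.s_over : Over.mk G.pR ⟶ Over.mk G.pU)
      (Over.homMk G.t G.t_over : Over.mk G.pR ⟶ Over.mk G.pU)) : Mono G.j := by
  constructor
  intro T a b hab
  have e1 : G.j ≫ pullback.fst G.pU G.pU = G.t := pullback.lift_fst _ _ _
  have e2 : G.j ≫ pullback.snd G.pU G.pU = G.s := pullback.lift_snd _ _ _
  have ht : a ≫ G.t = b ≫ G.t := by
    rw [← e1, ← Category.assoc, ← Category.assoc, hab]
  have hs : a ≫ G.s = b ≫ G.s := by
    rw [← e2, ← Category.assoc, ← Category.assoc, hab]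
  have hpR : b ≫ G.pR = a ≫ G.pR := by
    rw [← G.t_over, ← Category.assoc, ← Category.assoc, ht]
  let a' : Over.mk (a ≫ G.pR) ⟶ Over.mk G.pR := Over.homMk a rfl
  let b' : Over.mk (a ≫ G.pR) ⟶ Over.mk G.pR := Over.homMk b hpR
  have := heq.injective (Over.mk (a ≫ G.pR)) a' b' (by ext; exact ht) (by ext; exact hs)
  exact congrArg (fun f => f.left) this

theorem surjective_s : Surjective G.s := by
  constructor
  intro x
  exact ⟨G.e.base x, by rw [← Scheme.Hom.comp_apply, G.e_s]; rfl⟩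

theorem main {S : Scheme.{u}} (G : Grpd.GroupoidScheme S)
    (hs : Mor2.IsFinLocFree G.s) (ht : Mor2.IsFinLocFree G.t)
    (heq : AlgSp.IsEqvRel (Over.homMk G.s G.s_over : Over.mk G.pR ⟶ Over.mk G.pU) (Over.homMk G.t G.t_over : Over.mk G.pR ⟶ Over.mk G.pU))
    (h3 : ∀ Z : Set ↥G.U, IsClosed Z → Z.Nonempty →
      ∃ u ∈ Z, ∃ W : G.U.Opens, IsAffineOpen W ∧ ∀ r : ↥G.R, G.s r = u → G.t r ∈ W) :
    ∃ (M : Over S) (m : Over.mk G.pU ⟶ M), Mor2.IsFinLocFree m.left ∧ IsPullback G.t G.s m.left m.left ∧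
      QuotSh.IsQuotient Scheme.fppfPrecoverage (Over.homMk G.s G.s_over : Over.mk G.pR ⟶ Over.mk G.pU) (Over.homMk G.t G.t_over : Over.mk G.pR ⟶ Over.mk G.pU) m := by
  obtain ⟨h1, h2, h3'⟩ := hs
  haveI := h1
  haveI := h2
  haveI := h3'
  haveI := mono_j_of_eqvRel G heq
  obtain ⟨Y, p, w, ⟨hc⟩, hpb, hfin, hflat, hlfp, hsurj⟩ := main_mono G (hb_of_closed G h3)
  have wS : G.t ≫ G.pU = G.s ≫ G.pU := G.t_over.trans G.s_over.symm
  let qS : Y ⟶ S := Cofork.IsColimit.desc hc G.pU wS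
  have hqS : p ≫ qS = G.pU := Cofork.IsColimit.π_desc' hc G.pU wS
  let m : Over.mk G.pU ⟶ Over.mk qS := Over.homMk p hqS
  refine ⟨Over.mk qS, m, ⟨hfin, hflat, hlfp⟩, hpb, ?_⟩
  let sO : Over.mk G.pR ⟶ Over.mk G.pU := Over.homMk G.s G.s_over
  let tO : Over.mk G.pR ⟶ Over.mk G.pU := Over.homMk G.t G.t_over
  have hkp : IsKernelPair m sO tO := by
    apply IsPullback.of_map (Over.forget S)
    · ext
      exact w.symm
    · exact hpb.flip
  haveI : IsEquivalenceRelation sO tO :=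
    (IsKernelPair.equivalenceRelation m sO tO (pullbackIsPullback tO sO) hkp).isEquivalenceRelation
  haveI : Flat sO.left := h2
  haveI : Surjective sO.left := surjective_s G
  haveI : LocallyOfFinitePresentation sO.left := h3'
  exact (Groth.Agent.S5224.result sO tO m).mp ⟨hkp, hflat, hsurj, hlfp⟩

end Groth.Agent.Lib.Helper4.GrpdQuotFppf1
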