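import Mathlib
import Groth.Prelude.Def_W4c2conddiscmodels
set_option autoImplicit false
namespace Groth.Agent.Helper4.HJ

/-- numerator / denominator continuants of the HJ fraction -/
def nd : List ℤ → ℤ × ℤ
  | [] => (1, 0)
  | x :: t => (x * (nd t).1 - (nd t).2, (nd t).1)

theorem nd_props (c : List ℤ) (hc : ∀ x ∈ c, (2 : ℤ) ≤ x) :
    0 ≤ (nd c).2 ∧ (nd c).2 < (nd c).1 ∧ IsCoprime (nd c).1 (nd c).2 ∧
      HJFrac.hjVal c = ((nd c).1 : ℚ) / ((nd c).2 : ℚ) := by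
  induction c with
  | nil => simp [nd, HJFrac.hjVal, isCoprime_one_left]
  | cons x t ih =>
    have hx : (2 : ℤ) ≤ x := hc x (List.mem_cons_self)
    obtain ⟨h0, h1, h2, h3⟩ := ih (fun y hy => hc y (List.mem_cons_of_mem _ hy))
    refine ⟨?_, ?_, ?_, ?_⟩
    · simp only [nd]; omega
    · simp only [nd]; nlinarith
    · simp only [nd]
      have : IsCoprime ((nd t).1) (x * (nd t).1 - (nd t).2) := by
        have h4 : IsCoprime (nd t).1 (-(nd t).2) := h2.neg_right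
        have := h4.add_mul_left_right x
        rwa [add_comm, ← sub_eq_add_neg, mul_comm] at this
      exact this.symm
    · simp only [nd, HJFrac.hjVal, h3]
      have hn : ((nd t).1 : ℚ) ≠ 0 := by
        have : (0 : ℤ) < (nd t).1 := by omega
        exact_mod_cast this.ne'
      push_cast
      field_simp

theorem claimA (c : List ℤ) : ∀ (ν : ℕ → ℤ),
    (∀ i x, getElem? c i = some x → x * ν (i + 1) = ν i + ν (i + 2)) →
    ν 0 * (nd c).2 - ν 1 * (nd c).1 = - ν (c.length + 1) := by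
  induction c with
  | nil => intro ν _; simp [nd]
  | cons x t ih =>
    intro ν h
    have h0 : x * ν 1 = ν 0 + ν 2 := h 0 x (by simp)
    have ih' := ih (fun i => ν (i + 1)) (fun i y hy => h (i + 1) y (by simpa using hy))
    simp only [nd, List.length_cons] at ih' ⊢
    have e : ν 0 = x * ν 1 - ν 2 := by linarith
    rw [e]
    linear_combination ih'

theorem claimB (c : List ℤ) : ∀ (ν : ℕ → ℤ),
    (∀ i x, getElem? c i = some x → x * ν (i + 1) = ν i + ν (i + 2)) →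
    (∀ i, i ≤ c.length + 1 → ν i ≠ 0) →
    (ν (c.length + 1) : ℚ) * ∑ i ∈ Finset.range (c.length + 1), 1 / ((ν i : ℚ) * (ν (i + 1) : ℚ))
      = ((nd c).1 : ℚ) / (ν 0 : ℚ) := by
  induction c with
  | nil =>
    intro ν _ hν
    have h0 : (ν 0 : ℚ) ≠ 0 := by exact_mod_cast hν 0 (by simp)
    have h1 : (ν 1 : ℚ) ≠ 0 := by exact_mod_cast hν 1 (by simp)
    simp [nd]
    field_simp
  | cons x t ih =>
    intro ν h hν
    have h0 : x * ν 1 = ν 0 + ν 2 := h 0 x (by simp)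
    have hh : ∀ i y, getElem? t i = some y → y * ν (i + 1 + 1) = ν (i + 1) + ν (i + 2 + 1) :=
      fun i y hy => h (i + 1) y (by simpa using hy)
    have ih' := ih (fun i => ν (i + 1)) hh (fun i hi => hν (i + 1) (by simp at hi ⊢; omega))
    have hA := claimA t (fun i => ν (i + 1)) hh
    simp only [nd, List.length_cons] at ih' hA ⊢
    rw [Finset.sum_range_succ', mul_add, ih']
    have n0 : (ν 0 : ℚ) ≠ 0 := by exact_mod_cast hν 0 (by simp)
    have n1 : (ν 1 : ℚ) ≠ 0 := by exact_mod_cast hν 1 (by simp)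
    have hA' : (ν (t.length + 1 + 1) : ℚ) = (ν 2 : ℚ) * ((nd t).1 : ℚ) - (ν 1 : ℚ) * ((nd t).2 : ℚ) := by
      have : ν (t.length + 1 + 1) = ν 2 * (nd t).1 - ν 1 * (nd t).2 := by linarith
      exact_mod_cast this
    have h0' : (x : ℚ) * (ν 1 : ℚ) = (ν 0 : ℚ) + (ν 2 : ℚ) := by exact_mod_cast h0
    rw [hA']
    push_cast
    field_simp
    linear_combination (-((nd t).1 : ℚ)) * h0'


theorem setup (l : ℕ) (hl : 1 ≤ l) (b : ℕ → ℤ)
    (hb : ∀ i, 1 ≤ i → i ≤ l → 2 ≤ b i)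
    (n r : ℕ) (hr : 0 < r) (hrn : r < n) (hcop : Nat.Coprime r n)
    (hhj : (n : ℚ) / r = HJFrac.hjVal ((List.range l).map fun i => b (i + 1)))
    (μ : ℕ → ℤ)
    (hsys : ∀ i, 1 ≤ i → i ≤ l → b i * μ i = μ (i - 1) + μ (i + 1)) :
    (nd ((List.range l).map fun i => b (i + 1))).1 = n ∧
    (nd ((List.range l).map fun i => b (i + 1))).2 = r ∧
    ((List.range l).map fun i => b (i + 1)).length = l ∧
    (∀ i x, getElem? ((List.range l).map fun i => b (i + 1)) i = some x →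
      x * μ (i + 1) = μ i + μ (i + 2)) := by
  set c := (List.range l).map fun i => b (i + 1) with hcdef
  have hc : ∀ x ∈ c, (2 : ℤ) ≤ x := by
    intro x hx
    rw [hcdef, List.mem_map] at hx
    obtain ⟨i, hi, rfl⟩ := hx
    rw [List.mem_range] at hi
    exact hb (i + 1) (by omega) (by omega)
  obtain ⟨h0, h1, h2, h3⟩ := nd_props c hc
  have hlen : c.length = l := by simp [hcdef]
  have hsys' : ∀ i x, getElem? c i = some x → x * μ (i + 1) = μ i + μ (i + 2) := by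
    intro i x hx
    by_cases hi : i < l
    · have : x = b (i + 1) := by
        simp [hcdef, List.getElem?_map, List.getElem?_range hi] at hx
        exact hx.symm
      rw [this]
      have := hsys (i + 1) (by omega) (by omega)
      simpa using this
    · exfalso
      have : getElem? c i = none := by
        rw [List.getElem?_eq_none_iff, hlen]; omega
      rw [this] at hx
      cases hx
  have hnpos : (0 : ℚ) < (n : ℚ) / r := by
    have : (0 : ℚ) < n := by exact_mod_cast (by omega : 0 < n)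
    have : (0 : ℚ) < r := by exact_mod_cast hr
    positivity
  have hden : (0 : ℤ) < (nd c).2 := by
    rcases h0.lt_or_eq with h | h
    · exact h
    · exfalso
      rw [hhj, h3, ← h] at hnpos
      simp at hnpos
  have hcross : (n : ℤ) * (nd c).2 = r * (nd c).1 := by
    have hr' : (r : ℚ) ≠ 0 := by exact_mod_cast hr.ne'
    have hd' : ((nd c).2 : ℚ) ≠ 0 := by exact_mod_cast hden.ne'
    have := hhj.symm.trans (by rfl : (n : ℚ) / r = (n : ℚ) / r)
    rw [h3, div_eq_div_iff hd' hr'] at this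
    have h' : ((n : ℤ) : ℚ) * ((nd c).2 : ℚ) = ((r : ℤ) : ℚ) * ((nd c).1 : ℚ) := by
      push_cast
      linarith
    exact_mod_cast h'
  have hcop' : IsCoprime (n : ℤ) (r : ℤ) := (Nat.isCoprime_iff_coprime.2 hcop).symm
  have hd1 : (n : ℤ) ∣ (nd c).1 := by
    have : (n : ℤ) ∣ r * (nd c).1 := ⟨(nd c).2, hcross.symm⟩
    exact hcop'.dvd_of_dvd_mul_left this
  have hd2 : (nd c).1 ∣ (n : ℤ) := by
    have : (nd c).1 ∣ (n : ℤ) * (nd c).2 := ⟨r, by rw [hcross]; ring⟩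
    exact h2.dvd_of_dvd_mul_right this
  have hnum : (nd c).1 = n :=
    (Int.dvd_antisymm (by omega) (by omega) hd2 hd1)
  have hn0 : (n : ℤ) ≠ 0 := by exact_mod_cast (by omega : n ≠ 0)
  refine ⟨hnum, ?_, hlen, hsys'⟩
  rw [hnum] at hcross
  have := mul_left_cancel₀ hn0 (hcross.trans (mul_comm _ _))
  exact this

theorem main14798 (l : ℕ) (hl : 1 ≤ l) (b : ℕ → ℤ)
    (hb : ∀ i, 1 ≤ i → i ≤ l → 2 ≤ b i)
    (n r : ℕ) (hr : 0 < r) (hrn : r < n) (hcop : Nat.Coprime r n)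
    (hhj : (n : ℚ) / r = HJFrac.hjVal ((List.range l).map fun i => b (i + 1)))
    (m₁ m₂ : ℕ) (hm₁ : 0 < m₁) (hm₂ : 0 < m₂)
    (μ : ℕ → ℤ) (hμ0 : μ 0 = m₂) (hμl : μ (l + 1) = m₁) (hμpos : ∀ i, i ≤ l + 1 → 0 < μ i)
    (hsys : ∀ i, 1 ≤ i → i ≤ l → b i * μ i = μ (i - 1) + μ (i + 1)) :
    (n : ℚ) / ((m₁ : ℚ) * m₂) = ∑ i ∈ Finset.range (l + 1), 1 / ((μ i : ℚ) * (μ (i + 1) : ℚ)) := by
  obtain ⟨hnum, hden, hlen, hsys'⟩ := setup l hl b hb n r hr hrn hcop hhj μ hsys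
  have hB := claimB _ μ hsys' (fun i hi => (hμpos i (by rw [hlen] at hi; exact hi)).ne')
  rw [hlen, hnum, hμl, hμ0] at hB
  have h1 : (m₁ : ℚ) ≠ 0 := by exact_mod_cast hm₁.ne'
  have h2 : (m₂ : ℚ) ≠ 0 := by exact_mod_cast hm₂.ne'
  push_cast at hB
  rw [div_mul_eq_div_div, div_eq_iff h2] at *
  field_simp
  field_simp at hB
  linarith

theorem main14799 (l : ℕ) (hl : 1 ≤ l) (b : ℕ → ℤ)
    (hb : ∀ i, 1 ≤ i → i ≤ l → 2 ≤ b i)
    (n r : ℕ) (hr : 0 < r) (hrn : r < n) (hcop : Nat.Coprime r n)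
    (hhj : (n : ℚ) / r = HJFrac.hjVal ((List.range l).map fun i => b (i + 1)))
    (m₁ m₂ : ℕ) (h₁ : Nat.Coprime m₁ n)
    (μ : ℕ → ℤ) (hμ0 : μ 0 = m₂) (hμl : μ (l + 1) = m₁)
    (hsys : ∀ i, 1 ≤ i → i ≤ l → b i * μ i = μ (i - 1) + μ (i + 1)) :
    ∀ i, i ≤ l + 1 → ((Nat.gcd m₁ m₂ : ℕ) : ℤ) ∣ μ i := by
  obtain ⟨hnum, hden, hlen, hsys'⟩ := setup l hl b hb n r hr hrn hcop hhj μ hsys
  have hA := claimA _ μ hsys'
  rw [hlen, hnum, hden, hμl, hμ0] at hA
  set d : ℤ := ((Nat.gcd m₁ m₂ : ℕ) : ℤ) with hd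
  have hd1 : d ∣ (m₁ : ℤ) := by
    rw [hd]; exact_mod_cast Nat.gcd_dvd_left m₁ m₂
  have hd2 : d ∣ (m₂ : ℤ) := by
    rw [hd]; exact_mod_cast Nat.gcd_dvd_right m₁ m₂
  have hdn : IsCoprime d (n : ℤ) :=
    IsCoprime.of_isCoprime_of_dvd_left (Nat.isCoprime_iff_coprime.2 h₁) hd1
  have hmul : d ∣ (n : ℤ) * μ 1 := by
    have : (n : ℤ) * μ 1 = (m₂ : ℤ) * r + m₁ := by linarith
    rw [this]
    exact dvd_add (Dvd.dvd.mul_right hd2 _) hd1
  have hμ1 : d ∣ μ 1 := hdn.dvd_of_dvd_mul_left hmul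
  have key : ∀ i, i ≤ l → d ∣ μ i ∧ d ∣ μ (i + 1) := by
    intro i
    induction i with
    | zero => intro _; exact ⟨hμ0 ▸ hd2, hμ1⟩
    | succ i ih =>
      intro hi
      obtain ⟨ha, hb'⟩ := ih (by omega)
      refine ⟨hb', ?_⟩
      have := hsys (i + 1) (by omega) hi
      have e : μ (i + 1 + 1) = b (i + 1) * μ (i + 1) - μ i := by
        simp at this; linarith
      rw [e]
      exact dvd_sub (Dvd.dvd.mul_left hb' _) ha
  intro i hi
  rcases Nat.eq_zero_or_pos i with rfl | hpos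
  · exact (key 0 (by omega)).1
  · obtain ⟨j, rfl⟩ : ∃ j, i = j + 1 := ⟨i - 1, by omega⟩
    exact (key j (by omega)).2

end Groth.Agent.Helper4.HJ
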