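import Mathlib
import Groth.Agent.S15735
set_option autoImplicit false
namespace Groth.Agent.Helper4.HJ2
open W4c2invhilbsl2

/-- `T i = t P_i − b Q_i` -/
def T (p q m : ℕ) (c : List ℤ) (i : ℕ) : ℤ :=
  (tT p q m : ℤ) * hjP c i - (bB p q m : ℤ) * hjQ c i

theorem hjP_succ (c : List ℤ) (j : ℕ) : hjP c (j + 2) = c.getD j 0 * hjP c (j + 1) - hjP c j := by
  rw [hjP]

theorem hjQ_succ (c : List ℤ) (j : ℕ) : hjQ c (j + 2) = c.getD j 0 * hjQ c (j + 1) - hjQ c j := by
  rw [hjQ]

theorem hjP_zero (c : List ℤ) : hjP c 0 = 0 := by rw [hjP]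
theorem hjP_one (c : List ℤ) : hjP c 1 = 1 := by rw [hjP]
theorem hjQ_zero (c : List ℤ) : hjQ c 0 = -1 := by rw [hjQ]
theorem hjQ_one (c : List ℤ) : hjQ c 1 = 0 := by rw [hjQ]

structure Facts (p q m : ℕ) (c : List ℤ) : Prop where
  g0 : (0 : ℤ) < (gcdK p q m : ℤ)
  b0 : (0 : ℤ) < (bB p q m : ℤ)
  gb : (gcdK p q m : ℤ) * (bB p q m : ℤ) = (q : ℤ) - p
  gt : (gcdK p q m : ℤ) * (tT p q m : ℤ) = (q : ℤ) - p - ((m * p % (q - p) : ℕ) : ℤ)
  ab : ((q : ℤ) - p) * (alpha p q m : ℤ) + ((m * p % (q - p) : ℕ) : ℤ) = (m : ℤ) * p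
  nT : ∀ i, nN p q m c i = (gcdK p q m : ℤ) * T p q m c i
  dec : ∀ i, i ≤ c.length → T p q m c (i + 1) < T p q m c i
  T0 : T p q m c 0 = (bB p q m : ℤ)
  Tr : T p q m c c.length = 1
  Tr1 : T p q m c (c.length + 1) = 0
  dig : ∀ i, i < c.length → (2 : ℤ) ≤ c.getD i 0

theorem facts (p q m : ℕ) (hp : 0 < p) (hpq : p < q) (hcop : Nat.Coprime p q) (hm : 0 < m)
    (hnt : ¬ (q - p ∣ m)) (c : List ℤ) (hc : IsHJDigits p q m c) : Facts p q m c := by
  obtain ⟨h1, h2, h3, h4, h5, h6⟩ := Groth.Agent.S15735.result p q m hp hpq hcop hm hnt c hc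
  have hD0 : 0 < q - p := Nat.sub_pos_of_lt hpq
  have hg_dvd_D : Nat.gcd m (q - p) ∣ q - p := Nat.gcd_dvd_right _ _
  have hg_dvd_m : Nat.gcd m (q - p) ∣ m := Nat.gcd_dvd_left _ _
  have hg0 : 0 < Nat.gcd m (q - p) := Nat.gcd_pos_of_pos_left _ hm
  have hβlt : m * p % (q - p) < q - p := Nat.mod_lt _ hD0
  have hg_dvd_β : Nat.gcd m (q - p) ∣ m * p % (q - p) :=
    (Nat.dvd_mod_iff hg_dvd_D).2 (Dvd.dvd.mul_right hg_dvd_m p)
  have hg_dvd_Dβ : Nat.gcd m (q - p) ∣ q - p - m * p % (q - p) := Nat.dvd_sub hg_dvd_D hg_dvd_β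
  have hbg : bB p q m * gcdK p q m = q - p := Nat.div_mul_cancel hg_dvd_D
  have htg : tT p q m * gcdK p q m = q - p - m * p % (q - p) := Nat.div_mul_cancel hg_dvd_Dβ
  have hαβ : (q - p) * alpha p q m + m * p % (q - p) = m * p := Nat.div_add_mod _ _
  have hb0 : 0 < bB p q m := by
    rcases Nat.eq_zero_or_pos (bB p q m) with h | h
    · rw [h, zero_mul] at hbg; omega
    · exact h
  have hDz : ((q : ℤ) - p) = ((q - p : ℕ) : ℤ) := by rw [Nat.cast_sub hpq.le]
  have hgb : (gcdK p q m : ℤ) * (bB p q m : ℤ) = ((q - p : ℕ) : ℤ) := by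
    rw [← hbg]; push_cast; ring
  have hgt : (gcdK p q m : ℤ) * (tT p q m : ℤ) = ((q - p : ℕ) : ℤ) - ((m * p % (q - p) : ℕ) : ℤ) := by
    rw [← Nat.cast_sub hβlt.le, ← htg]; push_cast; ring
  have hαβz : ((q - p : ℕ) : ℤ) * (alpha p q m : ℤ) + ((m * p % (q - p) : ℕ) : ℤ) = (m : ℤ) * p := by
    exact_mod_cast hαβ
  have hgz : (0 : ℤ) < (gcdK p q m : ℤ) := by
    have : 0 < gcdK p q m := hg0
    exact_mod_cast this
  have hnT : ∀ i, nN p q m c i = (gcdK p q m : ℤ) * T p q m c i := by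
    intro i
    unfold nN eE lL T
    push_cast
    linear_combination (hjP c i * ((alpha p q m : ℤ) + 1) - hjQ c i) * hDz + hjP c i * hαβz
      - hjP c i * hgt + hjQ c i * hgb
  refine ⟨hgz, by exact_mod_cast hb0, by rw [hgb, hDz], by rw [hgt, hDz], by rw [hDz]; exact hαβz,
    hnT, ?_, ?_, ?_, ?_, ?_⟩
  · intro i hi
    have := h3 i hi
    rw [hnT, hnT] at this
    exact lt_of_mul_lt_mul_left this hgz.le
  · unfold T; rw [hjP_zero, hjQ_zero]; ring
  · have := h5
    rw [hnT] at this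
    have h' : (gcdK p q m : ℤ) * T p q m c c.length = (gcdK p q m : ℤ) * 1 := by rw [this, mul_one]
    exact mul_left_cancel₀ hgz.ne' h'
  · have := h6
    rw [hnT] at this
    rcases mul_eq_zero.1 this with h | h
    · exact absurd h hgz.ne'
    · exact h
  · intro i hi'
    rw [List.getD_eq_getElem _ _ hi']
    exact hc.1 _ (List.getElem_mem hi')

variable {p q m : ℕ} {c : List ℤ}

theorem T_antitone (F : Facts p q m c) : ∀ a b, a ≤ b → b ≤ c.length + 1 → T p q m c b ≤ T p q m c a := by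
  intro a b hab
  induction b, hab using Nat.le_induction with
  | base => intro _; exact le_refl _
  | succ b hab ih =>
    intro hb
    exact le_trans (F.dec b (by omega)).le (ih (by omega))

theorem T_nonneg (F : Facts p q m c) (a : ℕ) (ha : a ≤ c.length + 1) : 0 ≤ T p q m c a := by
  have := T_antitone F a (c.length + 1) ha (le_refl _)
  rw [F.Tr1] at this
  exact this

theorem T_lt_b (F : Facts p q m c) (a : ℕ) (h1 : 1 ≤ a) (ha : a ≤ c.length + 1) :
    T p q m c a < (bB p q m : ℤ) := by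
  rw [← F.T0]
  exact lt_of_le_of_lt (T_antitone F 1 a h1 ha) (F.dec 0 (Nat.zero_le _))

/-- `P` is strictly increasing and nonnegative on `[0, r+1]`. -/
theorem P_step (F : Facts p q m c) : ∀ j, j ≤ c.length → 0 ≤ hjP c j ∧ hjP c j + 1 ≤ hjP c (j + 1) := by
  intro j
  induction j with
  | zero => intro _; rw [hjP_zero, hjP_one]; simp
  | succ j ih =>
    intro hj
    obtain ⟨i1, i2⟩ := ih (by omega)
    have hd := F.dig j (by omega)
    have hs := hjP_succ c j
    have hpos : 0 ≤ hjP c (j + 1) := by linarith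
    have hmul := mul_nonneg (sub_nonneg.2 hd) hpos
    rw [show j + 1 + 1 = j + 2 from rfl]
    generalize hjP c (j + 2) = P2 at *
    generalize hjP c (j + 1) = P1 at *
    generalize hjP c j = P0 at *
    generalize c.getD j 0 = cc at *
    constructor
    · linarith
    · linarith

theorem P_mono (F : Facts p q m c) : ∀ a b, a ≤ b → b ≤ c.length + 1 → hjP c a ≤ hjP c b := by
  intro a b hab
  induction b, hab using Nat.le_induction with
  | base => intro _; exact le_refl _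
  | succ b hab ih =>
    intro hb
    have := (P_step F b (by omega)).2
    have := ih (by omega)
    linarith

theorem P_nonneg (F : Facts p q m c) (a : ℕ) (ha : a ≤ c.length + 1) : 0 ≤ hjP c a := by
  have := P_mono F 0 a (Nat.zero_le _) ha
  rwa [hjP_zero] at this

theorem sign_change (f : ℕ → ℤ) : ∀ n, 0 ≤ f 0 → f (n + 1) ≤ 0 → ∃ j, j ≤ n ∧ 0 ≤ f j ∧ f (j + 1) ≤ 0 := by
  intro n
  induction n with
  | zero => intro h0 h1; exact ⟨0, le_refl _, h0, h1⟩
  | succ n ih =>
    intro h0 h1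
    by_cases h : 0 ≤ f (n + 1)
    · exact ⟨n + 1, le_refl _, h, h1⟩
    · obtain ⟨j, hj, h2, h3⟩ := ih h0 (by omega)
      exact ⟨j, by omega, h2, h3⟩

/-- The key lower bound: a lattice point with `0 < x < P_i` has residue at least `T (i-1)`. -/
theorem lower (F : Facts p q m c) (i : ℕ) (hi1 : 1 ≤ i) (hir : i ≤ c.length + 1)
    (x y ρ : ℤ) (hx0 : 0 < x) (hx : x < hjP c i)
    (hρ : (tT p q m : ℤ) * x = (bB p q m : ℤ) * y + ρ) (hρ0 : 0 ≤ ρ) :
    T p q m c (i - 1) ≤ ρ := by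
  set D : ℕ → ℤ := fun j => hjP c j * y - hjQ c j * x with hD
  have hdet := Groth.Agent.S15735.H15735.det_id c
  have hidρ : ∀ j, ρ = -D (j + 1) * T p q m c j + D j * T p q m c (j + 1) := by
    intro j
    simp only [hD, T]
    linear_combination (-((tT p q m : ℤ) * x - (bB p q m : ℤ) * y)) * hdet j - hρ
  have hidx : ∀ j, x = -D (j + 1) * hjP c j + D j * hjP c (j + 1) := by
    intro j
    simp only [hD]
    linear_combination (-x) * hdet j
  have hD0 : 0 ≤ D 0 := by
    simp only [hD]; rw [hjP_zero, hjQ_zero]; linarith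
  have hDr : D (c.length + 1) ≤ 0 := by
    have := hidρ c.length
    rw [F.Tr, F.Tr1] at this
    linarith
  obtain ⟨j, hj, hj0, hj1⟩ := sign_change D c.length hD0 hDr
  have hxj := hidx j
  have hρj := hidρ j
  set α := -D (j + 1) with hα
  set β := D j with hβ
  have hα0 : 0 ≤ α := by rw [hα]; linarith
  have hαβ : 1 ≤ α + β := by
    by_contra hcon
    have h1 : α = 0 := by omega
    have h2 : β = 0 := by omega
    rw [h1, h2] at hxj
    linarith
  have hPj := P_nonneg F j (by omega)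
  have hPj1 := P_mono F j (j + 1) (by omega) (by omega)
  rcases lt_trichotomy (j + 1) i with hlt | heq | hgt
  · -- j + 1 < i
    have hTj1 := T_nonneg F (j + 1) (by omega)
    have hTj := T_antitone F j (j + 1) (by omega) (by omega)
    have hTi := T_antitone F (j + 1) (i - 1) (by omega) (by omega)
    have e1 : α * T p q m c (j + 1) ≤ α * T p q m c j := mul_le_mul_of_nonneg_left hTj hα0
    have e2 : 1 * T p q m c (j + 1) ≤ (α + β) * T p q m c (j + 1) :=
      mul_le_mul_of_nonneg_right hαβ hTj1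
    nlinarith
  · -- j = i - 1
    have hji : j = i - 1 := by omega
    rw [heq] at hxj
    rw [← hji]
    have hPi : 0 < hjP c i := lt_trans hx0 hx
    have hβ0 : β = 0 := by
      by_contra hne
      have hβ1 : 1 ≤ β := by omega
      have e1 : 1 * hjP c i ≤ β * hjP c i := mul_le_mul_of_nonneg_right hβ1 hPi.le
      have e2 : 0 ≤ α * hjP c j := mul_nonneg hα0 hPj
      linarith
    have hα1 : 1 ≤ α := by omega
    rw [hβ0] at hρj
    have hTj := T_nonneg F j (by omega)
    have e1 : 1 * T p q m c j ≤ α * T p q m c j := mul_le_mul_of_nonneg_right hα1 hTj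
    linarith
  · -- i ≤ j : contradiction
    exfalso
    have hPij := P_mono F i j (by omega) (by omega)
    have e1 : β * hjP c j ≤ β * hjP c (j + 1) := mul_le_mul_of_nonneg_left hPj1 hj0
    have e2 : 1 * hjP c j ≤ (α + β) * hjP c j := mul_le_mul_of_nonneg_right hαβ hPj
    nlinarith

theorem PQ_step (F : Facts p q m c) : ∀ j, j ≤ c.length →
    1 ≤ hjP c j - hjQ c j ∧ hjP c j - hjQ c j ≤ hjP c (j + 1) - hjQ c (j + 1) := by
  intro j
  induction j with
  | zero => intro _; rw [hjP_zero, hjP_one, hjQ_zero, hjQ_one]; simp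
  | succ j ih =>
    intro hj
    obtain ⟨i1, i2⟩ := ih (by omega)
    have hd := F.dig j (by omega)
    have hs := hjP_succ c j
    have hs' := hjQ_succ c j
    have hpos : 0 ≤ hjP c (j + 1) - hjQ c (j + 1) := by linarith
    have hmul := mul_nonneg (sub_nonneg.2 hd) hpos
    rw [show j + 1 + 1 = j + 2 from rfl]
    generalize hjP c (j + 2) = P2 at *
    generalize hjP c (j + 1) = P1 at *
    generalize hjP c j = P0 at *
    generalize hjQ c (j + 2) = Q2 at *
    generalize hjQ c (j + 1) = Q1 at *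
    generalize hjQ c j = Q0 at *
    generalize c.getD j 0 = cc at *
    constructor
    · linarith
    · nlinarith

theorem PQ_pos (F : Facts p q m c) (j : ℕ) (hj : j ≤ c.length + 1) : 1 ≤ hjP c j - hjQ c j := by
  rcases Nat.lt_or_ge j (c.length + 1) with h | h
  · exact (PQ_step F j (by omega)).1
  · have e : j = c.length + 1 := by omega
    have := PQ_step F c.length (le_refl _)
    rw [e]; linarith

theorem eE_eq (p q m : ℕ) (c : List ℤ) (i : ℕ) :
    eE p q m c i = lL p q m c i + (m : ℤ) * hjP c i := by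
  unfold eE lL; push_cast; ring

theorem lL_pos (F : Facts p q m c) (j : ℕ) (hj : j ≤ c.length + 1) : 1 ≤ lL p q m c j := by
  have h1 := PQ_pos F j hj
  have h2 := P_nonneg F j hj
  have h3 : (0 : ℤ) ≤ (alpha p q m : ℤ) * hjP c j := mul_nonneg (by positivity) h2
  unfold lL; push_cast; linarith

theorem eE_pos (F : Facts p q m c) (j : ℕ) (hj : j ≤ c.length + 1) : 1 ≤ eE p q m c j := by
  rw [eE_eq]
  have h1 := lL_pos F j hj
  have h2 := P_nonneg F j hj
  have h3 : (0 : ℤ) ≤ (m : ℤ) * hjP c j := mul_nonneg (by positivity) h2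
  linarith

theorem nN_eq_lL (p q m : ℕ) (c : List ℤ) (i : ℕ) :
    ((q : ℤ) - p) * lL p q m c i = (p : ℤ) * m * hjP c i + nN p q m c i := by
  unfold nN; rw [eE_eq]; ring

theorem nN_nonneg (F : Facts p q m c) (i : ℕ) (hi : i ≤ c.length + 1) : 0 ≤ nN p q m c i := by
  rw [F.nT]; exact mul_nonneg F.g0.le (T_nonneg F i hi)

theorem nN_lt (F : Facts p q m c) (i : ℕ) (h1 : 1 ≤ i) (hi : i ≤ c.length + 1) :
    nN p q m c i < (q : ℤ) - p := by
  rw [F.nT, ← F.gb]; exact mul_lt_mul_of_pos_left (T_lt_b F i h1 hi) F.g0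

/-- monomial analysis of the weight-`(n_i, 0)` piece -/
theorem NT (F : Facts p q m c) (hp : 0 < p) (hm : 0 < m) (i : ℕ) (hi1 : 1 ≤ i) (hir : i ≤ c.length)
    (a u v : ℕ) (h1 : (a : ℤ) - p * u + q * v = nN p q m c i) (h2 : (m : ℤ) ∣ (v : ℤ) - u) :
    nN p q m c i ≤ a ∨ (eE p q m c i ≤ u ∧ lL p q m c i ≤ v) := by
  by_contra hcon
  rw [not_or] at hcon
  obtain ⟨hc1, hc2⟩ := hcon
  rw [not_le] at hc1
  obtain ⟨k, hk⟩ := h2
  -- x = -k, u = v + m x
  set x : ℤ := -k with hx
  have hu : (u : ℤ) = v + m * x := by rw [hx]; linarith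
  have hpz : (0 : ℤ) < p := by exact_mod_cast hp
  have hmz : (0 : ℤ) < m := by exact_mod_cast hm
  have hnlt := nN_lt F i hi1 (by omega)
  have hn0 := nN_nonneg F i (by omega)
  set s : ℤ := nN p q m c i - a with hs
  have hs1 : 1 ≤ s := by rw [hs]; linarith
  have hsn : s ≤ nN p q m c i := by rw [hs]; linarith [Int.natCast_nonneg a]
  have hmain : ((q : ℤ) - p) * v = p * m * x + s := by
    rw [hs, ← h1, hu]; ring
  have hv0 : (0 : ℤ) ≤ v := Int.natCast_nonneg v
  have hu0 : (0 : ℤ) ≤ u := Int.natCast_nonneg u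
  have hD0 : (0 : ℤ) < (q : ℤ) - p := by rw [← F.gb]; exact mul_pos F.g0 F.b0
  -- x ≥ 1
  have hx1 : 1 ≤ x := by
    by_contra hx0
    have hx0' : x ≤ 0 := by omega
    have e1 : (p : ℤ) * m * x ≤ 0 := mul_nonpos_of_nonneg_of_nonpos (by positivity) hx0'
    rcases (Int.natCast_nonneg v).lt_or_eq with hv | hv
    · have hv1 : (1 : ℤ) ≤ v := by omega
      have e2 : ((q : ℤ) - p) * 1 ≤ ((q : ℤ) - p) * v := mul_le_mul_of_nonneg_left hv1 hD0.le
      have e3 : (m : ℤ) * x ≤ 0 := mul_nonpos_of_nonneg_of_nonpos hmz.le hx0'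
      -- s = D v - p m x ≥ D
      have hmx : (p : ℤ) * m * x = p * (m * x) := by ring
      nlinarith
    · rw [← hv] at hmain hu
      simp only [mul_zero, zero_add] at hmain hu
      have e3 : (m : ℤ) * x ≤ 0 := mul_nonpos_of_nonneg_of_nonpos hmz.le hx0'
      have hmx0 : (m : ℤ) * x = 0 := by linarith
      have : (p : ℤ) * m * x = 0 := by rw [mul_assoc, hmx0, mul_zero]
      linarith
  -- x ≥ P_i
  have hxP : hjP c i ≤ x := by
    by_contra hlt
    rw [not_le] at hlt
    have hi2 : 1 < i := by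
      by_contra h
      have : i = 1 := by omega
      rw [this, hjP_one] at hlt
      omega
    set s' : ℤ := (tT p q m : ℤ) * x - (bB p q m : ℤ) * ((alpha p q m : ℤ) * x + x - v) with hs'
    have hss' : s = (gcdK p q m : ℤ) * s' := by
      rw [hs']
      linear_combination (-1 : ℤ) * hmain + x * F.ab + (-x) * F.gt
        + ((alpha p q m : ℤ) * x + x - v) * F.gb
    have hs'0 : 0 < s' := by
      by_contra h
      rw [not_lt] at h
      have : (gcdK p q m : ℤ) * s' ≤ 0 := mul_nonpos_of_nonneg_of_nonpos F.g0.le h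
      linarith
    have hlow := lower F i (by omega) (by omega) x ((alpha p q m : ℤ) * x + x - v) s'
      (by omega) hlt (by rw [hs']; ring) hs'0.le
    have hdec := F.dec (i - 1) (by omega)
    rw [show i - 1 + 1 = i by omega] at hdec
    have : (gcdK p q m : ℤ) * s' ≤ (gcdK p q m : ℤ) * T p q m c i := by
      rw [← hss', ← F.nT]; exact hsn
    have := le_of_mul_le_mul_left this F.g0
    linarith
  -- v ≥ l_i
  have hvl : lL p q m c i ≤ v := by
    by_contra hlt
    rw [not_le] at hlt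
    have hv1 : (v : ℤ) ≤ lL p q m c i - 1 := by omega
    have e1 : ((q : ℤ) - p) * v ≤ ((q : ℤ) - p) * (lL p q m c i - 1) :=
      mul_le_mul_of_nonneg_left hv1 hD0.le
    have e2 := nN_eq_lL p q m c i
    have e3 : (p : ℤ) * m * hjP c i ≤ p * m * x := mul_le_mul_of_nonneg_left hxP (by positivity)
    nlinarith
  apply hc2
  refine ⟨?_, hvl⟩
  rw [eE_eq, hu]
  have e3 : (m : ℤ) * hjP c i ≤ m * x := mul_le_mul_of_nonneg_left hxP hmz.le
  linarith

theorem nN_le (F : Facts p q m c) (i : ℕ) (hi : i ≤ c.length + 1) :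
    nN p q m c i ≤ (q : ℤ) - p := by
  rw [F.nT, ← F.gb]
  apply mul_le_mul_of_nonneg_left _ F.g0.le
  rw [← F.T0]
  exact T_antitone F 0 i (Nat.zero_le _) hi

/-- monomials `X₁^u X₂^v` of weight `(a, 0)` with `0 < a < n_{i-1}` are divisible by `X₁^{e_i} X₂^{l_i}` -/
theorem NT2 (F : Facts p q m c) (hp : 0 < p) (hm : 0 < m) (i : ℕ) (hi1 : 1 ≤ i) (hir : i ≤ c.length)
    (u v : ℕ) (h2 : (m : ℤ) ∣ (u : ℤ) - v) (h0 : 0 < (q : ℤ) * v - p * u)
    (h1 : (q : ℤ) * v - p * u < nN p q m c (i - 1)) :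
    eE p q m c i ≤ u ∧ lL p q m c i ≤ v := by
  obtain ⟨x, hx⟩ := h2
  have hu : (u : ℤ) = v + m * x := by linarith
  have hpz : (0 : ℤ) < p := by exact_mod_cast hp
  have hmz : (0 : ℤ) < m := by exact_mod_cast hm
  set a : ℤ := (q : ℤ) * v - p * u with ha
  have hmain : ((q : ℤ) - p) * v = p * m * x + a := by rw [ha, hu]; ring
  have hD0 : (0 : ℤ) < (q : ℤ) - p := by rw [← F.gb]; exact mul_pos F.g0 F.b0
  have hle := nN_le F (i - 1) (by omega)
  have hnlt := nN_lt F i hi1 (by omega)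
  have hn0 := nN_nonneg F i (by omega)
  have hv0 : (0 : ℤ) ≤ v := Int.natCast_nonneg v
  have hu0 : (0 : ℤ) ≤ u := Int.natCast_nonneg u
  have hx1 : 1 ≤ x := by
    by_contra hx0
    have hx0' : x ≤ 0 := by omega
    have e1 : (p : ℤ) * m * x ≤ 0 := mul_nonpos_of_nonneg_of_nonpos (by positivity) hx0'
    rcases (Int.natCast_nonneg v).lt_or_eq with hv | hv
    · have hv1 : (1 : ℤ) ≤ v := by omega
      have e2 : ((q : ℤ) - p) * 1 ≤ ((q : ℤ) - p) * v := mul_le_mul_of_nonneg_left hv1 hD0.le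
      linarith
    · rw [← hv] at hmain hu
      simp only [mul_zero, zero_add] at hmain hu
      have e3 : (m : ℤ) * x ≤ 0 := mul_nonpos_of_nonneg_of_nonpos hmz.le hx0'
      have hmx0 : (m : ℤ) * x = 0 := by linarith
      have : (p : ℤ) * m * x = 0 := by rw [mul_assoc, hmx0, mul_zero]
      linarith
  set s' : ℤ := (tT p q m : ℤ) * x - (bB p q m : ℤ) * ((alpha p q m : ℤ) * x + x - v) with hs'
  have hss' : a = (gcdK p q m : ℤ) * s' := by
    rw [hs']
    linear_combination (-1 : ℤ) * hmain + x * F.ab + (-x) * F.gt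
      + ((alpha p q m : ℤ) * x + x - v) * F.gb
  have hs'0 : 0 < s' := by
    by_contra h
    rw [not_lt] at h
    have : (gcdK p q m : ℤ) * s' ≤ 0 := mul_nonpos_of_nonneg_of_nonpos F.g0.le h
    linarith
  have hs'T : s' < T p q m c (i - 1) := by
    have : (gcdK p q m : ℤ) * s' < (gcdK p q m : ℤ) * T p q m c (i - 1) := by
      rw [← hss', ← F.nT]; exact h1
    exact lt_of_mul_lt_mul_left this F.g0.le
  have hxP : hjP c i ≤ x := by
    by_contra hlt
    rw [not_le] at hlt
    have hlow := lower F i (by omega) (by omega) x ((alpha p q m : ℤ) * x + x - v) s'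
      (by omega) hlt (by rw [hs']; ring) hs'0.le
    linarith
  have hvl : lL p q m c i ≤ v := by
    by_contra hlt
    rw [not_le] at hlt
    have hv1 : (v : ℤ) ≤ lL p q m c i - 1 := by omega
    have e1 : ((q : ℤ) - p) * v ≤ ((q : ℤ) - p) * (lL p q m c i - 1) :=
      mul_le_mul_of_nonneg_left hv1 hD0.le
    have e2 := nN_eq_lL p q m c i
    have e3 : (p : ℤ) * m * hjP c i ≤ p * m * x := mul_le_mul_of_nonneg_left hxP (by positivity)
    nlinarith
  refine ⟨?_, hvl⟩
  rw [eE_eq, hu]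
  have e3 : (m : ℤ) * hjP c i ≤ m * x := mul_le_mul_of_nonneg_left hxP hmz.le
  linarith

end Groth.Agent.Helper4.HJ2
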