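import Mathlib
import Groth.Prelude.Def_EGA4c
import Groth.Agent.Lib.Helper4.Hartogs1

/-!
# T-torsion quotient with depth >= 1 along T (S1737) (helper4)
-/

set_option backward.isDefEq.respectTransparency.types false
set_option synthInstance.maxHeartbeats 400000
set_option autoImplicit false
set_option linter.unusedSectionVars false
set_option linter.style.haveILetI false
set_option linter.unusedSimpArgs false
universe u v w
open CategoryTheory CategoryTheory.Limits AlgebraicGeometry TopologicalSpace IsLocalRing Opposite
open Groth.Agent.Lib.Helper4.Hartogs1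

namespace Groth.Agent.Lib.Helper4.Hartogs3

variable {A : Type u} [CommRing A] {M : Type u} [AddCommGroup M] [Module A M]

/-- the `T`-torsion submodule `H⁰_T(M)` -/
def torsionAlong (T : Set (PrimeSpectrum A)) (M : Type u) [AddCommGroup M] [Module A M] : Submodule A M where
  carrier := {m | ∀ P : PrimeSpectrum A, (⊥ : Submodule A M).colon {m} ≤ P.asIdeal → P ∈ T}
  zero_mem' := by
    intro P hP
    exfalso
    apply P.2.ne_top
    rw [eq_top_iff]
    refine le_trans ?_ hP
    intro a _
    rw [Submodule.mem_colon_singleton]; simp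
  add_mem' := by
    intro m1 m2 h1 h2 P hP
    by_contra hPT
    have h1' : ¬ (⊥ : Submodule A M).colon {m1} ≤ P.asIdeal := fun h => hPT (h1 P h)
    have h2' : ¬ (⊥ : Submodule A M).colon {m2} ≤ P.asIdeal := fun h => hPT (h2 P h)
    obtain ⟨a, ha, haP⟩ := SetLike.not_le_iff_exists.1 h1'
    obtain ⟨b, hb, hbP⟩ := SetLike.not_le_iff_exists.1 h2'
    rw [Submodule.mem_colon_singleton, Submodule.mem_bot] at ha hb
    have : a * b ∈ P.asIdeal := hP (by
      rw [Submodule.mem_colon_singleton, Submodule.mem_bot, smul_add, mul_smul a b m2, hb, smul_zero,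
        mul_comm, mul_smul, ha, smul_zero, add_zero])
    rcases Ideal.IsPrime.mem_or_mem P.2 this with h | h
    · exact haP h
    · exact hbP h
  smul_mem' := by
    intro c m h P hP
    apply h P
    refine le_trans ?_ hP
    intro a ha
    rw [Submodule.mem_colon_singleton, Submodule.mem_bot] at ha ⊢
    rw [smul_comm, ha, smul_zero]

lemma mem_torsionAlong {T : Set (PrimeSpectrum A)} {m : M} :
    m ∈ torsionAlong T M ↔ ∀ P : PrimeSpectrum A, (⊥ : Submodule A M).colon {m} ≤ P.asIdeal → P ∈ T :=
  Iff.rfl

theorem S1737_main [IsNoetherianRing A] (T : Set (PrimeSpectrum A)) (hT : StableUnderSpecialization T)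
    [Module.Finite A M] :
    ∃ (M' : Type u) (_ : AddCommGroup M') (_ : Module A M') (_ : Module.Finite A M') (f : M →ₗ[A] M'),
      Function.Surjective f ∧
      (∀ p : PrimeSpectrum A, p ∉ T → Function.Bijective (LocalizedModule.map p.asIdeal.primeCompl f)) ∧
      ∀ p : PrimeSpectrum A, p ∈ T → 1 ≤ LocCoh.depth (Localization.AtPrime p.asIdeal)
        (LocalizedModule p.asIdeal.primeCompl M') := by
  refine ⟨M ⧸ torsionAlong T M, inferInstance, inferInstance, inferInstance, (torsionAlong T M).mkQ,
    Submodule.mkQ_surjective _, ?_, ?_⟩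
  · intro p hp
    constructor
    · rw [injective_iff_map_eq_zero]
      intro x hx
      induction x using LocalizedModule.induction_on with
      | h m s =>
        rw [LocalizedModule.map_mk, ← LocalizedModule.zero_mk s, LocalizedModule.mk_eq] at hx
        obtain ⟨w, hw⟩ := hx
        simp only [smul_zero, Submonoid.smul_def] at hw
        have hK : (w.1 * s.1) • m ∈ torsionAlong T M := by
          rw [← Submodule.Quotient.mk_eq_zero, Submodule.Quotient.mk_smul, mul_smul]
          exact hw
        have hnot : ¬ (⊥ : Submodule A M).colon {(w.1 * s.1) • m} ≤ p.asIdeal :=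
          fun h => hp (hK p h)
        obtain ⟨a, ha, hap⟩ := SetLike.not_le_iff_exists.1 hnot
        rw [Submodule.mem_colon_singleton, Submodule.mem_bot] at ha
        rw [← LocalizedModule.zero_mk s, LocalizedModule.mk_eq]
        refine ⟨⟨a * w.1, p.asIdeal.primeCompl.mul_mem hap w.2⟩, ?_⟩
        simp only [smul_zero, Submonoid.smul_def]
        rw [← ha, mul_smul, mul_smul]
    · intro y
      induction y using LocalizedModule.induction_on with
      | h m' s =>
        obtain ⟨m, rfl⟩ := Submodule.mkQ_surjective _ m'
        exact ⟨LocalizedModule.mk m s, by rw [LocalizedModule.map_mk]⟩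
  · intro p hp
    rw [one_le_depth_localized_iff]
    intro hass
    have hass' : IsAssociatedPrime p.asIdeal (M ⧸ torsionAlong T M) := hass
    rw [isAssociatedPrime_iff] at hass'
    obtain ⟨-, mbar, hm⟩ := hass'
    obtain ⟨m, rfl⟩ := Submodule.Quotient.mk_surjective _ mbar
    have hmem : ∀ a : A, a ∈ p.asIdeal ↔ a • m ∈ torsionAlong T M := by
      intro a
      rw [hm, Submodule.mem_colon_singleton, Submodule.mem_bot, ← Submodule.Quotient.mk_smul,
        Submodule.Quotient.mk_eq_zero]
    have hmK : m ∈ torsionAlong T M := by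
      intro P hP
      by_contra hPT
      have hnot : ¬ p.asIdeal ≤ P.asIdeal := by
        intro hle
        exact hPT (hT ((PrimeSpectrum.le_iff_specializes p P).1 hle) hp)
      obtain ⟨a, ha, haP⟩ := SetLike.not_le_iff_exists.1 hnot
      have haK := (hmem a).1 ha
      have hnot' : ¬ (⊥ : Submodule A M).colon {a • m} ≤ P.asIdeal := fun h => hPT (haK P h)
      obtain ⟨b, hb, hbP⟩ := SetLike.not_le_iff_exists.1 hnot'
      rw [Submodule.mem_colon_singleton, Submodule.mem_bot] at hb
      have : b * a ∈ P.asIdeal := hP (by
        rw [Submodule.mem_colon_singleton, Submodule.mem_bot, mul_smul, hb])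
      rcases Ideal.IsPrime.mem_or_mem P.2 this with h | h
      · exact hbP h
      · exact haP h
    have : (1 : A) ∈ p.asIdeal := (hmem 1).2 (by rw [one_smul]; exact hmK)
    exact (Ideal.ne_top_iff_one _).1 p.2.ne_top this

end Groth.Agent.Lib.Helper4.Hartogs3
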