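import Mathlib
import Groth.Agent.Lib.Helper4.HensCouple3
import Groth.Agent.Lib.Helper7.HensCouple

/-!
# Henselian couples: proper over a henselian pair (S17965) (helper4)
-/

set_option backward.isDefEq.respectTransparency.types false
set_option synthInstance.maxHeartbeats 400000
set_option autoImplicit false
set_option linter.unusedSectionVars false
set_option linter.style.haveILetI false
set_option linter.unusedSimpArgs false
universe u v w
open CategoryTheory CategoryTheory.Limits AlgebraicGeometry TopologicalSpace Topology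

namespace Groth.Agent.Lib.Helper4.HensCouple4

open Groth.Agent.Lib.Helper4.HensCouple1 Groth.Agent.Lib.Helper4.HensCouple2

/-- descent of the unique clopen extension property along a closed surjective map -/
theorem existsUnique_trace_of_closed_surjective {Y T : Type*} [TopologicalSpace Y]
    [TopologicalSpace T] (q : Y → T) (hqc : Continuous q) (hqcl : IsClosedMap q)
    (hqs : Function.Surjective q) (T₀ : Set T)
    (H1 : ∀ Z : Set Y, IsClosed Z → Z ∩ q ⁻¹' T₀ = ∅ → Z = ∅)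
    (H2 : ∀ V : Set Y, IsClosed V → ∀ O : Set Y, IsOpen O → O ∩ q ⁻¹' T₀ = V →
      ∃ U : Set Y, IsClopen U ∧ U ∩ q ⁻¹' T₀ = V)
    (V' : Set T) (hV'c : IsClosed V') (O' : Set T) (hO' : IsOpen O') (hOV' : O' ∩ T₀ = V') :
    ∃! U' : Set T, IsClopen U' ∧ U' ∩ T₀ = V' := by
  have hV'T₀ : V' ⊆ T₀ := by rw [← hOV']; exact Set.inter_subset_right
  -- closed sets of `T` missing `T₀` are empty
  have H1' : ∀ S : Set T, IsClosed S → S ∩ T₀ = ∅ → S = ∅ := by
    intro S hS hST
    have h1 : q ⁻¹' S = ∅ := by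
      apply H1 _ (hS.preimage hqc)
      rw [← Set.preimage_inter, hST, Set.preimage_empty]
    rw [← Set.image_preimage_eq S hqs, h1, Set.image_empty]
  have hV : q ⁻¹' O' ∩ q ⁻¹' T₀ = q ⁻¹' V' := by rw [← Set.preimage_inter, hOV']
  obtain ⟨U, hU, hUV⟩ := H2 (q ⁻¹' V') (hV'c.preimage hqc) (q ⁻¹' O') (hO'.preimage hqc) hV
  have hZc : IsClosed (q '' U) := hqcl _ hU.1
  have hZ'c : IsClosed (q '' Uᶜ) := hqcl _ hU.2.isClosed_compl
  have hcover : q '' U ∪ q '' Uᶜ = Set.univ := by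
    rw [← Set.image_union, Set.union_compl_self, Set.image_univ, hqs.range_eq]
  have hdisj : q '' U ∩ q '' Uᶜ = ∅ := by
    apply H1' _ (hZc.inter hZ'c)
    rw [Set.eq_empty_iff_forall_notMem]
    rintro c ⟨⟨⟨y, hyU, rfl⟩, ⟨y', hy'U, hy'⟩⟩, hc⟩
    have hy0 : y ∈ U ∩ q ⁻¹' T₀ := ⟨hyU, hc⟩
    rw [hUV] at hy0
    have hy'0 : y' ∈ q ⁻¹' V' := by
      show q y' ∈ V'
      rw [hy']; exact hy0
    rw [← hUV] at hy'0
    exact hy'U hy'0.1
  have hZcompl : (q '' U)ᶜ = q '' Uᶜ := by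
    apply Set.Subset.antisymm
    · intro c hc
      have : c ∈ q '' U ∪ q '' Uᶜ := by rw [hcover]; trivial
      exact this.resolve_left hc
    · intro c hc hc'
      have : c ∈ q '' U ∩ q '' Uᶜ := ⟨hc', hc⟩
      rw [hdisj] at this
      exact this
  have hZclopen : IsClopen (q '' U) := ⟨hZc, by
    rw [← isClosed_compl_iff, hZcompl]; exact hZ'c⟩
  have hZT₀ : q '' U ∩ T₀ = V' := by
    apply Set.Subset.antisymm
    · rintro c ⟨⟨y, hyU, rfl⟩, hc⟩
      have hy0 : y ∈ U ∩ q ⁻¹' T₀ := ⟨hyU, hc⟩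
      rw [hUV] at hy0
      exact hy0
    · intro c hc
      obtain ⟨y, rfl⟩ := hqs c
      have hy0 : y ∈ q ⁻¹' V' := hc
      rw [← hUV] at hy0
      exact ⟨⟨y, hy0.1, rfl⟩, hV'T₀ hc⟩
  refine ⟨q '' U, ⟨hZclopen, hZT₀⟩, ?_⟩
  rintro U'' ⟨hU''1, hU''2⟩
  -- uniqueness: the symmetric difference misses `T₀`
  have h1 : U'' \ (q '' U) = ∅ := by
    apply H1' _ (hU''1.1.sdiff hZclopen.2)
    rw [Set.eq_empty_iff_forall_notMem]
    rintro c ⟨⟨hc1, hc2⟩, hc⟩
    have : c ∈ U'' ∩ T₀ := ⟨hc1, hc⟩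
    rw [hU''2, ← hZT₀] at this
    exact hc2 this.1
  have h2 : (q '' U) \ U'' = ∅ := by
    apply H1' _ (hZclopen.1.sdiff hU''1.2)
    rw [Set.eq_empty_iff_forall_notMem]
    rintro c ⟨⟨hc1, hc2⟩, hc⟩
    have : c ∈ q '' U ∩ T₀ := ⟨hc1, hc⟩
    rw [hZT₀, ← hU''2] at this
    exact hc2 this.1
  exact Set.Subset.antisymm (Set.sdiff_eq_empty.mp h1) (Set.sdiff_eq_empty.mp h2)

/-- In a henselian couple, closed subsets missing the closed part are empty. -/
theorem eq_empty_of_couple' {X X₀ : Scheme.{u}} (i : X₀ ⟶ X)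
    (hX : ∀ (Y : Scheme.{u}) (g : Y ⟶ X), IsFinite g →
      ∀ V : Set ↥(pullback g i), IsClopen V →
        ∃! U : Set ↥Y, IsClopen U ∧ (pullback.fst g i).base ⁻¹' U = V)
    {Y : Scheme.{u}} (g : Y ⟶ X) [IsFinite g] (Z : TopologicalSpace.Closeds Y)
    (hZ0 : (Z : Set Y) ∩ g ⁻¹' Set.range i = ∅) : (Z : Set Y) = ∅ := by
  obtain ⟨ι, hι⟩ : ∃ ι : (Scheme.IdealSheafData.vanishingIdeal Z).subscheme ⟶ Y,
      ι = (Scheme.IdealSheafData.vanishingIdeal Z).subschemeι := ⟨_, rfl⟩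
  haveI : IsClosedImmersion ι := by rw [hι]; infer_instance
  have hrange : Set.range ι = (Z : Set Y) := by
    rw [hι, Scheme.IdealSheafData.range_subschemeι,
      Scheme.IdealSheafData.coe_support_vanishingIdeal]
  haveI : IsFinite (ι ≫ g) := inferInstance
  haveI : IsEmpty ↥(pullback (ι ≫ g) i) := by
    constructor
    intro w
    have h1 : ι ((pullback.fst (ι ≫ g) i) w) ∈ (Z : Set Y) := by
      rw [← hrange]; exact ⟨_, rfl⟩
    have h2 : g (ι ((pullback.fst (ι ≫ g) i) w)) = i ((pullback.snd (ι ≫ g) i) w) := by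
      rw [← Scheme.Hom.comp_apply, ← Scheme.Hom.comp_apply, ← Scheme.Hom.comp_apply,
        pullback.condition]
    have h3 : ι ((pullback.fst (ι ≫ g) i) w) ∈ (Z : Set Y) ∩ g ⁻¹' Set.range i :=
      ⟨h1, ⟨_, h2.symm⟩⟩
    rw [hZ0] at h3
    exact h3
  obtain ⟨U, -, hU⟩ := hX _ (ι ≫ g) inferInstance ∅ isClopen_empty
  have h1 := hU ∅ ⟨isClopen_empty, Set.eq_empty_of_isEmpty _⟩
  have h2 := hU Set.univ ⟨isClopen_univ, Set.eq_empty_of_isEmpty _⟩
  have h3 : (Set.univ : Set ↥(Scheme.IdealSheafData.vanishingIdeal Z).subscheme) = ∅ :=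
    h2.trans h1.symm
  rw [← hrange, ← Set.image_univ, h3, Set.image_empty]

theorem eq_empty_of_couple {X X₀ : Scheme.{u}} (i : X₀ ⟶ X)
    (hX : ∀ (Y : Scheme.{u}) (g : Y ⟶ X), IsFinite g →
      ∀ V : Set ↥(pullback g i), IsClopen V →
        ∃! U : Set ↥Y, IsClopen U ∧ (pullback.fst g i).base ⁻¹' U = V)
    {Y : Scheme.{u}} (g : Y ⟶ X) [IsFinite g] (Z : Set Y) (hZ : IsClosed Z)
    (hZ0 : Z ∩ g ⁻¹' Set.range i = ∅) : Z = ∅ :=
  eq_empty_of_couple' i hX g ⟨Z, hZ⟩ hZ0

/-- In a henselian couple, relatively clopen subsets of the closed part extend. -/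
theorem exists_isClopen_of_couple {X X₀ : Scheme.{u}} (i : X₀ ⟶ X) [IsClosedImmersion i]
    (hX : ∀ (Y : Scheme.{u}) (g : Y ⟶ X), IsFinite g →
      ∀ V : Set ↥(pullback g i), IsClopen V →
        ∃! U : Set ↥Y, IsClopen U ∧ (pullback.fst g i).base ⁻¹' U = V)
    {Y : Scheme.{u}} (g : Y ⟶ X) [IsFinite g] (V : Set Y) (hV : IsClosed V)
    (O : Set Y) (hO : IsOpen O) (hOV : O ∩ g ⁻¹' Set.range i = V) :
    ∃ U : Set Y, IsClopen U ∧ U ∩ g ⁻¹' Set.range i = V := by
  have hrange : Set.range (pullback.fst g i) = g ⁻¹' Set.range i :=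
    Scheme.Pullback.range_fst g i
  have hVO : (pullback.fst g i).base ⁻¹' V = (pullback.fst g i).base ⁻¹' O := by
    rw [← hOV, Set.preimage_inter, ← hrange]
    have : (pullback.fst g i).base ⁻¹' Set.range (pullback.fst g i) = Set.univ :=
      Set.preimage_range _
    rw [this, Set.inter_univ]
  have hcl : IsClopen ((pullback.fst g i).base ⁻¹' V) :=
    ⟨hV.preimage (pullback.fst g i).continuous, by
      rw [hVO]; exact hO.preimage (pullback.fst g i).continuous⟩
  obtain ⟨U, ⟨hU1, hU2⟩, -⟩ := hX Y g inferInstance _ hcl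
  refine ⟨U, hU1, ?_⟩
  have hVsub : V ⊆ g ⁻¹' Set.range i := by rw [← hOV]; exact Set.inter_subset_right
  apply Set.Subset.antisymm
  · rintro y ⟨hyU, hy⟩
    rw [← hrange] at hy
    obtain ⟨w, rfl⟩ := hy
    have : w ∈ (pullback.fst g i).base ⁻¹' U := hyU
    rw [hU2] at this
    exact this
  · intro y hy
    have hy' := hVsub hy
    refine ⟨?_, hy'⟩
    rw [← hrange] at hy'
    obtain ⟨w, rfl⟩ := hy'
    have : w ∈ (pullback.fst g i).base ⁻¹' V := hy
    rw [← hU2] at this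
    exact this

/-- The square of rings `A → B`, `A → A ⧸ I`, `B → B ⧸ I B` is a pushout. -/
theorem isPushout_quot {A B : Type u} [CommRing A] [CommRing B] (φ : A →+* B) (I : Ideal A) :
    IsPushout (CommRingCat.ofHom (Ideal.Quotient.mk I)) (CommRingCat.ofHom φ)
      (CommRingCat.ofHom (Ideal.quotientMap (I.map φ) φ Ideal.le_comap_map))
      (CommRingCat.ofHom (Ideal.Quotient.mk (I.map φ))) := by
  have w : CommRingCat.ofHom (Ideal.Quotient.mk I) ≫
      CommRingCat.ofHom (Ideal.quotientMap (I.map φ) φ Ideal.le_comap_map) =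
      CommRingCat.ofHom φ ≫ CommRingCat.ofHom (Ideal.Quotient.mk (I.map φ)) := by
    ext x
    rfl
  have hker : ∀ s : PushoutCocone (CommRingCat.ofHom (Ideal.Quotient.mk I)) (CommRingCat.ofHom φ),
      ∀ x ∈ I.map φ, s.inr.hom x = 0 := by
    intro s
    have : I.map φ ≤ RingHom.ker s.inr.hom := by
      rw [Ideal.map_le_iff_le_comap]
      intro x hx
      have h1 := congrArg (fun m => m.hom x) s.condition
      change s.inl.hom (Ideal.Quotient.mk I x) = s.inr.hom (φ x) at h1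
      rw [Ideal.mem_comap, RingHom.mem_ker, ← h1, Ideal.Quotient.eq_zero_iff_mem.2 hx, map_zero]
    exact fun x hx => this hx
  refine ⟨⟨w⟩, ⟨PushoutCocone.IsColimit.mk _
    (fun s => CommRingCat.ofHom (Ideal.Quotient.lift (I.map φ) s.inr.hom (hker s))) ?_ ?_ ?_⟩⟩
  · intro s
    ext x
    have h1 := congrArg (fun m => m.hom x) s.condition
    change s.inl.hom (Ideal.Quotient.mk I x) = s.inr.hom (φ x) at h1
    change Ideal.Quotient.lift (I.map φ) s.inr.hom (hker s)
      (Ideal.quotientMap (I.map φ) φ Ideal.le_comap_map (Ideal.Quotient.mk I x)) = _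
    rw [Ideal.quotientMap_mk, Ideal.Quotient.lift_mk]
    exact h1.symm
  · intro s
    ext x
    change Ideal.Quotient.lift (I.map φ) s.inr.hom (hker s) (Ideal.Quotient.mk _ x) = _
    rw [Ideal.Quotient.lift_mk]
  · intro s m _ h2
    ext x
    have := congrArg (fun m => m.hom x) h2
    change m.hom (Ideal.Quotient.mk _ x) = s.inr.hom x at this
    change m.hom (Ideal.Quotient.mk _ x) = Ideal.Quotient.lift (I.map φ) s.inr.hom (hker s)
      (Ideal.Quotient.mk _ x)
    rw [Ideal.Quotient.lift_mk, this]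

/-- `Spec (B ⧸ I B)` is the fibre product of `Spec B` and `Spec (A ⧸ I)` over `Spec A`. -/
theorem isPullback_spec_quot {A B : Type u} [CommRing A] [CommRing B] (φ : A →+* B)
    (I : Ideal A) :
    IsPullback (Spec.map (CommRingCat.ofHom (Ideal.quotientMap (I.map φ) φ Ideal.le_comap_map)))
      (Spec.map (CommRingCat.ofHom (Ideal.Quotient.mk (I.map φ))))
      (Spec.map (CommRingCat.ofHom (Ideal.Quotient.mk I)))
      (Spec.map (CommRingCat.ofHom φ)) :=
  isPullback_SpecMap_of_isPushout _ _ _ _ (isPushout_quot φ I)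

theorem range_SpecMap_mk {B : Type u} [CommRing B] (J : Ideal B) :
    Set.range (Spec.map (CommRingCat.ofHom (Ideal.Quotient.mk J))) =
      PrimeSpectrum.zeroLocus (J : Set B) := by
  have h1 := range_comap_of_surjective _ (Ideal.Quotient.mk J) Ideal.Quotient.mk_surjective
  rw [Ideal.mk_ker] at h1
  exact h1

/-- **S17965** -/
theorem S17965_main (A : Type u) [CommRing A] [IsNoetherianRing A] (I : Ideal A) {X : Scheme.{u}}
    (f : X ⟶ Spec (CommRingCat.of A)) [IsProper f]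
    (hX : ∀ (Y : Scheme.{u}) (g : Y ⟶ X), IsFinite g →
      ∀ V : Set ↥(pullback g (pullback.fst f (Spec.map (CommRingCat.ofHom (Ideal.Quotient.mk I))))), IsClopen V →
        ∃! U : Set ↥Y, IsClopen U ∧ (pullback.fst g (pullback.fst f (Spec.map (CommRingCat.ofHom (Ideal.Quotient.mk I))))).base ⁻¹' U = V) :
    ∃ (A' : Type u) (_ : CommRing A') (I' : Ideal A') (_ : HenselianRing A' I') (_ : IsNoetherianRing A')
      (f' : X ⟶ Spec (CommRingCat.of A')) (_ : IsProper f')
      (t : pullback f (Spec.map (CommRingCat.ofHom (Ideal.Quotient.mk I))) ⟶ Spec (CommRingCat.of (A' ⧸ I'))),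
      IsPullback (pullback.fst f (Spec.map (CommRingCat.ofHom (Ideal.Quotient.mk I)))) t f' (Spec.map (CommRingCat.ofHom (Ideal.Quotient.mk I'))) := by
  haveI : IsClosedImmersion (Spec.map (CommRingCat.ofHom (Ideal.Quotient.mk I))) :=
    IsClosedImmersion.spec_of_surjective _ Ideal.Quotient.mk_surjective
  haveI : IsClosedImmersion (pullback.fst f
      (Spec.map (CommRingCat.ofHom (Ideal.Quotient.mk I)))) := inferInstance
  obtain ⟨i₀, hi₀⟩ : ∃ i₀ : pullback f (Spec.map (CommRingCat.ofHom (Ideal.Quotient.mk I))) ⟶ X,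
      i₀ = pullback.fst f (Spec.map (CommRingCat.ofHom (Ideal.Quotient.mk I))) := ⟨_, rfl⟩
  rw [← hi₀] at hX ⊢
  haveI : IsClosedImmersion i₀ := by rw [hi₀]; infer_instance
  let φ : CommRingCat.of A ⟶ Γ(X, ⊤) := (Scheme.ΓSpecIso (CommRingCat.of A)).inv ≫ f.appTop
  have hfac : X.toSpecΓ ≫ Spec.map φ = f := by
    show X.toSpecΓ ≫ Spec.map ((Scheme.ΓSpecIso (CommRingCat.of A)).inv ≫ f.appTop) = f
    rw [Spec.map_comp, ← Category.assoc, ← Scheme.toSpecΓ_naturality, Category.assoc]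
    rw [toSpecΓ_SpecMap_ΓSpecIso_inv, Category.comp_id]
  letI algAB : Algebra A Γ(X, ⊤) := φ.hom.toAlgebra
  have hφfin : φ.hom.Finite := by
    haveI : IsNoetherianRing Γ(Spec (CommRingCat.of A), ⊤) :=
      isNoetherianRing_of_ringEquiv A
        (Scheme.ΓSpecIso (CommRingCat.of A)).symm.commRingCatIsoToRingEquiv
    have h1 : f.appTop.hom.Finite :=
      Groth.Agent.Helper1.Stein.finite_appTop_of_isProper f
    have h2 : (Scheme.ΓSpecIso (CommRingCat.of A)).inv.hom.Finite :=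
      RingHom.Finite.of_surjective _
        (ConcreteCategory.bijective_of_isIso (Scheme.ΓSpecIso (CommRingCat.of A)).inv).2
    show (f.appTop.hom.comp (Scheme.ΓSpecIso (CommRingCat.of A)).inv.hom).Finite
    exact h1.comp h2
  haveI hfinAB : Module.Finite A Γ(X, ⊤) := hφfin
  haveI hN : IsNoetherianRing Γ(X, ⊤) := IsNoetherianRing.of_finite A Γ(X, ⊤)
  haveI : CompactSpace X := QuasiCompact.compactSpace_of_compactSpace f
  haveI hprop : IsProper X.toSpecΓ := by
    haveI : IsProper (X.toSpecΓ ≫ Spec.map φ) := by rw [hfac]; infer_instance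
    exact IsProper.of_comp _ (Spec.map φ)
  haveI hsurj : Surjective X.toSpecΓ := inferInstance
  have hrange_i₀ : Set.range i₀ = X.toSpecΓ ⁻¹' (PrimeSpectrum.zeroLocus
      ((Ideal.map φ.hom I : Ideal Γ(X, ⊤)) : Set Γ(X, ⊤))) := by
    rw [hi₀, Scheme.Pullback.range_fst, range_SpecMap_mk, ← hfac]
    ext y
    constructor
    · intro hy
      have h2 : I ≤ Ideal.comap φ.hom (X.toSpecΓ y).asIdeal :=
        fun a ha => hy ha
      exact fun c hc => Ideal.map_le_iff_le_comap.mpr h2 hc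
    · intro hy a ha
      have h2 : Ideal.map φ.hom I ≤ (X.toSpecΓ y).asIdeal :=
        fun c hc => hy hc
      exact Ideal.map_le_iff_le_comap.mp h2 ha
  have hH : HenselianRing Γ(X, ⊤) (Ideal.map φ.hom I) := by
    apply (Groth.Agent.Helper7.HensCouple.S17971_main Γ(X, ⊤) (Ideal.map φ.hom I)).mpr
    intro T gT hgT V hV
    haveI := hgT
    haveI : IsClosedImmersion (Spec.map (CommRingCat.ofHom
        (Ideal.Quotient.mk (Ideal.map φ.hom I)))) :=
      IsClosedImmersion.spec_of_surjective _ Ideal.Quotient.mk_surjective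
    haveI : IsClosedImmersion (pullback.fst gT (Spec.map (CommRingCat.ofHom
        (Ideal.Quotient.mk (Ideal.map φ.hom I))))) := inferInstance
    apply existsUnique_preimage_of_isClosedEmbedding _
      (Scheme.Hom.isClosedEmbedding _) _ V hV
    intro V' hV'c O hO hOV'
    obtain ⟨gY, hgY⟩ : ∃ gY : pullback X.toSpecΓ gT ⟶ X, gY = pullback.fst X.toSpecΓ gT :=
      ⟨_, rfl⟩
    obtain ⟨q, hq⟩ : ∃ q : pullback X.toSpecΓ gT ⟶ T, q = pullback.snd X.toSpecΓ gT :=
      ⟨_, rfl⟩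
    haveI : IsFinite gY := by rw [hgY]; infer_instance
    haveI : UniversallyClosed q := by rw [hq]; infer_instance
    haveI : Surjective q := by rw [hq]; infer_instance
    have hcond : gY ≫ X.toSpecΓ = q ≫ gT := by rw [hgY, hq]; exact pullback.condition
    have hkey : q ⁻¹' (Set.range (pullback.fst gT (Spec.map (CommRingCat.ofHom
        (Ideal.Quotient.mk (Ideal.map φ.hom I)))))) = gY ⁻¹' Set.range i₀ := by
      rw [Scheme.Pullback.range_fst, range_SpecMap_mk, hrange_i₀]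
      ext y
      have h1 : gT (q y) = X.toSpecΓ (gY y) := by
        rw [← Scheme.Hom.comp_apply, ← Scheme.Hom.comp_apply, hcond]
      rw [Set.mem_preimage, Set.mem_preimage, Set.mem_preimage, Set.mem_preimage, h1]
    refine existsUnique_trace_of_closed_surjective q q.continuous q.isClosedMap q.surjective _
      ?_ ?_ V' hV'c O hO hOV'
    · intro Z hZ hZ0
      rw [hkey] at hZ0
      exact eq_empty_of_couple i₀ hX gY Z hZ hZ0
    · intro W hW O₁ hO₁ hOW
      rw [hkey] at hOW ⊢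
      exact exists_isClopen_of_couple i₀ hX gY W hW O₁ hO₁ hOW
  have hpb := isPullback_spec_quot φ.hom I
  obtain ⟨p₀, hp₀⟩ : ∃ p₀ : pullback f (Spec.map (CommRingCat.ofHom (Ideal.Quotient.mk I))) ⟶
      Spec (CommRingCat.of (A ⧸ I)),
      p₀ = pullback.snd f (Spec.map (CommRingCat.ofHom (Ideal.Quotient.mk I))) := ⟨_, rfl⟩
  have hfac' : X.toSpecΓ ≫ Spec.map (CommRingCat.ofHom φ.hom) = f := hfac
  have hw : p₀ ≫ Spec.map (CommRingCat.ofHom (Ideal.Quotient.mk I)) =
      (i₀ ≫ X.toSpecΓ) ≫ Spec.map (CommRingCat.ofHom φ.hom) := by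
    rw [Category.assoc, hfac', hi₀, hp₀]
    exact pullback.condition.symm
  obtain ⟨t, ht1, ht2⟩ : ∃ t : pullback f (Spec.map (CommRingCat.ofHom (Ideal.Quotient.mk I))) ⟶
      Spec (CommRingCat.of (Γ(X, ⊤) ⧸ Ideal.map φ.hom I)),
      t ≫ Spec.map (CommRingCat.ofHom
        (Ideal.quotientMap (I.map φ.hom) φ.hom Ideal.le_comap_map)) = p₀ ∧
      t ≫ Spec.map (CommRingCat.ofHom (Ideal.Quotient.mk (I.map φ.hom))) = i₀ ≫ X.toSpecΓ :=
    ⟨hpb.lift p₀ (i₀ ≫ X.toSpecΓ) hw, hpb.lift_fst _ _ _, hpb.lift_snd _ _ _⟩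
  refine ⟨Γ(X, ⊤), inferInstance, Ideal.map φ.hom I, hH, hN, X.toSpecΓ, hprop, t, ?_⟩
  apply IsPullback.flip
  refine IsPullback.of_right (h₁₂ := Spec.map (CommRingCat.ofHom
        (Ideal.quotientMap (I.map φ.hom) φ.hom Ideal.le_comap_map)))
    (h₂₂ := Spec.map (CommRingCat.ofHom φ.hom))
    (v₁₃ := Spec.map (CommRingCat.ofHom (Ideal.Quotient.mk I))) ?_ ht2 hpb
  rw [ht1, hfac', hp₀, hi₀]
  exact (IsPullback.of_hasPullback f _).flip

end Groth.Agent.Lib.Helper4.HensCouple4
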