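import Mathlib
import Groth.Agent.Lib.Helper7.Hens.HSmooth
import Groth.Agent.Lib.Lead.FlatLoc11
import Groth.Agent.Lib.Lead.FlatLoc12

/-!
# S17615: flat hfp map has a flat finitely presented model (flat locus open + localization away) (helper4)
-/

set_option backward.isDefEq.respectTransparency.types false
set_option synthInstance.maxHeartbeats 400000
set_option autoImplicit false
set_option linter.unusedSectionVars false
set_option linter.style.haveILetI false
set_option linter.unusedSimpArgs false
universe u v w
open Groth.Agent.Lead.FlatLoc Groth.Agent.Helper7.Hens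

namespace Groth.Agent.Lib.Helper4.HfpFlat1
noncomputable section

theorem main (A : Type u) [CommRing A] (I : Ideal A) [HenselianRing A I]
    (R₀ : Type u) [CommRing R₀] [Algebra A R₀] [Algebra.FinitePresentation A R₀]
    (B : Type u) [CommRing B] [Algebra R₀ B] [Algebra A B] [IsScalarTower A R₀ B]
    (hB : Hens2.IsPairHenselization R₀ (I.map (algebraMap A R₀)) B) [Module.Flat A B] :
    ∃ (S : Type u) (_ : CommRing S) (_ : Algebra A S) (_ : Algebra S B) (_ : IsScalarTower A S B),
      Algebra.FinitePresentation A S ∧ Module.Flat A S ∧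
      Hens2.IsPairHenselization S (I.map (algebraMap A S)) B := by
  have hflB : Module.Flat R₀ B := flat_of_isPairHenselization hB
  have hopen : IsOpen {q : PrimeSpectrum R₀ |
      Module.Flat A (LocalizedModule q.asIdeal.primeCompl R₀)} :=
    isOpen_flatLocus_of_finitePresentation
  have hsub : PrimeSpectrum.zeroLocus ((I.map (algebraMap A R₀) : Ideal R₀) : Set R₀) ⊆
      {q : PrimeSpectrum R₀ | Module.Flat A (LocalizedModule q.asIdeal.primeCompl R₀)} := by
    intro q hq
    have _ : q.asIdeal.IsPrime := q.isPrime
    obtain ⟨q', hq'p, hq'⟩ := exists_prime_liesOver_of_isPairHenselization hB q.asIdeal hq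
    exact flat_localization_of_liesOver A R₀ B q.asIdeal q'
  obtain ⟨g, hg, hgU⟩ := Groth.Agent.Helper7.AwayNbhd.exists_basicOpen_subset
    (I.map (algebraMap A R₀)) _ hopen hsub
  have hfl : Module.Flat A (Localization.Away g) := by
    have hfl' : Module.Flat A (LocalizedModule (Submonoid.powers g) R₀) := by
      apply flat_localizedModule_of_forall_prime (A := A) (C := R₀) R₀ (Submonoid.powers g)
      intro r _ hdisj
      have hgr : g ∉ r := fun hgr =>
        Set.disjoint_left.mp hdisj hgr (Submonoid.mem_powers g)
      exact hgU (show (⟨r, inferInstance⟩ : PrimeSpectrum R₀) ∈ PrimeSpectrum.basicOpen g from hgr)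
    exact hfl'
  have hfp : Algebra.FinitePresentation A (Localization.Away g) :=
    Algebra.FinitePresentation.trans A R₀ (Localization.Away g)
  obtain ⟨R, i1, i2, i3, i4, ⟨h1, h2⟩, h3⟩ := exists_of_away A I R₀ B hB
    (fun R _ _ => Algebra.FinitePresentation A R ∧ Module.Flat A R) g hg ⟨hfp, hfl⟩
  exact ⟨R, i1, i2, i3, i4, h1, h2, h3⟩

end
end Groth.Agent.Lib.Helper4.HfpFlat1
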