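import Groth.Prelude.Def_W4c1hilbpnTgt
import Mathlib
set_option autoImplicit false
set_option linter.unusedSectionVars false

namespace Groth.Agent.Lib.Helper4.Hilbpn
open W4c1hilbpn MvPolynomial

variable {σ : Type*} {k : Type*} [Field k]

theorem linInd_nonmem (I : Ideal (MvPolynomial σ k)) (hI : IsMonomial I) :
    LinearIndependent k (fun β : {β : σ →₀ ℕ // β ∉ exps I} =>
      Ideal.Quotient.mk I (monomial β.1 (1 : k))) := by
  classical
  rw [linearIndependent_iff']
  intro s g hsum i hi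
  by_contra hgi
  have h1 : ∑ j ∈ s, g j • Ideal.Quotient.mk I (monomial j.1 (1 : k)) =
      Ideal.Quotient.mk I (∑ j ∈ s, monomial j.1 (g j)) := by
    rw [map_sum]
    refine Finset.sum_congr rfl (fun j _ => ?_)
    rw [← Ideal.Quotient.mkₐ_eq_mk k, ← map_smul, smul_monomial, smul_eq_mul, mul_one]
  rw [h1, Ideal.Quotient.eq_zero_iff_mem] at hsum
  have hc : coeff i.1 (∑ j ∈ s, monomial j.1 (g j)) = g i := by
    rw [coeff_sum]
    rw [Finset.sum_eq_single i]
    · rw [coeff_monomial, if_pos rfl]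
    · intro j _ hji
      rw [coeff_monomial, if_neg]
      intro h
      exact hji (Subtype.ext h)
    · intro h; exact absurd hi h
  have hsupp : i.1 ∈ (∑ j ∈ s, monomial j.1 (g j)).support := by
    rw [mem_support_iff, hc]; exact hgi
  exact i.2 (hI _ hsum _ hsupp)

theorem finite_nonmem (I : Ideal (MvPolynomial σ k)) (hI : IsMonomial I)
    [Module.Finite k (MvPolynomial σ k ⧸ I)] : {β : σ →₀ ℕ | β ∉ exps I}.Finite := by
  have := (linInd_nonmem I hI).finite
  exact Set.finite_coe_iff.1 this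

theorem e3_apply_zero (a b c : ℕ) : e3 a b c 0 = a := by simp [e3]
theorem e3_apply_one (a b c : ℕ) : e3 a b c 1 = b := by simp [e3]
theorem e3_apply_two (a b c : ℕ) : e3 a b c 2 = c := by simp [e3]

theorem e3_ext (β : Fin 3 →₀ ℕ) (a b c : ℕ) (h0 : β 0 = a) (h1 : β 1 = b) (h2 : β 2 = c) :
    β = e3 a b c := by
  ext t
  fin_cases t
  · simpa [e3] using h0
  · simpa [e3] using h1
  · simpa [e3] using h2

end Groth.Agent.Lib.Helper4.Hilbpn
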