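import Mathlib
import Groth.Prelude.Def_Hoch
import Groth.Agent.Lib.Helper4.HochLib

/-!
The cochain complex of an induced comodule has a contracting homotopy in positive degrees.
-/

universe u v

open TensorProduct

namespace Groth.Agent.Helper4.HochHomotopy

variable (k : Type u) [CommRing k] (A : Type v) [CommRing A] [Bialgebra k A]

/-- naturality of `Hoch.tail` -/
theorem tail_natural {M M' : Type v} [AddCommGroup M] [Module k M] [AddCommGroup M'] [Module k M']
    (f : M →ₗ[k] M') :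
    Hoch.tail k A M' ∘ₗ f.rTensor A = (f.rTensor A).rTensor A ∘ₗ Hoch.tail k A M := by
  refine TensorProduct.ext' fun m a => ?_
  simp only [LinearMap.comp_apply, LinearMap.rTensor_tmul, Hoch.tail_tmul]
  generalize (Coalgebra.comul (R := k) a - a ⊗ₜ[k] (1 : A) - (1 : A) ⊗ₜ[k] a) = t
  induction t using TensorProduct.induction_on with
  | zero => simp
  | tmul x y => simp
  | add x y hx hy => simp only [tmul_add, map_add, hx, hy]

variable (P : Type v) [AddCommGroup P] [Module k P]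

/-- the homotopy in degree zero: `(p ⊗ a₀) ⊗ a₁ ↦ ε(a₀) p ⊗ a₁` -/
noncomputable def h0 : (Hoch.Ind k A P) ⊗[k] A →ₗ[k] Hoch.Ind k A P :=
  (Hoch.Ind.equiv k A P).toLinearMap ∘ₗ (Hoch.Ind.counit k A P).rTensor A

/-- `v ↦ (ε-part of v) ⊗ 1` -/
noncomputable def u0 : Hoch.Ind k A P →ₗ[k] Hoch.Ind k A P :=
  (Hoch.Ind.equiv k A P).toLinearMap ∘ₗ (TensorProduct.mk k P A).flip 1 ∘ₗ Hoch.Ind.counit k A P

theorem h0_comp_d0 :
    h0 k A P ∘ₗ Hoch.d k A (Hoch.Ind k A P) 0 = LinearMap.id - u0 k A P := by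
  ext v
  have e3 := LinearMap.congr_fun
    (Groth.Agent.Helper4.HochLib.counit_rTensor_coactAux (k := k) (A := A) (N := P)) v
  simp only [LinearMap.comp_apply, LinearMap.id_apply] at e3
  rw [LinearMap.comp_apply, Hoch.d_zero_apply, map_sub, LinearMap.sub_apply, LinearMap.id_apply]
  congr 1

/-- the homotopy: `h (n+1) = h n ⊗ id` -/
noncomputable def h : (n : ℕ) →
    ((Hoch.cochain k A (Hoch.Ind k A P) (n + 1) : Type v) →ₗ[k]
      (Hoch.cochain k A (Hoch.Ind k A P) n : Type v))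
  | 0 => h0 k A P
  | n + 1 => (h n).rTensor A

theorem aux (p : P) (a : A) :
    (TensorProduct.assoc k P A A).symm (p ⊗ₜ[k] Coalgebra.comul (R := k) a) -
      (p ⊗ₜ[k] a) ⊗ₜ[k] (1 : A) -
      (TensorProduct.assoc k P A A).symm
        (p ⊗ₜ[k] (Coalgebra.comul (R := k) a - a ⊗ₜ[k] (1 : A) - (1 : A) ⊗ₜ[k] a)) =
    (p ⊗ₜ[k] (1 : A)) ⊗ₜ[k] a := by
  simp only [tmul_sub, map_sub, TensorProduct.assoc_symm_tmul]
  abel

theorem key0 :
    Hoch.d k A (Hoch.Ind k A P) 0 ∘ₗ h0 k A P -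
        (h0 k A P).rTensor A ∘ₗ Hoch.tail k A (Hoch.Ind k A P) =
      (u0 k A P).rTensor A := by
  refine TensorProduct.ext' fun v a => ?_
  have hnat := LinearMap.congr_fun (tail_natural k A (Hoch.Ind.counit k A P)) (v ⊗ₜ[k] a)
  simp only [LinearMap.comp_apply, LinearMap.rTensor_tmul] at hnat
  have e1 : (h0 k A P).rTensor A (Hoch.tail k A (Hoch.Ind k A P) (v ⊗ₜ[k] a)) =
      ((Hoch.Ind.equiv k A P).toLinearMap.rTensor A)
        (Hoch.tail k A P (Hoch.Ind.counit k A P v ⊗ₜ[k] a)) := by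
    rw [hnat, h0, LinearMap.rTensor_comp, LinearMap.comp_apply]
  simp only [LinearMap.sub_apply, LinearMap.comp_apply, e1, LinearMap.rTensor_tmul]
  rw [h0, LinearMap.comp_apply, LinearMap.rTensor_tmul, LinearEquiv.coe_coe, Hoch.d_zero_apply,
    Hoch.Ind.coact_equiv_tmul, Hoch.tail_tmul, u0]
  simp only [LinearMap.comp_apply, LinearMap.flip_apply, TensorProduct.mk_apply, LinearEquiv.coe_coe]
  generalize Hoch.Ind.counit k A P v = p
  have hid : (Hoch.Ind.equiv k A P).toLinearMap.rTensor A =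
      (LinearMap.id : (P ⊗[k] A) ⊗[k] A →ₗ[k] (P ⊗[k] A) ⊗[k] A) :=
    LinearMap.rTensor_id A (P ⊗[k] A)
  rw [hid]
  exact aux k A P p a

theorem homotopy (n : ℕ) :
    Hoch.d k A (Hoch.Ind k A P) n ∘ₗ h k A P n +
        h k A P (n + 1) ∘ₗ Hoch.d k A (Hoch.Ind k A P) (n + 1) = LinearMap.id := by
  induction n with
  | zero =>
    have hk := key0 k A P
    have hd := h0_comp_d0 k A P
    change Hoch.d k A (Hoch.Ind k A P) 0 ∘ₗ h0 k A P +
      (h0 k A P).rTensor A ∘ₗ Hoch.d k A (Hoch.Ind k A P) 1 = LinearMap.id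
    rw [Hoch.d_succ]
    change _ + (h0 k A P).rTensor A ∘ₗ ((Hoch.d k A (Hoch.Ind k A P) 0).rTensor A +
      (-1 : k) ^ (0 + 1) • Hoch.tail k A (Hoch.Ind k A P)) = LinearMap.id
    rw [LinearMap.comp_add, LinearMap.comp_smul, ← LinearMap.rTensor_comp, hd, LinearMap.rTensor_sub,
      LinearMap.rTensor_id, ← hk]
    simp only [zero_add, pow_one]
    module
  | succ n ih =>
    change Hoch.d k A (Hoch.Ind k A P) (n + 1) ∘ₗ (h k A P n).rTensor A +
      (h k A P (n + 1)).rTensor A ∘ₗ Hoch.d k A (Hoch.Ind k A P) (n + 1 + 1) = LinearMap.id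
    rw [Hoch.d_succ k A _ (n + 1), Hoch.d_succ k A _ n]
    have hnat := tail_natural k A (h k A P n)
    change (((Hoch.d k A (Hoch.Ind k A P) n).rTensor A +
        (-1 : k) ^ (n + 1) • Hoch.tail k A (Hoch.cochain k A (Hoch.Ind k A P) n)) ∘ₗ
          (h k A P n).rTensor A) +
      (h k A P (n + 1)).rTensor A ∘ₗ ((Hoch.d k A (Hoch.Ind k A P) (n + 1)).rTensor A +
        (-1 : k) ^ (n + 1 + 1) • Hoch.tail k A (Hoch.cochain k A (Hoch.Ind k A P) (n + 1))) =
      LinearMap.id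
    rw [LinearMap.add_comp, LinearMap.comp_add, LinearMap.smul_comp, LinearMap.comp_smul,
      ← LinearMap.rTensor_comp, ← LinearMap.rTensor_comp]
    have e : (h k A P (n + 1)).rTensor A ∘ₗ
        Hoch.tail k A (Hoch.cochain k A (Hoch.Ind k A P) (n + 1)) =
        Hoch.tail k A (Hoch.cochain k A (Hoch.Ind k A P) n) ∘ₗ (h k A P n).rTensor A := hnat.symm
    rw [e, pow_succ (-1 : k) (n + 1), mul_neg, mul_one]
    have ih' : (Hoch.d k A (Hoch.Ind k A P) n ∘ₗ h k A P n).rTensor A +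
        (h k A P (n + 1) ∘ₗ Hoch.d k A (Hoch.Ind k A P) (n + 1)).rTensor A = LinearMap.id := by
      rw [← LinearMap.rTensor_add, ih, LinearMap.rTensor_id]
    rw [← ih']
    module

end Groth.Agent.Helper4.HochHomotopy
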