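import Mathlib
import Groth.Prelude.Def_Coh
import Groth.Prelude.Def_FlatMod2
import Groth.Prelude.Def_CAlg
import Groth.Agent.Lib.Helper4.CohHartogs1

/-!
# Hom(F,E) -> Hom(F|U,E|U) bijective when depth E >= 2 off U (S14995) (helper4)
-/

set_option backward.isDefEq.respectTransparency.types false
set_option synthInstance.maxHeartbeats 400000
set_option autoImplicit false
set_option linter.unusedSectionVars false
set_option linter.style.haveILetI false
set_option linter.unusedSimpArgs false
universe u v w
open CategoryTheory CategoryTheory.Limits AlgebraicGeometry TopologicalSpace Topology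

namespace Groth.Agent.Lib.Helper4.HomHartogs

open Groth.Agent.Lib.Helper4.ModHartogs1

/-- If sections of `E` extend uniquely across the complement of `U`, then the unit
`E ⟶ j_* j^* E` is an isomorphism. -/
theorem isIso_unit_of_bijective {Y : Scheme.{u}} (E : Y.Modules) (U : Y.Opens)
    (h : ∀ V : Y.Opens, Function.Bijective (E.presheaf.map (homOfLE (inf_le_left : V ⊓ U ≤ V)).op)) :
    IsIso ((Scheme.Modules.restrictAdjunction U.ι).unit.app E) := by
  rw [Scheme.Modules.Hom.isIso_iff_isIso_app]
  intro V
  rw [Scheme.Modules.restrictAdjunction_unit_app_app]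
  have heq : U.ι ''ᵁ (U.ι ⁻¹ᵁ V) = V ⊓ U := by
    rw [Scheme.Hom.image_preimage_eq_opensRange_inf, Scheme.Opens.opensRange_ι, inf_comm]
  refine (ConcreteCategory.isIso_iff_bijective _).2 ?_
  exact (bij_transport E.presheaf rfl heq _ inf_le_left).2 (h V)

/-- general adjunction fact: if the unit at `E` is an isomorphism, then `L` is bijective on
`Hom(F, E)`. -/
theorem map_bijective_of_isIso_unit {C D : Type*} [Category C] [Category D] {L : C ⥤ D} {R : D ⥤ C}
    (adj : L ⊣ R) (F E : C) [IsIso (adj.unit.app E)] :
    Function.Bijective (fun φ : F ⟶ E => L.map φ) := by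
  have hcomp : (fun φ : F ⟶ E => L.map φ) =
      (adj.homEquiv F (L.obj E)).symm ∘ (fun φ : F ⟶ E => φ ≫ adj.unit.app E) := by
    funext φ
    simp only [Function.comp]
    rw [Equiv.eq_symm_apply, Adjunction.homEquiv_unit]
    exact (adj.unit.naturality φ).symm
  rw [hcomp]
  refine (Equiv.bijective _).comp ?_
  constructor
  · intro a b hab
    exact (cancel_mono (adj.unit.app E)).1 hab
  · intro ψ
    exact ⟨ψ ≫ inv (adj.unit.app E), by simp⟩

theorem main (Y : Scheme.{u}) [IsLocallyNoetherian Y]
    (E F : Y.Modules) (hE : Coh.IsCoh E) (hF : Coh.IsCoh F) (U : Y.Opens)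
    (hdepth : ∀ y : Y, y ∉ U → (2 : ℕ∞) ≤ LocCoh.depth (Y.presheaf.stalk y) (E.presheaf.stalk y)) :
    Function.Bijective (fun φ : F ⟶ E => (Scheme.Modules.restrictFunctor U.ι).map φ) := by
  have h := (Groth.Agent.Lib.Helper4.CohHartogs1.S6039_main Y U E hE).1 hdepth
  haveI := isIso_unit_of_bijective E U h
  exact map_bijective_of_isIso_unit (Scheme.Modules.restrictAdjunction U.ι) F E

end Groth.Agent.Lib.Helper4.HomHartogs
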