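import Mathlib
import Groth.Prelude.Def_CGrpSh2
import Groth.Agent.Lib.Helper4.AbSchRigid1
import Groth.Agent.Lib.Helper4.SecNbhd5
import Groth.Agent.Lib.Helper4.GrpGeomInt1

/-!
# morphisms from an abelian scheme to the Hom sheaf of two abelian schemes vanish (pairing attached to a morphism into an internal Hom sheaf + rigidity) (helper4)
-/

set_option backward.isDefEq.respectTransparency.types false
set_option synthInstance.maxHeartbeats 400000
set_option autoImplicit false
set_option linter.unusedSectionVars false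
set_option linter.style.haveILetI false
set_option linter.unusedSimpArgs false
universe u v w
open CategoryTheory CategoryTheory.Limits AlgebraicGeometry TopologicalSpace Opposite
open MonoidalCategory CartesianMonoidalCategory MonObj GrpObj

namespace Groth.Agent.Lib.Helper4.HomShAb1

variable {S : Scheme.{u}}

section Plumb
variable {C : Type (u + 1)} [Category.{u} C] (J : GrothendieckTopology C)
  {P F M : Sheaf J AddCommGrpCat.{u + 1}} (φ : P ⟶ HomSh.homSh J F M)

/-- the biadditive pairing attached to `φ : P ⟶ 𝓗om(F, M)` -/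
noncomputable def pair (Z : C) (a : P.obj.obj (op Z)) (b : F.obj.obj (op Z)) : M.obj.obj (op Z) :=
  HomSh.ev J (φ.hom.app (op Z) a) b

theorem app_eq_pair {T' : C} (a : P.obj.obj (op T')) (U : (Over T')ᵒᵖ)
    (b : F.obj.obj (op U.unop.left)) :
    (φ.hom.app (op T') a).hom.app U b = pair J φ U.unop.left (P.obj.map U.unop.hom.op a) b := by
  have hn := congrFun (congrArg (fun k => (ConcreteCategory.hom k : _ → _))
    (φ.hom.naturality U.unop.hom.op)) a
  change φ.hom.app (op U.unop.left) (P.obj.map U.unop.hom.op a) = _ at hn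
  unfold pair
  rw [hn]
  exact (HomSh.app_over_mk_congr J (φ.hom.app (op T') a) (Category.id_comp U.unop.hom) b).symm

theorem pair_natural {Z Z' : C} (g : Z' ⟶ Z) (a : P.obj.obj (op Z)) (b : F.obj.obj (op Z)) :
    pair J φ Z' (P.obj.map g.op a) (F.obj.map g.op b) = M.obj.map g.op (pair J φ Z a b) := by
  have h1 := app_eq_pair J φ a (op (Over.mk g)) (F.obj.map g.op b)
  change _ = pair J φ Z' (P.obj.map g.op a) (F.obj.map g.op b) at h1
  rw [← h1]
  have hn := congrFun (congrArg (fun k => (ConcreteCategory.hom k : _ → _))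
    ((φ.hom.app (op Z) a).hom.naturality (Over.homMk g (by simp) :
      Over.mk g ⟶ Over.mk (𝟙 Z)).op)) b
  change (φ.hom.app (op Z) a).hom.app (op (Over.mk g)) (F.obj.map g.op b) =
    M.obj.map g.op ((φ.hom.app (op Z) a).hom.app (op (Over.mk (𝟙 Z))) b)
  exact hn

theorem pair_zero_right (Z : C) (a : P.obj.obj (op Z)) : pair J φ Z a 0 = 0 :=
  map_zero (HomSh.ev J (φ.hom.app (op Z) a))

theorem pair_zero_left (Z : C) (b : F.obj.obj (op Z)) : pair J φ Z 0 b = 0 := by
  unfold pair
  rw [map_zero]
  rfl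

theorem eq_zero_of_pair (h : ∀ (Z : C) (a : P.obj.obj (op Z)) (b : F.obj.obj (op Z)),
    pair J φ Z a b = 0) : φ = 0 := by
  apply Sheaf.hom_ext
  apply NatTrans.ext
  funext T'
  apply AddCommGrpCat.ext
  intro a
  change φ.hom.app T' a = 0
  apply Sheaf.hom_ext
  apply NatTrans.ext
  funext U
  apply AddCommGrpCat.ext
  intro b
  change (φ.hom.app (op T'.unop) a).hom.app U b = 0
  rw [app_eq_pair, h]
  rfl

end Plumb


open Groth.Agent.Lib.Helper4.AbSchRigid1

theorem geomConn_of_fibres (A : Over S) [GrpObj A]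
    (hA : ∀ s : S, ConnectedSpace ↥(A.hom.fiber s)) : GeometricallyConnected A.hom := by
  rw [GeometricallyConnected.iff_geometricallyConnected_fiber]
  intro s
  haveI := hA s
  exact Groth.Agent.Lib.Helper4.GrpArtin2.geomConn_fibre A.hom η[A].left (Over.w η[A]) s

section Main
variable (A B C : Over S)
    [GrpObj A] [IsCommMonObj A] [Smooth A.hom] [IsProper A.hom]
    [GrpObj B] [IsCommMonObj B]
    [GrpObj C] [IsCommMonObj C] [IsSeparated C.hom]

theorem main_S19291 (hA : ∀ s : S, ConnectedSpace ↥(A.hom.fiber s))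
    (hB : ∀ s : S, ConnectedSpace ↥(B.hom.fiber s))
    (φ : (CGrpSh.pts Scheme.fppfPrecoverage A) ⟶
      HomSh.homSh (QuotSh.J Scheme.fppfPrecoverage S) (CGrpSh.pts Scheme.fppfPrecoverage B)
        (CGrpSh.pts Scheme.fppfPrecoverage C)) : φ = 0 := by
  haveI : GeometricallyReduced A.hom :=
    Groth.Agent.Lib.Helper4.SecNbhd5.geometricallyReduced_of_smooth A.hom
  haveI : GeometricallyConnected A.hom := geomConn_of_fibres A hA
  haveI : GeometricallyConnected B.hom := geomConn_of_fibres B hB
  apply eq_zero_of_pair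
  let a₀ : (CGrpSh.pts Scheme.fppfPrecoverage A).obj.obj (op (A ⊗ B)) :=
    ULift.up (Additive.ofMul (fst A B))
  let b₀ : (CGrpSh.pts Scheme.fppfPrecoverage B).obj.obj (op (A ⊗ B)) :=
    ULift.up (Additive.ofMul (snd A B))
  obtain ⟨D, hD⟩ : ∃ D : A ⊗ B ⟶ C, D = (pair _ φ (A ⊗ B) a₀ b₀).down.toMul := ⟨_, rfl⟩
  have key : ∀ (Z : Over S) (a' : Z ⟶ A) (b' : Z ⟶ B),
      pair _ φ Z (ULift.up (Additive.ofMul a')) (ULift.up (Additive.ofMul b')) =
        ULift.up (Additive.ofMul (lift a' b' ≫ D)) := by
    intro Z a' b'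
    have h := pair_natural _ φ (lift a' b') a₀ b₀
    have e1 : (CGrpSh.pts Scheme.fppfPrecoverage A).obj.map (lift a' b').op a₀ =
        ULift.up (Additive.ofMul a') := by
      apply ULift.ext
      change Additive.ofMul (lift a' b' ≫ fst A B) = _
      rw [lift_fst]
    have e2 : (CGrpSh.pts Scheme.fppfPrecoverage B).obj.map (lift a' b').op b₀ =
        ULift.up (Additive.ofMul b') := by
      apply ULift.ext
      change Additive.ofMul (lift a' b' ≫ snd A B) = _
      rw [lift_snd]
    rw [e1, e2] at h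
    rw [h, hD]
    rfl
  have hD1 : D = 1 := by
    refine eq_one_of_axes A B C η[A] η[B] D ?_ ?_
    · have h := key A (𝟙 A) (toUnit A ≫ η[B])
      have h0 : pair _ φ A (ULift.up (Additive.ofMul (𝟙 A)))
          (ULift.up (Additive.ofMul (toUnit A ≫ η[B]))) = 0 := pair_zero_right _ φ A _
      rw [h0] at h
      exact (congrArg (fun x => x.down.toMul) h).symm
    · have h := key B (toUnit B ≫ η[A]) (𝟙 B)
      have h0 : pair _ φ B (ULift.up (Additive.ofMul (toUnit B ≫ η[A])))
          (ULift.up (Additive.ofMul (𝟙 B))) = 0 := pair_zero_left _ φ B _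
      rw [h0] at h
      exact (congrArg (fun x => x.down.toMul) h).symm
  intro Z a b
  have h := key Z a.down.toMul b.down.toMul
  rw [hD1, MonObj.comp_one] at h
  exact h

end Main

end Groth.Agent.Lib.Helper4.HomShAb1
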