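import Mathlib
import Groth.Prelude.Def_AlgGrp
import Groth.Agent.Lib.Helper4.GrpConn2
import Groth.Agent.Lib.Helper4.Act1
import Groth.Agent.Lib.Helper2.Sch.OrbitLocClosed

/-!
# Homogeneous spaces under an arbitrary group scheme over a field: orbit maps of maximal points, x = g·ω with g in the identity component, irreducible homogeneous spaces are quasi-compact (SGA3 VI_A 2.6) (helper4)
-/

set_option backward.isDefEq.respectTransparency.types false
set_option synthInstance.maxHeartbeats 400000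
set_option autoImplicit false
set_option linter.unusedSectionVars false
set_option linter.style.haveILetI false
set_option linter.unusedSimpArgs false
universe u v w
open CategoryTheory CategoryTheory.Limits AlgebraicGeometry TopologicalSpace Opposite
open MonoidalCategory CartesianMonoidalCategory MonObj GrpObj

namespace Groth.Agent.Lib.Helper4.HomogComp1

open Groth.Agent.Lib.Helper4.GrpIrr1 Groth.Agent.Lib.Helper4.GrpConn1
  Groth.Agent.Lib.Helper6.GrpSch.Cat Groth.Agent.Lib.Helper6.GrpSch.Field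
  Groth.Agent.Lib.Helper6.GrpSch.Closed

variable {K : Type u} [Field K]

section Pts
variable (Y : Over (Spec (CommRingCat.of K))) (y : Y.left)

lemma ptHom_apply (t : (ptObj Y y).left) : (ptHom Y y).left t = y :=
  Scheme.fromSpecResidueField_apply _ _

instance irr_ptObj : IrreducibleSpace (ptObj Y y).left :=
  inferInstanceAs (IrreducibleSpace (Spec (Y.left.residueField y)))

instance nonempty_ptObj : Nonempty (ptObj Y y).left :=
  inferInstanceAs (Nonempty (Spec (Y.left.residueField y)))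

lemma range_ptHom : Set.range (ptHom Y y).left = {y} := by
  change Set.range (Y.left.fromSpecResidueField y) = {y}
  exact Scheme.range_fromSpecResidueField y

instance : IsPreimmersion (ptHom Y y).left :=
  inferInstanceAs (IsPreimmersion (Y.left.fromSpecResidueField y))

instance flat_to_ptObj {T' : Over (Spec (CommRingCat.of K))} (f : T' ⟶ ptObj Y y) :
    Flat f.left := by
  haveI : Subsingleton (ptObj Y y).left :=
    inferInstanceAs (Subsingleton (Spec (Y.left.residueField y)))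
  haveI : IsIntegral (ptObj Y y).left :=
    inferInstanceAs (IsIntegral (Spec (Y.left.residueField y)))
  infer_instance

end Pts

variable {G X : Over (Spec (CommRingCat.of K))} [GrpObj G]

/-- the point `(e, t)` of `G ⊗ T` -/
noncomputable def eP (T' : Over (Spec (CommRingCat.of K))) [Nonempty T'.left] : (G ⊗ T').left :=
  (lift (toUnit T' ≫ η[G]) (𝟙 T')).left (Classical.arbitrary _)

lemma fst_eP (T' : Over (Spec (CommRingCat.of K))) [Nonempty T'.left] :
    (fst G T').left (eP (G := G) T') = ept G := by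
  rw [eP, ← Scheme.Hom.comp_apply, ← Over.comp_left, lift_fst, Over.comp_left,
    Scheme.Hom.comp_apply, eta_apply]

variable (a : AlgGrp.Action G X)

instance flat_act : Flat a.act.left := by
  obtain ⟨e, he⟩ := Groth.Agent.Helper4.Act.exists_iso_act a.act a.one_act a.mul_act
  rw [he, Over.comp_left]
  haveI : IsIso e.hom.left := inferInstanceAs (IsIso ((Over.forget _).map e.hom))
  haveI : Flat (snd G X).left := by rw [Over.snd_left]; infer_instance
  infer_instance

/-- the orbit map of a point `u` of `X`, defined on `G ⊗ Spec κ(u)` -/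
noncomputable def chi (u : X.left) : G ⊗ ptObj X u ⟶ X := (G ◁ ptHom X u) ≫ a.act

lemma chi_eP (u : X.left) : (chi a u).left (eP (ptObj X u)) = u := by
  rw [chi, eP, ← Scheme.Hom.comp_apply, ← Over.comp_left]
  have : lift (toUnit (ptObj X u) ≫ η[G]) (𝟙 (ptObj X u)) ≫ (G ◁ ptHom X u) ≫ a.act =
      ptHom X u := by
    rw [← Category.assoc, lift_whiskerLeft, Category.id_comp, ← Hom.one_def]
    exact Groth.Agent.Helper4.Act.one_smul' a.act a.one_act _
  rw [this]
  exact ptHom_apply X u _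

lemma exists_preimage_whiskerLeft (z : (G ⊗ X).left) :
    ∃ w : (G ⊗ ptObj X ((snd G X).left z)).left,
      (G ◁ ptHom X ((snd G X).left z)).left w = z := by
  have hzr : z ∈ Set.range (G ◁ ptHom X ((snd G X).left z)).left := by
    rw [range_whiskerLeft, range_ptHom]; rfl
  exact hzr

lemma isIrreducible_Z0orbit (u : X.left) :
    IsIrreducible ((chi a u).left '' ((fst G (ptObj X u)).left ⁻¹' Z0 G)) :=
  (isIrreducible_fst_preimage_Z0 G (ptObj X u)).image _ (chi a u).left.continuous.continuousOn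

lemma self_mem_Z0orbit (u : X.left) :
    u ∈ (chi a u).left '' ((fst G (ptObj X u)).left ⁻¹' Z0 G) :=
  ⟨eP _, by rw [Set.mem_preimage, fst_eP]; exact ept_mem_Z0 G, chi_eP a u⟩

lemma act_mem_Z0orbit (z : (G ⊗ X).left) (h : (fst G X).left z ∈ Z0 G) :
    a.act.left z ∈ (chi a ((snd G X).left z)).left ''
      ((fst G (ptObj X ((snd G X).left z))).left ⁻¹' Z0 G) := by
  obtain ⟨w, hw⟩ := exists_preimage_whiskerLeft z
  refine ⟨w, ?_, ?_⟩
  · rw [Set.mem_preimage]
    have : (fst G (ptObj X ((snd G X).left z))).left w = (fst G X).left z := by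
      conv_rhs => rw [← hw]
      rw [← Scheme.Hom.comp_apply, ← Over.comp_left, whiskerLeft_fst]
    rw [this]; exact h
  · rw [chi, Over.comp_left, Scheme.Hom.comp_apply, hw]

/-- `Z0 · U ⊆ closure U` -/
lemma act_mem_closure (U : X.left.Opens) (z : (G ⊗ X).left) (h1 : (fst G X).left z ∈ Z0 G)
    (h2 : (snd G X).left z ∈ U) : a.act.left z ∈ closure (U : Set X.left) := by
  by_contra hcon
  obtain ⟨y, -, hyU, hyV⟩ := (isIrreducible_Z0orbit a ((snd G X).left z)).isPreirreducible _ _
    U.isOpen (isClosed_closure (s := (U : Set X.left))).isOpen_compl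
    ⟨_, self_mem_Z0orbit a _, h2⟩ ⟨_, act_mem_Z0orbit a z h1, hcon⟩
  exact hyV (subset_closure hyU)


/-- the orbit map of any point is surjective (homogeneity) -/
lemma chi_surjective (hΦ : Surjective (lift a.act (snd G X)).left) (ω x : X.left) :
    ∃ g0 : (G ⊗ ptObj X ω).left, (chi a ω).left g0 = x := by
  have hS : Subsingleton (Spec (CommRingCat.of K)) := inferInstance
  obtain ⟨z', hz1, hz2⟩ := Scheme.Pullback.exists_preimage_pullback (f := X.hom) (g := X.hom) x ω
    (Subsingleton.elim _ _)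
  obtain ⟨w, hw⟩ := hΦ.surj z'
  have h1 : a.act.left w = x := by
    have : (fst X X).left ((lift a.act (snd G X)).left w) = a.act.left w := by
      rw [← Scheme.Hom.comp_apply, ← Over.comp_left, lift_fst]
    rw [← this, hw]; exact hz1
  have h2 : (snd G X).left w = ω := by
    have : (snd X X).left ((lift a.act (snd G X)).left w) = (snd G X).left w := by
      rw [← Scheme.Hom.comp_apply, ← Over.comp_left, lift_snd]
    rw [← this, hw]; exact hz2
  have hwr : w ∈ Set.range (G ◁ ptHom X ω).left := by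
    rw [range_whiskerLeft, range_ptHom]; exact h2
  obtain ⟨g0, rfl⟩ := hwr
  exact ⟨g0, by rw [chi, Over.comp_left, Scheme.Hom.comp_apply]; exact h1⟩

/-- the orbit map of a maximal point lifts generalisations -/
lemma chi_generalizing {ω : X.left} (hmax : ∀ y : X.left, y ⤳ ω → y = ω)
    (g0 : (G ⊗ ptObj X ω).left) {y' : X.left} (h : y' ⤳ (chi a ω).left g0) :
    ∃ g1 : (G ⊗ ptObj X ω).left, g1 ⤳ g0 ∧ (chi a ω).left g1 = y' := by
  have hg : GeneralizingMap a.act.left := Flat.generalizingMap _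
  rw [chi, Over.comp_left, Scheme.Hom.comp_apply] at h
  obtain ⟨m', hm', hm'y⟩ := hg h
  have h1 : (snd G X).left m' ⤳ ω := by
    have := hm'.map (snd G X).left.continuous
    rw [← Scheme.Hom.comp_apply _ (snd G X).left, ← Over.comp_left, whiskerLeft_snd,
      Over.comp_left, Scheme.Hom.comp_apply, ptHom_apply] at this
    exact this
  have h2 : (snd G X).left m' = ω := hmax _ h1
  have hm'r : m' ∈ Set.range (G ◁ ptHom X ω).left := by
    rw [range_whiskerLeft, range_ptHom]; exact h2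
  obtain ⟨g1, rfl⟩ := hm'r
  haveI : IsPreimmersion (G ◁ ptHom X ω).left :=
    MorphismProperty.of_isPullback (P := @IsPreimmersion)
      (Groth.Agent.Helper2.Orbit.isPullback_whiskerLeft' (G := G) (ptHom X ω)) inferInstance
  refine ⟨g1, ?_, by rw [chi, Over.comp_left, Scheme.Hom.comp_apply]; exact hm'y⟩
  exact (G ◁ ptHom X ω).left.isEmbedding.isInducing.specializes_iff.mp hm'


section LemA
variable (T' : Over (Spec (CommRingCat.of K)))

/-- multiplication of `G` on `G ⊗ T` -/
noncomputable def mulT : G ⊗ (G ⊗ T') ⟶ G ⊗ T' := (α_ G G T').inv ≫ (μ[G] ▷ T')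

/-- `(g, t) ↦ g⁻¹ γ(t)` on `G ⊗ Spec κ(γ)`, for a point `γ` of `G ⊗ T` -/
noncomputable def qmap (g0 : (G ⊗ T').left) : G ⊗ ptObj (G ⊗ T') g0 ⟶ G ⊗ T' :=
  lift ((fst G (ptObj (G ⊗ T') g0))⁻¹ * (snd G (ptObj (G ⊗ T') g0) ≫ ptHom (G ⊗ T') g0 ≫ fst G T'))
    (snd G (ptObj (G ⊗ T') g0) ≫ ptHom (G ⊗ T') g0 ≫ snd G T')

lemma qmap_eq (g0 : (G ⊗ T').left) : qmap T' g0 =
    (twist (ptHom (G ⊗ T') g0 ≫ fst G T')).hom ≫ (G ◁ (ptHom (G ⊗ T') g0 ≫ snd G T')) := by
  rw [qmap, twist]
  apply CartesianMonoidalCategory.hom_ext <;> simp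

lemma flat_whiskerLeft {A B : Over (Spec (CommRingCat.of K))} (f : A ⟶ B) [Flat f.left] :
    Flat (G ◁ f).left :=
  MorphismProperty.of_isPullback (P := @Flat)
    (Groth.Agent.Helper2.Orbit.isPullback_whiskerLeft' (G := G) f) inferInstance

end LemA


section LemA2
variable (Y : Over (Spec (CommRingCat.of K))) (y : Y.left)

instance flat_qmap (g0 : (G ⊗ ptObj Y y).left) : Flat (qmap (G := G) (ptObj Y y) g0).left := by
  rw [qmap_eq, Over.comp_left]
  haveI : IsIso (twist (ptHom (G ⊗ ptObj Y y) g0 ≫ fst G (ptObj Y y))).hom.left :=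
    inferInstanceAs (IsIso ((Over.forget _).map
      (twist (ptHom (G ⊗ ptObj Y y) g0 ≫ fst G (ptObj Y y))).hom))
  haveI : Flat (G ◁ (ptHom (G ⊗ ptObj Y y) g0 ≫ snd G (ptObj Y y))).left := flat_whiskerLeft _
  infer_instance

lemma qmap_eP (g0 : (G ⊗ ptObj Y y).left) :
    (qmap (G := G) (ptObj Y y) g0).left (eP _) = g0 := by
  rw [eP, ← Scheme.Hom.comp_apply, ← Over.comp_left]
  have : lift (toUnit (ptObj (G ⊗ ptObj Y y) g0) ≫ η[G]) (𝟙 (ptObj (G ⊗ ptObj Y y) g0)) ≫
      qmap (G := G) (ptObj Y y) g0 = ptHom (G ⊗ ptObj Y y) g0 := by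
    have h1 : toUnit (ptObj (G ⊗ ptObj Y y) g0) ≫ η[G] =
        (1 : ptObj (G ⊗ ptObj Y y) g0 ⟶ G) := (Hom.one_def).symm
    rw [h1, qmap]
    apply CartesianMonoidalCategory.hom_ext <;> simp [comp_mul, GrpObj.comp_inv]
  rw [this]
  exact ptHom_apply _ g0 _

/-- a specialisation `s0 ⤳ g0` in `G ⊗ T` is realised by an element of `Z0` -/
theorem exists_Z0_mul_eq {g0 s0 : (G ⊗ ptObj Y y).left} (h : s0 ⤳ g0) :
    ∃ v : (G ⊗ (G ⊗ ptObj Y y)).left, (fst G (G ⊗ ptObj Y y)).left v ∈ Z0 G ∧
      (snd G (G ⊗ ptObj Y y)).left v = s0 ∧ (mulT (G := G) (ptObj Y y)).left v = g0 := by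
  have hg : GeneralizingMap (qmap (G := G) (ptObj Y y) g0).left := Flat.generalizingMap _
  rw [← qmap_eP Y y g0] at h
  obtain ⟨w, hw, hwq⟩ := hg h
  have hp : (fst G (ptObj (G ⊗ ptObj Y y) g0)).left w ∈ Z0 G := by
    apply gen_mem_Z0
    rw [← fst_eP (G := G) (ptObj (G ⊗ ptObj Y y) g0)]
    exact hw.map (fst G (ptObj (G ⊗ ptObj Y y) g0)).left.continuous
  refine ⟨(lift (fst G (ptObj (G ⊗ ptObj Y y) g0)) (qmap (G := G) (ptObj Y y) g0)).left w,
    ?_, ?_, ?_⟩
  · rw [← Scheme.Hom.comp_apply, ← Over.comp_left, lift_fst]; exact hp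
  · rw [← Scheme.Hom.comp_apply, ← Over.comp_left, lift_snd]; exact hwq
  · rw [← Scheme.Hom.comp_apply, ← Over.comp_left]
    have : lift (fst G (ptObj (G ⊗ ptObj Y y) g0)) (qmap (G := G) (ptObj Y y) g0) ≫
        mulT (G := G) (ptObj Y y) =
        snd G (ptObj (G ⊗ ptObj Y y) g0) ≫ ptHom (G ⊗ ptObj Y y) g0 := by
      rw [mulT, qmap]
      apply CartesianMonoidalCategory.hom_ext
      · simp [Hom.mul_def, comp_mul]
        rw [← Hom.mul_def, ← Hom.mul_def, mul_inv_cancel_left]
      · simp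
    rw [this, Over.comp_left, Scheme.Hom.comp_apply]
    exact ptHom_apply _ g0 _

end LemA2


lemma whiskerLeft_chi_act (ω : X.left) :
    (G ◁ chi a ω) ≫ a.act = mulT (G := G) (ptObj X ω) ≫ chi a ω := by
  have h0 : snd G (G ⊗ ptObj X ω) ≫ (G ◁ ptHom X ω) =
      lift (snd G (G ⊗ ptObj X ω) ≫ fst G (ptObj X ω))
        (snd G (G ⊗ ptObj X ω) ≫ snd G (ptObj X ω) ≫ ptHom X ω) := by
    apply CartesianMonoidalCategory.hom_ext <;> simp
  have e1 : G ◁ chi a ω = lift (fst G (G ⊗ ptObj X ω))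
      (lift (snd G (G ⊗ ptObj X ω) ≫ fst G (ptObj X ω))
        (snd G (G ⊗ ptObj X ω) ≫ snd G (ptObj X ω) ≫ ptHom X ω) ≫ a.act) := by
    rw [chi]
    apply CartesianMonoidalCategory.hom_ext
    · simp
    · simp only [whiskerLeft_snd, lift_snd]
      rw [← Category.assoc, h0]
  have h1 : (α_ G G (ptObj X ω)).inv ≫ fst (G ⊗ G) (ptObj X ω) =
      lift (fst G (G ⊗ ptObj X ω)) (snd G (G ⊗ ptObj X ω) ≫ fst G (ptObj X ω)) := by
    apply CartesianMonoidalCategory.hom_ext <;> simp
  have e2 : mulT (G := G) (ptObj X ω) ≫ (G ◁ ptHom X ω) =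
      lift (fst G (G ⊗ ptObj X ω) * (snd G (G ⊗ ptObj X ω) ≫ fst G (ptObj X ω)))
        (snd G (G ⊗ ptObj X ω) ≫ snd G (ptObj X ω) ≫ ptHom X ω) := by
    rw [mulT]
    apply CartesianMonoidalCategory.hom_ext
    · simp only [Category.assoc, whiskerLeft_fst, whiskerRight_fst, lift_fst, Hom.mul_def]
      rw [← Category.assoc, h1]
    · simp
  have e3 : mulT (G := G) (ptObj X ω) ≫ chi a ω =
      lift (fst G (G ⊗ ptObj X ω) * (snd G (G ⊗ ptObj X ω) ≫ fst G (ptObj X ω)))
        (snd G (G ⊗ ptObj X ω) ≫ snd G (ptObj X ω) ≫ ptHom X ω) ≫ a.act := by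
    rw [chi, ← Category.assoc, e2]
  rw [e3, e1, ← Groth.Agent.Helper4.Act.mul_smul' a.act a.mul_act]

/-- Key lemma: if `ω` is a maximal point specialising to `x`, then `x = g · ω` with `g ∈ Z0` -/
theorem exists_Z0_smul_eq (hΦ : Surjective (lift a.act (snd G X)).left) {ω x : X.left}
    (hmax : ∀ y : X.left, y ⤳ ω → y = ω) (h : ω ⤳ x) :
    ∃ z : (G ⊗ X).left, (fst G X).left z ∈ Z0 G ∧ (snd G X).left z = ω ∧ a.act.left z = x := by
  obtain ⟨g0, hg0⟩ := chi_surjective a hΦ ω x
  rw [← hg0] at h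
  obtain ⟨s0, hs0, hs0ω⟩ := chi_generalizing a hmax g0 h
  obtain ⟨v, hv1, hv2, hv3⟩ := exists_Z0_mul_eq X ω hs0
  refine ⟨(G ◁ chi a ω).left v, ?_, ?_, ?_⟩
  · rw [← Scheme.Hom.comp_apply, ← Over.comp_left, whiskerLeft_fst]; exact hv1
  · rw [← Scheme.Hom.comp_apply, ← Over.comp_left, whiskerLeft_snd, Over.comp_left,
      Scheme.Hom.comp_apply, hv2]; exact hs0ω
  · rw [← Scheme.Hom.comp_apply, ← Over.comp_left, whiskerLeft_chi_act, Over.comp_left,
      Scheme.Hom.comp_apply, hv3]; exact hg0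


section Top

/-- a maximal point above a given point -/
lemma exists_maximal_generalization {Y : Type*} [TopologicalSpace Y] [QuasiSober Y] [T0Space Y]
    (u : Y) : ∃ ξ : Y, ξ ⤳ u ∧ (∀ y : Y, y ⤳ ξ → y = ξ) ∧
      closure {ξ} = irreducibleComponent u := by
  obtain ⟨ξ, hξ⟩ := QuasiSober.sober (isIrreducible_irreducibleComponent (x := u))
    isClosed_irreducibleComponent
  refine ⟨ξ, ?_, ?_, hξ.def⟩
  · rw [specializes_iff_mem_closure, hξ.def]; exact mem_irreducibleComponent
  · intro y hy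
    have h1 : ξ ∈ closure ({y} : Set Y) := by rwa [← specializes_iff_mem_closure]
    have h2 : irreducibleComponent u ⊆ closure ({y} : Set Y) := by
      rw [← hξ.def]
      exact closure_minimal (Set.singleton_subset_iff.mpr h1) isClosed_closure
    have h3 : closure ({y} : Set Y) ⊆ irreducibleComponent u :=
      (irreducibleComponent_mem_irreducibleComponents u).2 isIrreducible_singleton.closure h2
    have h4 : ξ ⤳ y := by
      rw [specializes_iff_mem_closure, hξ.def]; exact h3 (subset_closure rfl)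
    exact (hy.antisymm h4).eq

lemma maximal_of_closure_mem {Y : Type*} [TopologicalSpace Y] [T0Space Y] {ξ : Y}
    (h : closure ({ξ} : Set Y) ∈ irreducibleComponents Y) : ∀ y : Y, y ⤳ ξ → y = ξ := by
  intro y hy
  have h1 : ξ ∈ closure ({y} : Set Y) := by rwa [← specializes_iff_mem_closure]
  have h2 : closure ({ξ} : Set Y) ⊆ closure ({y} : Set Y) :=
    closure_minimal (Set.singleton_subset_iff.mpr h1) isClosed_closure
  have h3 : closure ({y} : Set Y) ⊆ closure ({ξ} : Set Y) :=
    h.2 isIrreducible_singleton.closure h2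
  have h4 : ξ ⤳ y := by
    rw [specializes_iff_mem_closure]; exact h3 (subset_closure rfl)
  exact (hy.antisymm h4).eq

/-- points of the closure of a locally constructible set are specialisations of its points -/
lemma exists_specializes_of_locallyConstructible {Y : Scheme.{u}} {U : Set Y}
    (hZ : Topology.IsLocallyConstructible U) {x : Y} (hx : x ∈ closure U) : ∃ u ∈ U, u ⤳ x := by
  by_contra hcon
  push Not at hcon
  have h1 : Uᶜ ∈ nhds x :=
    Groth.Agent.Lib.Helper4.OpenNoeth1.mem_nhds_of_isLocallyConstructible _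
      (Groth.Agent.Lib.Helper4.OpenNoeth1.isLocallyConstructible_compl hZ) x
      (fun z hz hzZ => hcon z hzZ hz)
  rw [mem_closure_iff_nhds] at hx
  obtain ⟨w, hw1, hw2⟩ := hx _ h1
  exact hw1 hw2

end Top

/-- if `x` is a specialisation of a point of the open `U`, then `x ∈ Z0 · U` -/
theorem exists_Z0_smul_eq_of_specializes (hΦ : Surjective (lift a.act (snd G X)).left)
    (U : X.left.Opens) {u x : X.left} (hu : u ∈ U) (hux : u ⤳ x) :
    ∃ z : (G ⊗ X).left, (fst G X).left z ∈ Z0 G ∧ (snd G X).left z ∈ U ∧ a.act.left z = x := by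
  obtain ⟨ξ, hξu, hmax, -⟩ := exists_maximal_generalization u
  obtain ⟨z, h1, h2, h3⟩ := exists_Z0_smul_eq a hΦ hmax (hξu.trans hux)
  exact ⟨z, h1, by rw [h2]; exact hξu.mem_open U.isOpen hu, h3⟩


/-- `Z0 × U` is quasi-compact for affine open `U` -/
lemma isCompact_Z0_prod (U : X.left.Opens) (hU : IsAffineOpen U) :
    IsCompact ((fst G X).left ⁻¹' Z0 G ∩ (snd G X).left ⁻¹' (U : Set X.left)) := by
  obtain ⟨G₀, inst, i, -, -, -, hr, -, hc⟩ :=
    Groth.Agent.Lib.Helper4.GrpConn2.exists_identityComponent G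
  obtain ⟨U', hU'⟩ : ∃ U' : Over (Spec (CommRingCat.of K)), U' = Over.mk (U.ι ≫ X.hom) := ⟨_, rfl⟩
  subst hU'
  obtain ⟨j, hj⟩ : ∃ j : Over.mk (U.ι ≫ X.hom) ⟶ X, j = Over.homMk U.ι rfl := ⟨_, rfl⟩
  have hjl : j.left = U.ι := by rw [hj]; rfl
  haveI : IsAffine (Over.mk (U.ι ≫ X.hom)).left := hU
  haveI : QuasiCompact (Over.mk (U.ι ≫ X.hom)).hom := by
    rw [HasAffineProperty.iff_of_isAffine (P := @QuasiCompact)]
    infer_instance
  haveI : CompactSpace (G₀ ⊗ Over.mk (U.ι ≫ X.hom)).left := by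
    rw [Over.tensorObj_left]; infer_instance
  have hr2 : Set.range (i ⊗ₘ j).left =
      (fst G X).left ⁻¹' Z0 G ∩ (snd G X).left ⁻¹' (U : Set X.left) := by
    rw [Over.tensorHom_left, Scheme.Pullback.range_map, hjl, hr, Scheme.Opens.range_ι,
      Over.fst_left, Over.snd_left]
  rw [← hr2]
  exact isCompact_range (i ⊗ₘ j).left.continuous

theorem main_S5349 (k : Type u) [Field k] (G X : Over (Spec (CommRingCat.of k))) [GrpObj G]
    (a : AlgGrp.Action G X) (hΦ : Surjective (lift a.act (snd G X)).left)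
    [IrreducibleSpace X.left] : CompactSpace X.left := by
  obtain ⟨U, hU, hωU, -⟩ := exists_isAffineOpen_mem_and_subset (X := X.left) (U := ⊤)
    (x := genericPoint X.left) trivial
  have hc := (isCompact_Z0_prod (G := G) U hU).image a.act.left.continuous
  constructor
  convert hc using 1
  symm
  refine Set.eq_univ_of_forall fun x => ?_
  obtain ⟨z, h1, h2, h3⟩ := exists_Z0_smul_eq_of_specializes a hΦ U hωU
    (genericPoint_specializes x)
  exact ⟨z, ⟨h1, h2⟩, h3⟩

end Groth.Agent.Lib.Helper4.HomogComp1
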