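import Mathlib
import Groth.Prelude.Def_AlgGrp
import Groth.Agent.Lib.Helper4.HomogComp1

/-!
# Homogeneous spaces under an arbitrary group scheme over a field: Z0·U is open and equals the closure of a retrocompact open U; connected components of quasi-separated homogeneous spaces are irreducible (SGA3 VI_A 2.6.5-2.6.6) (helper4)
-/

set_option backward.isDefEq.respectTransparency.types false
set_option synthInstance.maxHeartbeats 400000
set_option autoImplicit false
set_option linter.unusedSectionVars false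
set_option linter.style.haveILetI false
set_option linter.unusedSimpArgs false
universe u v w
open CategoryTheory CategoryTheory.Limits AlgebraicGeometry TopologicalSpace Opposite
open MonoidalCategory CartesianMonoidalCategory MonObj GrpObj

namespace Groth.Agent.Lib.Helper4.HomogComp2

open Groth.Agent.Lib.Helper4.GrpIrr1 Groth.Agent.Lib.Helper4.GrpConn1
  Groth.Agent.Lib.Helper4.GrpConn2 Groth.Agent.Lib.Helper4.HomogComp1
  Groth.Agent.Lib.Helper6.GrpSch.Cat Groth.Agent.Lib.Helper6.GrpSch.Field
  Groth.Agent.Lib.Helper6.GrpSch.Closed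

section Cat
variable {C : Type*} [Category C] [CartesianMonoidalCategory C] {H Y T' : C} [GrpObj H]
  (act : H ⊗ Y ⟶ Y)
  (one_act : (η[H] ▷ Y) ≫ act = (λ_ Y).hom)
  (mul_act : (μ[H] ▷ Y) ≫ act = (α_ H H Y).hom ≫ (H ◁ act) ≫ act)

/-- translation by a `T`-point of `H` on `T ⊗ Y` -/
def transl (x : T' ⟶ H) : T' ⊗ Y ⟶ T' ⊗ Y := lift (fst T' Y) ((x ▷ Y) ≫ act)

lemma transl_snd (x : T' ⟶ H) : transl act x ≫ snd T' Y = (x ▷ Y) ≫ act := by
  simp [transl]

include one_act mul_act in
lemma transl_comp (x x' : T' ⟶ H) : transl act x ≫ transl act x' = transl act (x' * x) := by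
  have h : ∀ y : T' ⟶ H, (y ▷ Y) ≫ act = lift (fst T' Y ≫ y) (snd T' Y) ≫ act := by
    intro y
    congr 1
    apply CartesianMonoidalCategory.hom_ext <;> simp
  simp only [transl]
  apply CartesianMonoidalCategory.hom_ext
  · simp
  · simp only [Category.assoc, lift_snd]
    rw [h x', h (x' * x), ← Category.assoc, comp_lift, lift_snd, ← Category.assoc, lift_fst,
      h x, comp_mul, Groth.Agent.Helper4.Act.mul_smul' act mul_act]

include one_act in
lemma transl_one : transl act (1 : T' ⟶ H) = 𝟙 (T' ⊗ Y) := by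
  simp only [transl]
  apply CartesianMonoidalCategory.hom_ext
  · simp
  · simp only [lift_snd, Category.id_comp]
    have : ((1 : T' ⟶ H) ▷ Y) ≫ act = lift (1 : T' ⊗ Y ⟶ H) (snd T' Y) ≫ act := by
      congr 1
      apply CartesianMonoidalCategory.hom_ext <;> simp [Hom.one_def]
    rw [this, Groth.Agent.Helper4.Act.one_smul' act one_act]

include one_act mul_act in
lemma isIso_transl (x : T' ⟶ H) : IsIso (transl act x) :=
  ⟨transl act x⁻¹, by rw [transl_comp act one_act mul_act, inv_mul_cancel, transl_one act one_act],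
    by rw [transl_comp act one_act mul_act, mul_inv_cancel, transl_one act one_act]⟩

end Cat


variable {K : Type u} [Field K] {G X : Over (Spec (CommRingCat.of K))} [GrpObj G]
  (a : AlgGrp.Action G X)

/-- the translate `g · U` of an open set by a point of `G` is open -/
lemma isOpenMap_transl (g : G.left) :
    IsOpenMap ((ptHom G g ▷ X) ≫ a.act).left := by
  haveI := isIso_transl a.act a.one_act a.mul_act (ptHom G g)
  rw [← transl_snd a.act (ptHom G g), Over.comp_left]
  exact (Groth.Agent.Lib.Helper6.GrpSch.Field.isOpenMap_snd _ _).comp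
    (isOpenMap_left_of_iso (asIso (transl a.act (ptHom G g))))

/-- `Z0 · U` -/
def Z0smul (U : Set X.left) : Set X.left :=
  a.act.left '' ((fst G X).left ⁻¹' Z0 G ∩ (snd G X).left ⁻¹' U)

theorem isOpen_Z0smul (U : X.left.Opens) : IsOpen (Z0smul a (U : Set X.left)) := by
  rw [isOpen_iff_mem_nhds]
  rintro _ ⟨p₀, ⟨hp1, hp2⟩, rfl⟩
  obtain ⟨g, hg⟩ : ∃ g, g = (fst G X).left p₀ := ⟨_, rfl⟩
  have hzr : p₀ ∈ Set.range (ptHom G g ▷ X).left := by
    rw [range_whiskerRight, range_ptHom, Set.mem_preimage, ← hg]; rfl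
  obtain ⟨w₀, rfl⟩ := hzr
  have hopen := isOpenMap_transl a g
  have hN : IsOpen (((ptHom G g ▷ X) ≫ a.act).left ''
      ((snd (ptObj G g) X).left ⁻¹' (U : Set X.left))) :=
    hopen _ (U.isOpen.preimage (snd (ptObj G g) X).left.continuous)
  refine Filter.mem_of_superset (hN.mem_nhds ?_) ?_
  · refine ⟨w₀, ?_, by rw [Over.comp_left, Scheme.Hom.comp_apply]⟩
    rw [Set.mem_preimage]
    rw [Set.mem_preimage, ← Scheme.Hom.comp_apply, ← Over.comp_left, whiskerRight_snd] at hp2
    exact hp2
  · rintro _ ⟨w, hw, rfl⟩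
    rw [Over.comp_left, Scheme.Hom.comp_apply]
    refine ⟨_, ⟨?_, ?_⟩, rfl⟩
    · rw [Set.mem_preimage, ← Scheme.Hom.comp_apply, ← Over.comp_left, whiskerRight_fst,
        Over.comp_left, Scheme.Hom.comp_apply, ptHom_apply, hg]
      exact hp1
    · rw [Set.mem_preimage, ← Scheme.Hom.comp_apply, ← Over.comp_left, whiskerRight_snd]
      exact hw

lemma Z0smul_subset_closure (U : X.left.Opens) :
    Z0smul a (U : Set X.left) ⊆ closure (U : Set X.left) := by
  rintro _ ⟨z, ⟨h1, h2⟩, rfl⟩
  exact act_mem_closure a U z h1 h2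

/-- irreducible components are stable under `Z0` -/
theorem act_mem_component {W : Set X.left} (hW : W ∈ irreducibleComponents X.left)
    (z : (G ⊗ X).left) (h1 : (fst G X).left z ∈ Z0 G) (h2 : (snd G X).left z ∈ W) :
    a.act.left z ∈ W := by
  obtain ⟨G₀, inst, i, -, -, -, hr, hgi, -⟩ :=
    Groth.Agent.Lib.Helper4.GrpConn2.exists_identityComponent G
  have hWc : IsClosed W := isClosed_of_mem_irreducibleComponents _ hW
  obtain ⟨W', w', hcw, hirrW, rW⟩ := exists_closedImmersion_of_irreducible W hWc hW.1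
  obtain ⟨j, hj⟩ : ∃ j : Over.mk (w' ≫ X.hom) ⟶ X, j = Over.homMk w' rfl := ⟨_, rfl⟩
  have hjl : j.left = w' := by rw [hj]; rfl
  haveI : IrreducibleSpace (Over.mk (w' ≫ X.hom)).left := hirrW
  haveI : IrreducibleSpace (G₀ ⊗ Over.mk (w' ≫ X.hom)).left := by
    rw [Over.tensorObj_left]; infer_instance
  have hP : Set.range (i ⊗ₘ j).left = (fst G X).left ⁻¹' Z0 G ∩ (snd G X).left ⁻¹' W := by
    rw [Over.tensorHom_left, Scheme.Pullback.range_map, hjl, hr, rW, Over.fst_left, Over.snd_left]
  have hirr : IsIrreducible (a.act.left '' Set.range (i ⊗ₘ j).left) := by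
    rw [← Set.range_comp, ← Set.image_univ]
    exact (IrreducibleSpace.isIrreducible_univ _).image _
      ((a.act.left.continuous.comp (i ⊗ₘ j).left.continuous).continuousOn)
  have hsub : W ⊆ a.act.left '' Set.range (i ⊗ₘ j).left := by
    intro w hw
    refine ⟨(lift (toUnit X ≫ η[G]) (𝟙 X)).left w, ?_, ?_⟩
    · rw [hP]
      constructor
      · rw [Set.mem_preimage, ← Scheme.Hom.comp_apply, ← Over.comp_left, lift_fst, Over.comp_left,
          Scheme.Hom.comp_apply, eta_apply]
        exact ept_mem_Z0 G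
      · rw [Set.mem_preimage, ← Scheme.Hom.comp_apply, ← Over.comp_left, lift_snd]
        simpa using hw
    · rw [← Scheme.Hom.comp_apply, ← Over.comp_left, ← Hom.one_def,
        Groth.Agent.Helper4.Act.one_smul' a.act a.one_act]
      simp
  have := hW.2 hirr hsub
  apply this
  refine ⟨z, ?_, rfl⟩
  rw [hP]; exact ⟨h1, h2⟩

/-- the involution `(g, x) ↦ (g⁻¹, g x)` on points -/
lemma exists_inv_point (z : (G ⊗ X).left) :
    ∃ z' : (G ⊗ X).left, (fst G X).left z' = ι[G].left ((fst G X).left z) ∧
      (snd G X).left z' = a.act.left z ∧ a.act.left z' = (snd G X).left z := by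
  refine ⟨(lift (fst G X ≫ ι[G]) a.act).left z, ?_, ?_, ?_⟩
  · rw [← Scheme.Hom.comp_apply, ← Over.comp_left, lift_fst, Over.comp_left, Scheme.Hom.comp_apply]
  · rw [← Scheme.Hom.comp_apply, ← Over.comp_left, lift_snd]
  · rw [← Scheme.Hom.comp_apply, ← Over.comp_left,
      Groth.Agent.Helper2.Orbit.twist_act a.act a.one_act a.mul_act]


/-- for a locally constructible (e.g. retrocompact) open `U`, `closure U = Z0 · U` -/
theorem closure_eq_Z0smul (hΦ : Surjective (lift a.act (snd G X)).left) (U : X.left.Opens)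
    (hU : Topology.IsLocallyConstructible (U : Set X.left)) :
    closure (U : Set X.left) = Z0smul a (U : Set X.left) := by
  apply subset_antisymm
  · intro x hx
    obtain ⟨u, hu, hux⟩ := exists_specializes_of_locallyConstructible hU hx
    obtain ⟨z, h1, h2, h3⟩ := exists_Z0_smul_eq_of_specializes a hΦ U hu hux
    exact ⟨z, ⟨h1, h2⟩, h3⟩
  · exact Z0smul_subset_closure a U

theorem main_S3039 (k : Type u) [Field k] (G X : Over (Spec (CommRingCat.of k))) [GrpObj G]
    [QuasiSeparatedSpace X.left] (a : AlgGrp.Action G X)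
    (hΦ : Surjective (lift a.act (snd G X)).left) (x : X.left) :
    IsPreirreducible (connectedComponent x) := by
  have hsub : connectedComponent x ⊆ irreducibleComponent x := by
    intro y hy
    by_contra hyW
    obtain ⟨_, ⟨U, hU : IsAffineOpen U, rfl⟩, hyU, hUW⟩ :=
      X.left.isBasis_affineOpens.exists_subset_of_mem_open
        (show y ∈ (irreducibleComponent x)ᶜ from hyW) isClosed_irreducibleComponent.isOpen_compl
    have hc : IsCompact (U : Set X.left) := hU.isCompact
    have hlc : Topology.IsLocallyConstructible (U : Set X.left) :=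
      (hc.isConstructible U.isOpen).isLocallyConstructible
    have hcl := closure_eq_Z0smul a hΦ U hlc
    have hclopen : IsClopen (closure (U : Set X.left)) :=
      ⟨isClosed_closure, by rw [hcl]; exact isOpen_Z0smul a U⟩
    have h1 : connectedComponent y ⊆ closure (U : Set X.left) :=
      hclopen.connectedComponent_subset (subset_closure hyU)
    rw [← connectedComponent_eq hy] at h1
    have hx : x ∈ closure (U : Set X.left) := h1 mem_connectedComponent
    rw [hcl] at hx
    obtain ⟨z, ⟨hz1, hz2⟩, hz3⟩ := hx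
    obtain ⟨z', h1', h2', h3'⟩ := exists_inv_point a z
    have hmem : a.act.left z' ∈ irreducibleComponent x :=
      act_mem_component a (irreducibleComponent_mem_irreducibleComponents x) z'
        (by rw [h1']; exact inv_mem_Z0 hz1)
        (by rw [h2', hz3]; exact mem_irreducibleComponent)
    rw [h3'] at hmem
    exact hUW hz2 hmem
  have heq : connectedComponent x = irreducibleComponent x :=
    subset_antisymm hsub
      (isIrreducible_irreducibleComponent.isPreirreducible.isPreconnected.subset_connectedComponent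
        mem_irreducibleComponent)
  rw [heq]
  exact isIrreducible_irreducibleComponent.isPreirreducible


theorem Z0smul_eq_sUnion (hΦ : Surjective (lift a.act (snd G X)).left) (U : X.left.Opens) :
    Z0smul a (U : Set X.left) = ⋃₀ {Z : Set X.left | Z ∈ irreducibleComponents ↥X.left ∧
      ∃ ξ ∈ U, closure {ξ} = Z} := by
  apply subset_antisymm
  · rintro _ ⟨z, ⟨h1, h2⟩, rfl⟩
    -- the Z0-orbit of `u = snd z` is irreducible, contains `u` and `a z`
    obtain ⟨ξ, hξu, hmax, hξ⟩ := exists_maximal_generalization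
      ((snd G X).left z)
    have hS := isIrreducible_Z0orbit a ((snd G X).left z)
    obtain ⟨C, hC, hSC, hCmax⟩ := exists_preirreducible _ hS.isPreirreducible
    have hCmem : C ∈ irreducibleComponents X.left := by
      refine ⟨⟨⟨_, hSC (self_mem_Z0orbit a _)⟩, hC⟩, ?_⟩
      intro t ht hCt
      exact (hCmax t ht.isPreirreducible hCt).le
    have hCc : IsClosed C := isClosed_of_mem_irreducibleComponents _ hCmem
    obtain ⟨ζ, hζ⟩ := QuasiSober.sober hCmem.1 hCc
    have hζu : ζ ⤳ (snd G X).left z := by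
      rw [specializes_iff_mem_closure, hζ.def]; exact hSC (self_mem_Z0orbit a _)
    refine ⟨C, ⟨hCmem, ζ, hζu.mem_open U.isOpen h2, hζ.def⟩, hSC (act_mem_Z0orbit a z h1)⟩
  · rintro x ⟨Z, ⟨hZ, ξ, hξU, rfl⟩, hx⟩
    have hmax := maximal_of_closure_mem hZ
    have hξx : ξ ⤳ x := by rwa [specializes_iff_mem_closure]
    obtain ⟨z, h1, h2, h3⟩ := exists_Z0_smul_eq a hΦ hmax hξx
    exact ⟨z, ⟨h1, by rw [Set.mem_preimage, h2]; exact hξU⟩, h3⟩

theorem main_S5350 (k : Type u) [Field k] (G X : Over (Spec (CommRingCat.of k))) [GrpObj G]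
    (a : AlgGrp.Action G X) (hΦ : Surjective (lift a.act (snd G X)).left)
    (pt : ↥(𝟙_ (Over (Spec (CommRingCat.of k)))).left) (C0 : Set G.left)
    (hC0 : C0 ∈ irreducibleComponents ↥G.left)
    (he : η[G].left.base pt ∈ C0) (U : X.left.Opens) :
    letI V : Set X.left := a.act.left.base '' {z : ↥(G ⊗ X).left |
      (fst G X).left.base z ∈ C0 ∧ (snd G X).left.base z ∈ U}
    IsOpen V ∧ V = ⋃₀ {Z : Set X.left | Z ∈ irreducibleComponents ↥X.left ∧
      ∃ ξ ∈ U, closure {ξ} = Z} ∧
    (IsRetrocompact (U : Set X.left) → V = closure (U : Set X.left)) := by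
  have he' : ept G ∈ C0 := by
    have : η[G].left.base pt = ept G := eta_apply G pt
    rw [← this]; exact he
  have hC : C0 = Z0 G :=
    uniqComp_ept G C0 hC0 (Z0 G) (irreducibleComponent_mem_irreducibleComponents _) he'
      (ept_mem_Z0 G)
  subst hC
  have hV : (a.act.left.base '' {z : ↥(G ⊗ X).left |
      (fst G X).left.base z ∈ Z0 G ∧ (snd G X).left.base z ∈ U}) = Z0smul a (U : Set X.left) := rfl
  simp only [hV]
  refine ⟨isOpen_Z0smul a U, Z0smul_eq_sUnion a hΦ U, fun hU => ?_⟩
  exact (closure_eq_Z0smul a hΦ U (hU.isConstructible U.isOpen).isLocallyConstructible).symm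

end Groth.Agent.Lib.Helper4.HomogComp2
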