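import Mathlib
import Groth.Prelude.Def_AlgGrp
import Groth.Agent.Lib.Helper4.HomogComp2
import Groth.Agent.Lib.Helper4.GenSub1

/-!
# Homogeneous spaces under an arbitrary group scheme over a field: unique irreducible component through each point; the orbit map of a rational point maps the identity component onto the component of the point, which is geometrically irreducible (SGA3 VI_A 2.6.5) (helper4)
-/

set_option backward.isDefEq.respectTransparency.types false
set_option synthInstance.maxHeartbeats 400000
set_option autoImplicit false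
set_option linter.unusedSectionVars false
set_option linter.style.haveILetI false
set_option linter.unusedSimpArgs false
universe u v w
open CategoryTheory CategoryTheory.Limits AlgebraicGeometry TopologicalSpace Opposite
open MonoidalCategory CartesianMonoidalCategory MonObj GrpObj

namespace Groth.Agent.Lib.Helper4.HomogOrbit1

open Groth.Agent.Lib.Helper4.GrpIrr1 Groth.Agent.Lib.Helper4.GrpConn1
  Groth.Agent.Lib.Helper4.GrpConn2 Groth.Agent.Lib.Helper4.HomogComp1
  Groth.Agent.Lib.Helper4.HomogComp2
  Groth.Agent.Lib.Helper6.GrpSch.Cat Groth.Agent.Lib.Helper6.GrpSch.Field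
  Groth.Agent.Lib.Helper6.GrpSch.Closed

variable {K : Type u} [Field K] {G X : Over (Spec (CommRingCat.of K))} [GrpObj G]
  (a : AlgGrp.Action G X)

/-- every point of a homogeneous space lies on a unique irreducible component -/
theorem uniqComp_homog (hΦ : Surjective (lift a.act (snd G X)).left) (x : X.left) :
    UniqComp x := by
  have key : ∀ W ∈ irreducibleComponents X.left, ∀ W' ∈ irreducibleComponents X.left,
      x ∈ W → x ∈ W' → W ⊆ W' := by
    intro W hW W' hW' hx hx'
    have hWc : IsClosed W := isClosed_of_mem_irreducibleComponents _ hW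
    have hWc' : IsClosed W' := isClosed_of_mem_irreducibleComponents _ hW'
    obtain ⟨ω, hω⟩ := QuasiSober.sober hW.1 hWc
    have hmax := maximal_of_closure_mem (ξ := ω) (by rw [hω.def]; exact hW)
    have hωx : ω ⤳ x := by rw [specializes_iff_mem_closure, hω.def]; exact hx
    obtain ⟨z, h1, h2, h3⟩ := exists_Z0_smul_eq a hΦ hmax hωx
    obtain ⟨z', h1', h2', h3'⟩ := exists_inv_point a z
    have hmem : a.act.left z' ∈ W' := act_mem_component a hW' z'
      (by rw [h1']; exact inv_mem_Z0 h1) (by rw [h2', h3]; exact hx')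
    rw [h3', h2] at hmem
    rw [← hω.def]
    exact closure_minimal (Set.singleton_subset_iff.mpr hmem) hWc'
  intro W hW W' hW' hx hx'
  exact subset_antisymm (key W hW W' hW' hx hx') (key W' hW' W hW hx' hx)

/-- an irreducible set through `x` lies in the irreducible component of `x` -/
lemma subset_irreducibleComponent_of_uniqComp {Y : Type*} [TopologicalSpace Y] {x : Y}
    (hx : UniqComp x) {S : Set Y} (hS : IsIrreducible S) (hxS : x ∈ S) :
    S ⊆ irreducibleComponent x := by
  obtain ⟨C, hC, hSC, hmax⟩ := exists_preirreducible S hS.isPreirreducible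
  have hCmem : C ∈ irreducibleComponents Y := by
    refine ⟨⟨⟨x, hSC hxS⟩, hC⟩, ?_⟩
    intro t ht hCt
    exact (hmax t ht.isPreirreducible hCt).le
  have := hx C hCmem _ (irreducibleComponent_mem_irreducibleComponents x) (hSC hxS)
    mem_irreducibleComponent
  rw [← this]; exact hSC

lemma unit_orbitMap (x : 𝟙_ (Over (Spec (CommRingCat.of K))) ⟶ X) :
    η[G] ≫ a.orbitMap x = x := by
  rw [AlgGrp.Action.orbitMap, ← Category.assoc, comp_lift, Category.comp_id]
  have h1 : η[G] ≫ toUnit G = 𝟙 _ := toUnit_unique _ _
  rw [← Category.assoc, h1, Category.id_comp]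
  have h2 : (η[G] : 𝟙_ (Over (Spec (CommRingCat.of K))) ⟶ G) = 1 := by
    rw [Hom.one_def, toUnit_unique (toUnit _) (𝟙 _), Category.id_comp]
  rw [h2]
  exact Groth.Agent.Helper4.Act.one_smul' a.act a.one_act x

lemma comp_orbitMap {T' : Over (Spec (CommRingCat.of K))} (m : T' ⟶ G)
    (x : 𝟙_ (Over (Spec (CommRingCat.of K))) ⟶ X) :
    m ≫ a.orbitMap x = lift m (toUnit T' ≫ x) ≫ a.act := by
  rw [AlgGrp.Action.orbitMap, ← Category.assoc, comp_lift, Category.comp_id, ← Category.assoc,
    toUnit_unique (m ≫ toUnit G) (toUnit T')]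


/-- a point of a reduced scheme landing in a rational point is that rational point -/
lemma eq_toUnit_comp {T' : Over (Spec (CommRingCat.of K))} [IsReduced T'.left]
    (x : 𝟙_ (Over (Spec (CommRingCat.of K))) ⟶ X) (t : T' ⟶ X)
    (h : Set.range t.left ⊆ Set.range x.left) : t = toUnit T' ≫ x := by
  haveI : IsClosedImmersion x.left :=
    isClosedImmersion_of_comp_eq_id X.hom x.left (by simpa using Over.w x)
  obtain ⟨g, hg⟩ := Groth.Agent.Lib.Helper4.GenSub1.exists_over_lift x t h
  rw [← hg, toUnit_unique g (toUnit T')]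

/-- two points of `G ⊗ X` over the same point of `X` come from points with values in a common
field -/
lemma exists_common_field (zy zx : (G ⊗ X).left) (h : (snd G X).left zy = (snd G X).left zx) :
    ∃ (T' : Over (Spec (CommRingCat.of K))) (_ : IsReduced T'.left) (uy ux : T' ⟶ G ⊗ X)
      (_ : T'.left), uy ≫ snd G X = ux ≫ snd G X ∧ (∀ t, uy.left t = zy) ∧
        (∀ t, ux.left t = zx) := by
  obtain ⟨p, hp1, hp2⟩ := Scheme.Pullback.exists_preimage_pullback
    (f := (snd G X).left) (g := (snd G X).left) zy zx h
  obtain ⟨ψ, hψ⟩ : ∃ ψ : Spec ((pullback (snd G X).left (snd G X).left).residueField p) ⟶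
      pullback (snd G X).left (snd G X).left, ψ = Scheme.fromSpecResidueField _ p := ⟨_, rfl⟩
  have e1 : (G ⊗ X).hom = (snd G X).left ≫ X.hom := (Over.w (snd G X)).symm
  have hcomm : (ψ ≫ pullback.snd (snd G X).left (snd G X).left) ≫ (G ⊗ X).hom =
      ψ ≫ pullback.fst (snd G X).left (snd G X).left ≫ (G ⊗ X).hom := by
    rw [e1, Category.assoc, ← Category.assoc (pullback.snd _ _), ← pullback.condition]
    simp
  refine ⟨Over.mk (ψ ≫ pullback.fst _ _ ≫ (G ⊗ X).hom),
    inferInstanceAs (IsReduced (Spec ((pullback (snd G X).left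
      (snd G X).left).residueField p))),
    Over.homMk (ψ ≫ pullback.fst _ _) (by simp), Over.homMk (ψ ≫ pullback.snd _ _) hcomm,
    (Classical.arbitrary (Spec ((pullback (snd G X).left (snd G X).left).residueField p))),
    ?_, ?_, ?_⟩
  · ext
    simp only [Over.comp_left, Over.homMk_left, Category.assoc]
    rw [pullback.condition]
  · intro t
    simp only [Over.homMk_left]
    rw [Scheme.Hom.comp_apply, hψ, Scheme.fromSpecResidueField_apply, hp1]
  · intro t
    simp only [Over.homMk_left]
    rw [Scheme.Hom.comp_apply, hψ, Scheme.fromSpecResidueField_apply, hp2]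

theorem orbitMap_image_Z0 (hΦ : Surjective (lift a.act (snd G X)).left)
    (x : 𝟙_ (Over (Spec (CommRingCat.of K))) ⟶ X)
    (pt : (𝟙_ (Over (Spec (CommRingCat.of K)))).left) :
    (a.orbitMap x).left '' Z0 G = irreducibleComponent (x.left pt) := by
  have hS : Subsingleton (𝟙_ (Over (Spec (CommRingCat.of K)))).left :=
    inferInstanceAs (Subsingleton (Spec (CommRingCat.of K)))
  have hxe : (a.orbitMap x).left (ept G) = x.left pt := by
    rw [← eta_apply G pt, ← Scheme.Hom.comp_apply, ← Over.comp_left, unit_orbitMap]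
  apply subset_antisymm
  · apply subset_irreducibleComponent_of_uniqComp (uniqComp_homog a hΦ _)
      ((isIrreducible_Z0 G).image _ (a.orbitMap x).left.continuous.continuousOn)
    exact ⟨ept G, ept_mem_Z0 G, hxe⟩
  · intro y hy
    -- generic point of the component
    obtain ⟨ω, hω⟩ := QuasiSober.sober (isIrreducible_irreducibleComponent (x := x.left pt))
      isClosed_irreducibleComponent
    have hmax := maximal_of_closure_mem (ξ := ω)
      (by rw [hω.def]; exact irreducibleComponent_mem_irreducibleComponents _)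
    have hωy : ω ⤳ y := by rw [specializes_iff_mem_closure, hω.def]; exact hy
    have hωx : ω ⤳ x.left pt := by
      rw [specializes_iff_mem_closure, hω.def]; exact mem_irreducibleComponent
    obtain ⟨zy, hy1, hy2, hy3⟩ := exists_Z0_smul_eq a hΦ hmax hωy
    obtain ⟨zx, hx1, hx2, hx3⟩ := exists_Z0_smul_eq a hΦ hmax hωx
    obtain ⟨T', hred, uy, ux, t0, hw, huy, hux⟩ := exists_common_field zy zx (by rw [hy2, hx2])
    -- the T'-points
    obtain ⟨gy, hgy⟩ : ∃ gy : T' ⟶ G, gy = uy ≫ fst G X := ⟨_, rfl⟩
    obtain ⟨gx, hgx⟩ : ∃ gx : T' ⟶ G, gx = ux ≫ fst G X := ⟨_, rfl⟩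
    obtain ⟨w, hwdef⟩ : ∃ w : T' ⟶ X, w = uy ≫ snd G X := ⟨_, rfl⟩
    have euy : uy = lift gy w := by
      apply CartesianMonoidalCategory.hom_ext <;> simp [hgy, hwdef]
    have eux : ux = lift gx w := by
      apply CartesianMonoidalCategory.hom_ext <;> simp [hgx, hwdef, hw]
    -- `gx • w` is the rational point
    have hxT : lift gx w ≫ a.act = toUnit T' ≫ x := by
      apply eq_toUnit_comp
      rintro _ ⟨t, rfl⟩
      rw [← eux, Over.comp_left, Scheme.Hom.comp_apply, hux t, hx3]
      exact ⟨pt, rfl⟩
    -- the element m = gy * gx⁻¹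
    have hm : (gy * gx⁻¹) ≫ a.orbitMap x = lift gy w ≫ a.act := by
      rw [comp_orbitMap, ← hxT, ← Groth.Agent.Helper4.Act.mul_smul' a.act a.mul_act,
        inv_mul_cancel_right]
    refine ⟨(gy * gx⁻¹).left t0, ?_, ?_⟩
    · rw [Hom.mul_def, Over.comp_left, Scheme.Hom.comp_apply]
      apply mul_mem_Z0
      · rw [← Scheme.Hom.comp_apply, ← Over.comp_left, lift_fst, hgy, Over.comp_left,
          Scheme.Hom.comp_apply, huy t0]
        exact hy1
      · rw [← Scheme.Hom.comp_apply, ← Over.comp_left, lift_snd, Hom.inv_def, hgx, Over.comp_left,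
          Over.comp_left, Scheme.Hom.comp_apply, Scheme.Hom.comp_apply, hux t0]
        exact inv_mem_Z0 hx1
    · rw [← Scheme.Hom.comp_apply, ← Over.comp_left, hm, ← euy, Over.comp_left,
        Scheme.Hom.comp_apply, huy t0]
      exact hy3


/-- base change of a morphism of `k`-schemes along a field extension: range -/
lemma isIrreducible_preimage_range {S' : Scheme.{u}} {A B : Over (Spec (CommRingCat.of K))}
    (φ : A ⟶ B) (f : S' ⟶ Spec (CommRingCat.of K)) [IrreducibleSpace ↥(pullback A.hom f)] :
    IsIrreducible ((pullback.fst B.hom f) ⁻¹' Set.range φ.left) := by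
  obtain ⟨r, hr⟩ : ∃ r : pullback A.hom f ⟶ pullback B.hom f,
      r = pullback.map A.hom f B.hom f φ.left (𝟙 _) (𝟙 _) (by simp) (by simp) := ⟨_, rfl⟩
  have hr1 : r ≫ pullback.fst B.hom f = pullback.fst A.hom f ≫ φ.left := by
    rw [hr]; exact pullback.lift_fst _ _ _
  have hr2 : r ≫ pullback.snd B.hom f = pullback.snd A.hom f := by
    rw [hr]; exact (pullback.lift_snd _ _ _).trans (Category.comp_id _)
  have right : IsPullback (pullback.snd B.hom f) (pullback.fst B.hom f) f B.hom :=
    (IsPullback.of_hasPullback B.hom f).flip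
  have big : IsPullback (r ≫ pullback.snd B.hom f) (pullback.fst A.hom f) f (φ.left ≫ B.hom) := by
    rw [hr2, Over.w φ]
    exact (IsPullback.of_hasPullback A.hom f).flip
  have sq : IsPullback r (pullback.fst A.hom f) (pullback.fst B.hom f) φ.left :=
    IsPullback.of_right big hr1 right
  have hrange := Groth.Agent.Lib.Helper4.GI2Sch1.range_of_isPullback sq.flip
  rw [← hrange, ← Set.image_univ]
  exact (IrreducibleSpace.isIrreducible_univ _).image _ r.continuous.continuousOn

theorem main_S5403 (k : Type u) [Field k] (G X : Over (Spec (CommRingCat.of k)))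
    [GrpObj G] [QuasiSeparatedSpace X.left] (a : AlgGrp.Action G X)
    (hΦ : Surjective (lift a.act (snd G X)).left)
    (x : 𝟙_ (Over (Spec (CommRingCat.of k))) ⟶ X)
    (pt : ↥(𝟙_ (Over (Spec (CommRingCat.of k)))).left)
    (C0 : Set G.left) (hC0 : C0 ∈ irreducibleComponents ↥G.left)
    (he : η[G].left.base pt ∈ C0) :
    (a.orbitMap x).left.base '' C0 = connectedComponent (x.left.base pt) ∧
    ∀ (K : Type u) [Field K] [Algebra k K],
      IsIrreducible ((pullback.fst X.hom (Spec.map (CommRingCat.ofHom (algebraMap k K)))).base ⁻¹'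
        connectedComponent (x.left.base pt)) := by
  have he' : ept G ∈ C0 := by
    have : η[G].left.base pt = ept G := eta_apply G pt
    rw [← this]; exact he
  have hC : C0 = Z0 G :=
    uniqComp_ept G C0 hC0 (Z0 G) (irreducibleComponent_mem_irreducibleComponents _) he'
      (ept_mem_Z0 G)
  subst hC
  -- connected component = irreducible component
  have hpre := main_S3039 k G X a hΦ (x.left.base pt)
  have hconn : connectedComponent (x.left.base pt) = irreducibleComponent (x.left.base pt) := by
    apply subset_antisymm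
    · exact subset_irreducibleComponent_of_uniqComp (uniqComp_homog a hΦ _)
        ⟨⟨_, mem_connectedComponent⟩, hpre⟩ mem_connectedComponent
    · exact isIrreducible_irreducibleComponent.isPreirreducible.isPreconnected.subset_connectedComponent
        mem_irreducibleComponent
  have h1 : (a.orbitMap x).left.base '' Z0 G = connectedComponent (x.left.base pt) := by
    rw [hconn]; exact orbitMap_image_Z0 a hΦ x pt
  refine ⟨h1, ?_⟩
  intro K' _ _
  obtain ⟨G₀, inst, i, -, -, -, hr, hgi, -⟩ :=
    Groth.Agent.Lib.Helper4.GrpConn2.exists_identityComponent G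
  have hrange : Set.range (i ≫ a.orbitMap x).left = connectedComponent (x.left.base pt) := by
    rw [Over.comp_left, Scheme.Hom.comp_base, TopCat.coe_comp, Set.range_comp]
    rw [← h1]
    congr 1
  haveI : IrreducibleSpace ↥(pullback G₀.hom (Spec.map (CommRingCat.ofHom (algebraMap k K')))) :=
    hgi.geometrically_irreducibleSpace _ _ _ (IsPullback.of_hasPullback _ _)
  rw [← hrange]
  exact isIrreducible_preimage_range (i ≫ a.orbitMap x) _

end Groth.Agent.Lib.Helper4.HomogOrbit1
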