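import Mathlib
import Groth.Prelude.Def_AlgGrp
import Groth.Agent.Lib.Helper4.HomogOrbit1

/-!
# Base change of a group action along a field extension (lax monoidal transport), surjectivity of the base-changed graph morphism, and S5348 (points of X_K lie on a unique irreducible component) (helper4)
-/

set_option backward.isDefEq.respectTransparency.types false
set_option synthInstance.maxHeartbeats 400000
set_option autoImplicit false
set_option linter.unusedSectionVars false
set_option linter.style.haveILetI false
set_option linter.unusedSimpArgs false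
universe u v w
open CategoryTheory CategoryTheory.Limits AlgebraicGeometry TopologicalSpace Opposite
open MonoidalCategory CartesianMonoidalCategory MonObj GrpObj

namespace Groth.Agent.Lib.Helper4.HomogBC1

open Groth.Agent.Lib.Helper4.GrpIrr1 Groth.Agent.Lib.Helper4.GrpConn1
  Groth.Agent.Lib.Helper4.GrpConn2 Groth.Agent.Lib.Helper4.HomogComp1
  Groth.Agent.Lib.Helper4.HomogComp2 Groth.Agent.Lib.Helper4.HomogOrbit1

variable {K : Type u} [Field K] {G X : Over (Spec (CommRingCat.of K))} [GrpObj G]
  (a : AlgGrp.Action G X) (L : Type u) [Field L] [Algebra K L]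

/-- base change of an action along a field extension -/
noncomputable def bcAct : AlgGrp.Action ((bcF L).obj G) ((bcF L).obj X) where
  act := Functor.LaxMonoidal.μ (bcF L) G X ≫ (bcF L).map a.act
  one_act := by
    rw [Functor.obj.η_def, comp_whiskerRight, Category.assoc,
      ← Category.assoc _ (Functor.LaxMonoidal.μ (bcF L) G X),
      Functor.LaxMonoidal.μ_natural_left, Category.assoc, ← Functor.map_comp, a.one_act,
      Functor.LaxMonoidal.left_unitality]
  mul_act := by
    rw [Functor.obj.μ_def, comp_whiskerRight, Category.assoc,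
      ← Category.assoc _ (Functor.LaxMonoidal.μ (bcF L) G X),
      Functor.LaxMonoidal.μ_natural_left, Category.assoc, ← Functor.map_comp, a.mul_act,
      Functor.map_comp, Functor.map_comp]
    rw [Functor.LaxMonoidal.associativity_assoc, ← Functor.LaxMonoidal.μ_natural_right_assoc,
      MonoidalCategory.whiskerLeft_comp, Category.assoc]


lemma bcAct_act : (bcAct a L).act =
    Functor.LaxMonoidal.μ (bcF L) G X ≫ (bcF L).map a.act := rfl

lemma bcΦ : lift (bcAct a L).act (snd ((bcF L).obj G) ((bcF L).obj X)) =
    Functor.LaxMonoidal.μ (bcF L) G X ≫ (bcF L).map (lift a.act (snd G X)) ≫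
      Functor.OplaxMonoidal.δ (bcF L) X X := by
  apply CartesianMonoidalCategory.hom_ext
  · rw [lift_fst, Category.assoc, Category.assoc, Functor.OplaxMonoidal.δ_fst, ← Functor.map_comp,
      lift_fst, bcAct_act]
  · rw [lift_snd, Category.assoc, Category.assoc, Functor.OplaxMonoidal.δ_snd, ← Functor.map_comp,
      lift_snd, Functor.Monoidal.μ_snd]

/-- base change of a morphism along the field extension is a base change square -/
lemma isPullback_bc_map {A B : Over (Spec (CommRingCat.of K))} (φ : A ⟶ B) :
    IsPullback ((bcF L).map φ).left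
      (pullback.fst A.hom (Spec.map (CommRingCat.ofHom (algebraMap K L))))
      (pullback.fst B.hom (Spec.map (CommRingCat.ofHom (algebraMap K L)))) φ.left := by
  have hr1 : ((bcF L).map φ).left ≫ pullback.fst B.hom _ = pullback.fst A.hom _ ≫ φ.left := by
    simp only [Over.pullback, Over.homMk_left]
    exact pullback.lift_fst _ _ _
  have hr2 : ((bcF L).map φ).left ≫ pullback.snd B.hom _ = pullback.snd A.hom _ :=
    Over.w ((bcF L).map φ)
  have right : IsPullback (pullback.snd B.hom (Spec.map (CommRingCat.ofHom (algebraMap K L))))
      (pullback.fst B.hom _) (Spec.map (CommRingCat.ofHom (algebraMap K L))) B.hom :=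
    (IsPullback.of_hasPullback B.hom _).flip
  have big : IsPullback (((bcF L).map φ).left ≫ pullback.snd B.hom _) (pullback.fst A.hom _)
      (Spec.map (CommRingCat.ofHom (algebraMap K L))) (φ.left ≫ B.hom) := by
    rw [hr2, Over.w φ]
    exact (IsPullback.of_hasPullback A.hom _).flip
  exact IsPullback.of_right big hr1 right

theorem surjective_bcΦ (hΦ : Surjective (lift a.act (snd G X)).left) :
    Surjective (lift (bcAct a L).act (snd ((bcF L).obj G) ((bcF L).obj X))).left := by
  rw [bcΦ, Over.comp_left, Over.comp_left]
  haveI : IsIso (Functor.LaxMonoidal.μ (bcF L) G X).left :=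
    inferInstanceAs (IsIso ((Over.forget _).map (Functor.LaxMonoidal.μ (bcF L) G X)))
  haveI : IsIso (Functor.OplaxMonoidal.δ (bcF L) X X).left :=
    inferInstanceAs (IsIso ((Over.forget _).map (Functor.OplaxMonoidal.δ (bcF L) X X)))
  haveI : Surjective ((bcF L).map (lift a.act (snd G X))).left :=
    MorphismProperty.of_isPullback (P := @Surjective) (isPullback_bc_map L _).flip hΦ
  infer_instance


theorem main_S5348 (k : Type u) [Field k] (G X : Over (Spec (CommRingCat.of k))) [GrpObj G]
    (a : AlgGrp.Action G X) (hΦ : Surjective (lift a.act (snd G X)).left) :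
    (∀ (K : Type u) [Field K] [Algebra k K]
      (z : ↥(pullback X.hom (Spec.map (CommRingCat.ofHom (algebraMap k K))))),
      ∃! C, C ∈ irreducibleComponents
        ↥(pullback X.hom (Spec.map (CommRingCat.ofHom (algebraMap k K)))) ∧ z ∈ C) ∧
    (∀ (x : 𝟙_ (Over (Spec (CommRingCat.of k))) ⟶ X)
      (pt : ↥(𝟙_ (Over (Spec (CommRingCat.of k)))).left) (C : Set X.left),
      C ∈ irreducibleComponents ↥X.left → x.left.base pt ∈ C →
      ∀ (K : Type u) [Field K] [Algebra k K],
        IsIrreducible ((pullback.fst X.hom
          (Spec.map (CommRingCat.ofHom (algebraMap k K)))).base ⁻¹' C)) := by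
  constructor
  · intro K' _ _ z
    have hu : UniqComp (X := ((bcF K').obj X).left) z :=
      uniqComp_homog (bcAct a K') (surjective_bcΦ a K' hΦ) z
    refine ⟨irreducibleComponent z, ⟨irreducibleComponent_mem_irreducibleComponents z,
      mem_irreducibleComponent⟩, ?_⟩
    rintro C ⟨hC, hz⟩
    exact hu C hC _ (irreducibleComponent_mem_irreducibleComponents z) hz mem_irreducibleComponent
  · intro x pt C hC hxC K' _ _
    have hCeq : C = irreducibleComponent (x.left.base pt) :=
      uniqComp_homog a hΦ _ C hC _ (irreducibleComponent_mem_irreducibleComponents _) hxC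
        mem_irreducibleComponent
    obtain ⟨G₀, inst, i, -, -, -, hr, hgi, -⟩ :=
      Groth.Agent.Lib.Helper4.GrpConn2.exists_identityComponent G
    have hrange : Set.range (i ≫ a.orbitMap x).left = C := by
      rw [Over.comp_left, Scheme.Hom.comp_base, TopCat.coe_comp, Set.range_comp, hCeq,
        ← orbitMap_image_Z0 a hΦ x pt]
      congr 1
    haveI : IrreducibleSpace
        ↥(pullback G₀.hom (Spec.map (CommRingCat.ofHom (algebraMap k K')))) :=
      hgi.geometrically_irreducibleSpace _ _ _ (IsPullback.of_hasPullback _ _)
    rw [← hrange]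
    exact isIrreducible_preimage_range (i ≫ a.orbitMap x) _

end Groth.Agent.Lib.Helper4.HomogBC1
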