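import Mathlib
import Groth.Prelude.Def_AlgGrp
import Groth.Agent.Lib.Helper4.AlgClosedPts1

/-!
# homogeneity of an action tested on points over an algebraic closure (Chevalley + Jacobson) (helper4)
-/

set_option backward.isDefEq.respectTransparency.types false
set_option synthInstance.maxHeartbeats 400000
set_option autoImplicit false
set_option linter.unusedSectionVars false
set_option linter.style.haveILetI false
set_option linter.unusedSimpArgs false
universe u v w
open CategoryTheory CategoryTheory.Limits AlgebraicGeometry TopologicalSpace Opposite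
open MonoidalCategory CartesianMonoidalCategory MonObj GrpObj Topology

namespace Groth.Agent.Lib.Helper4.HomogPts1
open Groth.Agent.Lib.Helper4.AlgClosedPts1

/-- in a quasi-compact quasi-separated Jacobson scheme, a nonempty constructible set contains a
closed point -/
theorem constructible_inter_closedPoints (Y : Scheme.{u}) [CompactSpace Y] [QuasiSeparatedSpace Y]
    [JacobsonSpace Y] (s : Set Y) (hs : IsConstructible s) :
    s.Nonempty → (s ∩ closedPoints Y).Nonempty := by
  haveI : Nonempty Y.affineOpens := ⟨⟨⊥, isAffineOpen_bot Y⟩⟩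
  have basis : IsTopologicalBasis (Set.range (fun U : Y.affineOpens => (U.1 : Set Y))) := by
    rw [← Set.image_eq_range]
    exact Y.isBasis_affineOpens
  induction s, hs using IsConstructible.induction_of_isTopologicalBasis
    (fun U : Y.affineOpens => (U.1 : Set Y)) basis (fun U => U.2.isCompact) with
  | sdiff i t ht =>
    intro hne
    refine nonempty_inter_closedPoints hne ?_
    refine ⟨i.1.1, (⋃ j ∈ t, (j.1 : Set Y))ᶜ, i.1.2, ?_, rfl⟩
    exact (isOpen_biUnion fun j _ => j.1.2).isClosed_compl
  | union s hs t ht ihs iht =>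
    rintro ⟨x, hx | hx⟩
    · obtain ⟨y, hy, hyc⟩ := ihs ⟨x, hx⟩
      exact ⟨y, Or.inl hy, hyc⟩
    · obtain ⟨y, hy, hyc⟩ := iht ⟨x, hx⟩
      exact ⟨y, Or.inr hy, hyc⟩

theorem constructible_eq_univ (Y : Scheme.{u}) [CompactSpace Y] [QuasiSeparatedSpace Y]
    [JacobsonSpace Y] (C : Set Y) (hC : IsConstructible C) (h : closedPoints Y ⊆ C) :
    C = Set.univ := by
  by_contra hne
  have hne' : (Cᶜ).Nonempty := by
    rw [Set.nonempty_compl]
    exact hne
  obtain ⟨y, hy, hyc⟩ := constructible_inter_closedPoints Y Cᶜ hC.compl hne'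
  exact hy (h hyc)

theorem main_S14645 (k : Type u) [Field k]
    (G X : Over (Spec (CommRingCat.of k))) [GrpObj G] [LocallyOfFiniteType G.hom]
    [QuasiCompact G.hom]
    [LocallyOfFiniteType X.hom] [QuasiCompact X.hom]
    (a : AlgGrp.Action G X)
    (K : Type u) [Field K] [Algebra k K] [IsAlgClosure k K] :
    Surjective (lift (snd G X) a.act).left ↔
      ∀ x y : Over.mk (Spec.map (CommRingCat.ofHom (algebraMap k K))) ⟶ X,
        ∃ g : Over.mk (Spec.map (CommRingCat.ofHom (algebraMap k K))) ⟶ G,
          lift g x ≫ a.act = y := by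
  haveI : IsAlgClosed K := IsAlgClosure.isAlgClosed k
  let P : Over (Spec (CommRingCat.of k)) :=
    Over.mk (Spec.map (CommRingCat.ofHom (algebraMap k K)))
  let Φ : G ⊗ X ⟶ X ⊗ X := lift (snd G X) a.act
  haveI : LocallyOfFiniteType (G ⊗ X).hom := by
    rw [← Over.w (snd G X)]
    haveI : LocallyOfFiniteType (snd G X).left := by
      show LocallyOfFiniteType (pullback.snd G.hom X.hom)
      infer_instance
    infer_instance
  haveI : QuasiCompact (G ⊗ X).hom := by
    rw [← Over.w (snd G X)]
    haveI : QuasiCompact (snd G X).left := by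
      show QuasiCompact (pullback.snd G.hom X.hom)
      infer_instance
    infer_instance
  haveI : LocallyOfFiniteType (X ⊗ X).hom := by
    rw [← Over.w (snd X X)]
    haveI : LocallyOfFiniteType (snd X X).left := by
      show LocallyOfFiniteType (pullback.snd X.hom X.hom)
      infer_instance
    infer_instance
  haveI : QuasiCompact (X ⊗ X).hom := by
    rw [← Over.w (snd X X)]
    haveI : QuasiCompact (snd X X).left := by
      show QuasiCompact (pullback.snd X.hom X.hom)
      infer_instance
    infer_instance
  haveI : LocallyOfFiniteType Φ.left := by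
    haveI : LocallyOfFiniteType (Φ.left ≫ (X ⊗ X).hom) := by
      rw [Over.w Φ]; infer_instance
    exact locallyOfFiniteType_of_comp Φ.left (X ⊗ X).hom
  constructor
  · intro hsurj x y
    haveI := hsurj
    let p : P ⟶ X ⊗ X := lift x y
    let F := pullback Φ.left p.left
    let f : F ⟶ Spec (CommRingCat.of K) := pullback.snd Φ.left p.left
    haveI : LocallyOfFiniteType f := inferInstance
    haveI : Surjective f := inferInstance
    obtain ⟨z, -⟩ := f.surjective (IsLocalRing.closedPoint K)
    haveI : JacobsonSpace F := LocallyOfFiniteType.jacobsonSpace f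
    obtain ⟨z', -, hz'⟩ := nonempty_inter_closedPoints (X := F) (Z := Set.univ) ⟨z, trivial⟩
      isClosed_univ.isLocallyClosed
    let t : Spec (CommRingCat.of K) ⟶ F := pointOfClosedPoint f z' hz'
    have ht : t ≫ f = 𝟙 _ := pointOfClosedPoint_comp f z' hz'
    let w : Spec (CommRingCat.of K) ⟶ (G ⊗ X).left := t ≫ pullback.fst Φ.left p.left
    have hw : w ≫ Φ.left = p.left := by
      rw [Category.assoc, pullback.condition, ← Category.assoc]
      show (t ≫ f) ≫ p.left = p.left
      rw [ht, Category.id_comp]
    let wO : P ⟶ G ⊗ X := Over.homMk w (by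
      rw [← Over.w Φ, ← Category.assoc, hw]
      exact Over.w p)
    have hwO : wO ≫ Φ = p := Over.OverMorphism.ext hw
    have h1 : wO ≫ snd G X = x := by
      have := congrArg (fun t => t ≫ fst X X) hwO
      simpa [Φ, p] using this
    have h2 : wO ≫ a.act = y := by
      have := congrArg (fun t => t ≫ snd X X) hwO
      simpa [Φ, p] using this
    refine ⟨wO ≫ fst G X, ?_⟩
    rw [← h2, ← h1]
    congr 1
    ext <;> simp
  · intro htrans
    haveI : IsLocallyNoetherian (X ⊗ X).left := LocallyOfFiniteType.isLocallyNoetherian (X ⊗ X).hom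
    haveI : QuasiSeparatedSpace (X ⊗ X).left := inferInstance
    haveI : CompactSpace (X ⊗ X).left := QuasiCompact.compactSpace_of_compactSpace (X ⊗ X).hom
    haveI : CompactSpace (G ⊗ X).left := QuasiCompact.compactSpace_of_compactSpace (G ⊗ X).hom
    haveI : JacobsonSpace (X ⊗ X).left := LocallyOfFiniteType.jacobsonSpace (X ⊗ X).hom
    haveI : QuasiCompact Φ.left := inferInstance
    haveI : LocallyOfFinitePresentation Φ.left := inferInstance
    have hC : IsConstructible (Φ.left '' Set.univ) := Φ.left.isConstructible_image .univ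
    have hcl : closedPoints (X ⊗ X).left ⊆ Φ.left '' Set.univ := by
      intro y hy
      obtain ⟨p, hp, hpy⟩ := exists_pt_of_closedPoint k K (X ⊗ X).left (X ⊗ X).hom y hy
      let pO : P ⟶ X ⊗ X := Over.homMk p hp
      obtain ⟨g, hg⟩ := htrans (pO ≫ fst X X) (pO ≫ snd X X)
      let wO : P ⟶ G ⊗ X := lift g (pO ≫ fst X X)
      have hwO : wO ≫ Φ = pO := by
        ext <;> simp [Φ, wO, hg]
      refine ⟨wO.left (IsLocalRing.closedPoint K), trivial, ?_⟩
      rw [← hpy (IsLocalRing.closedPoint K), ← Scheme.Hom.comp_apply, ← Over.comp_left, hwO]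
      rfl
    have huniv := constructible_eq_univ (X ⊗ X).left _ hC hcl
    rw [surjective_iff]
    intro y
    have : y ∈ Φ.left '' Set.univ := by rw [huniv]; trivial
    obtain ⟨x, -, hx⟩ := this
    exact ⟨x, hx⟩

end Groth.Agent.Lib.Helper4.HomogPts1
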