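import Mathlib
import Groth.Prelude.Def_Hyper
import Groth.Agent.Lib.Helper6.Hyper.YonedaSec
import Groth.Agent.Lib.Helper6.Hyper.RefinePsh
import Groth.Agent.Lib.Helper6.Hyper.Verdier
import Groth.Agent.Lib.Helper6.Hyper.H0
import Groth.Agent.Lib.Helper4.QSLocal

/-!
# Degree zero Cech cohomology of a hypercovering of a site (helper4)
-/

set_option backward.isDefEq.respectTransparency.types false
set_option synthInstance.maxHeartbeats 400000
set_option autoImplicit false
set_option linter.unusedSectionVars false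
set_option linter.style.haveILetI false
set_option linter.unusedSimpArgs false
universe u v w
open CategoryTheory CategoryTheory.Limits Opposite

namespace Groth.Agent.Lib.Helper4.HyperH0Site

open SimplexCategory Simplicial SimplicialObject Groth.Agent.Lib.Helper6.Hyper

section Pi

variable {ι : Type u} (f : ι → AddCommGrpCat.{u})

lemma pi_ext (x y : ↑(∏ᶜ f)) (h : ∀ i, (Pi.π f i) x = (Pi.π f i) y) : x = y := by
  apply (Concrete.productEquiv f).injective
  funext i
  rw [Concrete.productEquiv_apply_apply, Concrete.productEquiv_apply_apply]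
  exact h i

end Pi

section gen

variable {D : Type u} [SmallCategory D] (K : SimplicialObject (FormalCoproduct.{u} D))
  (P : Dᵒᵖ ⥤ AddCommGrpCat.{u})

/-- The family of groups in degree `n`. -/
abbrev fam (n : ℕ) (i : (K.obj (op ⦋n⦌)).I) : AddCommGrpCat.{u} :=
  P.obj (op ((K.obj (op ⦋n⦌)).obj i))

/-- The degree `n` term of the Čech complex. -/
noncomputable abbrev XX (n : ℕ) : AddCommGrpCat.{u} := ∏ᶜ (fam K P n)

/-- The projections. -/
noncomputable abbrev pp (n : ℕ) (i : (K.obj (op ⦋n⦌)).I) : XX K P n ⟶ fam K P n i :=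
  Pi.π (fam K P n) i

/-- The map induced by a morphism `K_1 → K_0`. -/
noncomputable abbrev dd (g : K.obj (op ⦋1⦌) ⟶ K.obj (op ⦋0⦌)) : XX K P 0 ⟶ XX K P 1 :=
  ((FormalCoproduct.evalOp _ _).obj P).map g.op

lemma dd_π (g : K.obj (op ⦋1⦌) ⟶ K.obj (op ⦋0⦌)) (k : (K.obj (op ⦋1⦌)).I)
    (x : XX K P 0) :
    (pp K P 1 k) (dd K P g x) =
      P.map (g.φ k).op ((pp K P 0 (g.f k)) x) := by
  have : dd K P g ≫ pp K P 1 k =
      pp K P 0 (g.f k) ≫ P.map (g.φ k).op := by
    apply Pi.lift_π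
  have h2 := ConcreteCategory.congr_hom this x
  rw [ConcreteCategory.comp_apply, ConcreteCategory.comp_apply] at h2
  exact h2

/-- The first differential with normalized types. -/
noncomputable abbrev d01 : XX K P 0 ⟶ XX K P 1 := (Hyper.cechCxSite K P).d 0 1

lemma d_eq : d01 K P =
    dd K P (K.map (SimplexCategory.const ⦋0⦌ ⦋1⦌ 1).op) -
      dd K P (K.map (SimplexCategory.const ⦋0⦌ ⦋1⦌ 0).op) := by
  have h1 : d01 K P =
      AlgebraicTopology.AlternatingCofaceMapComplex.objD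
        ((FormalCoproduct.cosimplicialObjectFunctor K).obj P) 0 :=
    CochainComplex.of_d
      (fun n => ((FormalCoproduct.cosimplicialObjectFunctor K).obj P).obj ⦋n⦌)
      (AlgebraicTopology.AlternatingCofaceMapComplex.objD
        ((FormalCoproduct.cosimplicialObjectFunctor K).obj P)) 0
  rw [h1, AlgebraicTopology.AlternatingCofaceMapComplex.objD, Fin.sum_univ_two]
  simp only [Fin.val_zero, pow_zero, one_smul, Fin.val_one, pow_one, neg_smul]
  rw [← sub_eq_add_neg]
  have e0 : ((FormalCoproduct.cosimplicialObjectFunctor K).obj P).δ 0 =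
      dd K P (K.map (SimplexCategory.const ⦋0⦌ ⦋1⦌ 1).op) := by
    rw [← SimplexCategory.δ_zero_eq_const]; rfl
  have e1 : ((FormalCoproduct.cosimplicialObjectFunctor K).obj P).δ 1 =
      dd K P (K.map (SimplexCategory.const ⦋0⦌ ⦋1⦌ 0).op) := by
    rw [← SimplexCategory.δ_one_eq_const]; rfl
  rw [e0, e1]
  rfl

lemma cocycle_iff (x : XX K P 0) :
    (d01 K P) x = 0 ↔
      ∀ k : (K.obj (op ⦋1⦌)).I,
        P.map ((K.map (SimplexCategory.const ⦋0⦌ ⦋1⦌ 0).op).φ k).op
          ((pp K P 0 ((K.map (SimplexCategory.const ⦋0⦌ ⦋1⦌ 0).op).f k)) x) =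
        P.map ((K.map (SimplexCategory.const ⦋0⦌ ⦋1⦌ 1).op).φ k).op
          ((pp K P 0 ((K.map (SimplexCategory.const ⦋0⦌ ⦋1⦌ 1).op).f k)) x) := by
  rw [d_eq]
  have : (dd K P (K.map (SimplexCategory.const ⦋0⦌ ⦋1⦌ 1).op) -
      dd K P (K.map (SimplexCategory.const ⦋0⦌ ⦋1⦌ 0).op)) x =
      dd K P (K.map (SimplexCategory.const ⦋0⦌ ⦋1⦌ 1).op) x -
      dd K P (K.map (SimplexCategory.const ⦋0⦌ ⦋1⦌ 0).op) x := rfl
  rw [this, sub_eq_zero]
  constructor
  · intro h k
    rw [← dd_π, ← dd_π, h]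
  · intro h
    apply pi_ext
    intro k
    have := h k
    rw [← dd_π, ← dd_π] at this
    exact this.symm

end gen

section site

variable {C : Type u} [SmallCategory C] (J : GrothendieckTopology C)
  (K : SimplicialObject (FormalCoproduct.{u} C))

/-- the two face maps `K_1 ⟶ K_0` -/
abbrev g0 : K.obj (op ⦋1⦌) ⟶ K.obj (op ⦋0⦌) := K.map (SimplexCategory.const ⦋0⦌ ⦋1⦌ 0).op
abbrev g1 : K.obj (op ⦋1⦌) ⟶ K.obj (op ⦋0⦌) := K.map (SimplexCategory.const ⦋0⦌ ⦋1⦌ 1).op

/-- the objects mapping to some member of `K_0` form a covering sieve -/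
def S0 (V : C) : Sieve V where
  arrows W f := ∃ i : (K.obj (op ⦋0⦌)).I, Nonempty (W ⟶ (K.obj (op ⦋0⦌)).obj i)
  downward_closed := by
    rintro W W' f ⟨i, ⟨a⟩⟩ g
    exact ⟨i, ⟨g ≫ a⟩⟩

lemma S0_mem
    (h0 : Presheaf.IsLocallySurjective J
      (terminal.from (FormalCoproduct.yoneda.obj (K.obj (op ⦋0⦌))))) (V : C) :
    S0 K V ∈ J V := by
  have hT : IsTerminal ((⊤_ (Cᵒᵖ ⥤ Type u)).obj (op V)) :=
    terminalIsTerminal.isTerminalObj ((evaluation Cᵒᵖ (Type u)).obj (op V)) _
  let s : (⊤_ (Cᵒᵖ ⥤ Type u)).obj (op V) := (hT.from PUnit.{u + 1}) PUnit.unit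
  refine J.superset_covering ?_ (h0.imageSieve_mem s)
  rintro W f ⟨z, _⟩
  obtain ⟨i, a, _⟩ := sec_surj z
  exact ⟨i, ⟨a⟩⟩

/-- the sieve of local lifts of a pair of maps to `K_0` -/
def S1 {V : C} {i j : (K.obj (op ⦋0⦌)).I} (a : V ⟶ (K.obj (op ⦋0⦌)).obj i)
    (b : V ⟶ (K.obj (op ⦋0⦌)).obj j) : Sieve V where
  arrows W t := ∃ (k : (K.obj (op ⦋1⦌)).I) (e : W ⟶ (K.obj (op ⦋1⦌)).obj k),
    FormalCoproduct.Hom.fromIncl k e ≫ g0 K = FormalCoproduct.Hom.fromIncl i (t ≫ a) ∧
    FormalCoproduct.Hom.fromIncl k e ≫ g1 K = FormalCoproduct.Hom.fromIncl j (t ≫ b)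
  downward_closed := by
    rintro W W' t ⟨k, e, h0, h1⟩ g
    refine ⟨k, g ≫ e, ?_, ?_⟩
    · have := congrArg (fun w => (FormalCoproduct.incl C).map g ≫ w) h0
      simpa [fromIncl_comp, incl_map_fromIncl] using this
    · have := congrArg (fun w => (FormalCoproduct.incl C).map g ≫ w) h1
      simpa [fromIncl_comp, incl_map_fromIncl] using this

end site

section site2

variable {C : Type u} [SmallCategory C] (J : GrothendieckTopology C)
  (K : SimplicialObject (FormalCoproduct.{u} C))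

lemma S1_mem
    (h1 : Presheaf.IsLocallySurjective J
      (prod.lift (FormalCoproduct.yoneda.map (g0 K)) (FormalCoproduct.yoneda.map (g1 K))))
    {V : C} {i j : (K.obj (op ⦋0⦌)).I} (a : V ⟶ (K.obj (op ⦋0⦌)).obj i)
    (b : V ⟶ (K.obj (op ⦋0⦌)).obj j) : S1 K a b ∈ J V := by
  let Y0 := FormalCoproduct.yoneda.obj (K.obj (op ⦋0⦌))
  let α : yoneda.obj V ⟶ Y0 := yonedaEquiv.symm (secMk i a)
  let β : yoneda.obj V ⟶ Y0 := yonedaEquiv.symm (secMk j b)
  let s : (Y0 ⨯ Y0).obj (op V) := (prod.lift α β).app (op V) (𝟙 V)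
  have hs1 : (Limits.prod.fst (X := Y0) (Y := Y0)).app (op V) s = secMk i a := by
    have n := congrArg (fun w => w.app (op V) (𝟙 V)) (prod.lift_fst α β)
    refine n.trans ?_
    change yonedaEquiv α = _
    exact Equiv.apply_symm_apply _ _
  have hs2 : (Limits.prod.snd (X := Y0) (Y := Y0)).app (op V) s = secMk j b := by
    have n := congrArg (fun w => w.app (op V) (𝟙 V)) (prod.lift_snd α β)
    refine n.trans ?_
    change yonedaEquiv β = _
    exact Equiv.apply_symm_apply _ _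
  refine J.superset_covering ?_ (h1.imageSieve_mem s)
  rintro W t ⟨z, hz⟩
  obtain ⟨k, e, rfl⟩ := sec_surj z
  refine ⟨k, e, ?_, ?_⟩
  · rw [fromIncl_comp]
    apply secMk_inj
    have n1 := congrArg (fun w => w.app (op W) (secMk k e))
      (prod.lift_fst (FormalCoproduct.yoneda.map (g0 K)) (FormalCoproduct.yoneda.map (g1 K)))
    have n2 := NatTrans.naturality_apply (Limits.prod.fst (X := Y0) (Y := Y0)) t.op s
    have n3 := congrArg ((Limits.prod.fst (X := Y0) (Y := Y0)).app (op W)) hz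
    rw [← yoneda_map_secMk]
    refine n1.symm.trans (n3.trans (n2.trans ?_))
    rw [hs1, map_secMk]
  · rw [fromIncl_comp]
    apply secMk_inj
    have n1 := congrArg (fun w => w.app (op W) (secMk k e))
      (prod.lift_snd (FormalCoproduct.yoneda.map (g0 K)) (FormalCoproduct.yoneda.map (g1 K)))
    have n2 := NatTrans.naturality_apply (Limits.prod.snd (X := Y0) (Y := Y0)) t.op s
    have n3 := congrArg ((Limits.prod.snd (X := Y0) (Y := Y0)).app (op W)) hz
    rw [← yoneda_map_secMk]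
    refine n1.symm.trans (n3.trans (n2.trans ?_))
    rw [hs2, map_secMk]

end site2

section site3

variable {C : Type u} [SmallCategory C] (J : GrothendieckTopology C)
  (K : SimplicialObject (FormalCoproduct.{u} C))
  (h1 : Presheaf.IsLocallySurjective J
      (prod.lift (FormalCoproduct.yoneda.map (g0 K)) (FormalCoproduct.yoneda.map (g1 K))))
  (P : Cᵒᵖ ⥤ Type u) (hP : Presieve.IsSeparated J P)
  (xs : ∀ i : (K.obj (op ⦋0⦌)).I, P.obj (op ((K.obj (op ⦋0⦌)).obj i)))
  (hx : ∀ k : (K.obj (op ⦋1⦌)).I,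
      P.map ((g0 K).φ k).op (xs ((g0 K).f k)) = P.map ((g1 K).φ k).op (xs ((g1 K).f k)))

include h1 hP hx in
lemma ev_indep' {W : C} (y y' : (FormalCoproduct.incl C).obj W ⟶ K.obj (op ⦋0⦌)) :
    ev P xs y = ev P xs y' := by
  obtain ⟨i, a, rfl⟩ := exists_fromIncl y
  obtain ⟨j, b, rfl⟩ := exists_fromIncl y'
  apply (hP _ (S1_mem J K h1 a b)).ext
  rintro W' t ⟨k, e, e0, e1⟩
  rw [← ev_map_comp, ← ev_map_comp, incl_map_fromIncl, incl_map_fromIncl, ← e0, ← e1,
    ev_comp, ev_comp, hx k]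

end site3

section site4

variable {C : Type u} [SmallCategory C] (J : GrothendieckTopology C)
  (K : SimplicialObject (FormalCoproduct.{u} C))
  (h0 : Presheaf.IsLocallySurjective J
      (terminal.from (FormalCoproduct.yoneda.obj (K.obj (op ⦋0⦌)))))
  (h1 : Presheaf.IsLocallySurjective J
      (prod.lift (FormalCoproduct.yoneda.map (g0 K)) (FormalCoproduct.yoneda.map (g1 K))))
  (P : Cᵒᵖ ⥤ Type u) (hP : Presieve.IsSheaf J P)
  (xs : ∀ i : (K.obj (op ⦋0⦌)).I, P.obj (op ((K.obj (op ⦋0⦌)).obj i)))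
  (hx : ∀ k : (K.obj (op ⦋1⦌)).I,
      P.map ((g0 K).φ k).op (xs ((g0 K).f k)) = P.map ((g1 K).φ k).op (xs ((g1 K).f k)))

include h0 h1 hP hx in
lemma exists_glue (V : C) :
    ∃ s : P.obj (op V), ∀ (W : C) (f : W ⟶ V)
      (y : (FormalCoproduct.incl C).obj W ⟶ K.obj (op ⦋0⦌)), P.map f.op s = ev P xs y := by
  have hsep : Presieve.IsSeparated J P := hP.isSeparated
  let fam : Presieve.FamilyOfElements P (S0 K V).arrows := fun W f hf =>
    ev P xs (FormalCoproduct.Hom.fromIncl hf.choose hf.choose_spec.some)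
  have hcomp : fam.Compatible := by
    intro Y₁ Y₂ Z g₁ g₂ f₁ f₂ hf₁ hf₂ _
    change P.map g₁.op (ev P xs _) = P.map g₂.op (ev P xs _)
    rw [← ev_map_comp, ← ev_map_comp]
    exact ev_indep' J K h1 P hsep xs hx _ _
  obtain ⟨s, hs, -⟩ := hP _ (S0_mem J K h0 V) fam hcomp
  refine ⟨s, ?_⟩
  intro W f y
  obtain ⟨i, a, rfl⟩ := exists_fromIncl y
  have hf : (S0 K V).arrows f := ⟨i, ⟨a⟩⟩
  refine (hs f hf).trans ?_
  exact ev_indep' J K h1 P hsep xs hx _ _

include h0 hP in
lemma glue_unique (V : C) (s s' : P.obj (op V))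
    (h : ∀ (W : C) (f : W ⟶ V)
      (y : (FormalCoproduct.incl C).obj W ⟶ K.obj (op ⦋0⦌)), P.map f.op s = P.map f.op s') :
    s = s' := by
  apply (hP.isSeparated _ (S0_mem J K h0 V)).ext
  rintro W f ⟨i, ⟨a⟩⟩
  exact h W f (FormalCoproduct.Hom.fromIncl i a)

end site4

section site5

variable {C : Type u} [SmallCategory C] {J : GrothendieckTopology C}
  (K : SimplicialObject (FormalCoproduct.{u} C)) (F : Sheaf J AddCommGrpCat.{u})

lemma sheaf_type' : Presieve.IsSheaf J (F.obj ⋙ forget AddCommGrpCat.{u}) :=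
  (isSheaf_iff_isSheaf_of_type _ _).1
    ((Presheaf.isSheaf_iff_isSheaf_forget J F.obj (forget AddCommGrpCat.{u})).1 F.property)

/-- The restriction map from global sections to the degree zero term. -/
noncomputable def rho : limit F.obj ⟶ XX K F.obj 0 :=
  Pi.lift (fun i => limit.π F.obj (op ((K.obj (op ⦋0⦌)).obj i)))

lemma rho_π (i : (K.obj (op ⦋0⦌)).I) (t : ↑(limit F.obj)) :
    (pp K F.obj 0 i) (rho K F t) = limit.π F.obj (op ((K.obj (op ⦋0⦌)).obj i)) t := by
  have : rho K F ≫ pp K F.obj 0 i = limit.π F.obj (op ((K.obj (op ⦋0⦌)).obj i)) := by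
    apply Pi.lift_π
  have h2 := ConcreteCategory.congr_hom this t
  rw [ConcreteCategory.comp_apply] at h2
  exact h2

lemma limit_w_apply {V W : C} (f : W ⟶ V) (t : ↑(limit F.obj)) :
    F.obj.map f.op (limit.π F.obj (op V) t) = limit.π F.obj (op W) t := by
  have h2 := ConcreteCategory.congr_hom (limit.w F.obj f.op) t
  rw [ConcreteCategory.comp_apply] at h2
  exact h2

end site5

section site6

variable {C : Type u} [SmallCategory C] {J : GrothendieckTopology C}
  (K : SimplicialObject (FormalCoproduct.{u} C)) (F : Sheaf J AddCommGrpCat.{u})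
  (h0 : Presheaf.IsLocallySurjective J
      (terminal.from (FormalCoproduct.yoneda.obj (K.obj (op ⦋0⦌)))))
  (h1 : Presheaf.IsLocallySurjective J
      (prod.lift (FormalCoproduct.yoneda.map (g0 K)) (FormalCoproduct.yoneda.map (g1 K))))

lemma rho_d01 : rho K F ≫ d01 K F.obj = 0 := by
  apply ConcreteCategory.hom_ext
  intro t
  rw [ConcreteCategory.comp_apply]
  change (d01 K F.obj) (rho K F t) = 0
  rw [cocycle_iff]
  intro k
  rw [rho_π, rho_π, limit_w_apply, limit_w_apply]

include h0 in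
lemma mono_rho : Mono (rho K F) := by
  rw [AddCommGrpCat.mono_iff_injective, injective_iff_map_eq_zero]
  intro t ht
  apply Concrete.limit_ext
  rintro ⟨V⟩
  rw [map_zero]
  refine glue_unique J K h0 (F.obj ⋙ forget AddCommGrpCat.{u}) (sheaf_type' F) V
    (limit.π F.obj (op V) t) (0 : F.obj.obj (op V)) ?_
  intro W f y
  obtain ⟨i, a, rfl⟩ := exists_fromIncl y
  change F.obj.map f.op (limit.π F.obj (op V) t) = F.obj.map f.op 0
  rw [limit_w_apply, map_zero, ← limit_w_apply F a, ← rho_π, ht, map_zero, map_zero]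

include h0 h1 in
lemma exact_rho : (ShortComplex.mk _ _ (rho_d01 K F)).Exact := by
  rw [ShortComplex.ab_exact_iff]
  intro x hx
  change (d01 K F.obj) x = 0 at hx
  rw [cocycle_iff] at hx
  let P := F.obj ⋙ forget AddCommGrpCat.{u}
  let xs : ∀ i : (K.obj (op ⦋0⦌)).I, P.obj (op ((K.obj (op ⦋0⦌)).obj i)) :=
    fun i => (pp K F.obj 0 i) x
  have hglue := exists_glue J K h0 h1 P (sheaf_type' F) xs hx
  choose sV hsV using hglue
  have hcompat : ∀ {V V' : C} (g : V' ⟶ V), P.map g.op (sV V) = sV V' := by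
    intro V V' g
    apply glue_unique J K h0 P (sheaf_type' F) V'
    intro W f y
    have e1 : P.map f.op (P.map g.op (sV V)) = P.map (f ≫ g).op (sV V) := by
      rw [op_comp, Functor.map_comp_apply]
    rw [e1, hsV V W (f ≫ g) y, hsV V' W f y]
  let sec : P.sections := ⟨fun V => sV V.unop, fun {V V'} g => hcompat g.unop⟩
  let hl := isLimitOfPreserves (forget AddCommGrpCat.{u}) (limit.isLimit F.obj)
  let t : ↑(limit F.obj) := (Types.isLimitEquivSections hl).symm sec
  have ht : ∀ V : C, limit.π F.obj (op V) t = sV V := fun V =>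
    Types.isLimitEquivSections_symm_apply hl sec (op V)
  refine ⟨t, ?_⟩
  apply pi_ext
  intro i
  change (pp K F.obj 0 i) (rho K F t) = _
  rw [rho_π, ht]
  have h3 := hsV ((K.obj (op ⦋0⦌)).obj i) ((K.obj (op ⦋0⦌)).obj i) (𝟙 _)
    (FormalCoproduct.Hom.fromIncl i (𝟙 _))
  rw [ev_fromIncl] at h3
  simpa using h3

end site6

section mainsec

variable {C : Type u} [SmallCategory C] (J : GrothendieckTopology C)
  (K : SimplicialObject (FormalCoproduct.{u} C))
  [∀ (n : ℕ) (F : (SimplexCategory.Truncated n)ᵒᵖ ⥤ Limits.FormalCoproduct.{u} C),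
      (SimplexCategory.Truncated.inclusion n).op.HasRightKanExtension F]

theorem main (hK : Hyper.IsHypercoveringSite J K) (F : Sheaf J AddCommGrpCat.{u}) :
    Nonempty ((Hyper.cechCxSite K F.obj).homology 0 ≅ limit F.obj) := by
  have h0 := hK.1
  have h1 : Presheaf.IsLocallySurjective J
      (prod.lift (FormalCoproduct.yoneda.map (g0 K)) (FormalCoproduct.yoneda.map (g1 K))) := by
    have h := hK.2.1
    have e1 : K.δ (1 : Fin 2) = g0 K := by
      unfold g0
      rw [← SimplexCategory.δ_one_eq_const]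
      rfl
    have e0 : K.δ (0 : Fin 2) = g1 K := by
      unfold g1
      rw [← SimplexCategory.δ_zero_eq_const]
      rfl
    rw [e1, e0] at h
    exact h
  haveI := mono_rho K F h0
  have hex := exact_rho K F h0 h1
  exact ⟨((Hyper.cechCxSite K F.obj).isoHomologyπ₀).symm ≪≫
    (IsLimit.conePointUniqueUpToIso ((Hyper.cechCxSite K F.obj).cyclesIsKernel 0 1 (by simp))
      hex.fIsKernel)⟩

end mainsec

end Groth.Agent.Lib.Helper4.HyperH0Site
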