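import Mathlib
import Groth.Prelude.Def_FlatMod2
import Groth.Agent.Lib.Lead.SD1
import Groth.Agent.Lib.Helper3.SepFam1

/-!
# Finitely many local sections generate all stalks of a subsheaf of O_X on a Noetherian scheme (helper4)
-/

set_option backward.isDefEq.respectTransparency.types false
set_option synthInstance.maxHeartbeats 400000
set_option autoImplicit false
set_option linter.unusedSectionVars false
set_option linter.style.haveILetI false
set_option linter.unusedSimpArgs false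
universe u v w
open CategoryTheory CategoryTheory.Limits AlgebraicGeometry TopologicalSpace Topology

namespace Groth.Agent.Lib.Helper4.IdealSubGen

open Opposite Groth.Agent.Helper1 Groth.Agent.Helper3 Groth.Agent.Lead

variable {X : Scheme.{u}}

/-- the value of `ι` on a section, as a ring-typed section -/
noncomputable def ιs {G : X.Modules} (ι : G ⟶ Coh.structureModule X) (W : X.Opens)
    (t : Γ(G, W)) : Γ(X, W) := (ι.app W).hom t

theorem ιs_add {G : X.Modules} (ι : G ⟶ Coh.structureModule X) (W : X.Opens)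
    (t t' : Γ(G, W)) : ιs ι W (t + t') = ιs ι W t + ιs ι W t' := map_add _ _ _

theorem ιs_smul {G : X.Modules} (ι : G ⟶ Coh.structureModule X) (W : X.Opens)
    (r : Γ(X, W)) (t : Γ(G, W)) : ιs ι W (r • t) = r * ιs ι W t := by
  unfold ιs
  rw [Scheme.Modules.Hom.app_smul]
  rfl

theorem ιs_res {G : X.Modules} (ι : G ⟶ Coh.structureModule X) {W W' : X.Opens} (h : W' ≤ W)
    (t : Γ(G, W)) : ιs ι W' (G.presheaf.map (homOfLE h).op t) = X.presheaf.map (homOfLE h).op (ιs ι W t) := by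
  have h1 := ι.mapPresheaf.naturality (homOfLE h).op
  have h2 := ConcreteCategory.congr_hom h1 t
  exact h2

theorem ιs_injective {G : X.Modules} (ι : G ⟶ Coh.structureModule X) [Mono ι] (W : X.Opens) :
    Function.Injective (ιs ι W) := by
  intro a b hab
  exact SepFam.app_injective_of_mono ι W hab


section Local

variable [IsLocallyNoetherian X] (G : X.Modules) (ι : G ⟶ Coh.structureModule X)

/-- the ideal of the stalk `O_η` generated by germs of images of sections of `G` -/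
noncomputable def stalkIdeal (η : X) : Ideal (X.presheaf.stalk η) :=
  Ideal.span {z | ∃ (W : X.Opens) (hW : η ∈ W) (t : Γ(G, W)), z = X.presheaf.germ W η hW (ιs ι W t)}

theorem germ_ιs_mem (η : X) (W : X.Opens) (hW : η ∈ W) (t : Γ(G, W)) :
    X.presheaf.germ W η hW (ιs ι W t) ∈ stalkIdeal G ι η :=
  Ideal.subset_span ⟨W, hW, t, rfl⟩

theorem finset_common (η : X) (F : Finset (X.presheaf.stalk η))
    (hF : (F : Set (X.presheaf.stalk η)) ⊆
      {z | ∃ (W : X.Opens) (hW : η ∈ W) (t : Γ(G, W)), z = X.presheaf.germ W η hW (ιs ι W t)}) :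
    ∃ (W : X.Opens) (hW : η ∈ W), ∀ z ∈ F, ∃ t : Γ(G, W), z = X.presheaf.germ W η hW (ιs ι W t) := by
  classical
  induction F using Finset.induction_on with
  | empty => exact ⟨⊤, trivial, fun z hz => absurd hz (Finset.notMem_empty z)⟩
  | insert a F' ha ih =>
    obtain ⟨W, hW, hWF⟩ := ih (fun z hz => hF (Finset.mem_insert_of_mem hz))
    obtain ⟨W₁, hW₁, t₁, h₁⟩ := hF (Finset.mem_insert_self a F')
    refine ⟨W ⊓ W₁, ⟨hW, hW₁⟩, fun z hz => ?_⟩
    rcases Finset.mem_insert.1 hz with rfl | hz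
    · refine ⟨G.presheaf.map (homOfLE inf_le_right).op t₁, ?_⟩
      rw [ιs_res, TopCat.Presheaf.germ_res_apply]
      exact h₁
    · obtain ⟨t, ht⟩ := hWF z hz
      refine ⟨G.presheaf.map (homOfLE inf_le_left).op t, ?_⟩
      rw [ιs_res, TopCat.Presheaf.germ_res_apply]
      exact ht

/-- Step 1: the stalk ideal is generated by the germs of finitely many sections over a common
affine open neighbourhood -/
theorem exists_affine_gens (η : X) :
    ∃ (V₀ : X.Opens) (_ : IsAffineOpen V₀) (hη : η ∈ V₀) (S₀ : Set Γ(G, V₀)), S₀.Finite ∧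
      stalkIdeal G ι η = Ideal.span ((fun t => X.presheaf.germ V₀ η hη (ιs ι V₀ t)) '' S₀) := by
  classical
  have hfg : (stalkIdeal G ι η).FG := IsNoetherian.noetherian _
  obtain ⟨F, hF, hspan⟩ := (Submodule.fg_span_iff_fg_span_finset_subset _).1 hfg
  obtain ⟨W, hW, hWF⟩ := finset_common G ι η F hF
  obtain ⟨V₀, hV₀, hηV₀, hV₀W⟩ : ∃ V₀ : X.Opens, IsAffineOpen V₀ ∧ η ∈ V₀ ∧ V₀ ≤ W := by
    obtain ⟨_, ⟨V₀, hV₀, rfl⟩, h1, h2⟩ := X.isBasis_affineOpens.exists_subset_of_mem_open hW W.2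
    exact ⟨V₀, hV₀, h1, h2⟩
  choose! f hf using hWF
  refine ⟨V₀, hV₀, hηV₀, (fun z => G.presheaf.map (homOfLE hV₀W).op (f z)) '' (F : Set _),
    (Finset.finite_toSet F).image _, ?_⟩
  have himg : (fun t => X.presheaf.germ V₀ η hηV₀ (ιs ι V₀ t)) ''
      ((fun z => G.presheaf.map (homOfLE hV₀W).op (f z)) '' (F : Set _)) = (F : Set _) := by
    rw [Set.image_image]
    ext z
    constructor
    · rintro ⟨z', hz', rfl⟩
      simp only
      rw [ιs_res, TopCat.Presheaf.germ_res_apply, ← hf z' hz']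
      exact hz'
    · intro hz
      refine ⟨z, hz, ?_⟩
      simp only
      rw [ιs_res, TopCat.Presheaf.germ_res_apply, ← hf z hz]
  rw [himg]
  exact hspan

end Local


section Alg

theorem exists_mul_mem_of_mem_map {A : Type*} [CommRing A] (𝔭 : Ideal A) [𝔭.IsPrime]
    {B : Type*} [CommRing B] [Algebra A B] [IsLocalization.AtPrime B 𝔭] (I : Ideal A) (a : A)
    (ha : algebraMap A B a ∈ I.map (algebraMap A B)) : ∃ u : A, u ∉ 𝔭 ∧ u * a ∈ I := by
  obtain ⟨⟨i, m⟩, hx⟩ := (IsLocalization.mem_map_algebraMap_iff 𝔭.primeCompl B).1 ha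
  simp only at hx
  rw [← map_mul] at hx
  obtain ⟨c, hc⟩ := (IsLocalization.eq_iff_exists 𝔭.primeCompl B).1 hx
  refine ⟨c * m, ?_, ?_⟩
  · exact (c * m).2
  · have : (c : A) * (m : A) * a = c * (i : A) := by
      rw [← hc]; ring
    rw [this]
    exact I.mul_mem_left _ i.2

theorem exists_saturation_mul {A : Type*} [CommRing A] [IsNoetherianRing A] (𝔭 : Ideal A)
    [𝔭.IsPrime] {B : Type*} [CommRing B] [Algebra A B] [IsLocalization.AtPrime B 𝔭]
    (I : Ideal A) :
    ∃ g : A, g ∉ 𝔭 ∧ ∀ a : A, algebraMap A B a ∈ I.map (algebraMap A B) → g * a ∈ I := by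
  classical
  set J : Ideal A := (I.map (algebraMap A B)).comap (algebraMap A B) with hJ
  obtain ⟨F, hF⟩ : J.FG := IsNoetherian.noetherian J
  have hFJ : ∀ b ∈ F, algebraMap A B b ∈ I.map (algebraMap A B) := by
    intro b hb
    have : b ∈ J := by rw [← hF]; exact Ideal.subset_span hb
    exact this
  have hu : ∀ b ∈ F, ∃ u : A, u ∉ 𝔭 ∧ u * b ∈ I := fun b hb =>
    exists_mul_mem_of_mem_map 𝔭 I b (hFJ b hb)
  choose! u hu1 hu2 using hu
  refine ⟨∏ b ∈ F, u b, ?_, ?_⟩
  · have : ∏ b ∈ F, u b ∈ 𝔭.primeCompl := Submonoid.prod_mem _ (fun b hb => hu1 b hb)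
    exact this
  · intro a ha
    have haJ : a ∈ Submodule.span A (F : Set A) := by
      change a ∈ Ideal.span (F : Set A)
      rw [hF]; exact ha
    refine Submodule.span_induction (p := fun a _ => (∏ b ∈ F, u b) * a ∈ I) ?_ ?_ ?_ ?_ haJ
    · intro b hb
      have hb' : b ∈ F := hb
      rw [← Finset.mul_prod_erase F u hb', mul_comm (u b), mul_assoc]
      exact I.mul_mem_left _ (hu2 b hb')
    · simp
    · intro x y _ _ hx hy
      rw [mul_add]; exact I.add_mem hx hy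
    · intro r x _ hx
      rw [smul_eq_mul, mul_left_comm]; exact I.mul_mem_left _ hx

end Alg


section Local2

variable [IsLocallyNoetherian X] (G : X.Modules) (ι : G ⟶ Coh.structureModule X)

/-- `ιs` as a linear map -/
noncomputable def ιsₗ (W : X.Opens) : Γ(G, W) →ₗ[Γ(X, W)] Γ(X, W) where
  toFun := ιs ι W
  map_add' := ιs_add ι W
  map_smul' r t := by
    simp only [RingHom.id_apply, smul_eq_mul]
    exact ιs_smul ι W r t

theorem germ_mem_span_of_mem_span {V₀ : X.Opens} (S₀ : Set Γ(G, V₀)) (x : X) (hx : x ∈ V₀)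
    (σ : Γ(G, V₀)) (hσ : σ ∈ Submodule.span Γ(X, V₀) S₀) :
    G.presheaf.germ V₀ x hx σ ∈
      Submodule.span (X.presheaf.stalk x) ((fun t => G.presheaf.germ V₀ x hx t) '' S₀) := by
  refine Submodule.span_induction
    (p := fun σ _ => G.presheaf.germ V₀ x hx σ ∈
      Submodule.span (X.presheaf.stalk x) ((fun t => G.presheaf.germ V₀ x hx t) '' S₀))
    ?_ ?_ ?_ ?_ hσ
  · intro t ht
    exact Submodule.subset_span ⟨t, ht, rfl⟩
  · rw [map_zero]; exact Submodule.zero_mem _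
  · intro a b _ _ ha hb
    rw [map_add]; exact Submodule.add_mem _ ha hb
  · intro r a _ ha
    rw [SD.germ_smul]
    exact Submodule.smul_mem _ _ ha

end Local2


section Local3

variable [IsLocallyNoetherian X] (G : X.Modules)

theorem local_gen (ι : G ⟶ Coh.structureModule X) [Mono ι] (η : X) :
    ∃ (V₀ : X.Opens) (S₀ : Set Γ(G, V₀)) (V : X.Opens), S₀.Finite ∧ V ≤ V₀ ∧ η ∈ V ∧
      ∀ (x : X) (hx : x ∈ V₀), x ∈ V → η ⤳ x →
        Submodule.span (X.presheaf.stalk x) ((fun t => G.presheaf.germ V₀ x hx t) '' S₀) = ⊤ := by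
  obtain ⟨V₀, hV₀, hη, S₀, hfin, hspan⟩ := exists_affine_gens G ι η
  haveI : IsNoetherianRing Γ(X, V₀) := IsLocallyNoetherian.component_noetherian ⟨V₀, hV₀⟩
  letI : Algebra Γ(X, V₀) (X.presheaf.stalk η) :=
    TopCat.Presheaf.algebra_section_stalk X.presheaf ⟨η, hη⟩
  haveI : IsLocalization.AtPrime (X.presheaf.stalk η) (hV₀.primeIdealOf ⟨η, hη⟩).asIdeal :=
    hV₀.isLocalization_stalk ⟨η, hη⟩
  set I : Ideal Γ(X, V₀) := Ideal.span (ιs ι V₀ '' S₀) with hI
  obtain ⟨g, hg, hsat⟩ := exists_saturation_mul (hV₀.primeIdealOf ⟨η, hη⟩).asIdeal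
    (B := X.presheaf.stalk η) I
  have hmap : stalkIdeal G ι η = I.map (algebraMap Γ(X, V₀) (X.presheaf.stalk η)) := by
    rw [hspan, hI, Ideal.map_span, Set.image_image]
    rfl
  have hIN : I = (Submodule.span Γ(X, V₀) S₀).map (ιsₗ G ι V₀) := by
    rw [Submodule.map_span]
    rfl
  refine ⟨V₀, S₀, X.basicOpen g, hfin, X.basicOpen_le g, ?_, ?_⟩
  · exact (SD.mem_basicOpen_iff hV₀ ⟨η, hη⟩ g).2 hg
  intro x hx hxg hηx
  rw [eq_top_iff]
  intro y _
  obtain ⟨W, hxW, t, rfl⟩ := TopCat.Presheaf.exists_germ_eq G.presheaf y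
  obtain ⟨h, hhW, hxh⟩ := hV₀.exists_basicOpen_le (V := W ⊓ X.basicOpen g) ⟨x, ⟨hxW, hxg⟩⟩ hx
  have hηh : η ∈ X.basicOpen h := hηx.mem_open (X.basicOpen h).2 hxh
  have hhV₀ : X.basicOpen h ≤ V₀ := X.basicOpen_le h
  obtain ⟨t', ht'⟩ : ∃ t' : Γ(G, X.basicOpen h),
      t' = G.presheaf.map (homOfLE (hhW.trans inf_le_left)).op t := ⟨_, rfl⟩
  obtain ⟨z, hz⟩ : ∃ z : Γ(X, X.basicOpen h), z = ιs ι _ t' := ⟨_, rfl⟩
  haveI := hV₀.isLocalization_basicOpen h
  obtain ⟨⟨a, ⟨_, n, rfl⟩⟩, ha⟩ := IsLocalization.surj (Submonoid.powers h) z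
  simp only at ha
  have hres : ∀ b : Γ(X, V₀), algebraMap Γ(X, V₀) Γ(X, X.basicOpen h) b =
      X.presheaf.map (homOfLE hhV₀).op b := fun b => rfl
  rw [hres, hres] at ha
  -- `a` lies in the saturation
  have haJ : algebraMap Γ(X, V₀) (X.presheaf.stalk η) a ∈
      I.map (algebraMap Γ(X, V₀) (X.presheaf.stalk η)) := by
    rw [← hmap]
    have e1 : algebraMap Γ(X, V₀) (X.presheaf.stalk η) a =
        X.presheaf.germ (X.basicOpen h) η hηh (X.presheaf.map (homOfLE hhV₀).op a) := by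
      rw [TopCat.Presheaf.germ_res_apply]; rfl
    rw [e1, ← ha, map_mul]
    exact Ideal.mul_mem_right _ _ (hz ▸ germ_ιs_mem G ι η _ hηh t')
  have hga : g * a ∈ I := hsat a haJ
  rw [hIN] at hga
  obtain ⟨σ, hσ, hσa⟩ := hga
  -- compare on `D(h)`
  have hcmp : G.presheaf.map (homOfLE hhV₀).op σ =
      (X.presheaf.map (homOfLE hhV₀).op (g * h ^ n)) • t' := by
    apply ιs_injective ι
    rw [ιs_res, ιs_smul, ← hz]
    have : ιs ι V₀ σ = g * a := hσa
    rw [this, map_mul, map_mul, ← ha, mul_assoc, mul_comm z]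
  have hgerm := congrArg (fun s => G.presheaf.germ (X.basicOpen h) x hxh s) hcmp
  simp only at hgerm
  rw [TopCat.Presheaf.germ_res_apply, SD.germ_smul, TopCat.Presheaf.germ_res_apply, ht',
    TopCat.Presheaf.germ_res_apply] at hgerm
  have hunit : IsUnit (X.presheaf.germ V₀ x hx (g * h ^ n)) := by
    rw [map_mul, map_pow]
    exact ((Scheme.mem_basicOpen X g x hx).1 hxg).mul (((Scheme.mem_basicOpen X h x hx).1 hxh).pow n)
  obtain ⟨u, hu⟩ := hunit
  have hy : G.presheaf.germ W x hxW t = (↑u⁻¹ : X.presheaf.stalk x) • G.presheaf.germ V₀ x hx σ := by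
    rw [hgerm, ← hu, smul_smul, Units.inv_mul, one_smul]
  rw [hy]
  exact Submodule.smul_mem _ _ (germ_mem_span_of_mem_span G S₀ x hx σ hσ)

end Local3


section Global

variable (G : X.Modules)

/-- germs at `x` of a list of local sections -/
def germSet (l : List (Σ U : X.Opens, Γ(G, U))) (x : X) : Set (G.presheaf.stalk x) :=
  {y | ∃ p ∈ l, ∃ hx : x ∈ p.1, y = G.presheaf.germ p.1 x hx p.2}

theorem germSet_mono {l l' : List (Σ U : X.Opens, Γ(G, U))} (h : ∀ p ∈ l, p ∈ l') (x : X) :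
    germSet G l x ⊆ germSet G l' x := by
  rintro y ⟨p, hp, hx, rfl⟩
  exact ⟨p, h p hp, hx, rfl⟩

/-- the stalks at points of `Z` are generated by finitely many local sections -/
def P (Z : Set X) : Prop :=
  ∃ l : List (Σ U : X.Opens, Γ(G, U)), ∀ x ∈ Z,
    Submodule.span (X.presheaf.stalk x) (germSet G l x) = ⊤

theorem P_mono {Z Z' : Set X} (h : Z ⊆ Z') (hP : P G Z') : P G Z := by
  obtain ⟨l, hl⟩ := hP
  exact ⟨l, fun x hx => hl x (h hx)⟩

theorem P_union {Z₁ Z₂ : Set X} (h₁ : P G Z₁) (h₂ : P G Z₂) : P G (Z₁ ∪ Z₂) := by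
  obtain ⟨l₁, hl₁⟩ := h₁
  obtain ⟨l₂, hl₂⟩ := h₂
  refine ⟨l₁ ++ l₂, fun x hx => ?_⟩
  rw [eq_top_iff]
  rcases hx with hx | hx
  · rw [← hl₁ x hx]
    exact Submodule.span_mono (germSet_mono G (fun p hp => List.mem_append_left _ hp) x)
  · rw [← hl₂ x hx]
    exact Submodule.span_mono (germSet_mono G (fun p hp => List.mem_append_right _ hp) x)

theorem P_all [IsNoetherian X] (ι : G ⟶ Coh.structureModule X) [Mono ι] (Z : Closeds X) :
    P G (Z : Set X) := by
  classical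
  refine (wellFounded_lt (α := Closeds X)).induction (C := fun Z : Closeds X => P G (Z : Set X)) Z ?_
  intro Z ih
  by_cases hirr : IsPreirreducible (Z : Set X)
  · by_cases hne : (Z : Set X).Nonempty
    · obtain ⟨η, hη⟩ := QuasiSober.sober (⟨hne, hirr⟩ : IsIrreducible (Z : Set X)) Z.2
      obtain ⟨V₀, S₀, V, hfin, hVV₀, hηV, hgen⟩ := local_gen G ι η
      have hηZ : η ∈ (Z : Set X) := hη.mem
      let Z' : Closeds X := ⟨(Z : Set X) ∩ (V : Set X)ᶜ, Z.2.inter V.2.isClosed_compl⟩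
      have hlt : Z' < Z := by
        refine lt_of_le_of_ne (fun x hx => hx.1) (fun heq => ?_)
        have : η ∈ (Z' : Set X) := by rw [heq]; exact hηZ
        exact this.2 hηV
      obtain ⟨l', hl'⟩ := ih Z' hlt
      refine ⟨l' ++ hfin.toFinset.toList.map (fun t => ⟨V₀, t⟩), fun x hx => ?_⟩
      rw [eq_top_iff]
      by_cases hxV : x ∈ V
      · rw [← hgen x (hVV₀ hxV) hxV (hη.specializes hx)]
        refine Submodule.span_mono ?_
        rintro _ ⟨t, ht, rfl⟩
        refine ⟨⟨V₀, t⟩, List.mem_append_right _ ?_, hVV₀ hxV, rfl⟩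
        rw [List.mem_map]
        exact ⟨t, by simpa using ht, rfl⟩
      · rw [← hl' x ⟨hx, hxV⟩]
        exact Submodule.span_mono (germSet_mono G (fun p hp => List.mem_append_left _ hp) x)
    · refine ⟨[], fun x hx => absurd ⟨x, hx⟩ hne⟩
  · rw [isPreirreducible_iff_isClosed_union_isClosed] at hirr
    push Not at hirr
    obtain ⟨z₁, z₂, hz₁, hz₂, hsub, hn₁, hn₂⟩ := hirr
    let Z₁ : Closeds X := ⟨(Z : Set X) ∩ z₁, Z.2.inter hz₁⟩
    let Z₂ : Closeds X := ⟨(Z : Set X) ∩ z₂, Z.2.inter hz₂⟩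
    have hlt₁ : Z₁ < Z := by
      refine lt_of_le_of_ne (fun x hx => hx.1) (fun heq => hn₁ ?_)
      intro x hx
      have : x ∈ (Z₁ : Set X) := by rw [heq]; exact hx
      exact this.2
    have hlt₂ : Z₂ < Z := by
      refine lt_of_le_of_ne (fun x hx => hx.1) (fun heq => hn₂ ?_)
      intro x hx
      have : x ∈ (Z₂ : Set X) := by rw [heq]; exact hx
      exact this.2
    refine P_mono G ?_ (P_union G (ih Z₁ hlt₁) (ih Z₂ hlt₂))
    intro x hx
    rcases hsub hx with h | h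
    · exact Or.inl ⟨hx, h⟩
    · exact Or.inr ⟨hx, h⟩

theorem main [IsNoetherian X] (ι : G ⟶ Coh.structureModule X) [Mono ι] :
    ∃ (m : ℕ) (U : Fin m → X.Opens) (k : Fin m → ℕ)
      (s : (i : Fin m) → Fin (k i) → (G.presheaf.obj (Opposite.op (U i)) : Type u)),
      ∀ x : X, Submodule.span (X.presheaf.stalk x)
          (Set.range (fun p : (Σ i : {i : Fin m // x ∈ U i}, Fin (k i.1)) =>
            (G.presheaf.germ (U p.1.1) x p.1.2) (s p.1.1 p.2))) = ⊤ := by
  obtain ⟨l, hl⟩ := P_all G ι ⊤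
  refine ⟨l.length, fun i => (l.get i).1, fun _ => 1, fun i _ => (l.get i).2, fun x => ?_⟩
  rw [eq_top_iff, ← hl x trivial]
  refine Submodule.span_mono ?_
  rintro y ⟨p, hp, hx, rfl⟩
  obtain ⟨i, rfl⟩ := List.mem_iff_get.1 hp
  exact ⟨⟨⟨i, hx⟩, 0⟩, rfl⟩

end Global

end Groth.Agent.Lib.Helper4.IdealSubGen
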