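import Mathlib
import Groth.Prelude.Def_AlgGrp
import Groth.Prelude.Def_ProCons
import Groth.Agent.S3401
import Groth.Agent.Lib.Helper7.ProConsLib3

/-!
# closed points of products of ind-constructible subsets of a group scheme (helper4) (helper4)
-/

set_option backward.isDefEq.respectTransparency.types false
set_option synthInstance.maxHeartbeats 400000
set_option autoImplicit false
set_option linter.unusedSectionVars false
set_option linter.style.haveILetI false
set_option linter.unusedSimpArgs false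
universe u v w
open CategoryTheory CategoryTheory.Limits AlgebraicGeometry TopologicalSpace Opposite
open MonoidalCategory CartesianMonoidalCategory MonObj GrpObj

namespace Groth.Agent.Lib.Helper4.IndConsPts1

/-- in a locally noetherian scheme, an ind-constructible set contains, around each of its points
`x`, the trace on `cl{x}` of an open neighbourhood of `x` -/
theorem exists_open_of_isIndConstructible {P : Scheme.{u}} [IsLocallyNoetherian P] {E : Set P}
    (hE : ProCons.IsIndConstructible E) (x : P) (hx : x ∈ E) :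
    ∃ O : Set P, IsOpen O ∧ x ∈ O ∧ O ∩ closure {x} ⊆ E := by
  have h := (Groth.Agent.S3401.result P E).mp hE x hx
  rw [mem_nhds_subtype] at h
  obtain ⟨u, hu, hsub⟩ := h
  obtain ⟨O, hOu, hO, hxO⟩ := mem_nhds_iff.mp hu
  refine ⟨O, hO, hxO, ?_⟩
  rintro y ⟨hyO, hyc⟩
  exact hsub (a := ⟨y, hyc⟩) (hOu hyO)

theorem main (k : Type u) [Field k] [IsAlgClosed k] (G : Over (Spec (CommRingCat.of k)))
    [GrpObj G]
    [LocallyOfFiniteType G.hom] (A B : Set G.left) (hA : ProCons.IsIndConstructible A)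
    (hB : ProCons.IsIndConstructible B)
    (z : G.left) (hz : IsClosed ({z} : Set G.left))
    (hzAB : z ∈ μ[G].left.base '' {w : ↥(G ⊗ G).left | (fst G G).left.base w ∈ A ∧
      (snd G G).left.base w ∈ B}) :
    ∃ w : ↥(G ⊗ G).left, IsClosed ({w} : Set ↥(G ⊗ G).left) ∧ (fst G G).left.base w ∈ A ∧
      (snd G G).left.base w ∈ B ∧
      μ[G].left.base w = z := by
  haveI : LocallyOfFiniteType (G ⊗ G).hom := by
    rw [← Over.w (snd G G)]
    haveI : LocallyOfFiniteType (snd G G).left := by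
      show LocallyOfFiniteType (pullback.snd G.hom G.hom)
      infer_instance
    infer_instance
  haveI : IsLocallyNoetherian (G ⊗ G).left := LocallyOfFiniteType.isLocallyNoetherian (G ⊗ G).hom
  haveI : JacobsonSpace (G ⊗ G).left := LocallyOfFiniteType.jacobsonSpace (Y := Spec _) (G ⊗ G).hom
  obtain ⟨w₀, ⟨hw₀A, hw₀B⟩, hw₀z⟩ := hzAB
  have hE₁ : ProCons.IsIndConstructible ((fst G G).left ⁻¹' A) :=
    Groth.Agent.Helper7.ProConsLib.isIndConstructible_preimage (fst G G).left hA
  have hE₂ : ProCons.IsIndConstructible ((snd G G).left ⁻¹' B) :=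
    Groth.Agent.Helper7.ProConsLib.isIndConstructible_preimage (snd G G).left hB
  obtain ⟨O₁, hO₁, hw₁, hsub₁⟩ := exists_open_of_isIndConstructible hE₁ w₀ hw₀A
  obtain ⟨O₂, hO₂, hw₂, hsub₂⟩ := exists_open_of_isIndConstructible hE₂ w₀ hw₀B
  have hC : IsClosed (μ[G].left ⁻¹' {z}) := hz.preimage μ[G].left.continuous
  have hclC : closure ({w₀} : Set (G ⊗ G).left) ⊆ μ[G].left ⁻¹' {z} :=
    hC.closure_subset_iff.mpr (Set.singleton_subset_iff.mpr hw₀z)
  let Z : Set (G ⊗ G).left := (O₁ ∩ O₂) ∩ closure {w₀}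
  have hZ : IsLocallyClosed Z := (hO₁.inter hO₂).isLocallyClosed.inter isClosed_closure.isLocallyClosed
  have hne : Z.Nonempty := ⟨w₀, ⟨hw₁, hw₂⟩, subset_closure rfl⟩
  obtain ⟨w, ⟨⟨hwO₁, hwO₂⟩, hwc⟩, hwcl⟩ := nonempty_inter_closedPoints hne hZ
  exact ⟨w, hwcl, hsub₁ ⟨hwO₁, hwc⟩, hsub₂ ⟨hwO₂, hwc⟩, hclC hwc⟩

end Groth.Agent.Lib.Helper4.IndConsPts1
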