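import Mathlib
import Groth.Prelude.Def_AlgGrp
import Groth.Agent.Lib.Helper4.InfGrp1
import Groth.Agent.Lib.Helper4.SepSub1
import Groth.Agent.Lib.Helper4.AbCentral1

/-!
# multiplication by d on an abelian variety is etale iff d is nonzero in the field (S0382): formal smoothness lifting criterion, unramifiedness and formal smoothness of [d] via infinitesimal points (helper4)
-/

set_option backward.isDefEq.respectTransparency.types false
set_option synthInstance.maxHeartbeats 400000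
set_option autoImplicit false
set_option linter.unusedSectionVars false
set_option linter.style.haveILetI false
set_option linter.unusedSimpArgs false
universe u v w
open CategoryTheory CategoryTheory.Limits AlgebraicGeometry TopologicalSpace Opposite
open MonoidalCategory CartesianMonoidalCategory MonObj GrpObj
open Groth.Agent.Lib.Helper4.InfGrp1

namespace Groth.Agent.Lib.Helper4.InfGrp2

section Lift
variable {X Y : Scheme.{u}} (f : X ⟶ Y)

/-- ring map of a morphism from an affine scheme landing in an open -/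
noncomputable def beta0 {R : CommRingCat.{u}} {V : X.Opens} (x : Spec R ⟶ X)
    (hx : x ⁻¹ᵁ V = ⊤) : Γ(X, V) ⟶ R :=
  x.appLE V ⊤ (by rw [hx]) ≫ (Scheme.ΓSpecIso R).hom

lemma specMap_beta0 {R : CommRingCat.{u}} {V : X.Opens} (hV : IsAffineOpen V) (x : Spec R ⟶ X)
    (hx : x ⁻¹ᵁ V = ⊤) : Spec.map (beta0 x hx) ≫ hV.fromSpec = x := by
  unfold beta0
  rw [Spec.map_comp, Category.assoc,
    IsAffineOpen.SpecMap_appLE_fromSpec x hV (isAffineOpen_top (Spec R)),
    IsAffineOpen.fromSpec_top, Scheme.isoSpec_Spec_inv, ← Category.assoc, ← Spec.map_comp,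
    Iso.inv_hom_id, Spec.map_id, Category.id_comp]

theorem formallySmooth_appLE_of_lift {U : Y.Opens} (hU : IsAffineOpen U) {V : X.Opens}
    (hV : IsAffineOpen V) (e : V ≤ f ⁻¹ᵁ U)
    (H : ∀ (R : CommRingCat.{u}) (I : Ideal R) (_ : I ^ 2 = ⊥)
      (g₀ : Γ(X, V) ⟶ CommRingCat.of (R ⧸ I)) (y : Spec R ⟶ Y),
      (Spec.map g₀ ≫ hV.fromSpec) ≫ f = Spec.map (CommRingCat.ofHom (Ideal.Quotient.mk I)) ≫ y →
      ∃ x : Spec R ⟶ X, Spec.map (CommRingCat.ofHom (Ideal.Quotient.mk I)) ≫ x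
        = Spec.map g₀ ≫ hV.fromSpec ∧ x ≫ f = y) :
    (f.appLE U V e).hom.FormallySmooth := by
  let := (f.appLE U V e).hom.toAlgebra
  refine Algebra.FormallySmooth.iff_comp_surjective.mpr fun R _ _ I hI g₀ ↦ ?_
  let y : Spec (.of R) ⟶ Y := Spec.map (CommRingCat.ofHom (algebraMap Γ(Y, U) R)) ≫ hU.fromSpec
  have hcomp : f.appLE U V e ≫ CommRingCat.ofHom g₀.toRingHom
      = CommRingCat.ofHom (algebraMap _ R) ≫ CommRingCat.ofHom (Ideal.Quotient.mk I) := by
    ext r
    exact g₀.commutes r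
  obtain ⟨x, hx1, hx2⟩ := H (.of R) I hI (CommRingCat.ofHom g₀.toRingHom) y (by
    rw [Category.assoc, ← hU.SpecMap_appLE_fromSpec f hV e, ← Category.assoc, ← Spec.map_comp,
      hcomp, Spec.map_comp, Category.assoc])
  have hsurj := surjective_specMap (CommRingCat.ofHom (Ideal.Quotient.mk I))
    Ideal.Quotient.mk_surjective (by
      change RingHom.ker (Ideal.Quotient.mk I) ^ 2 = ⊥
      rw [Ideal.mk_ker]; exact hI)
  have hxV : x ⁻¹ᵁ V = ⊤ := by
    rw [eq_top_iff]
    intro p _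
    obtain ⟨q, rfl⟩ := hsurj p
    change (Spec.map (CommRingCat.ofHom (Ideal.Quotient.mk I)) ≫ x).base q ∈ V
    rw [hx1]
    have : (Spec.map (CommRingCat.ofHom g₀.toRingHom) ≫ hV.fromSpec).base q ∈ Set.range hV.fromSpec.base :=
      ⟨_, rfl⟩
    rw [hV.range_fromSpec] at this
    exact this
  let g := beta0 x hxV
  have hg := specMap_beta0 hV x hxV
  have h1 : f.appLE U V e ≫ g = CommRingCat.ofHom (algebraMap _ R) := by
    apply Spec.map_injective
    rw [← cancel_mono hU.fromSpec, Spec.map_comp, Category.assoc,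
      hU.SpecMap_appLE_fromSpec f hV e, ← Category.assoc, hg, hx2]
  have h2 : g ≫ CommRingCat.ofHom (Ideal.Quotient.mk I) = CommRingCat.ofHom g₀.toRingHom := by
    apply Spec.map_injective
    rw [← cancel_mono hV.fromSpec, Spec.map_comp, Category.assoc, hg, hx1]
  refine ⟨⟨g.hom, fun r => ?_⟩, ?_⟩
  · exact congrArg (fun h => h.hom r) h1
  · ext c
    exact congrArg (fun h => h.hom c) h2

end Lift

section Unram
variable {K₀ R R₀ : CommRingCat.{u}} (φ : R ⟶ R₀) (hφ : Function.Surjective φ.hom)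
  (hI : RingHom.ker φ.hom ^ 2 = ⊥) (t : Spec R ⟶ Spec K₀)
variable {X Y : Over (Spec K₀)} (f : X ⟶ Y) [FormallyUnramified f.left]
  {W : X.left.Opens} (hW : IsAffineOpen W) {W' : Y.left.Opens} (hW' : IsAffineOpen W')
  (hle : W ≤ f.left ⁻¹ᵁ W')

include hφ hI hW hW' hle in
theorem eq_of_unramified (o k : Over.mk t ⟶ X) (ho : o.left ⁻¹ᵁ W = ⊤)
    (h : thick φ t ≫ k = thick φ t ≫ o) (hf : k ≫ f = o ≫ f) : k = o := by
  have hk := near_preimage φ hφ hI t o k ho h
  apply beta_inj t hW k o hk ho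
  have hu := f.left.formallyUnramified_appLE hW' hW hle
  let a1 := (f.left.appLE W' W hle).hom.toAlgebra
  let a2 := ((f.left.appLE W' W hle) ≫ beta t o ho).hom.toAlgebra
  have : Algebra.FormallyUnramified Γ(Y.left, W') Γ(X.left, W) := hu
  have e1 : f.left.appLE W' W hle ≫ beta t k hk = f.left.appLE W' W hle ≫ beta t o ho := by
    rw [← beta_comp t f W' hle k hk (comp_preimage_top t f hle k hk),
      ← beta_comp t f W' hle o ho (comp_preimage_top t f hle o ho)]
    exact beta_congr t hf _ _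
  let ψ₁ : Γ(X.left, W) →ₐ[Γ(Y.left, W')] R :=
    ⟨(beta t k hk).hom, fun r => congrArg (fun g => g.hom r) e1⟩
  let ψ₂ : Γ(X.left, W) →ₐ[Γ(Y.left, W')] R := ⟨(beta t o ho).hom, fun r => rfl⟩
  have key := Algebra.FormallyUnramified.ext' φ.hom ⟨2, hI.trans Ideal.zero_eq_bot.symm⟩ ψ₁ ψ₂
    (fun c => by
      have := congrArg (fun g => g.hom c) (beta_comp_eq_of_near φ t hW o k ho hk h)
      simp only [CommRingCat.hom_comp, RingHom.coe_comp, Function.comp_apply] at this
      exact this)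
  ext c
  exact congrArg (fun g => g c) key

end Unram

section Facts
variable (K : Type u) [Field K] (A : Over (Spec (CommRingCat.of K))) [GrpObj A]
  [IsProper A.hom] [GeometricallyIntegral A.hom]

instance subsingleton_specK : Subsingleton ↥(Spec (CommRingCat.of K)) :=
  inferInstanceAs (Subsingleton (PrimeSpectrum K))

lemma smoothA : Smooth A.hom := by
  haveI : GrpObj (Over.mk A.hom) := inferInstanceAs (GrpObj A)
  exact Groth.Agent.Lib.Helper4.SepSub1.smooth_of_grpObj_of_geometricallyReduced A.hom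

lemma integralA : IsIntegral A.left :=
  GeometricallyIntegral.isIntegral_of_subsingleton A.hom

lemma commA {T : Over (Spec (CommRingCat.of K))} (x g : T ⟶ A) : x * g = g * x := by
  haveI := smoothA K A
  haveI := integralA K A
  haveI : ConnectedSpace A.left := inferInstance
  have := Groth.Agent.Lib.Helper4.AbCentral1.comm_of_proper A A (𝟙 A) x g
  simpa using this

end Facts

section Etale
variable (K : Type u) [Field K] (A : Over (Spec (CommRingCat.of K))) [GrpObj A]
  [IsProper A.hom] [GeometricallyIntegral A.hom] (d : ℤ)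

/-- the point of `Spec K` -/
noncomputable def pt : ↥(Spec (CommRingCat.of K)) := IsLocalRing.closedPoint K

lemma eq_pt {Z : Scheme.{u}} (t : Z ⟶ Spec (CommRingCat.of K)) (x : Z) : t.base x = pt K :=
  Subsingleton.elim _ _

lemma exists_affine_nhd_unit :
    ∃ W : A.left.Opens, IsAffineOpen W ∧ η[A].left.base (pt K) ∈ W := by
  obtain ⟨_, ⟨W, hW, rfl⟩, hxW, -⟩ :=
    A.left.isBasis_affineOpens.exists_subset_of_mem_open
      (Set.mem_univ (η[A].left.base (pt K))) isOpen_univ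
  exact ⟨W, hW, hxW⟩

lemma comp_pow_id {T : Over (Spec (CommRingCat.of K))} (k : T ⟶ A) :
    k ≫ (𝟙 A ^ d) = k ^ d := by rw [GrpObj.comp_zpow, Category.comp_id]

lemma isUnit_cast {R : CommRingCat.{u}} (t : Spec R ⟶ Spec (CommRingCat.of K))
    (hd : (d : K) ≠ 0) : IsUnit ((d : ℤ) : R) := by
  have h := (Spec.preimage t).hom.isUnit_map (IsUnit.mk0 _ hd)
  rwa [map_intCast] at h

include K in
theorem unramified (hd : (d : K) ≠ 0) : FormallyUnramified ((𝟙 A ^ d : A ⟶ A).left) := by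
  obtain ⟨W, hW, he⟩ := exists_affine_nhd_unit K A
  apply FormallyUnramified.of_hom_ext
  intro R S φ hφ hI g₁ g₂ h1 h2
  let t : Spec R ⟶ Spec (.of K) := g₁ ≫ A.hom
  have hw : (𝟙 A ^ d : A ⟶ A).left ≫ A.hom = A.hom := Over.w _
  have ht2 : g₂ ≫ A.hom = t := by
    rw [← hw, ← Category.assoc, ← h2, Category.assoc, hw]
  let k₁ : Over.mk t ⟶ A := Over.homMk g₁ rfl
  let k₂ : Over.mk t ⟶ A := Over.homMk g₂ ht2
  have e12 : thick φ t ≫ k₁ = thick φ t ≫ k₂ := by ext1; exact h1
  have ed : k₁ ^ d = k₂ ^ d := by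
    rw [← comp_pow_id K A d k₁, ← comp_pow_id K A d k₂]
    ext1; exact h2
  have hk : thick φ t ≫ (k₁ * k₂⁻¹) = 1 := by
    rw [MonObj.comp_mul, GrpObj.comp_inv, e12, mul_inv_cancel]
  have hkd : (k₁ * k₂⁻¹) ^ d = 1 := by
    rw [(show Commute k₁ k₂⁻¹ from commA K A k₁ k₂⁻¹).mul_zpow, inv_zpow, ed, mul_inv_cancel]
  have key := eq_one_of_zpow_eq_one φ hφ hI t (pt K) (eq_pt K t) hW he (k₁ * k₂⁻¹) hk d
    (isUnit_cast K d t hd) hkd
  have e : k₁ = k₂ := by rwa [mul_inv_eq_one] at key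
  exact congrArg CommaMorphism.left e

end Etale

section Etale2
variable (K : Type u) [Field K] (A : Over (Spec (CommRingCat.of K))) [GrpObj A]
  [IsProper A.hom] [GeometricallyIntegral A.hom] (d : ℤ)

lemma formallySmooth_sig {V : A.left.Opens} (hV : IsAffineOpen V) :
    (sig (X := A) hV).hom.FormallySmooth := by
  haveI := smoothA K A
  have h : Smooth (Spec.map (sig (X := A) hV)) := by rw [specMap_sig]; infer_instance
  exact ((HasRingHomProperty.Spec_iff (P := @Smooth)).mp h).formallySmooth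

include K in
theorem formallySmooth_appLE (hd : (d : K) ≠ 0) {U V : A.left.Opens} (hU : IsAffineOpen U)
    (hV : IsAffineOpen V) (e : V ≤ (𝟙 A ^ d : A ⟶ A).left ⁻¹ᵁ U) :
    ((𝟙 A ^ d : A ⟶ A).left.appLE U V e).hom.FormallySmooth := by
  obtain ⟨W, hW, he⟩ := exists_affine_nhd_unit K A
  apply formallySmooth_appLE_of_lift _ hU hV e
  intro R I hI g₀ y hcomp
  set φ : R ⟶ .of (R ⧸ I) := CommRingCat.ofHom (Ideal.Quotient.mk I) with hφdef
  have hφ : Function.Surjective φ.hom := Ideal.Quotient.mk_surjective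
  have hI' : RingHom.ker φ.hom ^ 2 = ⊥ := by
    change RingHom.ker (Ideal.Quotient.mk I) ^ 2 = ⊥
    rw [Ideal.mk_ker]; exact hI
  let t : Spec R ⟶ Spec (.of K) := y ≫ A.hom
  have hw : (𝟙 A ^ d : A ⟶ A).left ≫ A.hom = A.hom := Over.w _
  let yT : Over.mk t ⟶ A := Over.homMk y rfl
  have hx₀ : (Spec.map g₀ ≫ hV.fromSpec) ≫ A.hom = Spec.map φ ≫ t := by
    calc (Spec.map g₀ ≫ hV.fromSpec) ≫ A.hom
        = (Spec.map g₀ ≫ hV.fromSpec) ≫ ((𝟙 A ^ d : A ⟶ A).left ≫ A.hom) := by rw [hw]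
      _ = ((Spec.map g₀ ≫ hV.fromSpec) ≫ (𝟙 A ^ d : A ⟶ A).left) ≫ A.hom :=
          (Category.assoc _ _ _).symm
      _ = (Spec.map φ ≫ y) ≫ A.hom := by rw [hcomp]
      _ = Spec.map φ ≫ t := Category.assoc _ _ _
  let x₀T : Over.mk (Spec.map φ ≫ t) ⟶ A := Over.homMk (Spec.map g₀ ≫ hV.fromSpec) hx₀
  -- lift by formal smoothness over K
  let τ : CommRingCat.of K ⟶ R := Spec.preimage t
  have hτ : Spec.map τ = t := Spec.map_preimage _
  have hsg : sig (X := A) hV ≫ g₀ = τ ≫ φ := by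
    apply Spec.map_injective
    rw [Spec.map_comp, Spec.map_comp, specMap_sig, hτ, ← Category.assoc, hx₀]
  have hsm := formallySmooth_sig K A hV
  letI a1 := (sig (X := A) hV).hom.toAlgebra
  letI a2 := τ.hom.toAlgebra
  have hsm' : Algebra.FormallySmooth K Γ(A.left, V) := hsm
  let g₀' : Γ(A.left, V) →ₐ[K] R ⧸ I := ⟨g₀.hom, fun r => congrArg (fun h => h.hom r) hsg⟩
  obtain ⟨g₁', hg₁'⟩ := Algebra.FormallySmooth.exists_lift I ⟨2, hI.trans Ideal.zero_eq_bot.symm⟩ g₀'
  let g₁ : Γ(A.left, V) ⟶ R := CommRingCat.ofHom g₁'.toRingHom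
  have hg₁s : sig (X := A) hV ≫ g₁ = Spec.preimage t := by
    ext r; exact g₁'.commutes r
  have hg₁φ : g₁ ≫ φ = g₀ := by
    ext c; exact congrArg (fun h => h c) hg₁'
  let x₁T : Over.mk t ⟶ A := ofHom t hV g₁ hg₁s
  have hx₁ : thick φ t ≫ x₁T = x₀T := by
    ext1
    change Spec.map φ ≫ Spec.map g₁ ≫ hV.fromSpec = Spec.map g₀ ≫ hV.fromSpec
    rw [← Category.assoc, ← Spec.map_comp, hg₁φ]
  have hy : thick φ t ≫ yT = x₀T ^ d := by
    rw [← comp_pow_id K A d x₀T]
    ext1
    exact hcomp.symm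
  let z : Over.mk t ⟶ A := yT * (x₁T ^ d)⁻¹
  have hz : thick φ t ≫ z = 1 := by
    rw [MonObj.comp_mul, GrpObj.comp_inv, GrpObj.comp_zpow, hx₁, hy, mul_inv_cancel]
  obtain ⟨k, hk, hkd⟩ := exists_zpow_eq φ hφ hI' t (pt K) (eq_pt K t) hW he z hz d
    (isUnit_cast K d t hd)
  refine ⟨(k * x₁T).left, ?_, ?_⟩
  · have : thick φ t ≫ (k * x₁T) = x₀T := by
      rw [MonObj.comp_mul, hk, hx₁, _root_.one_mul]
    exact congrArg CommaMorphism.left this
  · have : (k * x₁T) ≫ (𝟙 A ^ d) = yT := by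
      rw [comp_pow_id, (show Commute k x₁T from commA K A k x₁T).mul_zpow, hkd]
      exact inv_mul_cancel_right _ _
    exact congrArg CommaMorphism.left this

end Etale2

section Etale3
variable (K : Type u) [Field K] (A : Over (Spec (CommRingCat.of K))) [GrpObj A]
  [IsProper A.hom] [GeometricallyIntegral A.hom] (d : ℤ)

include K in
theorem etale_of_ne_zero (hd : (d : K) ≠ 0) : Etale ((𝟙 A ^ d : A ⟶ A).left) := by
  haveI := unramified K A d hd
  have hw : (𝟙 A ^ d : A ⟶ A).left ≫ A.hom = A.hom := Over.w _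
  haveI : IsLocallyNoetherian A.left := LocallyOfFiniteType.isLocallyNoetherian A.hom
  haveI : LocallyOfFiniteType ((𝟙 A ^ d : A ⟶ A).left ≫ A.hom) := by rw [hw]; infer_instance
  haveI : LocallyOfFiniteType ((𝟙 A ^ d : A ⟶ A).left) :=
    locallyOfFiniteType_of_comp _ A.hom
  haveI : LocallyOfFinitePresentation ((𝟙 A ^ d : A ⟶ A).left) :=
    LocallyOfFinitePresentation.iff_locallyOfFiniteType.mpr inferInstance
  rw [etale_iff]
  intro U hU V hV e
  rw [RingHom.etale_iff_formallyUnramified_and_smooth]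
  refine ⟨Scheme.Hom.formallyUnramified_appLE _ hU hV e,
    RingHom.smooth_def.mpr ⟨formallySmooth_appLE K A d hd hU hV e, ?_⟩⟩
  exact HasRingHomProperty.appLE @LocallyOfFinitePresentation _ inferInstance ⟨U, hU⟩ ⟨V, hV⟩ e

end Etale3

section Conv
variable (K : Type u) [Field K] (A : Over (Spec (CommRingCat.of K))) [GrpObj A]
  [IsProper A.hom] [GeometricallyIntegral A.hom] (d : ℤ)

include K in
/-- the key consequence of unramifiedness when `d = 0` in `K`: the cotangent space at the unit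
vanishes. -/
theorem exists_chart_of_unramified [FormallyUnramified ((𝟙 A ^ d : A ⟶ A).left)]
    (hd0 : (d : K) = 0) :
    ∃ (V : A.left.Opens) (hV : IsAffineOpen V) (ε : Γ(A.left, V) ⟶ CommRingCat.of K),
      η[A].left.base (pt K) ∈ V ∧ Function.Surjective ε.hom ∧
        RingHom.ker ε.hom ≤ RingHom.ker ε.hom ^ 2 := by
  obtain ⟨W, hW, he⟩ := exists_affine_nhd_unit K A
  have he' : η[A].left.base (pt K) ∈ (𝟙 A ^ d : A ⟶ A).left ⁻¹ᵁ W := by
    change (η[A] ≫ (𝟙 A ^ d)).left.base (pt K) ∈ W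
    rw [comp_pow_id]
    have : (η[A] : 𝟙_ _ ⟶ A) = 1 := rfl
    rw [this, one_zpow]; exact he
  obtain ⟨_, ⟨V, hV, rfl⟩, heV, hVle⟩ :=
    A.left.isBasis_affineOpens.exists_subset_of_mem_open he' ((𝟙 A ^ d : A ⟶ A).left ⁻¹ᵁ W).isOpen
  let t₀ : Spec (.of K) ⟶ Spec (.of K) := 𝟙 _
  let η' : Over.mk t₀ ⟶ A := η[A]
  have hη' : η'.left ⁻¹ᵁ V = ⊤ := by
    rw [eq_top_iff]; intro x _
    have : x = pt K := Subsingleton.elim (α := ↥(Spec (CommRingCat.of K))) _ _
    rw [this]; exact heV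
  let ε : Γ(A.left, V) ⟶ .of K := beta t₀ η' hη'
  have hε : Spec.map ε ≫ hV.fromSpec = η[A].left := specMap_beta t₀ hV η' hη'
  have hσε : sig (X := A) hV ≫ ε = 𝟙 _ := by
    rw [sig_beta]; apply Spec.map_injective; rw [Spec.map_preimage]; simp [t₀]
  have hεsurj : Function.Surjective ε.hom := fun c =>
    ⟨(sig (X := A) hV).hom c, congrArg (fun g => g.hom c) hσε⟩
  refine ⟨V, hV, ε, heV, hεsurj, ?_⟩
  set J := RingHom.ker ε.hom with hJdef
  have hJ2 : J ^ 2 ≤ J := Ideal.pow_le_self two_ne_zero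
  let R : CommRingCat := .of (Γ(A.left, V) ⧸ J ^ 2)
  let ψ : Γ(A.left, V) ⟶ R := CommRingCat.ofHom (Ideal.Quotient.mk (J ^ 2))
  let φ : R ⟶ .of K := CommRingCat.ofHom (Ideal.Quotient.lift (J ^ 2) ε.hom (fun a ha => hJ2 ha))
  have hψφ : ψ ≫ φ = ε := by
    ext c; exact Ideal.Quotient.lift_mk (J ^ 2) ε.hom (fun a ha => hJ2 ha)
  have hφ : Function.Surjective φ.hom := by
    intro c; obtain ⟨b, hb⟩ := hεsurj c
    exact ⟨ψ.hom b, by rw [← hb]; exact congrArg (fun g => g.hom b) hψφ⟩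
  have hI : RingHom.ker φ.hom ^ 2 = ⊥ := by
    change RingHom.ker (Ideal.Quotient.lift (J ^ 2) ε.hom _) ^ 2 = ⊥
    rw [Ideal.ker_quotient_lift, ← Ideal.map_pow, ← hJdef, Ideal.map_quotient_self]
  let t : Spec R ⟶ Spec (.of K) := Spec.map ψ ≫ hV.fromSpec ≫ A.hom
  have hψs : sig (X := A) hV ≫ ψ = Spec.preimage t := by
    apply Spec.map_injective; rw [Spec.map_comp, specMap_sig, Spec.map_preimage]
  let kc : Over.mk t ⟶ A := ofHom t hV ψ hψs
  have hkc : thick φ t ≫ kc = 1 := by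
    have e1 : Spec.map φ ≫ Spec.map ψ ≫ hV.fromSpec = η[A].left := by
      rw [← Category.assoc, ← Spec.map_comp, hψφ, hε]
    have e2 : Spec.map φ ≫ t = 𝟙 _ := by
      change Spec.map φ ≫ Spec.map ψ ≫ hV.fromSpec ≫ A.hom = _
      rw [← Category.assoc (Spec.map ψ), ← Category.assoc (Spec.map φ), e1]
      exact Over.w η[A]
    ext1
    change Spec.map φ ≫ Spec.map ψ ≫ hV.fromSpec = (Spec.map φ ≫ t) ≫ η[A].left
    rw [e1, e2, Category.id_comp]
  have hcast : ((d : ℤ) : R) = 0 := by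
    have := congrArg (Spec.preimage t).hom hd0
    rwa [map_intCast, map_zero] at this
  have hkd : kc ^ d = 1 :=
    zpow_eq_one_of_cast_eq_zero φ hφ hI t (pt K) (eq_pt K t) hV heV kc hkc d hcast
  have h1V : (1 : Over.mk t ⟶ A).left ⁻¹ᵁ V = ⊤ := one_preimage t (pt K) (eq_pt K t) heV
  have hcomp : kc ≫ (𝟙 A ^ d) = (1 : Over.mk t ⟶ A) ≫ (𝟙 A ^ d) := by
    rw [comp_pow_id, comp_pow_id, hkd, one_zpow]
  have hk1 : kc = 1 := eq_of_unramified φ hφ hI t (𝟙 A ^ d) hV hW hVle 1 kc h1V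
    (by rw [hkc, thick_one]) hcomp
  have hβ1 : beta t (1 : Over.mk t ⟶ A) h1V = ε ≫ Spec.preimage t := by
    apply Spec.map_injective
    rw [← cancel_mono hV.fromSpec, specMap_beta t hV, Spec.map_comp, Category.assoc, hε,
      Spec.map_preimage]
    rfl
  have hψ1 : ψ = ε ≫ Spec.preimage t := by
    rw [← hβ1, ← beta_congr t hk1 (ofHom_preimage t hV ψ hψs) h1V, beta_ofHom]
  intro c hc
  have h := congrArg (fun g => g.hom c) hψ1
  simp only [CommRingCat.hom_comp, RingHom.coe_comp, Function.comp_apply] at h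
  rw [(RingHom.mem_ker).mp hc, map_zero] at h
  exact Ideal.Quotient.eq_zero_iff_mem.mp h

end Conv

section Final
variable (K : Type u) [Field K] (A : Over (Spec (CommRingCat.of K))) [GrpObj A]
  [IsProper A.hom] [GeometricallyIntegral A.hom] (d : ℤ)

include K in
theorem ne_zero_of_etale (hA : 0 < topologicalKrullDim A.left)
    [Etale ((𝟙 A ^ d : A ⟶ A).left)] : (d : K) ≠ 0 := by
  intro hd0
  obtain ⟨V, hV, ε, heV, hεs, hJ⟩ := exists_chart_of_unramified K A d hd0
  haveI := integralA K A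
  haveI : Nonempty V := ⟨⟨_, heV⟩⟩
  haveI : IsDomain Γ(A.left, V) := inferInstance
  haveI : IsLocallyNoetherian A.left := LocallyOfFiniteType.isLocallyNoetherian A.hom
  haveI : IsNoetherianRing Γ(A.left, V) := IsLocallyNoetherian.component_noetherian ⟨V, hV⟩
  set J := RingHom.ker ε.hom with hJdef
  have hfg : J.FG := IsNoetherian.noetherian J
  have hidem : IsIdempotentElem J := by
    change J * J = J
    rw [← pow_two]; exact le_antisymm (Ideal.pow_le_self two_ne_zero) hJ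
  rcases (Ideal.isIdempotentElem_iff_eq_bot_or_top J hfg).mp hidem with h | h
  · have hinj : Function.Injective ε.hom := (RingHom.injective_iff_ker_eq_bot _).mpr h
    let e := RingEquiv.ofBijective ε.hom ⟨hinj, hεs⟩
    haveI : Subsingleton (PrimeSpectrum Γ(A.left, V)) :=
      (PrimeSpectrum.comapEquiv e).toEquiv.subsingleton
    have hVpt : ∀ x ∈ V, x = η[A].left.base (pt K) := by
      intro x hx
      have h1 : x ∈ Set.range hV.fromSpec.base := by rw [hV.range_fromSpec]; exact hx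
      have h2 : η[A].left.base (pt K) ∈ Set.range hV.fromSpec.base := by
        rw [hV.range_fromSpec]; exact heV
      obtain ⟨p, rfl⟩ := h1
      obtain ⟨q, hq⟩ := h2
      rw [← hq]
      exact congrArg _ (Subsingleton.elim (α := PrimeSpectrum Γ(A.left, V)) p q)
    have hsub : ∀ x : A.left, x = η[A].left.base (pt K) := by
      intro x
      by_contra hx
      have hcl : IsClosed ({η[A].left.base (pt K)} : Set A.left) := by
        have h3 := (η[A].left).isClosedEmbedding.isClosed_range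
        have h4 : Set.range η[A].left.base = {η[A].left.base (pt K)} := by
          ext y; constructor
          · rintro ⟨z, rfl⟩
            have : z = pt K := Subsingleton.elim (α := ↥(Spec (CommRingCat.of K))) _ _
            rw [this]; rfl
          · rintro rfl; exact ⟨_, rfl⟩
        rwa [h4] at h3
      obtain ⟨y, hy1, hy2⟩ := nonempty_preirreducible_inter V.isOpen hcl.isOpen_compl
        ⟨_, heV⟩ ⟨x, hx⟩
      exact hy2 (hVpt y hy1)
    haveI : Subsingleton A.left := ⟨fun x y => by rw [hsub x, hsub y]⟩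
    have := topologicalKrullDim_zero_of_discreteTopology A.left
    exact absurd hA (not_lt.mpr this)
  · have : (1 : Γ(A.left, V)) ∈ J := by rw [h]; trivial
    rw [hJdef, RingHom.mem_ker, map_one] at this
    exact one_ne_zero this

include K in
theorem main (hA : 0 < topologicalKrullDim A.left) :
    Etale ((𝟙 A ^ d).left) ↔ ((d : K) ≠ 0) :=
  ⟨fun h => by haveI := h; exact ne_zero_of_etale K A d hA, etale_of_ne_zero K A d⟩

end Final

end Groth.Agent.Lib.Helper4.InfGrp2
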