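import Mathlib

/-!
# Integer-valued polynomials: a rational polynomial of degree ≤ g with integer values at g+1 consecutive integers has g!·coefficients integral (Newton forward differences); coefficient integrality for rank functions (S18112) (helper4)
-/

set_option backward.isDefEq.respectTransparency.types false
set_option synthInstance.maxHeartbeats 400000
set_option autoImplicit false
set_option linter.unusedSectionVars false
set_option linter.style.haveILetI false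
set_option linter.unusedSimpArgs false
universe u v w
open Polynomial Finset fwdDiff
open scoped Nat

namespace Groth.Agent.Lib.Helper4.IntValPoly1

/-- values at nodes are integers ⇒ forward differences are integers -/
lemma fwdDiff_int (f : ℚ → ℚ) (y : ℚ) (k g : ℕ) (hk : k ≤ g)
    (hint : ∀ i ≤ g, ∃ z : ℤ, f (y + i) = z) : ∃ z : ℤ, (fwdDiff (1 : ℚ))^[k] f y = z := by
  rw [fwdDiff_iter_eq_sum_shift]
  choose! z hz using hint
  refine ⟨∑ i ∈ range (k + 1), ((-1) ^ (k - i) * (k.choose i : ℤ)) * z i, ?_⟩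
  push_cast
  apply Finset.sum_congr rfl
  intro i hi
  have hig : i ≤ g := (Nat.lt_succ_iff.mp (Finset.mem_range.mp hi)).trans hk
  rw [nsmul_eq_mul, mul_one, hz i hig, zsmul_eq_mul]
  push_cast
  ring


/-- Newton's formula truncated at the degree -/
lemma eval_add_nat (R : ℚ[X]) (g : ℕ) (hdeg : R.natDegree ≤ g) (y : ℚ) (n : ℕ) (hn : g ≤ n) :
    R.eval (y + n) = ∑ k ∈ range (g + 1), (n.choose k : ℚ) * (fwdDiff (1 : ℚ))^[k] R.eval y := by
  have h1 := shift_eq_sum_fwdDiff_iter (h := (1 : ℚ)) R.eval n y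
  rw [nsmul_eq_mul, mul_one] at h1
  rw [h1]
  have hsub : range (g + 1) ⊆ range (n + 1) := Finset.range_mono (Nat.succ_le_succ hn)
  rw [← Finset.sum_subset hsub]
  · apply Finset.sum_congr rfl
    intro k _
    rw [nsmul_eq_mul]
  · intro k _ hk
    have hgk : g < k := by
      by_contra h
      exact hk (Finset.mem_range.mpr (Nat.lt_succ_of_le (not_lt.mp h)))
    have := Polynomial.fwdDiff_iter_eq_zero_of_degree_lt (P := R) (n := k) (lt_of_le_of_lt hdeg hgk)
    rw [this]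
    simp

theorem exists_int_poly (R : ℚ[X]) (g : ℕ) (hdeg : R.natDegree ≤ g) (y : ℤ)
    (hint : ∀ i ≤ g, ∃ z : ℤ, R.eval ((y : ℚ) + i) = z) :
    ∃ W : ℤ[X], (g ! : ℚ) • R = W.map (Int.castRingHom ℚ) := by
  have hc : ∀ k ≤ g, ∃ z : ℤ, (fwdDiff (1 : ℚ))^[k] R.eval (y : ℚ) = z :=
    fun k hk => fwdDiff_int _ _ k g hk hint
  choose! c hc using hc
  let W₀ : ℤ[X] := ∑ k ∈ range (g + 1), C (c k * ((g ! / k ! : ℕ) : ℤ)) * descPochhammer ℤ k
  refine ⟨W₀.comp (X - C y), ?_⟩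
  have key : (g ! : ℚ) • R.comp (X + C (y : ℚ)) = W₀.map (Int.castRingHom ℚ) := by
    apply Polynomial.eq_of_infinite_eval_eq
    have hinj : Function.Injective (fun n : ℕ => ((n + g : ℕ) : ℚ)) := by
      intro a b hab
      have hab' : ((a + g : ℕ) : ℚ) = ((b + g : ℕ) : ℚ) := hab
      have : (a + g : ℕ) = b + g := by exact_mod_cast hab'
      omega
    refine Set.infinite_of_injective_forall_mem hinj ?_
    intro n
    simp only [Set.mem_setOf_eq]
    rw [eval_smul, eval_comp, eval_add, eval_X, eval_C, smul_eq_mul, add_comm,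
      eval_add_nat R g hdeg (y : ℚ) (n + g) (Nat.le_add_left g n), Finset.mul_sum]
    simp only [W₀, Polynomial.map_sum, Polynomial.map_mul, Polynomial.map_C, eval_finset_sum,
      eval_mul, eval_C, descPochhammer_map, descPochhammer_eval_eq_descFactorial]
    apply Finset.sum_congr rfl
    intro k hk
    have hkg : k ≤ g := Nat.lt_succ_iff.mp (Finset.mem_range.mp hk)
    rw [hc k hkg, Nat.descFactorial_eq_factorial_mul_choose]
    have hdiv : ((g ! / k ! : ℕ) : ℚ) * (k ! : ℚ) = (g ! : ℚ) := by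
      rw [← Nat.cast_mul, Nat.div_mul_cancel (Nat.factorial_dvd_factorial hkg)]
    simp only [eq_intCast, Int.cast_mul, Int.cast_natCast, Nat.cast_mul]
    rw [← hdiv]
    ring
  have hR : R = (R.comp (X + C (y : ℚ))).comp (X - C (y : ℚ)) := by
    rw [comp_assoc]
    simp
  have h2 : (W₀.comp (X - C y)).map (Int.castRingHom ℚ) =
      (W₀.map (Int.castRingHom ℚ)).comp (X - C (y : ℚ)) := by
    rw [Polynomial.map_comp]
    simp
  rw [h2, ← key, smul_comp, ← hR]


theorem factorial_mul_coeff_int (R : ℚ[X]) (g : ℕ) (hdeg : R.natDegree ≤ g) (y : ℤ)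
    (hint : ∀ i ≤ g, ∃ z : ℤ, R.eval ((y : ℚ) + i) = z) (j : ℕ) :
    ∃ z : ℤ, (g ! : ℚ) * R.coeff j = z := by
  obtain ⟨W, hW⟩ := exists_int_poly R g hdeg y hint
  refine ⟨W.coeff j, ?_⟩
  have := congrArg (fun p => p.coeff j) hW
  simpa [coeff_smul, coeff_map] using this

theorem main (g : ℕ) (u v : ℚ) (huv : u < v) (Q : ℚ[X]) (hQ : Q.natDegree ≤ g) (N : ℤ → ℕ → ℕ)
    (h : ∀ (a : ℤ) (b : ℕ), 0 < b → u < (a : ℚ) / (b : ℚ) → (a : ℚ) / (b : ℚ) < v →
      ((N a b : ℕ) : ℚ) / (b : ℚ) ^ (2 * g) = Q.eval ((a : ℚ) / (b : ℚ))) (j : ℕ) :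
    ∃ z : ℤ, (g ! : ℚ) * Q.coeff j = z := by
  by_cases hj : g < j
  · exact ⟨0, by rw [coeff_eq_zero_of_natDegree_lt (lt_of_le_of_lt hQ hj)]; simp⟩
  push Not at hj
  have hb : ∀ b : ℕ, (g + 1 : ℚ) < b * (v - u) →
      ∃ z : ℤ, (g ! : ℚ) * Q.coeff j * (b : ℚ) ^ (2 * g - j) = z := by
    intro b hbig
    have hvu : 0 < v - u := sub_pos.mpr huv
    have hbpos : 0 < b := by
      by_contra h0
      have hb0 : b = 0 := by omega
      subst hb0
      simp at hbig
      linarith [show (0 : ℚ) ≤ g from Nat.cast_nonneg g]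
    have hbq : (0 : ℚ) < b := by exact_mod_cast hbpos
    have hbne : (b : ℚ) ≠ 0 := hbq.ne'
    let R : ℚ[X] := C ((b : ℚ) ^ (2 * g)) * Q.comp (C ((b : ℚ)⁻¹) * X)
    have hRdeg : R.natDegree ≤ g := by
      refine (natDegree_C_mul_le _ _).trans ?_
      refine natDegree_comp_le.trans ?_
      rw [natDegree_C_mul_X _ (inv_ne_zero hbne), mul_one]
      exact hQ
    let a₀ : ℤ := ⌊u * b⌋ + 1
    have ha₀l : u * b < (a₀ : ℚ) := by
      have := Int.lt_floor_add_one (u * b)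
      simpa [a₀] using this
    have ha₀u : (a₀ : ℚ) ≤ u * b + 1 := by
      have := Int.floor_le (u * b)
      simp only [a₀, Int.cast_add, Int.cast_one]
      linarith
    have hint : ∀ i ≤ g, ∃ z : ℤ, R.eval ((a₀ : ℚ) + i) = z := by
      intro i hi
      have hiq : (i : ℚ) ≤ g := by exact_mod_cast hi
      have hi0 : (0 : ℚ) ≤ i := Nat.cast_nonneg i
      have h1 : u < ((a₀ + i : ℤ) : ℚ) / b := by
        rw [lt_div_iff₀ hbq]
        push_cast
        linarith
      have h2 : ((a₀ + i : ℤ) : ℚ) / b < v := by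
        rw [div_lt_iff₀ hbq]
        push_cast
        nlinarith
      have h3 := h (a₀ + i) b hbpos h1 h2
      refine ⟨N (a₀ + i) b, ?_⟩
      simp only [R, eval_mul, eval_C, eval_comp, eval_X]
      rw [show (b : ℚ)⁻¹ * ((a₀ : ℚ) + i) = ((a₀ + i : ℤ) : ℚ) / b by push_cast; ring, ← h3]
      have hpow : (b : ℚ) ^ (2 * g) ≠ 0 := pow_ne_zero _ hbne
      field_simp
      push_cast
      ring
    obtain ⟨z, hz⟩ := factorial_mul_coeff_int R g hRdeg a₀ hint j
    refine ⟨z, ?_⟩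
    rw [← hz]
    simp only [R, coeff_C_mul, comp_C_mul_X_coeff]
    have hsplit : (b : ℚ) ^ (2 * g) = (b : ℚ) ^ (2 * g - j) * (b : ℚ) ^ j := by
      rw [← pow_add]
      congr 1
      omega
    rw [hsplit, inv_pow]
    have hbj : (b : ℚ) ^ j ≠ 0 := pow_ne_zero _ hbne
    field_simp
  obtain ⟨b, hb0⟩ : ∃ b : ℕ, (g + 1 : ℚ) < b * (v - u) := by
    obtain ⟨b, hb⟩ := exists_nat_gt ((g + 1 : ℚ) / (v - u))
    exact ⟨b, by rwa [div_lt_iff₀ (sub_pos.mpr huv)] at hb⟩
  have hb1 : (g + 1 : ℚ) < ((b + 1 : ℕ) : ℚ) * (v - u) := by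
    push_cast
    nlinarith [sub_pos.mpr huv]
  obtain ⟨z₁, hz₁⟩ := hb b hb0
  obtain ⟨z₂, hz₂⟩ := hb (b + 1) hb1
  have hcop : IsCoprime ((b : ℤ) ^ (2 * g - j)) (((b + 1 : ℕ) : ℤ) ^ (2 * g - j)) := by
    apply IsCoprime.pow
    exact ⟨-1, 1, by push_cast; ring⟩
  obtain ⟨s, t, hst⟩ := hcop
  refine ⟨s * z₁ + t * z₂, ?_⟩
  push_cast
  rw [← hz₁, ← hz₂]
  have hst' : (s : ℚ) * (b : ℚ) ^ (2 * g - j) + (t : ℚ) * ((b : ℚ) + 1) ^ (2 * g - j) = 1 := by
    exact_mod_cast hst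
  calc (g ! : ℚ) * Q.coeff j = (g ! : ℚ) * Q.coeff j * 1 := by ring
    _ = _ := by rw [← hst']; push_cast; ring

end Groth.Agent.Lib.Helper4.IntValPoly1
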