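import Mathlib

/-!
# Extending a surjective integral morphism from a retrocompact open (normalization) (helper4)
-/

set_option backward.isDefEq.respectTransparency.types false
set_option synthInstance.maxHeartbeats 400000
set_option autoImplicit false
set_option linter.unusedSectionVars false
set_option linter.style.haveILetI false
set_option linter.unusedSimpArgs false
universe u v w
open AlgebraicGeometry CategoryTheory Limits

namespace Groth.Agent.Lib.Helper4.IntegralExtend1

/-- the normalization of `S` in an integral `V → U ⊆ S` restricts to `V` over `U` -/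
theorem toNormalization_isOpenImmersion {S V : Scheme.{u}} (U : S.Opens) [QuasiCompact U.ι]
    (v : V ⟶ (U : Scheme.{u})) [IsIntegralHom v] :
    IsOpenImmersion (v ≫ U.ι).toNormalization ∧
      Set.range (v ≫ U.ι).toNormalization = (v ≫ U.ι).fromNormalization ⁻¹' (U : Set S) := by
  set f : V ⟶ S := v ≫ U.ι with hf
  have hP : IsPullback (𝟙 V) v f U.ι := by
    refine (IsOpenImmersion.isPullback v (𝟙 V) U.ι f (by simp [hf]) ?_).flip
    ext x
    simp [hf]
  let e : V ≅ pullback f U.ι := hP.isoPullback
  have he1 : e.hom ≫ pullback.fst f U.ι = 𝟙 V := hP.isoPullback_hom_fst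
  have he2 : e.hom ≫ pullback.snd f U.ι = v := hP.isoPullback_hom_snd
  have hsnd : pullback.snd f U.ι = e.inv ≫ v := by rw [← he2, Iso.inv_hom_id_assoc]
  haveI : IsIntegralHom (pullback.snd f U.ι) := by
    rw [hsnd]; infer_instance
  have key : f.toNormalization = e.hom ≫ (pullback.snd f U.ι).toNormalization ≫
      f.normalizationPullback U.ι ≫ pullback.fst f.fromNormalization U.ι := by
    rw [Scheme.Hom.toNormalization_normalizationPullback_fst, reassoc_of% he1]
  constructor
  · rw [key]; infer_instance
  · have key' : f.toNormalization = (e.hom ≫ (pullback.snd f U.ι).toNormalization ≫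
        f.normalizationPullback U.ι) ≫ pullback.fst f.fromNormalization U.ι := by
      rw [key]; simp only [Category.assoc]
    rw [key', Scheme.Hom.comp_base, TopCat.coe_comp, Set.range_comp,
      Set.range_eq_univ.mpr (e.hom ≫ (pullback.snd f U.ι).toNormalization ≫
        f.normalizationPullback U.ι).surjective, Set.image_univ, Scheme.Pullback.range_fst,
      Scheme.Opens.range_ι]


theorem main {S V : Scheme.{u}} (U : S.Opens) [QuasiCompact U.ι]
    (v : V ⟶ (U : Scheme.{u})) [IsIntegralHom v] [Surjective v] :
    ∃ (V' : Scheme.{u}) (π : V' ⟶ S) (i : V ⟶ V'), Surjective π ∧ IsIntegralHom π ∧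
      IsPullback i v π U.ι := by
  obtain ⟨hopen, hrange⟩ := toNormalization_isOpenImmersion U v
  set f : V ⟶ S := v ≫ U.ι with hf
  let Zc : TopologicalSpace.Closeds S := ⟨(U : Set S)ᶜ, U.2.isClosed_compl⟩
  let I := Scheme.IdealSheafData.vanishingIdeal Zc
  let z : I.subscheme ⟶ S := I.subschemeι
  have hz : Set.range z = (U : Set S)ᶜ := by
    rw [Scheme.IdealSheafData.range_subschemeι, Scheme.IdealSheafData.coe_support_vanishingIdeal]
    rfl
  let π : f.normalization ⨿ I.subscheme ⟶ S := coprod.desc f.fromNormalization z
  let i : V ⟶ f.normalization ⨿ I.subscheme := f.toNormalization ≫ coprod.inl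
  have hiπ : i ≫ π = v ≫ U.ι := by
    simp only [i, π, Category.assoc, coprod.inl_desc, Scheme.Hom.toNormalization_fromNormalization]
    exact hf
  refine ⟨_, π, i, ⟨?_⟩, inferInstance, ?_⟩
  · intro s
    by_cases hs : s ∈ (U : Set S)
    · obtain ⟨y, hy⟩ := v.surjective ⟨s, hs⟩
      refine ⟨i y, ?_⟩
      rw [← Scheme.Hom.comp_apply, hiπ, Scheme.Hom.comp_apply, hy]
      rfl
    · have : s ∈ Set.range z := by rw [hz]; exact hs
      obtain ⟨z0, rfl⟩ := this
      refine ⟨(coprod.inr : I.subscheme ⟶ f.normalization ⨿ I.subscheme) z0, ?_⟩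
      rw [← Scheme.Hom.comp_apply]
      simp only [π, coprod.inr_desc]
  · haveI := hopen
    refine (IsOpenImmersion.isPullback v i U.ι π hiπ ?_).flip
    ext x
    obtain ⟨(x | x), rfl⟩ := (coprodMk f.normalization I.subscheme).surjective x
    · rw [coprodMk_inl]
      have h1 : (coprod.inl : f.normalization ⟶ f.normalization ⨿ I.subscheme) x ∈
          ((π ⁻¹ᵁ U.ι.opensRange : (f.normalization ⨿ I.subscheme).Opens) :
            Set ↥(f.normalization ⨿ I.subscheme)) ↔ x ∈ f.fromNormalization ⁻¹' (U : Set S) := by
        change π ((coprod.inl : f.normalization ⟶ f.normalization ⨿ I.subscheme) x) ∈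
          Set.range U.ι ↔ _
        rw [← Scheme.Hom.comp_apply, Scheme.Opens.range_ι]
        simp only [π, coprod.inl_desc]
        rfl
      have h2 : (coprod.inl : f.normalization ⟶ f.normalization ⨿ I.subscheme) x ∈
          (i.opensRange : Set ↥(f.normalization ⨿ I.subscheme)) ↔
          x ∈ Set.range f.toNormalization := by
        constructor
        · rintro ⟨y, hy⟩
          refine ⟨y, ?_⟩
          have hinj : Function.Injective
              (coprod.inl : f.normalization ⟶ f.normalization ⨿ I.subscheme) :=
            (coprod.inl : f.normalization ⟶ f.normalization ⨿ I.subscheme).isOpenEmbedding.injective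
          apply hinj
          rw [← hy]
          rfl
        · rintro ⟨y, rfl⟩
          exact ⟨y, rfl⟩
      rw [h1, h2, hrange]
    · rw [coprodMk_inr]
      constructor
      · intro h
        exfalso
        have h' : π ((coprod.inr : I.subscheme ⟶ f.normalization ⨿ I.subscheme) x) ∈
          Set.range U.ι := h
        rw [← Scheme.Hom.comp_apply, Scheme.Opens.range_ι] at h'
        simp only [π, coprod.inr_desc] at h'
        have : z x ∈ (U : Set S)ᶜ := by rw [← hz]; exact ⟨x, rfl⟩
        exact this h'
      · rintro ⟨y, hy⟩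
        exfalso
        exact inl_ne_inr _ _ (f.toNormalization y) x hy
end Groth.Agent.Lib.Helper4.IntegralExtend1
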