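import Mathlib
import Groth.Agent.Lib.Helper4.ProdDim1
import Groth.Agent.Lib.Helper4.EffCartierDim1
import Groth.Agent.Lib.Helper4.DimFT2
import Groth.Agent.Lib.Helper4.DimFT3
import Groth.Agent.Lib.Helper4.RadBir3
import Groth.Agent.Lib.Helper4.FlatDimK1
import Groth.Agent.Lib.Helper4.PropDim1
import Groth.Agent.Lib.Helper2.Sch.SmoothRelDim
import Groth.Agent.Lib.Helper2.Sch.SmoothOmegaRank

/-!
# dimension of components of the intersection of two subvarieties of a smooth variety (reduction to the diagonal, algebraic form) (helper4)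
-/

set_option backward.isDefEq.respectTransparency.types false
set_option synthInstance.maxHeartbeats 400000
set_option autoImplicit false
set_option linter.unusedSectionVars false
set_option linter.style.haveILetI false
set_option linter.unusedSimpArgs false
universe u v w
open CategoryTheory CategoryTheory.Limits AlgebraicGeometry TopologicalSpace Opposite
open TensorProduct

namespace Groth.Agent.Lib.Helper4.InterDim1


open scoped Pointwise in
/-- Nakayama: if `Ω[A⁄k]` is generated by `n` elements then, up to an element congruent to 1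
modulo the diagonal ideal, the diagonal ideal is generated by `n` elements -/
theorem exists_diag_gens (k A : Type u) [CommRing k] [CommRing A] [Algebra k A]
    [Algebra.FiniteType k A] (n : ℕ) (b : Fin n → Ω[A⁄k])
    (hb : Submodule.span A (Set.range b) = ⊤) :
    ∃ (r : A ⊗[k] A) (m : Fin n → A ⊗[k] A), r - 1 ∈ KaehlerDifferential.ideal k A ∧
      (∀ i, m i ∈ KaehlerDifferential.ideal k A) ∧
      ∀ x ∈ KaehlerDifferential.ideal k A, r * x ∈ Ideal.span (Set.range m) := by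
  choose m' hm' using fun i => KaehlerDifferential.fromIdeal_surjective k A (b i)
  let m : Fin n → A ⊗[k] A := fun i => (m' i : A ⊗[k] A)
  let J : Ideal (A ⊗[k] A) := Ideal.span (Set.range m)
  have hb' : ∀ y : Ω[A⁄k], y ∈ Submodule.span (A ⊗[k] A) (Set.range b) := by
    intro y
    have h0 : y ∈ Submodule.span A (Set.range b) := by rw [hb]; trivial
    exact Submodule.span_le_restrictScalars A (A ⊗[k] A) (Set.range b) h0
  have hI : (KaehlerDifferential.ideal k A : Submodule (A ⊗[k] A) (A ⊗[k] A)) ≤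
      J ⊔ (KaehlerDifferential.ideal k A) • (KaehlerDifferential.ideal k A : Submodule (A ⊗[k] A) (A ⊗[k] A)) := by
    intro x hx
    have h1 := hb' (KaehlerDifferential.fromIdeal k A ⟨x, hx⟩)
    obtain ⟨c, hc⟩ := (Submodule.mem_span_range_iff_exists_fun _).mp h1
    have h2 : KaehlerDifferential.fromIdeal k A ⟨x, hx⟩ =
        KaehlerDifferential.fromIdeal k A (∑ i, c i • m' i) := by
      rw [map_sum, ← hc]
      refine Finset.sum_congr rfl fun i _ => ?_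
      rw [map_smul, hm' i]
    have h2' : (KaehlerDifferential.ideal k A).toCotangent ⟨x, hx⟩ =
        (KaehlerDifferential.ideal k A).toCotangent (∑ i, c i • m' i) := h2
    rw [Ideal.toCotangent_eq] at h2'
    have h3 : x - ∑ i, c i * m i ∈ (KaehlerDifferential.ideal k A) ^ 2 := by
      convert h2' using 2
      simp [m]
    have h4 : x = ∑ i, c i * m i + (x - ∑ i, c i * m i) := by ring
    rw [h4]
    refine Submodule.add_mem_sup ?_ ?_
    · refine Submodule.sum_mem _ fun i _ => ?_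
      exact Ideal.mul_mem_left _ _ (Ideal.subset_span ⟨i, rfl⟩)
    · rw [pow_two] at h3
      exact h3
  have hfg : (KaehlerDifferential.ideal k A : Submodule (A ⊗[k] A) (A ⊗[k] A)).FG :=
    KaehlerDifferential.ideal_fg k A
  obtain ⟨r, hr1, hr2⟩ := Submodule.exists_sub_one_mem_and_smul_le_of_fg_of_le_sup hfg le_rfl hI
  refine ⟨r, m, hr1, fun i => (m' i).2, fun x hx => ?_⟩
  have := hr2 (Submodule.smul_mem_pointwise_smul x r _ hx)
  exact this



/-- the quotient of a tensor product of finitely generated domains over a field by a minimal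
prime has dimension the sum of the dimensions -/
theorem dim_quot_minimalPrime (k B C : Type u) [Field k] [CommRing B] [CommRing C] [IsDomain B]
    [IsDomain C] [Algebra k B] [Algebra k C] [Algebra.FiniteType k B] [Algebra.FiniteType k C]
    (q : Ideal (B ⊗[k] C)) (hq : q ∈ minimalPrimes (B ⊗[k] C)) :
    ringKrullDim ((B ⊗[k] C) ⧸ q) = ringKrullDim B + ringKrullDim C := by
  let f : Spec (.of B) ⟶ Spec (.of k) := Spec.map (CommRingCat.ofHom (algebraMap k B))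
  let g : Spec (.of C) ⟶ Spec (.of k) := Spec.map (CommRingCat.ofHom (algebraMap k C))
  haveI : LocallyOfFiniteType f := (HasRingHomProperty.Spec_iff (P := @LocallyOfFiniteType)).mpr
    (RingHom.finiteType_algebraMap.mpr inferInstance)
  haveI : LocallyOfFiniteType g := (HasRingHomProperty.Spec_iff (P := @LocallyOfFiniteType)).mpr
    (RingHom.finiteType_algebraMap.mpr inferInstance)
  let e : pullback f g ≅ Spec (.of (B ⊗[k] C)) := pullbackSpecIso k B C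
  let he : ↥(pullback f g) ≃ₜ PrimeSpectrum (B ⊗[k] C) := e.hom.homeomorph
  have hZ₀ : PrimeSpectrum.zeroLocus (q : Set (B ⊗[k] C)) ∈
      irreducibleComponents (PrimeSpectrum (B ⊗[k] C)) := by
    rw [← PrimeSpectrum.zeroLocus_minimalPrimes]
    exact ⟨q, hq, rfl⟩
  have hZ : he ⁻¹' (PrimeSpectrum.zeroLocus (q : Set (B ⊗[k] C))) ∈
      irreducibleComponents ↥(pullback f g) := by
    refine preimage_mem_irreducibleComponents hZ₀ he.isOpenEmbedding ?_
    rw [he.surjective.range_eq, Set.inter_univ]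
    exact hZ₀.1.1
  have h1 := Groth.Agent.Lib.Helper4.ProdDim1.S4662_main f g _ hZ
  have h2 : topologicalKrullDim ↥(he ⁻¹' (PrimeSpectrum.zeroLocus (q : Set (B ⊗[k] C)))) =
      topologicalKrullDim ↥(PrimeSpectrum.zeroLocus (q : Set (B ⊗[k] C))) := by
    have h3 : he '' (he ⁻¹' (PrimeSpectrum.zeroLocus (q : Set (B ⊗[k] C)))) =
        PrimeSpectrum.zeroLocus (q : Set (B ⊗[k] C)) := Set.image_preimage_eq _ he.surjective
    exact ((he.image _).trans (Homeomorph.setCongr h3)).isHomeomorph.topologicalKrullDim_eq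
  rw [h2, Groth.Agent.Lib.Helper4.EffCartierDim1.dim_zeroLocus] at h1
  rw [h1]
  congr 1
  · exact PrimeSpectrum.topologicalKrullDim_eq_ringKrullDim _
  · exact PrimeSpectrum.topologicalKrullDim_eq_ringKrullDim _





open Groth.Agent.Lib.Helper4.DimFT2 in
theorem dim_add_le (k A : Type u) [Field k] [CommRing A] [Algebra k A] [Algebra.FiniteType k A]
    (n : ℕ) (b : Fin n → Ω[A⁄k]) (hb : Submodule.span A (Set.range b) = ⊤)
    (𝔞 𝔟 𝔠 : Ideal A) [h𝔞 : 𝔞.IsPrime] [h𝔟 : 𝔟.IsPrime] (h𝔠 : 𝔠 ∈ (𝔞 ⊔ 𝔟).minimalPrimes) :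
    ringKrullDim (A ⧸ 𝔞) + ringKrullDim (A ⧸ 𝔟) ≤ ringKrullDim (A ⧸ 𝔠) + (n : WithBot ℕ∞) := by
  classical
  haveI h𝔠p : 𝔠.IsPrime := h𝔠.1.1
  have h𝔞𝔠 : 𝔞 ≤ 𝔠 := le_sup_left.trans h𝔠.1.2
  have h𝔟𝔠 : 𝔟 ≤ 𝔠 := le_sup_right.trans h𝔠.1.2
  obtain ⟨r, m, hr, hm, hrm⟩ := exists_diag_gens k A n b hb
  let φ : A ⊗[k] A →ₐ[k] (A ⧸ 𝔞) ⊗[k] (A ⧸ 𝔟) :=
    Algebra.TensorProduct.map (Ideal.Quotient.mkₐ k 𝔞) (Ideal.Quotient.mkₐ k 𝔟)
  have hφ : Function.Surjective φ :=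
    Algebra.TensorProduct.map_surjective _ _ (Ideal.Quotient.mkₐ_surjective k 𝔞)
      (Ideal.Quotient.mkₐ_surjective k 𝔟)
  let θ : (A ⧸ 𝔞) ⊗[k] (A ⧸ 𝔟) →ₐ[k] A ⧸ 𝔠 :=
    Algebra.TensorProduct.productMap (Ideal.Quotient.factorₐ k h𝔞𝔠) (Ideal.Quotient.factorₐ k h𝔟𝔠)
  have hθφ : ∀ x, θ (φ x) = Ideal.Quotient.mk 𝔠 (Algebra.TensorProduct.lmul' k x) := by
    intro x
    induction x using TensorProduct.induction_on with
    | zero => simp
    | tmul a b =>
      simp only [φ, θ, Algebra.TensorProduct.map_tmul, Algebra.TensorProduct.productMap_apply_tmul,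
        Algebra.TensorProduct.lmul'_apply_tmul, Ideal.Quotient.mkₐ_eq_mk,
        Ideal.Quotient.factorₐ_apply_mk, map_mul]
    | add x y hx hy => simp only [map_add, hx, hy]
  have hθ : Function.Surjective θ := by
    intro y
    obtain ⟨a, rfl⟩ := Ideal.Quotient.mk_surjective y
    refine ⟨φ (a ⊗ₜ 1), ?_⟩
    rw [hθφ, Algebra.TensorProduct.lmul'_apply_tmul, mul_one]
  -- the kernel of θ
  let 𝔠' : Ideal ((A ⧸ 𝔞) ⊗[k] (A ⧸ 𝔟)) := RingHom.ker θ
  haveI h𝔠'p : 𝔠'.IsPrime := RingHom.ker_isPrime θ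
  have hI𝔠' : ∀ x ∈ KaehlerDifferential.ideal k A, φ x ∈ 𝔠' := by
    intro x hx
    show θ (φ x) = 0
    rw [hθφ, (RingHom.mem_ker.mp hx : Algebra.TensorProduct.lmul' k x = 0), map_zero]
  have hr1 : Algebra.TensorProduct.lmul' k r = 1 := by
    have := RingHom.mem_ker.mp hr
    rwa [map_sub, map_one, sub_eq_zero] at this
  have hr' : φ r ∉ 𝔠' := by
    intro h
    have h2 : θ (φ r) = 0 := h
    rw [hθφ, hr1, map_one] at h2
    exact one_ne_zero h2
  -- every element of 𝔠' is φ i + ā ⊗ 1 with i in the diagonal ideal and a ∈ 𝔠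
  have hdecomp : ∀ y ∈ 𝔠', ∃ i ∈ KaehlerDifferential.ideal k A, ∃ a ∈ 𝔠,
      y = φ i + φ (a ⊗ₜ 1) := by
    intro y hy
    obtain ⟨x, rfl⟩ := hφ y
    have h2 : θ (φ x) = 0 := hy
    rw [hθφ, Ideal.Quotient.eq_zero_iff_mem] at h2
    refine ⟨x - (Algebra.TensorProduct.lmul' k x) ⊗ₜ 1, ?_, _, h2, ?_⟩
    · rw [RingHom.mem_ker, map_sub, Algebra.TensorProduct.lmul'_apply_tmul, mul_one, sub_self]
    · rw [← map_add, sub_add_cancel]
  -- a minimal prime below 𝔠'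
  obtain ⟨𝔮₀, h𝔮₀min, h𝔮₀le⟩ := Ideal.exists_minimalPrimes_le (I := ⊥) (J := 𝔠') bot_le
  haveI h𝔮₀p : 𝔮₀.IsPrime := h𝔮₀min.1.1
  haveI : Algebra.FiniteType k ((A ⧸ 𝔞) ⊗[k] (A ⧸ 𝔟)) :=
    Algebra.FiniteType.trans (inferInstance : Algebra.FiniteType k (A ⧸ 𝔞))
      (inferInstance : Algebra.FiniteType (A ⧸ 𝔞) ((A ⧸ 𝔞) ⊗[k] (A ⧸ 𝔟)))
  haveI : IsNoetherianRing ((A ⧸ 𝔞) ⊗[k] (A ⧸ 𝔟)) :=
    Algebra.FiniteType.isNoetherianRing k _
  let π := Ideal.Quotient.mk 𝔮₀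
  let s : Finset (((A ⧸ 𝔞) ⊗[k] (A ⧸ 𝔟)) ⧸ 𝔮₀) := Finset.univ.image (fun i => π (φ (m i)))
  have hs : s.card ≤ n := Finset.card_image_le.trans (by simp)
  haveI h𝔠''p := isPrime_map_mk 𝔮₀ 𝔠' h𝔮₀le
  have hmin : 𝔠'.map π ∈ Ideal.minimalPrimes (R := ((A ⧸ 𝔞) ⊗[k] (A ⧸ 𝔟)) ⧸ 𝔮₀)
      (Ideal.span (s : Set (((A ⧸ 𝔞) ⊗[k] (A ⧸ 𝔟)) ⧸ 𝔮₀))) := by
    refine ⟨⟨h𝔠''p, ?_⟩, ?_⟩
    · rw [Ideal.span_le]
      intro z hz
      simp only [s, Finset.coe_image, Finset.coe_univ, Set.image_univ, Set.mem_range] at hz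
      obtain ⟨i, rfl⟩ := hz
      exact Ideal.mem_map_of_mem π (hI𝔠' _ (hm i))
    · rintro 𝔭 ⟨h𝔭p, h𝔭s⟩ h𝔭le
      haveI := h𝔭p
      -- pull back to R'
      have h𝔭'le : 𝔭.comap π ≤ 𝔠' := by
        have := Ideal.comap_mono (f := π) h𝔭le
        rwa [comap_map_mk' 𝔮₀ 𝔠' h𝔮₀le] at this
      have hφI : ∀ i ∈ KaehlerDifferential.ideal k A, φ i ∈ 𝔭.comap π := by
        intro i hi
        have h1 : φ r * φ i ∈ 𝔭.comap π := by
          rw [← map_mul]
          have h2 := hrm i hi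
          have h3 : φ (r * i) ∈ Ideal.span (Set.range fun j => φ (m j)) := by
            have := Ideal.mem_map_of_mem φ.toRingHom h2
            rw [Ideal.map_span, ← Set.range_comp] at this
            exact this
          have h4 : Ideal.span (Set.range fun j => φ (m j)) ≤ 𝔭.comap π := by
            rw [Ideal.span_le]
            rintro _ ⟨j, rfl⟩
            show π (φ (m j)) ∈ 𝔭
            refine h𝔭s (Ideal.subset_span ?_)
            simp [s]
          exact h4 h3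
        exact ((Ideal.IsPrime.comap π).mem_or_mem h1).resolve_left (fun h => hr' (h𝔭'le h))
      -- the contraction of 𝔭' to A
      let ι₁ : A →+* (A ⧸ 𝔞) ⊗[k] (A ⧸ 𝔟) :=
        φ.toRingHom.comp (Algebra.TensorProduct.includeLeft : A →ₐ[k] A ⊗[k] A).toRingHom
      have hι₁ : ∀ a, ι₁ a = φ (a ⊗ₜ 1) := fun a => rfl
      have h𝔠le : 𝔠 ≤ (𝔭.comap π).comap ι₁ := by
        refine h𝔠.2 ⟨Ideal.IsPrime.comap ι₁, ?_⟩ ?_
        · refine sup_le ?_ ?_
          · intro a ha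
            show ι₁ a ∈ 𝔭.comap π
            have : ι₁ a = 0 := by
              rw [hι₁]
              simp only [φ, Algebra.TensorProduct.map_tmul, Ideal.Quotient.mkₐ_eq_mk]
              rw [Ideal.Quotient.eq_zero_iff_mem.mpr ha, TensorProduct.zero_tmul]
            rw [this]; exact zero_mem _
          · intro a ha
            show ι₁ a ∈ 𝔭.comap π
            have h1 : ι₁ a = φ (a ⊗ₜ 1 - 1 ⊗ₜ a) := by
              rw [hι₁, map_sub]
              have : φ ((1 : A) ⊗ₜ[k] a) = 0 := by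
                simp only [φ, Algebra.TensorProduct.map_tmul, Ideal.Quotient.mkₐ_eq_mk]
                rw [Ideal.Quotient.eq_zero_iff_mem.mpr ha, TensorProduct.tmul_zero]
              rw [this, sub_zero]
            rw [h1]
            refine hφI _ ?_
            rw [RingHom.mem_ker, map_sub, Algebra.TensorProduct.lmul'_apply_tmul,
              Algebra.TensorProduct.lmul'_apply_tmul, mul_one, one_mul, sub_self]
        · intro a ha
          have h1 : ι₁ a ∈ 𝔠' := h𝔭'le ha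
          have h2 : θ (φ (a ⊗ₜ 1)) = 0 := h1
          rw [hθφ, Algebra.TensorProduct.lmul'_apply_tmul, mul_one,
            Ideal.Quotient.eq_zero_iff_mem] at h2
          exact h2
      have h𝔠'le : 𝔠' ≤ 𝔭.comap π := by
        intro y hy
        obtain ⟨i, hi, a, ha, rfl⟩ := hdecomp y hy
        exact add_mem (hφI i hi) (h𝔠le ha)
      exact (Ideal.map_mono h𝔠'le).trans (Ideal.map_comap_le)
  haveI : IsNoetherianRing (((A ⧸ 𝔞) ⊗[k] (A ⧸ 𝔟)) ⧸ 𝔮₀) := inferInstance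
  have hht : (𝔠'.map π).height ≤ (s.card : ℕ∞) :=
    Ideal.height_le_card_of_mem_minimalPrimes_span_finset hmin
  have hdim := height_map_add_dim k ((A ⧸ 𝔞) ⊗[k] (A ⧸ 𝔟)) 𝔮₀ 𝔠' h𝔮₀le
  rw [dim_quot_minimalPrime k (A ⧸ 𝔞) (A ⧸ 𝔟) 𝔮₀ h𝔮₀min] at hdim
  have hquot : ringKrullDim (((A ⧸ 𝔞) ⊗[k] (A ⧸ 𝔟)) ⧸ 𝔠') = ringKrullDim (A ⧸ 𝔠) :=
    ringKrullDim_eq_of_ringEquiv (RingHom.quotientKerEquivOfSurjective hθ)
  rw [hquot] at hdim
  rw [← hdim, add_comm]
  gcongr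
  have h2 : (s.card : ℕ∞) ≤ (n : ℕ∞) := by exact_mod_cast hs
  exact_mod_cast hht.trans h2




theorem exists_nat_of_add_eq (h : ℕ∞) (d : WithBot ℕ∞) (n : ℕ)
    (hsum : (h : WithBot ℕ∞) + d = (n : WithBot ℕ∞)) :
    ∃ h' d' : ℕ, h = (h' : ℕ∞) ∧ d = ((d' : ℕ) : WithBot ℕ∞) ∧ h' + d' = n := by
  induction d with
  | bot => simp at hsum
  | coe d₁ =>
    have h1 : h + d₁ = (n : ℕ∞) := by exact_mod_cast hsum
    have hh : h ≠ ⊤ := by
      rintro rfl
      simp at h1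
    have hd : d₁ ≠ ⊤ := by
      rintro rfl
      simp at h1
    lift h to ℕ using hh
    lift d₁ to ℕ using hd
    refine ⟨h, d₁, rfl, rfl, ?_⟩
    exact_mod_cast h1

open Groth.Agent.Lib.Helper4.DimFT2 Groth.Agent.Lib.Helper4.DimFT1 in
/-- in a domain standard smooth over a field, the height of a minimal prime over the sum of two
primes is at most the sum of their heights -/
theorem height_le_add (k A : Type u) [Field k] [CommRing A] [IsDomain A] [Algebra k A] (n : ℕ)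
    [Algebra.IsStandardSmoothOfRelativeDimension n k A] (𝔞 𝔟 𝔠 : Ideal A) [h𝔞 : 𝔞.IsPrime]
    [h𝔟 : 𝔟.IsPrime] (h𝔠 : 𝔠 ∈ (𝔞 ⊔ 𝔟).minimalPrimes) : 𝔠.height ≤ 𝔞.height + 𝔟.height := by
  haveI : Algebra.IsStandardSmooth k A :=
    Algebra.IsStandardSmoothOfRelativeDimension.isStandardSmooth n
  haveI : Algebra.FiniteType k A := inferInstance
  haveI h𝔠p : 𝔠.IsPrime := h𝔠.1.1
  have hdimA : ringKrullDim A = (n : WithBot ℕ∞) := by
    have h1 := Groth.Agent.Helper2.SmoothRelDim.localDim_eq_of_isStandardSmoothOfRelativeDimension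
      (k := k) (A := A) n (⊥ : Ideal A)
    rw [localDim_spec_eq (k := k) (⊥ : Ideal A), height_add_dim_quotient k A (⊥ : Ideal A)] at h1
    exact h1
  have hrank : Module.finrank A Ω[A⁄k] = n := by
    have h1 : Module.rank A Ω[A⁄k] = n :=
      Algebra.IsStandardSmoothOfRelativeDimension.rank_kaehlerDifferential n
    rw [Module.finrank, h1]; simp
  haveI : Module.Finite A Ω[A⁄k] := inferInstance
  let bas := Module.finBasisOfFinrankEq A Ω[A⁄k] hrank
  have hmain := dim_add_le k A n bas bas.span_eq 𝔞 𝔟 𝔠 h𝔠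
  have ha := height_add_dim_quotient k A 𝔞
  have hb := height_add_dim_quotient k A 𝔟
  have hc := height_add_dim_quotient k A 𝔠
  rw [hdimA] at ha hb hc
  obtain ⟨a, da, ha1, ha2, ha3⟩ := exists_nat_of_add_eq _ _ _ ha
  obtain ⟨b, db, hb1, hb2, hb3⟩ := exists_nat_of_add_eq _ _ _ hb
  obtain ⟨c, dc, hc1, hc2, hc3⟩ := exists_nat_of_add_eq _ _ _ hc
  rw [ha2, hb2, hc2] at hmain
  rw [ha1, hb1, hc1]
  have hmain' : da + db ≤ dc + n := by exact_mod_cast hmain
  have : c ≤ a + b := by omega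
  exact_mod_cast this





open Groth.Agent.Lib.Helper4.FibDim1 Groth.Agent.Lib.Helper4.FlatDimK1
  Groth.Agent.Lib.Helper4.RadBir3 Groth.Agent.Lib.Helper4.PropDim1 in
theorem main (k : Type u) [Field k] (X : Scheme.{u})
    (f : X ⟶ Spec (CommRingCat.of k)) [Smooth f] [IsSeparated f] [QuasiCompact f] [IsIntegral X]
    (n r s : ℕ) (hn : topologicalKrullDim X = n) (V W : Set X) (hVc : IsClosed V)
    (hVi : IsIrreducible V) (hWc : IsClosed W) (hWi : IsIrreducible W)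
    (hr : topologicalKrullDim ↥V = r) (hs : topologicalKrullDim ↥W = s) (Z : Set ↥(V ∩ W))
    (hZ : Z ∈ irreducibleComponents ↥(V ∩ W)) :
    ((r + s : ℕ) : WithBot ℕ∞) ≤ topologicalKrullDim ↥Z + n := by
  haveI : LocallyOfFiniteType f := inferInstance
  -- the image of Z in X
  have hZc : IsClosed Z := isClosed_of_mem_irreducibleComponents Z hZ
  have hZ'c : IsClosed (Subtype.val '' Z : Set X) :=
    (hVc.inter hWc).isClosedEmbedding_subtypeVal.isClosedMap _ hZc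
  have hZ'i : IsIrreducible (Subtype.val '' Z : Set X) :=
    hZ.1.image _ continuous_subtype_val.continuousOn
  have hdimZ : topologicalKrullDim ↥Z = topologicalKrullDim ↥(Subtype.val '' Z : Set X) :=
    (Topology.IsEmbedding.subtypeVal.homeomorphImage Z).isHomeomorph.topologicalKrullDim_eq
  -- generic points
  obtain ⟨ν, hν⟩ := QuasiSober.sober hVi hVc
  obtain ⟨ω, hω⟩ := QuasiSober.sober hWi hWc
  obtain ⟨ζ₀, hζ₀⟩ := QuasiSober.sober hZ'i hZ'c
  have hν' : closure ({ν} : Set X) = V := hν.def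
  have hω' : closure ({ω} : Set X) = W := hω.def
  have hζ₀' : closure ({ζ₀} : Set X) = Subtype.val '' Z := hζ₀.def
  have hζ₀Z : ζ₀ ∈ (Subtype.val '' Z : Set X) := hζ₀' ▸ subset_closure rfl
  obtain ⟨z₀, hz₀Z, hz₀⟩ := hζ₀Z
  have hζ₀V : ζ₀ ∈ V := hz₀ ▸ z₀.2.1
  have hζ₀W : ζ₀ ∈ W := hz₀ ▸ z₀.2.2
  have hνζ : ν ⤳ ζ₀ := by rw [specializes_iff_mem_closure, hν']; exact hζ₀V
  have hωζ : ω ⤳ ζ₀ := by rw [specializes_iff_mem_closure, hω']; exact hζ₀W
  -- dimensions as transcendence degrees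
  have hr' : ((tr f ν : ℕ) : WithBot ℕ∞) = r := by
    rw [← dim_closure_of_field k f ν, hν', hr]
  have hs' : ((tr f ω : ℕ) : WithBot ℕ∞) = s := by
    rw [← dim_closure_of_field k f ω, hω', hs]
  have hz' : ((tr f ζ₀ : ℕ) : WithBot ℕ∞) = topologicalKrullDim ↥Z := by
    rw [← dim_closure_of_field k f ζ₀, hζ₀', hdimZ]
  have hn' : ((tr f (genericPoint X) : ℕ) : WithBot ℕ∞) = n := by
    rw [← dim_of_irreducible k f, hn]
  have hstalk : ∀ x : X, ringKrullDim (X.presheaf.stalk x) + (tr f x : WithBot ℕ∞) =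
      (n : WithBot ℕ∞) := by
    intro x
    obtain ⟨ξ, hξx, hξmax, heq⟩ := exists_max_gen_stalk_dim k f x
    have hξ : ξ = genericPoint X := (hξmax _ (genericPoint_specializes ξ)).symm
    rw [heq, hξ, hn']
  -- the chart
  obtain ⟨U₀, hU₀, V₀, hV₀, hζV₀, e, n', hstd, -⟩ :=
    Groth.Agent.Helper2.SmoothRelDim.exists_affine_standardSmooth f ζ₀
  have hUtop : U₀ = ⊤ := by
    ext w
    simp only [Opens.coe_top, Set.mem_univ, iff_true]
    have hgz : f ζ₀ ∈ U₀ := e hζV₀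
    haveI : Subsingleton ↥(Spec (.of k)) := inferInstanceAs (Subsingleton (PrimeSpectrum k))
    rw [Subsingleton.elim w (f ζ₀)]
    exact hgz
  subst hUtop
  let eK : k ≃+* Γ(Spec (.of k), ⊤) := (Scheme.ΓSpecIso (.of k)).symm.commRingCatIsoToRingEquiv
  have hψ : ((f.appLE ⊤ V₀ e).hom.comp eK.toRingHom).IsStandardSmoothOfRelativeDimension n' :=
    (RingHom.isStandardSmoothOfRelativeDimension_respectsIso (n := n')).2 _ eK hstd
  algebraize [(f.appLE ⊤ V₀ e).hom.comp eK.toRingHom]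
  haveI : Nonempty V₀ := ⟨⟨ζ₀, hζV₀⟩⟩
  haveI : IsDomain Γ(X, V₀) := inferInstance
  have hνV₀ : ν ∈ V₀ := hνζ.mem_open V₀.2 hζV₀
  have hωV₀ : ω ∈ V₀ := hωζ.mem_open V₀.2 hζV₀
  have h𝔠 : (hV₀.primeIdealOf ⟨ζ₀, hζV₀⟩).asIdeal ∈
      ((hV₀.primeIdealOf ⟨ν, hνV₀⟩).asIdeal ⊔ (hV₀.primeIdealOf ⟨ω, hωV₀⟩).asIdeal).minimalPrimes := by
    refine ⟨⟨(hV₀.primeIdealOf ⟨ζ₀, hζV₀⟩).isPrime, sup_le ?_ ?_⟩, ?_⟩
    · exact (specializes_iff_primeIdealOf_le hV₀ ⟨ν, hνV₀⟩ ⟨ζ₀, hζV₀⟩).mp hνζ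
    · exact (specializes_iff_primeIdealOf_le hV₀ ⟨ω, hωV₀⟩ ⟨ζ₀, hζV₀⟩).mp hωζ
    · rintro 𝔮 ⟨h𝔮prime, h𝔮J⟩ h𝔮le
      obtain ⟨ζ', hζ'def⟩ : ∃ ζ' : X, ζ' = hV₀.fromSpec ⟨𝔮, h𝔮prime⟩ := ⟨_, rfl⟩
      have hζ'V : ζ' ∈ V₀ := by rw [hζ'def]; exact fromSpec_mem hV₀ _
      have hζ'P : hV₀.primeIdealOf ⟨ζ', hζ'V⟩ = ⟨𝔮, h𝔮prime⟩ := by
        have := primeIdealOf_fromSpec hV₀ ⟨𝔮, h𝔮prime⟩
        have h2 : hV₀.primeIdealOf ⟨ζ', hζ'V⟩ =
            hV₀.primeIdealOf ⟨hV₀.fromSpec ⟨𝔮, h𝔮prime⟩, fromSpec_mem hV₀ _⟩ := by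
          congr 1
          exact Subtype.ext hζ'def
        rw [h2, this]
      have hsp : ζ' ⤳ ζ₀ := by
        rw [specializes_iff_primeIdealOf_le hV₀ ⟨ζ', hζ'V⟩ ⟨ζ₀, hζV₀⟩, hζ'P]
        exact h𝔮le
      have hνζ' : ν ⤳ ζ' := by
        rw [specializes_iff_primeIdealOf_le hV₀ ⟨ν, hνV₀⟩ ⟨ζ', hζ'V⟩, hζ'P]
        exact le_sup_left.trans h𝔮J
      have hωζ' : ω ⤳ ζ' := by
        rw [specializes_iff_primeIdealOf_le hV₀ ⟨ω, hωV₀⟩ ⟨ζ', hζ'V⟩, hζ'P]
        exact le_sup_right.trans h𝔮J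
      have hζ'VW : ζ' ∈ V ∩ W := by
        constructor
        · rw [← hν']; exact specializes_iff_mem_closure.mp hνζ'
        · rw [← hω']; exact specializes_iff_mem_closure.mp hωζ'
      -- maximality of Z
      have hsub : Z ⊆ closure ({⟨ζ', hζ'VW⟩} : Set ↥(V ∩ W)) := by
        intro z hz
        rw [← specializes_iff_mem_closure, subtype_specializes_iff]
        have h1 : (z : X) ∈ closure ({ζ₀} : Set X) := by rw [hζ₀']; exact ⟨z, hz, rfl⟩
        exact hsp.trans (specializes_iff_mem_closure.mpr h1)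
      have hle : closure ({⟨ζ', hζ'VW⟩} : Set ↥(V ∩ W)) ⊆ Z :=
        hZ.2 isIrreducible_singleton.closure hsub
      have hζ'Z : (⟨ζ', hζ'VW⟩ : ↥(V ∩ W)) ∈ Z := hle (subset_closure rfl)
      have hζ₀ζ' : ζ₀ ⤳ ζ' := by
        rw [specializes_iff_mem_closure, hζ₀']
        exact ⟨_, hζ'Z, rfl⟩
      have := (specializes_iff_primeIdealOf_le hV₀ ⟨ζ₀, hζV₀⟩ ⟨ζ', hζ'V⟩).mp hζ₀ζ'
      rwa [hζ'P] at this
  have hht := height_le_add k Γ(X, V₀) n' _ _ _ h𝔠
  -- conclude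
  have ha := hstalk ν
  have hb := hstalk ω
  have hc := hstalk ζ₀
  rw [Groth.Agent.Lib.Helper4.DimFT3.ringKrullDim_stalk_eq_height hV₀ _ hνV₀] at ha
  rw [Groth.Agent.Lib.Helper4.DimFT3.ringKrullDim_stalk_eq_height hV₀ _ hωV₀] at hb
  rw [Groth.Agent.Lib.Helper4.DimFT3.ringKrullDim_stalk_eq_height hV₀ _ hζV₀] at hc
  obtain ⟨a, da, ha1, ha2, ha3⟩ := exists_nat_of_add_eq _ _ _ ha
  obtain ⟨b, db, hb1, hb2, hb3⟩ := exists_nat_of_add_eq _ _ _ hb
  obtain ⟨c, dc, hc1, hc2, hc3⟩ := exists_nat_of_add_eq _ _ _ hc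
  rw [ha1, hb1, hc1] at hht
  have hht' : c ≤ a + b := by exact_mod_cast hht
  have hda : da = r := by
    have : ((da : ℕ) : WithBot ℕ∞) = (r : ℕ) := by rw [← ha2, ← hr']
    exact_mod_cast this
  have hdb : db = s := by
    have : ((db : ℕ) : WithBot ℕ∞) = (s : ℕ) := by rw [← hb2, ← hs']
    exact_mod_cast this
  have hdc : topologicalKrullDim ↥Z = ((dc : ℕ) : WithBot ℕ∞) := by
    rw [← hz', ← hc2]
  rw [hdc]
  have : r + s ≤ dc + n := by omega
  exact_mod_cast this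

end Groth.Agent.Lib.Helper4.InterDim1
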