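import Mathlib

namespace Groth.Agent.Helper4.IV

open TensorProduct

universe u v w w'

theorem averageMap_eq {R : Type*} [CommRing R] {G : Type*} [Group G] [Fintype G]
    [Invertible (Fintype.card G : R)] {M : Type*} [AddCommGroup M] [Module R M]
    (ρ : Representation R G M) :
    ρ.averageMap = ⅟(Fintype.card G : R) • ∑ g : G, ρ g := by
  simp [Representation.averageMap, GroupAlgebra.average, map_sum]

theorem invariants_rTensor {R : Type u} [CommRing R]
    {G : Type v} [Group G] [Finite G] (hG : IsUnit ((Nat.card G : ℕ) : R))
    {M : Type w} {N : Type w'} [AddCommGroup M] [Module R M] [AddCommGroup N] [Module R N]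
    (ρ : Representation R G M) :
    Function.Injective (LinearMap.rTensor N ρ.invariants.subtype) ∧
      LinearMap.range (LinearMap.rTensor N ρ.invariants.subtype) =
        (ρ.tprod (Representation.trivial R G N)).invariants := by
  classical
  have := Fintype.ofFinite G
  rw [Nat.card_eq_fintype_card] at hG
  have hinv : Invertible (Fintype.card G : R) := hG.invertible
  let e : M →ₗ[R] M := ρ.averageMap
  let r : M →ₗ[R] ρ.invariants := e.codRestrict _ ρ.averageMap_invariant
  have hrι : r ∘ₗ ρ.invariants.subtype = LinearMap.id := by
    ext x
    exact ρ.averageMap_id x.1 x.2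
  have hιr : ρ.invariants.subtype ∘ₗ r = e := by
    ext x
    rfl
  constructor
  · apply Function.LeftInverse.injective (g := LinearMap.rTensor N r)
    intro x
    rw [← LinearMap.comp_apply, ← LinearMap.rTensor_comp, hrι, LinearMap.rTensor_id,
      LinearMap.id_apply]
  · apply le_antisymm
    · rintro _ ⟨x, rfl⟩
      intro g
      rw [Representation.tprod_apply]
      have h1 : TensorProduct.map (ρ g) ((Representation.trivial R G N) g) =
          LinearMap.rTensor N (ρ g) := by
        ext m n
        simp
      rw [h1, ← LinearMap.comp_apply, ← LinearMap.rTensor_comp]
      congr 2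
      ext y
      exact y.2 g
    · intro y hy
      have h2 : LinearMap.rTensor N e y = y := by
        have he : e = ⅟(Fintype.card G : R) • ∑ g : G, ρ g := averageMap_eq ρ
        rw [he, LinearMap.rTensor_smul, LinearMap.smul_apply]
        have : LinearMap.rTensor N (∑ g : G, ρ g) y = ∑ g : G, LinearMap.rTensor N (ρ g) y := by
          have := map_sum (LinearMap.rTensorHom (R := R) (M := N) (N := M) (P := M))
            (fun g : G => ρ g) Finset.univ
          simp only [LinearMap.coe_rTensorHom] at this
          rw [this, LinearMap.sum_apply]
        rw [this]
        have h3 : ∀ g : G, LinearMap.rTensor N (ρ g) y = y := by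
          intro g
          have := hy g
          rw [Representation.tprod_apply] at this
          have h1 : TensorProduct.map (ρ g) ((Representation.trivial R G N) g) =
              LinearMap.rTensor N (ρ g) := by
            ext m n
            simp
          rw [h1] at this
          exact this
        simp only [h3, Finset.sum_const, Finset.card_univ]
        rw [← Nat.cast_smul_eq_nsmul R, smul_smul, invOf_mul_self, one_smul]
      rw [← h2, ← hιr, LinearMap.rTensor_comp, LinearMap.comp_apply]
      exact ⟨_, rfl⟩

end Groth.Agent.Helper4.IV
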