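import Mathlib

namespace Groth.Agent.Helper4.IV

open TensorProduct

universe u v w w'

theorem invariants_flat_baseChange
    (R : Type u) [CommRing R] (B : Type v) [CommRing B] [Algebra R B]
    (Γ : Type w) [Group Γ] [Finite Γ] [MulSemiringAction Γ B] [SMulCommClass Γ R B]
    (R' : Type w') [CommRing R'] [Algebra R R'] [Module.Flat R R']
    (x : R' ⊗[R] B) :
    (∀ γ : Γ, Algebra.TensorProduct.map (AlgHom.id R R') (MulSemiringAction.toAlgHom R B γ) x = x) ↔
      x ∈ Submodule.span R' ((fun b : B => (1 : R') ⊗ₜ[R] b) '' {b : B | ∀ γ : Γ, γ • b = b}) := by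
  classical
  have := Fintype.ofFinite Γ
  let K : Submodule R B :=
    { carrier := {b | ∀ γ : Γ, γ • b = b}
      add_mem' := fun {a b} ha hb γ => by rw [smul_add, ha γ, hb γ]
      zero_mem' := fun γ => smul_zero γ
      smul_mem' := fun r b hb γ => by rw [smul_comm, hb γ] }
  let δ : Γ → B →ₗ[R] B := fun γ => (MulSemiringAction.toAlgHom R B γ).toLinearMap - LinearMap.id
  let φ : B →ₗ[R] (Γ → B) := LinearMap.pi δ
  have hex : Function.Exact K.subtype φ := by
    intro b
    constructor
    · intro hb
      refine ⟨⟨b, fun γ => ?_⟩, rfl⟩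
      have := congrFun hb γ
      simp only [φ, δ, LinearMap.pi_apply, LinearMap.sub_apply, AlgHom.toLinearMap_apply,
        MulSemiringAction.toAlgHom_apply, LinearMap.id_apply, Pi.zero_apply] at this
      exact sub_eq_zero.mp this
    · rintro ⟨k, rfl⟩
      funext γ
      simp only [φ, δ, LinearMap.pi_apply, LinearMap.sub_apply, AlgHom.toLinearMap_apply,
        MulSemiringAction.toAlgHom_apply, LinearMap.id_apply, Pi.zero_apply]
      exact sub_eq_zero.mpr (k.2 γ)
  have hex' := Module.Flat.lTensor_exact R' hex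
  have hmap : ∀ (γ : Γ) (y : R' ⊗[R] B),
      Algebra.TensorProduct.map (AlgHom.id R R') (MulSemiringAction.toAlgHom R B γ) y =
        LinearMap.lTensor R' (MulSemiringAction.toAlgHom R B γ).toLinearMap y := by
    intro γ y
    induction y using TensorProduct.induction_on with
    | zero => simp
    | tmul a b => simp
    | add a b ha hb => rw [map_add, map_add, ha, hb]
  have hfix : (∀ γ : Γ, Algebra.TensorProduct.map (AlgHom.id R R')
      (MulSemiringAction.toAlgHom R B γ) x = x) ↔ LinearMap.lTensor R' φ x = 0 := by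
    have hcomp : ∀ γ, LinearMap.lTensor R' (LinearMap.proj γ) (LinearMap.lTensor R' φ x) =
        LinearMap.lTensor R' (MulSemiringAction.toAlgHom R B γ).toLinearMap x - x := by
      intro γ
      rw [← LinearMap.comp_apply, ← LinearMap.lTensor_comp]
      have : (LinearMap.proj γ : (Γ → B) →ₗ[R] B) ∘ₗ φ = δ γ := by
        ext b; rfl
      rw [this]
      change LinearMap.lTensor R' ((MulSemiringAction.toAlgHom R B γ).toLinearMap -
        LinearMap.id) x = _
      rw [LinearMap.lTensor_sub, LinearMap.sub_apply, LinearMap.lTensor_id, LinearMap.id_apply]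
    constructor
    · intro h
      have hsum : (∑ γ : Γ, (LinearMap.single R (fun _ : Γ => B) γ) ∘ₗ (LinearMap.proj γ)) =
          (LinearMap.id : (Γ → B) →ₗ[R] (Γ → B)) := by
        ext f γ'
        simp [Finset.sum_apply, Pi.single_apply]
      have h1 : LinearMap.lTensor R' φ x = LinearMap.lTensor R' (LinearMap.id) 
          (LinearMap.lTensor R' φ x) := by rw [LinearMap.lTensor_id, LinearMap.id_apply]
      rw [h1, ← hsum]
      have h2 := map_sum (LinearMap.lTensorHom (R := R) (M := R') (N := (Γ → B)) (P := (Γ → B)))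
        (fun γ : Γ => (LinearMap.single R (fun _ : Γ => B) γ) ∘ₗ (LinearMap.proj γ)) Finset.univ
      simp only [LinearMap.coe_lTensorHom] at h2
      rw [h2, LinearMap.sum_apply]
      refine Finset.sum_eq_zero fun γ _ => ?_
      rw [LinearMap.lTensor_comp, LinearMap.comp_apply, hcomp γ, ← hmap, h γ, sub_self, map_zero]
    · intro h γ
      have := hcomp γ
      rw [h, map_zero] at this
      rw [hmap]
      exact (sub_eq_zero.mp this.symm)
  rw [hfix]
  have hrange : ∀ y : R' ⊗[R] K, LinearMap.lTensor R' K.subtype y ∈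
      Submodule.span R' ((fun b : B => (1 : R') ⊗ₜ[R] b) '' {b : B | ∀ γ : Γ, γ • b = b}) := by
    intro y
    induction y using TensorProduct.induction_on with
    | zero => simp
    | tmul a k =>
      have : LinearMap.lTensor R' K.subtype (a ⊗ₜ[R] k) = a • ((1 : R') ⊗ₜ[R] (k : B)) := by
        rw [LinearMap.lTensor_tmul, TensorProduct.smul_tmul', smul_eq_mul, mul_one]
        rfl
      rw [this]
      exact Submodule.smul_mem _ _ (Submodule.subset_span ⟨k.1, k.2, rfl⟩)
    | add a b ha hb => rw [map_add]; exact Submodule.add_mem _ ha hb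
  have hsmul : ∀ (r' : R') (y : R' ⊗[R] K), LinearMap.lTensor R' K.subtype (r' • y) =
      r' • LinearMap.lTensor R' K.subtype y := by
    intro r' y
    induction y using TensorProduct.induction_on with
    | zero => simp
    | tmul c k =>
      rw [TensorProduct.smul_tmul', LinearMap.lTensor_tmul, LinearMap.lTensor_tmul,
        TensorProduct.smul_tmul']
    | add c d hc hd => rw [smul_add, map_add, hc, hd, map_add, smul_add]
  have hspan : ∀ z ∈ Submodule.span R' ((fun b : B => (1 : R') ⊗ₜ[R] b) ''
      {b : B | ∀ γ : Γ, γ • b = b}), z ∈ Set.range (LinearMap.lTensor R' K.subtype) := by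
    intro z hz
    induction hz using Submodule.span_induction with
    | mem z hz =>
      obtain ⟨b, hb, rfl⟩ := hz
      exact ⟨(1 : R') ⊗ₜ[R] (⟨b, hb⟩ : K), rfl⟩
    | zero => exact ⟨0, map_zero _⟩
    | add a b _ _ ha hb =>
      obtain ⟨a', rfl⟩ := ha
      obtain ⟨b', rfl⟩ := hb
      exact ⟨a' + b', map_add _ _ _⟩
    | smul r' a _ ha =>
      obtain ⟨a', rfl⟩ := ha
      exact ⟨r' • a', hsmul r' a'⟩
  constructor
  · intro h
    obtain ⟨y, rfl⟩ := (hex' x).mp h
    exact hrange y
  · intro h
    rw [hex' x]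
    exact hspan x h

end Groth.Agent.Helper4.IV
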