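import Mathlib
import Groth.Agent.Lib.Helper4.AbCatH1

/-!
# Hopf-algebraic lemmas for the isomorphism criterion: finite-dimensionality from a nil augmentation ideal, the Nullstellensatz for geometric points, a Cartier-type lemma in characteristic zero, Frobenius kernels, and a Krull-intersection/flatness lemma (helper4)
-/

set_option backward.isDefEq.respectTransparency.types false
set_option synthInstance.maxHeartbeats 400000
set_option autoImplicit false
set_option linter.unusedSectionVars false
set_option linter.style.haveILetI false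
set_option linter.unusedSimpArgs false
universe u v w
open scoped TensorProduct
open Groth.Agent.Helper2.FF
open Groth.Agent.Helper2.MultPart

namespace Groth.Agent.Lib.Helper4.IsoCrit1

noncomputable section

variable {k : Type u} [Field k]

section L1

variable {N : Type u} [CommRing N] [HopfAlgebra k N]

variable (k N) in
include k in
lemma nontrivial_of_hopf : Nontrivial N := by
  refine ⟨⟨0, 1, fun h => ?_⟩⟩
  have h1 := congrArg (Coalgebra.counit (R := k)) h
  rw [map_zero, Bialgebra.counit_one] at h1
  exact zero_ne_one h1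

lemma sub_counit_nil (hnil : ∀ y : N, Coalgebra.counit (R := k) y = 0 → IsNilpotent y) (x : N) :
    IsNilpotent (x - algebraMap k N (Coalgebra.counit (R := k) x)) := by
  apply hnil
  rw [map_sub, Bialgebra.counit_algebraMap, sub_self]

/-- a finitely generated Hopf algebra with nil augmentation ideal is finite-dimensional -/
lemma finite_of_nil [Algebra.FiniteType k N]
    (hnil : ∀ y : N, Coalgebra.counit (R := k) y = 0 → IsNilpotent y) : Module.Finite k N := by
  obtain ⟨s, hs⟩ := (Algebra.FiniteType.out : (⊤ : Subalgebra k N).FG)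
  have hint : ∀ x ∈ (s : Set N), IsIntegral k x := by
    intro x _
    have h2 : IsIntegral k (x - algebraMap k N (Coalgebra.counit (R := k) x)) := by
      obtain ⟨n, hn⟩ := sub_counit_nil hnil x
      refine ⟨Polynomial.X ^ n, Polynomial.monic_X_pow n, ?_⟩
      rw [Polynomial.eval₂_X_pow, hn]
    have h3 := h2.add (isIntegral_algebraMap (x := Coalgebra.counit (R := k) x))
    rwa [sub_add_cancel] at h3
  have h4 := fg_adjoin_of_finite s.finite_toSet hint
  rw [hs, Algebra.top_toSubmodule] at h4
  exact Module.finite_def.mpr h4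

/-- an element with nonzero counit is a unit if the augmentation ideal is nil -/
lemma isUnit_of_counit_ne_zero (hnil : ∀ y : N, Coalgebra.counit (R := k) y = 0 → IsNilpotent y)
    (x : N) (hx : Coalgebra.counit (R := k) x ≠ 0) : IsUnit x := by
  have h1 := sub_counit_nil hnil x
  have h2 : IsUnit (algebraMap k N (Coalgebra.counit (R := k) x)) :=
    (IsUnit.mk0 _ hx).map (algebraMap k N)
  have h3 := h1.isUnit_add_right_of_commute h2 (Commute.all _ _)
  rwa [sub_add_cancel] at h3

end L1

section L2

variable (K : Type u) [Field K] [Algebra k K] [IsAlgClosure k K]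
variable {B : Type u} [CommRing B] [Algebra k B] [Algebra.FiniteType k B]

/-- an element of a finitely generated algebra vanishing at all geometric points is nilpotent -/
lemma isNilpotent_of_points (x : B) (hx : ∀ y : B →ₐ[k] K, y x = 0) : IsNilpotent x := by
  haveI : IsJacobsonRing B := isJacobsonRing_of_finiteType (A := k) (B := B)
  haveI : IsAlgClosed K := IsAlgClosure.isAlgClosed k
  rw [← mem_nilradical]
  show x ∈ (⊥ : Ideal B).radical
  rw [Ideal.radical_eq_jacobson, Ideal.jacobson, Ideal.mem_sInf]
  rintro m ⟨-, hm⟩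
  letI : Field (B ⧸ m) := Ideal.Quotient.field m
  haveI : Algebra.FiniteType k (B ⧸ m) :=
    Algebra.FiniteType.of_surjective (Ideal.Quotient.mkₐ k m) Ideal.Quotient.mk_surjective
  haveI : Module.Finite k (B ⧸ m) := finite_of_finite_type_of_isJacobsonRing k (B ⧸ m)
  haveI : Algebra.IsAlgebraic k (B ⧸ m) := Algebra.IsAlgebraic.of_finite k (B ⧸ m)
  let l : (B ⧸ m) →ₐ[k] K := IsAlgClosed.lift
  have h1 := hx (l.comp (Ideal.Quotient.mkₐ k m))
  have h2 : l (Ideal.Quotient.mk m x) = 0 := h1
  have h3 : Ideal.Quotient.mk m x = 0 := by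
    have := (RingHom.injective (l : (B ⧸ m) →+* K))
    exact this (by rw [map_zero]; exact h2)
  exact Ideal.Quotient.eq_zero_iff_mem.mp h3

end L2

section cartier

variable {D : Type u} [CommRing D] [HopfAlgebra k D]

/-- contraction of the second tensor factor with a functional -/
def LL (l : D →ₗ[k] k) : D ⊗[k] D →ₗ[k] D :=
  (TensorProduct.rid k D).toLinearMap ∘ₗ LinearMap.lTensor D l

lemma LL_tmul (l : D →ₗ[k] k) (a b : D) : LL l (a ⊗ₜ[k] b) = l b • a := by
  simp [LL]

lemma LL_counit_comul (a : D) :
    LL (Coalgebra.counit (R := k)) (Coalgebra.comul (R := k) a) = a := by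
  show (TensorProduct.rid k D) (LinearMap.lTensor D (Coalgebra.counit (R := k))
    (Coalgebra.comul (R := k) a)) = a
  rw [Coalgebra.lTensor_counit_comul]
  simp

lemma LL_mul (l : D →ₗ[k] k)
    (hl : ∀ b d : D, l (b * d) =
      Coalgebra.counit (R := k) b * l d + l b * Coalgebra.counit (R := k) d)
    (s t : D ⊗[k] D) :
    LL l (s * t) = LL (Coalgebra.counit (R := k)) s * LL l t +
      LL l s * LL (Coalgebra.counit (R := k)) t := by
  induction s using TensorProduct.induction_on with
  | zero => simp
  | add s₁ s₂ h₁ h₂ =>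
    rw [add_mul, map_add, h₁, h₂, map_add, map_add]
    ring
  | tmul a b =>
    induction t using TensorProduct.induction_on with
    | zero => simp
    | add t₁ t₂ h₁ h₂ =>
      rw [mul_add, map_add, h₁, h₂, map_add, map_add]
      ring
    | tmul c d =>
      rw [Algebra.TensorProduct.tmul_mul_tmul, LL_tmul, LL_tmul, LL_tmul, LL_tmul, LL_tmul, hl]
      simp only [Algebra.smul_def, map_add, map_mul]
      ring

lemma l_mul (l : D →ₗ[k] k) (h1 : l 1 = 0)
    (h2 : ∀ a b : D, Coalgebra.counit (R := k) a = 0 → Coalgebra.counit (R := k) b = 0 →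
      l (a * b) = 0) (b d : D) :
    l (b * d) = Coalgebra.counit (R := k) b * l d + l b * Coalgebra.counit (R := k) d := by
  have eb : Coalgebra.counit (R := k) (b - algebraMap k D (Coalgebra.counit (R := k) b)) = 0 := by
    rw [map_sub, Bialgebra.counit_algebraMap, sub_self]
  have ed : Coalgebra.counit (R := k) (d - algebraMap k D (Coalgebra.counit (R := k) d)) = 0 := by
    rw [map_sub, Bialgebra.counit_algebraMap, sub_self]
  have key : b * d = (Coalgebra.counit (R := k) b * Coalgebra.counit (R := k) d) • (1 : D) +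
      Coalgebra.counit (R := k) b • (d - algebraMap k D (Coalgebra.counit (R := k) d)) +
      Coalgebra.counit (R := k) d • (b - algebraMap k D (Coalgebra.counit (R := k) b)) +
      (b - algebraMap k D (Coalgebra.counit (R := k) b)) *
        (d - algebraMap k D (Coalgebra.counit (R := k) d)) := by
    simp only [Algebra.smul_def, map_mul, mul_one]
    ring
  have hA : ∀ c : k, l (algebraMap k D c) = 0 := by
    intro c
    rw [Algebra.algebraMap_eq_smul_one, map_smul, h1, smul_zero]
  have hb2 : l (b - algebraMap k D (Coalgebra.counit (R := k) b)) = l b := by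
    rw [map_sub, hA, sub_zero]
  have hd2 : l (d - algebraMap k D (Coalgebra.counit (R := k) d)) = l d := by
    rw [map_sub, hA, sub_zero]
  have e := congrArg l key
  rw [map_add, map_add, map_add, map_smul, map_smul, map_smul, h1, h2 _ _ eb ed, hb2, hd2] at e
  rw [e]
  simp only [smul_eq_mul]
  ring

/-- the invariant derivation attached to a functional -/
def dd (l : D →ₗ[k] k) : D →ₗ[k] D := LL l ∘ₗ Coalgebra.comul (R := k)

lemma dd_mul (l : D →ₗ[k] k)
    (hl : ∀ b d : D, l (b * d) =
      Coalgebra.counit (R := k) b * l d + l b * Coalgebra.counit (R := k) d) (a b : D) :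
    dd l (a * b) = a * dd l b + dd l a * b := by
  show LL l (Coalgebra.comul (R := k) (a * b)) = _
  rw [Bialgebra.comul_mul, LL_mul l hl, LL_counit_comul, LL_counit_comul]
  rfl

lemma counit_dd (l : D →ₗ[k] k) (y : D) : Coalgebra.counit (R := k) (dd l y) = l y := by
  have h : (Coalgebra.counit (R := k)) ∘ₗ LL l =
      l ∘ₗ (TensorProduct.lid k D).toLinearMap ∘ₗ
        LinearMap.rTensor D (Coalgebra.counit (R := k)) := by
    apply TensorProduct.ext'
    intro a b
    simp [LL_tmul, mul_comm]
  have h1 := LinearMap.congr_fun h (Coalgebra.comul (R := k) y)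
  simp only [LinearMap.comp_apply, Coalgebra.rTensor_counit_comul] at h1
  rw [show dd l y = LL l (Coalgebra.comul (R := k) y) from rfl, h1]
  simp

lemma dd_pow (l : D →ₗ[k] k)
    (hl : ∀ b d : D, l (b * d) =
      Coalgebra.counit (R := k) b * l d + l b * Coalgebra.counit (R := k) d) (x : D) (n : ℕ) :
    dd l (x ^ (n + 1)) = (n + 1) • (x ^ n * dd l x) := by
  induction n with
  | zero => simp
  | succ n ih =>
    rw [pow_succ, dd_mul l hl, ih]
    simp only [nsmul_eq_mul]
    push_cast
    ring

lemma l_eq_zero_of_nil [CharZero k]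
    (hnil : ∀ y : D, Coalgebra.counit (R := k) y = 0 → IsNilpotent y)
    (l : D →ₗ[k] k) (h1 : l 1 = 0)
    (h2 : ∀ a b : D, Coalgebra.counit (R := k) a = 0 → Coalgebra.counit (R := k) b = 0 →
      l (a * b) = 0) (x : D) (hx : IsNilpotent x) : l x = 0 := by
  classical
  by_contra hne
  haveI := nontrivial_of_hopf k D
  have hl := l_mul l h1 h2
  have hx' : ∃ n, x ^ n = 0 := hx
  obtain ⟨n, hn, hmin⟩ : ∃ n, x ^ n = 0 ∧ ∀ j < n, x ^ j ≠ 0 :=
    ⟨Nat.find hx', Nat.find_spec hx', fun j hj => Nat.find_min hx' hj⟩
  rcases n with _ | j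
  · rw [pow_zero] at hn
    exact one_ne_zero hn
  · have h3 := dd_pow l hl x j
    rw [hn, map_zero] at h3
    have h4 : ((j + 1 : ℕ) : k) • (x ^ j * dd l x) = 0 := by
      rw [Nat.cast_smul_eq_nsmul]
      exact h3.symm
    have h5 : x ^ j * dd l x = 0 := by
      rcases smul_eq_zero.mp h4 with h | h
      · exact absurd h ((Nat.cast_ne_zero (R := k)).mpr (Nat.succ_ne_zero j))
      · exact h
    have h6 : IsUnit (dd l x) :=
      isUnit_of_counit_ne_zero hnil (dd l x) (by rw [counit_dd]; exact hne)
    have h7 : x ^ j = 0 := (h6.mul_left_eq_zero).mp h5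
    exact hmin j (Nat.lt_succ_self j) h7

/-- **Cartier-type lemma**: in characteristic zero, a finitely generated commutative Hopf algebra
whose augmentation ideal is nil is trivial. -/
theorem aug_eq_zero_of_nil_charZero [CharZero k] [Algebra.FiniteType k D]
    (hnil : ∀ y : D, Coalgebra.counit (R := k) y = 0 → IsNilpotent y) :
    ∀ y : D, Coalgebra.counit (R := k) y = 0 → y = 0 := by
  haveI : IsNoetherianRing D := Algebra.FiniteType.isNoetherianRing k D
  set I : Ideal D := RingHom.ker (Bialgebra.counitAlgHom k D) with hI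
  have memI : ∀ x : D, x ∈ I ↔ Coalgebra.counit (R := k) x = 0 := fun x => Iff.rfl
  have hle : I ≤ I • I := by
    intro x hx
    by_contra hx2
    let V : Submodule k D := (I • I).restrictScalars k ⊔ Submodule.span k {(1 : D)}
    have hxV : x ∉ V := by
      intro hxV
      obtain ⟨y, hy, z, hz, hyz⟩ := Submodule.mem_sup.mp hxV
      obtain ⟨c, rfl⟩ := Submodule.mem_span_singleton.mp hz
      have hyI : y ∈ I := Ideal.mul_le_right (I := I) (J := I) hy
      have h3 := congrArg (Coalgebra.counit (R := k)) hyz
      rw [map_add, (memI y).mp hyI, (memI x).mp hx, zero_add, map_smul, Bialgebra.counit_one,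
        smul_eq_mul, mul_one] at h3
      rw [h3, zero_smul, add_zero] at hyz
      exact hx2 (hyz ▸ hy)
    obtain ⟨l, hlx, hV⟩ := Submodule.exists_le_ker_of_notMem hxV
    have h1 : l 1 = 0 :=
      LinearMap.mem_ker.mp (hV (Submodule.mem_sup_right (Submodule.mem_span_singleton_self _)))
    have h2 : ∀ a b : D, Coalgebra.counit (R := k) a = 0 → Coalgebra.counit (R := k) b = 0 →
        l (a * b) = 0 := by
      intro a b ha hb
      have hab : a * b ∈ I • I := Ideal.mul_mem_mul ((memI a).mpr ha) ((memI b).mpr hb)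
      exact LinearMap.mem_ker.mp (hV (Submodule.mem_sup_left hab))
    exact hlx (l_eq_zero_of_nil hnil l h1 h2 x (hnil x ((memI x).mp hx)))
  have hjac : I ≤ Ideal.jacobson ⊥ := by
    intro x hx
    have h3 : x ∈ nilradical D := mem_nilradical.mpr (hnil x ((memI x).mp hx))
    exact Ideal.radical_le_jacobson h3
  have hbot : I = ⊥ :=
    Submodule.eq_bot_of_le_smul_of_le_jacobson_bot I I (IsNoetherian.noetherian I) hle hjac
  intro y hy
  have h4 : y ∈ I := (memI y).mpr hy
  rw [hbot] at h4
  exact h4

end cartier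

section frob

variable (p : ℕ) [Fact p.Prime] [CharP k p]
variable {B : Type u} [CommRing B] [HopfAlgebra k B]

variable (k B) in
/-- the subalgebra generated by `p^n`-th powers -/
def frobC (n : ℕ) : Subalgebra k B := Algebra.adjoin k (Set.range fun b : B => b ^ p ^ n)

variable (k B) in
lemma nontrivial_tensor : Nontrivial (B ⊗[k] B) := by
  let f : B ⊗[k] B →ₐ[k] k := (Bialgebra.counitAlgHom k B).comp (Algebra.TensorProduct.lmul' k)
  exact RingHom.domain_nontrivial (f : B ⊗[k] B →+* k)

lemma pow_mem_range (n : ℕ) (z : B ⊗[k] B) :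
    z ^ p ^ n ∈ (Algebra.TensorProduct.map (frobC k p B n).val (frobC k p B n).val).range := by
  haveI := nontrivial_tensor k B
  haveI : CharP (B ⊗[k] B) p :=
    charP_of_injective_algebraMap (algebraMap k (B ⊗[k] B)).injective p
  induction z using TensorProduct.induction_on with
  | zero =>
    rw [zero_pow (pow_ne_zero n (Fact.out : p.Prime).ne_zero)]
    exact Subalgebra.zero_mem _
  | tmul a b =>
    rw [Algebra.TensorProduct.tmul_pow]
    exact ⟨(⟨a ^ p ^ n, Algebra.subset_adjoin ⟨a, rfl⟩⟩ : frobC k p B n) ⊗ₜ[k]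
      (⟨b ^ p ^ n, Algebra.subset_adjoin ⟨b, rfl⟩⟩ : frobC k p B n), rfl⟩
  | add z w hz hw =>
    rw [add_pow_char_pow]
    exact Subalgebra.add_mem _ hz hw

lemma hs_frobC (n : ℕ) : HS (frobC k p B n) := by
  unfold frobC
  apply HS_adjoin
  · rintro _ ⟨b, rfl⟩
    have h : Coalgebra.comul (R := k) (b ^ p ^ n) = (Coalgebra.comul (R := k) b) ^ p ^ n :=
      map_pow (Bialgebra.comulAlgHom k B) b (p ^ n)
    show Coalgebra.comul (R := k) (b ^ p ^ n) ∈ _
    rw [h]
    exact pow_mem_range p n _
  · rintro _ ⟨b, rfl⟩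
    have h : HopfAlgebra.antipode k (b ^ p ^ n) = (HopfAlgebra.antipode k b) ^ p ^ n :=
      map_pow (HopfAlgebra.antipodeAlgHom k B) b (p ^ n)
    show HopfAlgebra.antipode k (b ^ p ^ n) ∈ _
    rw [h]
    exact Algebra.subset_adjoin ⟨_, rfl⟩

instance frobJ_hopf (n : ℕ) : (augJ (frobC k p B n)).IsHopfIdeal k :=
  isHopfIdeal_augJ _ (hs_frobC p n)

lemma counit_pow (b : B) (m : ℕ) :
    Coalgebra.counit (R := k) (b ^ m) = (Coalgebra.counit (R := k) b) ^ m :=
  map_pow (Bialgebra.counitAlgHom k B) b m

lemma frobJ_le (n : ℕ) :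
    augJ (frobC k p B n) ≤ (RingHom.ker (Bialgebra.counitAlgHom k B)) ^ p ^ n := by
  haveI := nontrivial_of_hopf k B
  haveI : CharP B p := charP_of_injective_algebraMap (algebraMap k B).injective p
  set I : Ideal B := RingHom.ker (Bialgebra.counitAlgHom k B) with hI
  have memI : ∀ x : B, x ∈ I ↔ Coalgebra.counit (R := k) x = 0 := fun x => Iff.rfl
  have hsub : ∀ x : B, x - algebraMap k B (Coalgebra.counit (R := k) x) ∈ I := by
    intro x
    rw [memI, map_sub, Bialgebra.counit_algebraMap, sub_self]
  have key : ∀ c ∈ frobC k p B n,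
      c - algebraMap k B (Coalgebra.counit (R := k) c) ∈ I ^ p ^ n := by
    intro c hc
    refine Algebra.adjoin_induction
      (p := fun c _ => c - algebraMap k B (Coalgebra.counit (R := k) c) ∈ I ^ p ^ n)
      ?_ ?_ ?_ ?_ hc
    · rintro _ ⟨b, rfl⟩
      have h : b ^ p ^ n - algebraMap k B (Coalgebra.counit (R := k) (b ^ p ^ n)) =
          (b - algebraMap k B (Coalgebra.counit (R := k) b)) ^ p ^ n := by
        rw [sub_pow_char_pow, counit_pow, map_pow]
      show b ^ p ^ n - algebraMap k B (Coalgebra.counit (R := k) (b ^ p ^ n)) ∈ I ^ p ^ n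
      rw [h]
      exact Ideal.pow_mem_pow (hsub b) _
    · intro r
      show algebraMap k B r - algebraMap k B (Coalgebra.counit (R := k) (algebraMap k B r)) ∈ _
      rw [Bialgebra.counit_algebraMap, sub_self]
      exact zero_mem _
    · intro x y _ _ hx hy
      have h : x + y - algebraMap k B (Coalgebra.counit (R := k) (x + y)) =
          (x - algebraMap k B (Coalgebra.counit (R := k) x)) +
          (y - algebraMap k B (Coalgebra.counit (R := k) y)) := by
        rw [map_add, map_add]
        ring
      show x + y - algebraMap k B (Coalgebra.counit (R := k) (x + y)) ∈ _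
      rw [h]
      exact add_mem hx hy
    · intro x y _ _ hx hy
      have h : x * y - algebraMap k B (Coalgebra.counit (R := k) (x * y)) =
          (x - algebraMap k B (Coalgebra.counit (R := k) x)) * y +
          algebraMap k B (Coalgebra.counit (R := k) x) *
            (y - algebraMap k B (Coalgebra.counit (R := k) y)) := by
        rw [Bialgebra.counit_mul, map_mul]
        ring
      show x * y - algebraMap k B (Coalgebra.counit (R := k) (x * y)) ∈ _
      rw [h]
      exact Ideal.add_mem _ (Ideal.mul_mem_right _ _ hx) (Ideal.mul_mem_left _ _ hy)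
  unfold augJ
  rw [Ideal.span_le]
  rintro c ⟨hc, hε⟩
  have h := key c hc
  rwa [hε, map_zero, sub_zero] at h

lemma frob_nil (n : ℕ) (y : B ⧸ augJ (frobC k p B n)) (hy : Coalgebra.counit (R := k) y = 0) :
    IsNilpotent y := by
  obtain ⟨b, rfl⟩ := Ideal.Quotient.mk_surjective y
  have h1 : Coalgebra.counit (R := k) b = 0 := by
    rw [← hy]
    exact (CoalgHomClass.counit_comp_apply
      (Bialgebra.Quotient.mkBialgHom (R := k) (augJ (frobC k p B n))) b).symm
  refine ⟨p ^ n, ?_⟩
  rw [← map_pow, Ideal.Quotient.eq_zero_iff_mem]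
  refine Ideal.subset_span ⟨Algebra.subset_adjoin ⟨b, rfl⟩, ?_⟩
  rw [counit_pow, h1, zero_pow (pow_ne_zero n (Fact.out : p.Prime).ne_zero)]

end frob

section krull

variable {B : Type u} [CommRing B] [HopfAlgebra k B] [Algebra.FiniteType k B]

/-- if a sub-Hopf-algebra `D` has nil augmentation ideal contained in all powers of the augmentation
ideal of `B`, then `D` is trivial (Krull intersection theorem + flatness of `B` over `D`) -/
theorem aug_eq_zero_of_krull (D : Subalgebra k B) (hD : HS D)
    (hnil : ∀ d ∈ D, Coalgebra.counit (R := k) d = 0 → IsNilpotent d)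
    (hK : ∀ d ∈ D, Coalgebra.counit (R := k) d = 0 →
      ∀ i : ℕ, d ∈ (RingHom.ker (Bialgebra.counitAlgHom k B)) ^ i) :
    ∀ d ∈ D, Coalgebra.counit (R := k) d = 0 → d = 0 := by
  haveI : IsNoetherianRing B := Algebra.FiniteType.isNoetherianRing k B
  haveI hff : Module.FaithfullyFlat D B := faithfullyFlat_of_HS D hD
  haveI : Module.Flat D B := inferInstance
  intro d hd hε
  set I : Ideal B := RingHom.ker (Bialgebra.counitAlgHom k B) with hI
  have h1 : d ∈ (⨅ i : ℕ, I ^ i • ⊤ : Submodule B B) := by
    rw [Submodule.mem_iInf]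
    intro i
    have h := hK d hd hε i
    have e : (I ^ i • ⊤ : Submodule B B) = I ^ i := by
      rw [smul_eq_mul, Ideal.mul_top]
    rw [e]
    exact h
  obtain ⟨r, hr⟩ := (Ideal.mem_iInf_smul_pow_eq_bot_iff I d).mp h1
  have hr' : (r : B) * d = d := hr
  have h2 : (⟨d, hd⟩ : D) • (1 - (r : B)) = 0 := by
    show d * (1 - (r : B)) = 0
    rw [mul_sub, mul_one, mul_comm, hr', sub_self]
  have h3 : ∑ i : Fin 1, (fun _ : Fin 1 => (⟨d, hd⟩ : D)) i • (fun _ : Fin 1 => (1 - (r : B))) i = 0 := by
    simpa using h2
  obtain ⟨m, a, y, hy, ha⟩ := Module.Flat.isTrivialRelation_of_sum_smul_eq_zero h3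
  by_contra hd0
  have h4 : ∀ j, Coalgebra.counit (R := k) ((a 0 j : D) : B) = 0 := by
    intro j
    by_contra hne
    have hn1 : IsNilpotent (((a 0 j : D) : B) -
        algebraMap k B (Coalgebra.counit (R := k) ((a 0 j : D) : B))) := by
      apply hnil _ (D.sub_mem (a 0 j).2 (D.algebraMap_mem _))
      rw [map_sub, Bialgebra.counit_algebraMap, sub_self]
    have hu0 : IsUnit (algebraMap k B (Coalgebra.counit (R := k) ((a 0 j : D) : B))) :=
      (IsUnit.mk0 _ hne).map (algebraMap k B)
    have hu := hn1.isUnit_add_right_of_commute hu0 (Commute.all _ _)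
    rw [sub_add_cancel] at hu
    have h5 : d * ((a 0 j : D) : B) = 0 := by
      have h := ha j
      simp only [Fin.sum_univ_one] at h
      exact congrArg Subtype.val h
    exact hd0 ((hu.mul_left_eq_zero).mp h5)
  have h6 : Coalgebra.counit (R := k) (1 - (r : B)) = 0 := by
    have h := hy 0
    simp only at h
    rw [h, map_sum]
    apply Finset.sum_eq_zero
    intro j _
    rw [Subalgebra.smul_def, smul_eq_mul, Bialgebra.counit_mul, h4 j, zero_mul]
  have h7 : Coalgebra.counit (R := k) (r : B) = 0 := r.2
  rw [map_sub, Bialgebra.counit_one, h7, sub_zero] at h6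
  exact one_ne_zero h6

end krull

end

end Groth.Agent.Lib.Helper4.IsoCrit1
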