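import Mathlib
import Groth.Agent.Lib.Helper4.AbCatH1
import Groth.Agent.Lib.Helper4.IsoCrit1

/-!
# The Hopf-algebraic isomorphism criterion: a map of finitely generated commutative cocommutative Hopf algebras that is bijective on geometric points and on maps to finite-dimensional Hopf algebras is bijective (helper4)
-/

set_option backward.isDefEq.respectTransparency.types false
set_option synthInstance.maxHeartbeats 400000
set_option autoImplicit false
set_option linter.unusedSectionVars false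
set_option linter.style.haveILetI false
set_option linter.unusedSimpArgs false
universe u v w
open CategoryTheory
open CategoryTheory.Limits
open scoped TensorProduct
open WithConv
open Groth.Agent.Helper2.FF
open Groth.Agent.Helper2.MultPart
open Groth.Agent.Helper2.HopfSub
open Groth.Agent.Helper2.HopfLib
open Groth.Agent.Lib.Helper6.NormQ
open Groth.Agent.Lib.Helper6.NormFix
open Groth.Agent.Lib.Helper4.NormKer2
open Groth.Agent.Lib.Helper4.NormKer3
open Groth.Agent.Lib.Helper4.GenSubgrp1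
open Groth.Agent.Lib.Helper4.AbCatH1
open Groth.Agent.Lib.Helper4.IsoCrit1

namespace Groth.Agent.Lib.Helper4.IsoCrit2

noncomputable section

variable {k : Type u} [Field k]
variable (K : Type u) [Field K] [Algebra k K] [IsAlgClosure k K]
variable {X Y : HObj k} (g : X ⟶ Y)

section part1

lemma kObj_points
    (hPi : ∀ x y : X.A →ₐ[k] K, x.comp (toB g : Y.A →ₐ[k] X.A) = y.comp (toB g : Y.A →ₐ[k] X.A) →
      x = y)
    (y : (kObj g).A →ₐ[k] K) (n : (kObj g).A) (hn : Coalgebra.counit (R := k) n = 0) :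
    y n = 0 := by
  let π : X.A →ₐ[k] (kObj g).A := (toB (kι g) : X.A →ₐc[k] (kObj g).A)
  let e : X.A →ₐ[k] K := (Algebra.ofId k K).comp (Bialgebra.counitAlgHom k X.A)
  have h1 : (y.comp π).comp (toB g : Y.A →ₐ[k] X.A) = e.comp (toB g : Y.A →ₐ[k] X.A) := by
    refine AlgHom.ext fun b => ?_
    have h2 : toB (kι g) (toB g b) = algebraMap k _ (Coalgebra.counit (R := k) b) :=
      congrArg (fun φ => toB φ b) (kι_comp g)
    show y (toB (kι g) (toB g b)) = algebraMap k K (Coalgebra.counit (R := k) (toB g b))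
    rw [h2, AlgHom.commutes, CoalgHomClass.counit_comp_apply]
  have h3 : y.comp π = e := hPi _ _ h1
  obtain ⟨a, rfl⟩ := kι_surj g n
  have h4 : y (toB (kι g) a) = algebraMap k K (Coalgebra.counit (R := k) a) :=
    congrArg (fun φ => φ a) h3
  rw [h4, ← CoalgHomClass.counit_comp_apply (toB (kι g)) a, hn, map_zero]

theorem surjective_toB
    (hPi : ∀ x y : X.A →ₐ[k] K, x.comp (toB g : Y.A →ₐ[k] X.A) = y.comp (toB g : Y.A →ₐ[k] X.A) →
      x = y)
    (hFi : ∀ (R : HObj k), Module.Finite k R.A → ∀ f₁ f₂ : R ⟶ X, f₁ ≫ g = f₂ ≫ g → f₁ = f₂) :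
    Function.Surjective (toB g) := by
  have hnil : ∀ n : (kObj g).A, Coalgebra.counit (R := k) n = 0 → IsNilpotent n :=
    fun n hn => isNilpotent_of_points K n (fun y => kObj_points K g hPi y n hn)
  have hfin : Module.Finite k (kObj g).A := finite_of_nil hnil
  have h0 : kι g = 0 := hFi (kObj g) hfin (kι g) 0 (by rw [kι_comp, zero_comp])
  intro a
  have h1 : ∀ w : X.A, Ideal.Quotient.mkₐ k (kerJ g) (BialgHom.id k X.A w) =
      algebraMap k (X.A ⧸ kerJ g) (Coalgebra.counit (R := k) w) :=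
    fun w => congrArg (fun φ => toB φ w) h0
  have h2 := coinv_key (BialgHom.id k X.A) (Ideal.Quotient.mkₐ k (kerJ g)) h1 a
  have h3 : a ∈ ((toB g : Y.A →ₐc[k] X.A) : Y.A →ₐ[k] X.A).range :=
    mem_of_coinv _ (hs_range (toB g)) (kerJ g) rfl a h2
  obtain ⟨y, hy⟩ := h3
  exact ⟨y, hy⟩

end part1

section part2

lemma cI_nil (hPs : ∀ y : Y.A →ₐ[k] K, ∃ x : X.A →ₐ[k] K, x.comp (toB g : Y.A →ₐ[k] X.A) = y)
    (b : Y.A) (hb : b ∈ cI g) : IsNilpotent b := by
  apply isNilpotent_of_points (k := k) K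
  intro y
  obtain ⟨x, rfl⟩ := hPs y
  show x (toB g b) = 0
  rw [(mem_cI g b).mp hb, map_zero]

lemma mem_cI_of_cB (d : Y.A) (hd : d ∈ cB g) (hε : Coalgebra.counit (R := k) d = 0) :
    d ∈ cI g := by
  rw [cI_eq]
  exact Ideal.subset_span ⟨hd, hε⟩

lemma injective_of_cB_trivial
    (h1 : ∀ d ∈ cB g, Coalgebra.counit (R := k) d = 0 → d = 0) :
    Function.Injective (toB g) := by
  have h2 : cI g = ⊥ := by
    rw [cI_eq, eq_bot_iff]
    unfold augJ
    rw [Ideal.span_le]
    rintro a ⟨ha, hε⟩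
    rw [h1 a ha hε]
    exact Ideal.zero_mem _
  have h3 : Function.Injective ((toB g : Y.A →ₐc[k] X.A) : Y.A →+* X.A) :=
    (RingHom.injective_iff_ker_eq_bot _).mpr h2
  exact h3

lemma counit_cObj (y : (cObj g).A) :
    Coalgebra.counit (R := k) y = Coalgebra.counit (R := k) (toB (cπ g) y) :=
  (CoalgHomClass.counit_comp_apply (toB (cπ g)) y).symm

lemma cπ_mem (y : (cObj g).A) : toB (cπ g) y ∈ cB g := Subtype.property (p := fun z => z ∈ cB g) y

lemma cπ_mk (d : Y.A) (hd : d ∈ cB g) : toB (cπ g) (⟨d, hd⟩ : (cObj g).A) = d := rfl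

lemma trivial_char0 [CharZero k]
    (hPs : ∀ y : Y.A →ₐ[k] K, ∃ x : X.A →ₐ[k] K, x.comp (toB g : Y.A →ₐ[k] X.A) = y) :
    ∀ d ∈ cB g, Coalgebra.counit (R := k) d = 0 → d = 0 := by
  have hnil : ∀ y : (cObj g).A, Coalgebra.counit (R := k) y = 0 → IsNilpotent y := by
    intro y hy
    have h1 : IsNilpotent (toB (cπ g) y) :=
      cI_nil K g hPs _ (mem_cI_of_cB g _ (cπ_mem g y) (by rw [← counit_cObj]; exact hy))
    exact (IsNilpotent.map_iff (f := toB (cπ g)) (cπ_inj g)).mp h1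
  have h2 := aug_eq_zero_of_nil_charZero (D := (cObj g).A) hnil
  intro d hd hε
  have h3 := h2 (⟨d, hd⟩ : (cObj g).A) (by rw [counit_cObj, cπ_mk]; exact hε)
  have h4 := congrArg (toB (cπ g)) h3
  rwa [cπ_mk, map_zero] at h4

lemma cI_le_frob (p : ℕ) [Fact p.Prime] [CharP k p]
    (hFs : ∀ (R : HObj k), Module.Finite k R.A → ∀ h : R ⟶ Y, ∃ f : R ⟶ X, f ≫ g = h) (n : ℕ) :
    cI g ≤ augJ (frobC k p Y.A n) := by
  let R : HObj k :=
    { A := Y.A ⧸ augJ (frobC k p Y.A n)
      cc := isCocomm_of_surjective (Bialgebra.Quotient.mkBialgHom (augJ (frobC k p Y.A n)))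
        Ideal.Quotient.mk_surjective
      ft := Algebra.FiniteType.of_surjective (Ideal.Quotient.mkₐ k (augJ (frobC k p Y.A n)))
        Ideal.Quotient.mk_surjective }
  have hfin : Module.Finite k R.A := finite_of_nil (frob_nil p n)
  let h : R ⟶ Y := ofB (Bialgebra.Quotient.mkBialgHom (augJ (frobC k p Y.A n)))
  obtain ⟨f, hf⟩ := hFs R hfin h
  intro b hb
  have h1 : toB h b = toB f (toB g b) := by
    rw [← hf]
    rfl
  rw [(mem_cI g b).mp hb, map_zero] at h1
  exact Ideal.Quotient.eq_zero_iff_mem.mp h1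

lemma trivial_charP (p : ℕ) [Fact p.Prime] [CharP k p]
    (hPs : ∀ y : Y.A →ₐ[k] K, ∃ x : X.A →ₐ[k] K, x.comp (toB g : Y.A →ₐ[k] X.A) = y)
    (hFs : ∀ (R : HObj k), Module.Finite k R.A → ∀ h : R ⟶ Y, ∃ f : R ⟶ X, f ≫ g = h) :
    ∀ d ∈ cB g, Coalgebra.counit (R := k) d = 0 → d = 0 := by
  apply aug_eq_zero_of_krull (cB g) (hs_cB g)
  · intro d hd hε
    exact cI_nil K g hPs d (mem_cI_of_cB g d hd hε)
  · intro d hd hε i
    have h1 : d ∈ augJ (frobC k p Y.A i) := cI_le_frob g p hFs i (mem_cI_of_cB g d hd hε)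
    have h2 := frobJ_le p i h1
    have h3 : i ≤ p ^ i := (Nat.lt_pow_self (Fact.out : p.Prime).one_lt).le
    exact Ideal.pow_le_pow_right h3 h2

end part2

/-- the Hopf-algebraic isomorphism criterion -/
theorem bijective_toB
    (hPi : ∀ x y : X.A →ₐ[k] K, x.comp (toB g : Y.A →ₐ[k] X.A) = y.comp (toB g : Y.A →ₐ[k] X.A) →
      x = y)
    (hPs : ∀ y : Y.A →ₐ[k] K, ∃ x : X.A →ₐ[k] K, x.comp (toB g : Y.A →ₐ[k] X.A) = y)
    (hFi : ∀ (R : HObj k), Module.Finite k R.A → ∀ f₁ f₂ : R ⟶ X, f₁ ≫ g = f₂ ≫ g → f₁ = f₂)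
    (hFs : ∀ (R : HObj k), Module.Finite k R.A → ∀ h : R ⟶ Y, ∃ f : R ⟶ X, f ≫ g = h) :
    Function.Bijective (toB g) := by
  refine ⟨?_, surjective_toB K g hPi hFi⟩
  apply injective_of_cB_trivial
  obtain ⟨p, hp⟩ := CharP.exists k
  rcases CharP.char_is_prime_or_zero k p with hpr | hp0
  · haveI := Fact.mk hpr
    exact trivial_charP K g p hPs hFs
  · subst hp0
    haveI : CharZero k := CharP.charP_to_charZero k
    exact trivial_char0 K g hPs

end

end Groth.Agent.Lib.Helper4.IsoCrit2
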