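import Mathlib
import Groth.Agent.Lib.Helper4.AbCatS1
import Groth.Agent.Lib.Helper4.IsoCrit2

/-!
# Isomorphism criterion for commutative affine algebraic groups via finite subgroup schemes and geometric points: translation to Hopf algebras (helper4)
-/

set_option backward.isDefEq.respectTransparency.types false
set_option synthInstance.maxHeartbeats 400000
set_option autoImplicit false
set_option linter.unusedSectionVars false
set_option linter.style.haveILetI false
set_option linter.unusedSimpArgs false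
universe u v w
open CategoryTheory
open CategoryTheory.Limits
open MonoidalCategory
open CartesianMonoidalCategory
open MonObj
open AlgebraicGeometry
open scoped TensorProduct
open WithConv
open Groth.Agent.Lib.Helper4.AbCatH1
open Groth.Agent.Lib.Helper4.AbCatS1
open Groth.Agent.Lib.Helper4.IsoCrit2

namespace Groth.Agent.Lib.Helper4.IsoCrit3

noncomputable section

variable (k : Type u) [Field k]

/-- the morphism of schemes attached to a morphism of Hopf objects -/
def sp {R X : HObj k} (f : R ⟶ X) : ((Ψ k).obj R).X ⟶ ((Ψ k).obj X).X := ((Ψ k).map f).hom.hom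

instance sp_mon {R X : HObj k} (f : R ⟶ X) : IsMonHom (sp k f) :=
  inferInstanceAs (IsMonHom ((Ψ k).map f).hom.hom)

lemma sp_comp {R X Y : HObj k} (f : R ⟶ X) (g : X ⟶ Y) : sp k (f ≫ g) = sp k f ≫ sp k g := by
  unfold sp
  rw [Functor.map_comp]
  rfl

lemma sp_injective {R X : HObj k} {f₁ f₂ : R ⟶ X} (h : sp k f₁ = sp k f₂) : f₁ = f₂ :=
  (Ψ k).map_injective (Grp.hom_ext _ _ h)

lemma sp_surjective {R X : HObj k} (a : ((Ψ k).obj R).X ⟶ ((Ψ k).obj X).X) [IsMonHom a] :
    ∃ f : R ⟶ X, sp k f = a := by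
  obtain ⟨f, hf⟩ := (Ψ k).map_surjective (Grp.homMk a)
  exact ⟨f, congrArg (fun t => t.hom.hom) hf⟩

lemma isFinite_of_finite (R : HObj k) (h : Module.Finite k R.A) :
    IsFinite ((Ψ k).obj R).X.hom := by
  show IsFinite (Spec.map (CommRingCat.ofHom (algebraMap k R.A)))
  rw [IsFinite.SpecMap_iff]
  exact RingHom.finite_algebraMap.mpr h

lemma exists_hobj (G : Over (Spec (CommRingCat.of k))) [GrpObj G] [IsCommMonObj G]
    [IsAffine G.left] [LocallyOfFiniteType G.hom] :
    ∃ (X : HObj k) (e : ((Ψ k).obj X).X ≅ G), IsMonHom e.hom ∧ IsMonHom e.inv := by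
  have h1 : (hopfSpec (CommRingCat.of k)).essImage (Grp.mk G) := by
    rw [essImage_hopfSpec]
    infer_instance
  obtain ⟨Hop, ⟨e⟩⟩ := h1
  let e0 : (Spec (.of Hop.unop)).asOver (Spec (.of k)) ≅ G := (Grp.forget _).mapIso e
  haveI hm0 : IsMonHom e0.hom := inferInstanceAs (IsMonHom e.hom.hom.hom)
  haveI hm0i : IsMonHom e0.inv := inferInstanceAs (IsMonHom e.inv.hom.hom)
  have hft : Algebra.FiniteType k Hop.unop := by
    have hw : e0.hom.left ≫ G.hom =
        Spec.map (CommRingCat.ofHom (algebraMap k Hop.unop)) := Over.w e0.hom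
    haveI : LocallyOfFiniteType (Spec.map (CommRingCat.ofHom (algebraMap k Hop.unop))) := by
      rw [← hw]
      haveI hi0 : IsIso e0.hom.left := inferInstanceAs (IsIso ((Over.forget _).map e0.hom))
      haveI t1 : LocallyOfFiniteType e0.hom.left := inferInstance
      exact MorphismProperty.comp_mem (W := @LocallyOfFiniteType) _ _ t1 inferInstance
    have h3 : RingHom.FiniteType (CommRingCat.ofHom (algebraMap k Hop.unop)).hom :=
      HasRingHomProperty.Spec_iff.mp ‹_›
    exact RingHom.finiteType_algebraMap.mp h3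
  have hcc : Coalgebra.IsCocomm k Hop.unop :=
    isCocomm_of_comm k Hop.unop (fun a b => comm_pts k e0 a b)
  let X : HObj k := { A := Hop.unop, cc := hcc, ft := hft }
  exact ⟨X, e0, hm0, hm0i⟩

section points

variable (K : Type u) [Field K] [Algebra k K]

/-- the geometric base point -/
abbrev TK : Over (Spec (CommRingCat.of k)) :=
  Over.mk (Spec.map (CommRingCat.ofHom (algebraMap k K)))

/-- the point attached to an algebra map -/
def pt (X : HObj k) (x : X.A →ₐ[k] K) : TK k K ⟶ ((Ψ k).obj X).X :=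
  (Spec.mapMulEquiv (R := k) (S := X.A) (T := K)) (toConv x)

lemma pt_injective (X : HObj k) : Function.Injective (pt k K X) := fun _ _ h =>
  congrArg WithConv.ofConv ((Spec.mapMulEquiv (R := k) (S := X.A) (T := K)).injective h)

lemma pt_surjective (X : HObj k) (p : TK k K ⟶ ((Ψ k).obj X).X) : ∃ x, pt k K X x = p :=
  ⟨((Spec.mapMulEquiv (R := k) (S := X.A) (T := K)).symm p).ofConv,
    MulEquiv.apply_symm_apply (Spec.mapMulEquiv (R := k) (S := X.A) (T := K)) p⟩

lemma pt_comp {X Y : HObj k} (g : X ⟶ Y) (x : X.A →ₐ[k] K) :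
    pt k K X x ≫ sp k g = pt k K Y (x.comp (toB g : Y.A →ₐ[k] X.A)) := by
  apply Over.OverMorphism.ext
  show Spec.map (CommRingCat.ofHom x.toRingHom) ≫
    Spec.map (CommRingCat.ofHom (toB g : Y.A →ₐ[k] X.A).toRingHom) =
    Spec.map (CommRingCat.ofHom (x.comp (toB g : Y.A →ₐ[k] X.A)).toRingHom)
  rw [← Spec.map_comp, ← CommRingCat.ofHom_comp]
  rfl

end points

theorem main {k : Type u} [Field k] (K : Type u) [Field K] [Algebra k K] [IsAlgClosure k K]
    (G H : Over (Spec (CommRingCat.of k)))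
    [GrpObj G] [IsCommMonObj G] [GrpObj H] [IsCommMonObj H]
    [IsAffine G.left] [IsAffine H.left] [LocallyOfFiniteType G.hom] [LocallyOfFiniteType H.hom]
    (ψ : G ⟶ H) [IsMonHom ψ]
    (hinj : ∀ (I : Over (Spec (CommRingCat.of k))) [GrpObj I] [IsCommMonObj I] [IsFinite I.hom]
      (f g : I ⟶ G) [IsMonHom f] [IsMonHom g], f ≫ ψ = g ≫ ψ → f = g)
    (hsurj : ∀ (I : Over (Spec (CommRingCat.of k))) [GrpObj I] [IsCommMonObj I] [IsFinite I.hom]
      (h : I ⟶ H) [IsMonHom h], ∃ f : I ⟶ G, IsMonHom f ∧ f ≫ ψ = h)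
    (hpts : Function.Bijective
      fun x : Over.mk (Spec.map (CommRingCat.ofHom (algebraMap k K))) ⟶ G => x ≫ ψ) :
    IsIso ψ := by
  obtain ⟨X, eG, hG1, hG2⟩ := exists_hobj k G
  obtain ⟨Y, eH, hH1, hH2⟩ := exists_hobj k H
  haveI := hG1
  haveI := hG2
  haveI := hH1
  haveI := hH2
  haveI : IsMonHom (eG.hom ≫ ψ ≫ eH.inv) := inferInstance
  obtain ⟨g, hg⟩ := sp_surjective k (eG.hom ≫ ψ ≫ eH.inv)
  have hsq : eG.hom ≫ ψ = sp k g ≫ eH.hom := by
    rw [hg]
    simp
  have hpt : ∀ x : X.A →ₐ[k] K, (pt k K X x ≫ eG.hom) ≫ ψ =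
      pt k K Y (x.comp (toB g : Y.A →ₐ[k] X.A)) ≫ eH.hom := by
    intro x
    rw [Category.assoc, hsq, ← Category.assoc, pt_comp]
  have hPi : ∀ x y : X.A →ₐ[k] K,
      x.comp (toB g : Y.A →ₐ[k] X.A) = y.comp (toB g : Y.A →ₐ[k] X.A) → x = y := by
    intro x y hxy
    have h1 : (pt k K X x ≫ eG.hom) ≫ ψ = (pt k K X y ≫ eG.hom) ≫ ψ := by
      rw [hpt, hpt, hxy]
    have h2 : pt k K X x ≫ eG.hom = pt k K X y ≫ eG.hom := hpts.1 h1
    exact pt_injective k K X ((cancel_mono eG.hom).mp h2)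
  have hPs : ∀ y : Y.A →ₐ[k] K, ∃ x : X.A →ₐ[k] K,
      x.comp (toB g : Y.A →ₐ[k] X.A) = y := by
    intro y
    obtain ⟨px, hpx⟩ := hpts.2 (pt k K Y y ≫ eH.hom)
    have hpx' : px ≫ ψ = pt k K Y y ≫ eH.hom := hpx
    obtain ⟨x, hx⟩ := pt_surjective k K X (px ≫ eG.inv)
    refine ⟨x, pt_injective k K Y ?_⟩
    rw [← pt_comp, hx, hg]
    simp only [Category.assoc, Iso.inv_hom_id_assoc]
    rw [← Category.assoc, hpx']
    simp
  have hFi : ∀ (R : HObj k), Module.Finite k R.A → ∀ f₁ f₂ : R ⟶ X,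
      f₁ ≫ g = f₂ ≫ g → f₁ = f₂ := by
    intro R hR f₁ f₂ h12
    haveI := isFinite_of_finite k R hR
    have h1 : (sp k f₁ ≫ eG.hom) ≫ ψ = (sp k f₂ ≫ eG.hom) ≫ ψ := by
      rw [Category.assoc, Category.assoc, hsq, ← Category.assoc, ← Category.assoc, ← sp_comp,
        ← sp_comp, h12]
    have h2 := hinj ((Ψ k).obj R).X (sp k f₁ ≫ eG.hom) (sp k f₂ ≫ eG.hom) h1
    exact sp_injective k ((cancel_mono eG.hom).mp h2)
  have hFs : ∀ (R : HObj k), Module.Finite k R.A → ∀ h : R ⟶ Y, ∃ f : R ⟶ X, f ≫ g = h := by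
    intro R hR h
    haveI := isFinite_of_finite k R hR
    obtain ⟨a, ha, hab⟩ := hsurj ((Ψ k).obj R).X (sp k h ≫ eH.hom)
    haveI := ha
    obtain ⟨f, hf⟩ := sp_surjective k (a ≫ eG.inv)
    refine ⟨f, sp_injective k ?_⟩
    rw [sp_comp, hf, hg]
    simp only [Category.assoc, Iso.inv_hom_id_assoc]
    rw [← Category.assoc, hab]
    simp
  have hbij := bijective_toB K g hPi hPs hFi hFs
  haveI : IsIso (sp k g) := by
    haveI h1 : IsIso (CommRingCat.ofHom (toB g : Y.A →ₐ[k] X.A).toRingHom) :=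
      (ConcreteCategory.isIso_iff_bijective _).mpr hbij
    haveI h2 : IsIso ((Over.forget _).map (sp k g)) := by
      show IsIso (Spec.map (CommRingCat.ofHom (toB g : Y.A →ₐ[k] X.A).toRingHom))
      infer_instance
    exact isIso_of_reflects_iso (sp k g) (Over.forget _)
  have hψ : ψ = eG.inv ≫ sp k g ≫ eH.hom := by
    rw [← hsq]
    simp
  rw [hψ]
  infer_instance

end

end Groth.Agent.Lib.Helper4.IsoCrit3
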