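import Mathlib
import Groth.Agent.Lib.Helper4.NormRadQuot1

/-!
# An isogeny over a field factors as a purely inseparable isogeny (connected kernel) followed by a separable one (etale kernel) (helper4)
-/

set_option backward.isDefEq.respectTransparency.types false
set_option synthInstance.maxHeartbeats 400000
set_option autoImplicit false
set_option linter.unusedSectionVars false
set_option linter.style.haveILetI false
set_option linter.unusedSimpArgs false
universe u v w
open CategoryTheory CategoryTheory.Limits AlgebraicGeometry TopologicalSpace Opposite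
open MonoidalCategory CartesianMonoidalCategory MonObj GrpObj
open Groth.Agent.Lib.Helper4.NormQuotSch1 Groth.Agent.Lib.Helper4.QuotExt1
open Groth.Agent.Lib.Helper4.FlatClosed1 Groth.Agent.Lib.Helper6.FlatQ
open Groth.Agent.Lib.Helper4.NormRadQuot1

namespace Groth.Agent.Lib.Helper4.IsogConnEt1

section Gen

variable {S : Scheme.{u}}

/-- two kernels of the same morphism are isomorphic -/
theorem kernel_iso {G Q N N' : Over S} [GrpObj Q] (q : G ⟶ Q) (i : N ⟶ G) (i' : N' ⟶ G)
    (h : AlgGrp.IsKernel i q) (h' : AlgGrp.IsKernel i' q) : ∃ e : N' ≅ N, e.hom ≫ i = i' := by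
  unfold AlgGrp.IsKernel at h h'
  refine ⟨⟨h.lift i' (toUnit N') h'.w, h'.lift i (toUnit N) h.w, ?_, ?_⟩, h.lift_fst _ _ _⟩
  · apply h'.hom_ext
    · rw [Category.assoc, h'.lift_fst, h.lift_fst, Category.id_comp]
    · exact toUnit_unique _ _
  · apply h.hom_ext
    · rw [Category.assoc, h.lift_fst, h'.lift_fst, Category.id_comp]
    · exact toUnit_unique _ _

/-- a flat closed subgroup of the kernel whose underlying space contains the unit section and over
which the first projection is injective is normal in the ambient group -/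
theorem normal_comp {G H N N0 : Over S} [GrpObj G] [GrpObj H] [GrpObj N] [GrpObj N0]
    (φ : G ⟶ H) [IsMonHom φ] (iN : N ⟶ G) [IsMonHom iN] (hK : AlgGrp.IsKernel iN φ)
    (j : N0 ⟶ N) [IsMonHom j] [IsClosedImmersion j.left] [Flat j.left]
    (hinj : Function.Injective (fst G N0).left)
    (hone : ∀ x : G.left, (1 : G ⟶ N).left x ∈ Set.range j.left) :
    AlgGrp.IsNormalHom (j ≫ iN) := by
  haveI : Mono iN := ⟨fun a b hab => hK.hom_ext hab (toUnit_unique _ _)⟩
  have hNk := isNormalHom_of_isKernel φ iN hK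
  obtain ⟨cU, hcU⟩ := hNk (G ⊗ N0) (fst G N0) (snd G N0 ≫ j)
  have hs : lift (𝟙 G) (1 : G ⟶ N0) ≫ cU = 1 := by
    rw [← cancel_mono iN, Category.assoc, ← hcU]
    simp only [Category.assoc, MonObj.comp_mul, GrpObj.comp_inv, lift_fst, lift_snd_assoc,
      MonObj.one_comp]
    rw [_root_.mul_one, _root_.mul_inv_cancel]
  have hrange : Set.range cU.left ⊆ Set.range j.left := by
    rintro _ ⟨z, rfl⟩
    have hz : z = (lift (𝟙 G) (1 : G ⟶ N0)).left ((fst G N0).left z) := by
      apply hinj
      have e1 : lift (𝟙 G) (1 : G ⟶ N0) ≫ fst G N0 = 𝟙 G := lift_fst _ _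
      have e2 : (fst G N0).left ((lift (𝟙 G) (1 : G ⟶ N0)).left ((fst G N0).left z)) =
          (lift (𝟙 G) (1 : G ⟶ N0) ≫ fst G N0).left ((fst G N0).left z) := by
        rw [Over.comp_left, Scheme.Hom.comp_apply]
      rw [e2, e1]
      rfl
    have e3 : cU.left z = (lift (𝟙 G) (1 : G ⟶ N0) ≫ cU).left ((fst G N0).left z) := by
      rw [Over.comp_left, Scheme.Hom.comp_apply, ← hz]
    rw [e3, hs]
    exact hone _
  obtain ⟨c0, hc0⟩ := exists_lift_of_flat_closedImmersion j.left cU.left hrange
  obtain ⟨c0', hc0'⟩ : ∃ c0' : G ⊗ N0 ⟶ N0, c0' ≫ j = cU := by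
    refine ⟨Over.homMk c0 ?_, ?_⟩
    · rw [← Over.w j, ← Category.assoc, hc0]
      exact Over.w cU
    · ext1
      exact hc0
  intro T g n
  refine ⟨lift g n ≫ c0', ?_⟩
  have h1 : (lift g n ≫ c0') ≫ j ≫ iN = lift g n ≫ (cU ≫ iN) := by
    rw [Category.assoc, ← Category.assoc c0', hc0']
  rw [h1, ← hcU]
  simp only [Category.assoc, MonObj.comp_mul, GrpObj.comp_inv, lift_fst, lift_snd_assoc]

end Gen

section Field

variable (k : Type u) [Field k]

theorem main (G H : Over (Spec (CommRingCat.of k))) [GrpObj G] [GrpObj H]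
    (φ : G ⟶ H) [IsMonHom φ] (hφ : SGA7.IsIsogenyOver φ) :
    ∃ (Q : Over (Spec (CommRingCat.of k))) (_ : GrpObj Q) (ψ : G ⟶ Q) (χ : Q ⟶ H),
      IsMonHom ψ ∧ IsMonHom χ ∧ ψ ≫ χ = φ ∧ SGA7.IsIsogenyOver ψ ∧ SGA7.IsIsogenyOver χ ∧
      (∀ (N : Over (Spec (CommRingCat.of k))) (n : N ⟶ G), AlgGrp.IsKernel n ψ →
        ConnectedSpace ↥N.left) ∧
      (∀ (N : Over (Spec (CommRingCat.of k))) (n : N ⟶ Q), AlgGrp.IsKernel n χ →
        Etale N.hom) := by
  obtain ⟨hφs, hφk⟩ := hφ
  haveI := hφs
  -- the kernel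
  obtain ⟨N, instN, iN, hiN, hK⟩ := exists_kernel φ
  haveI : IsFinite N.hom := hφk N iN hK
  haveI : Mono iN := ⟨fun a b hab => hK.hom_ext hab (toUnit_unique _ _)⟩
  -- its identity component
  obtain ⟨N0, instN0, j, hj, hjc, hjf, hjr⟩ := Groth.Agent.S3023.result k N
  haveI := hjc
  haveI := hjf
  haveI : Mono j.left := inferInstance
  haveI : Mono j := Over.mono_of_mono_left _
  haveI : IsFinite N0.hom := by
    rw [← Over.w j]
    infer_instance
  obtain ⟨pt⟩ : Nonempty ↥(𝟙_ (Over (Spec (CommRingCat.of k)))).left :=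
    ⟨(IsLocalRing.closedPoint k : PrimeSpectrum k)⟩
  have hss : ∀ a b : ↥(𝟙_ (Over (Spec (CommRingCat.of k)))).left, a = b := fun a b =>
    @Subsingleton.elim (Spec (CommRingCat.of k)) inferInstance a b
  have hjr' := hjr pt
  haveI : IsLocallyArtinian (Spec (CommRingCat.of k)) := by
    rw [Scheme.isLocallyArtinianScheme_Spec]
    infer_instance
  haveI : IsLocallyArtinian N.left := IsLocallyArtinian.of_locallyQuasiFinite N.hom
  haveI : IsLocallyArtinian N0.left := IsLocallyArtinian.of_locallyQuasiFinite N0.hom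
  haveI : DiscreteTopology N.left := inferInstance
  haveI : DiscreteTopology N0.left := inferInstance
  haveI : PreconnectedSpace N0.left := by
    refine ⟨?_⟩
    have h1 : _root_.IsPreconnected (Set.range j.left.base) := by
      rw [hjr']
      exact isPreconnected_connectedComponent
    rw [← Set.image_univ] at h1
    exact (j.left.isClosedEmbedding.isEmbedding.isInducing.isPreconnected_image).mp h1
  haveI : Subsingleton N0.left := PreconnectedSpace.trivial_of_discrete
  have he0 : η[N0].left ≫ N0.hom = 𝟙 _ := Over.w η[N0]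
  haveI : Surjective η[N0].left := by
    constructor
    intro x
    exact ⟨pt, Subsingleton.elim _ _⟩
  haveI hui : UniversallyInjective N0.hom := univInj_of_section N0.hom η[N0].left he0
  haveI : Nonempty N0.left := ⟨η[N0].left pt⟩
  haveI : ConnectedSpace N0.left :=
    { toPreconnectedSpace := inferInstance, toNonempty := inferInstance }
  haveI : Flat N0.hom := inferInstance
  haveI : LocallyOfFiniteType N0.hom := inferInstance
  haveI : LocallyOfFinitePresentation N0.hom := inferInstance
  have hfl : Mor2.IsFinLocFree N0.hom := ⟨inferInstance, inferInstance, inferInstance⟩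
  -- normality
  haveI : UniversallyInjective (fst G N0).left := by
    rw [Over.fst_left]
    exact MorphismProperty.pullback_fst (P := @UniversallyInjective) _ _ hui
  have hone : ∀ x : G.left, (1 : G ⟶ N).left x ∈ Set.range j.left := by
    intro x
    have h1 : (1 : G ⟶ N).left x = η[N].left.base pt := by
      rw [Hom.one_def, Over.comp_left, Scheme.Hom.comp_apply]
      congr 1
      exact hss _ _
    rw [h1]
    have h2 : η[N].left.base pt ∈ Set.range j.left.base := by
      rw [hjr']
      exact mem_connectedComponent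
    exact h2
  have hN : AlgGrp.IsNormalHom (j ≫ iN) :=
    normal_comp φ iN hK j (fst G N0).left.injective hone
  -- the quotient
  obtain ⟨Q, instQ, q, hqm, hKq, hqfin, hqflat, hqlfp, hqsurj⟩ := exists_quot (j ≫ iN) hN hfl hui
  haveI := hqm
  haveI := hqfin
  haveI := hqflat
  haveI := hqlfp
  haveI := hqsurj
  haveI hqc : QuasiCompact q.left := inferInstance
  have dq := isDesc_of_fpqc q
  -- the second factor
  obtain ⟨χ, hχ⟩ := dq.desc φ (by
    intro T a b hab
    have h1 : (a⁻¹ * b) ≫ q = 1 := by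
      have h2 := map_mul (postHom T q) a⁻¹ b
      have h3 := map_inv (postHom T q) a
      simp only [postHom_apply] at h2 h3
      rw [h2, h3, hab, _root_.inv_mul_cancel]
    obtain ⟨n, hn⟩ := exists_of_comp_eq_one q (j ≫ iN) hKq _ h1
    have h4 : (a⁻¹ * b) ≫ φ = 1 := by
      rw [← hn, ← Category.assoc n j iN]
      exact comp_eq_one_of_isKernel φ iN hK (n ≫ j)
    have h5 := map_mul (postHom T φ) a⁻¹ b
    have h6 := map_inv (postHom T φ) a
    simp only [postHom_apply] at h5 h6
    rw [h5, h6] at h4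
    exact inv_mul_eq_one.mp h4)
  have hχm : IsMonHom χ := by
    haveI : Epi q := dq.epi
    haveI : Flat (q ⊗ₘ q).left := prop_tensorHom' @Flat q q hqflat hqflat
    haveI : Surjective (q ⊗ₘ q).left := prop_tensorHom' @Surjective q q hqsurj hqsurj
    haveI : QuasiCompact (q ⊗ₘ q).left := prop_tensorHom' @QuasiCompact q q hqc hqc
    haveI : Epi (q ⊗ₘ q) := (isDesc_of_fpqc (q ⊗ₘ q)).epi
    refine ⟨?_, ?_⟩
    · rw [← IsMonHom.one_hom q, Category.assoc, hχ, IsMonHom.one_hom]
    · rw [← cancel_epi (q ⊗ₘ q), ← Category.assoc, ← IsMonHom.mul_hom q, Category.assoc, hχ,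
        IsMonHom.mul_hom φ, ← Category.assoc, tensorHom_comp_tensorHom, hχ]
  haveI := hχm
  have hψ : SGA7.IsIsogenyOver q := by
    refine ⟨hqsurj, ?_⟩
    intro N' n' hN'
    obtain ⟨e, -⟩ := kernel_iso q (j ≫ iN) n' hKq hN'
    haveI : IsIso e.hom.left := ((Over.forget _).mapIso e).isIso_hom
    rw [← Over.w e.hom]
    infer_instance
  have hχs : Surjective χ.left := by
    constructor
    intro y
    obtain ⟨x, hx⟩ := φ.left.surjective y
    refine ⟨q.left x, ?_⟩
    rw [← Scheme.Hom.comp_apply, ← Over.comp_left, hχ]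
    exact hx
  -- the kernel of the second factor
  obtain ⟨M0, instM0, m0, hm0, hKχ⟩ := exists_kernel χ
  haveI : Mono m0 := ⟨fun a b hab => hKχ.hom_ext hab (toUnit_unique _ _)⟩
  have hw : (iN ≫ q) ≫ χ = toUnit N ≫ η[H] := by
    rw [Category.assoc, hχ]
    exact hK.w
  obtain ⟨qN, hqN⟩ : ∃ qN : N ⟶ M0, qN ≫ m0 = iN ≫ q :=
    ⟨hKχ.lift _ _ hw, hKχ.lift_fst _ _ _⟩
  haveI hqNm : IsMonHom qN := by
    refine ⟨?_, ?_⟩
    · rw [← cancel_mono m0, Category.assoc, hqN, IsMonHom.one_hom m0, IsMonHom.one_hom (iN ≫ q)]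
    · have e1 : (μ[N] ≫ qN) ≫ m0 = ((iN ≫ q) ⊗ₘ (iN ≫ q)) ≫ μ[Q] := by
        rw [Category.assoc, hqN, IsMonHom.mul_hom (iN ≫ q)]
      have e2 : ((qN ⊗ₘ qN) ≫ μ[M0]) ≫ m0 = ((iN ≫ q) ⊗ₘ (iN ≫ q)) ≫ μ[Q] := by
        rw [Category.assoc, IsMonHom.mul_hom m0, ← Category.assoc, tensorHom_comp_tensorHom, hqN]
      rw [← cancel_mono m0, e1, e2]
  have hsq : IsPullback iN qN q m0 := by
    refine isPullback_of_points iN qN q m0 hqN.symm ?_ ?_
    · intro T a b hab
      have h1 : a ≫ φ = 1 := by
        rw [← hχ, ← Category.assoc, hab]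
        exact comp_eq_one_of_isKernel χ m0 hKχ b
      obtain ⟨n, hn⟩ := exists_of_comp_eq_one φ iN hK a h1
      refine ⟨n, hn, ?_⟩
      rw [← cancel_mono m0, Category.assoc, hqN, ← Category.assoc, hn, hab]
    · intro T c c' h1 _
      exact (cancel_mono iN).mp h1
  have hsqL : IsPullback iN.left qN.left q.left m0.left := hsq.map (Over.forget _)
  haveI : Flat qN.left := MorphismProperty.of_isPullback (P := @Flat) hsqL hqflat
  haveI : Surjective qN.left := MorphismProperty.of_isPullback (P := @Surjective) hsqL hqsurj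
  haveI : LocallyOfFinitePresentation qN.left :=
    MorphismProperty.of_isPullback (P := @LocallyOfFinitePresentation) hsqL hqlfp
  have hKj : AlgGrp.IsKernel j qN := by
    unfold AlgGrp.IsKernel
    refine isPullback_of_points j (toUnit N0) qN η[M0] ?_ ?_ ?_
    · rw [← cancel_mono m0, Category.assoc, hqN, ← Category.assoc, hKq.w, Category.assoc,
        IsMonHom.one_hom m0]
    · intro T a b hab
      have h1 : (a ≫ iN) ≫ q = 1 := by
        rw [Category.assoc, ← hqN, ← Category.assoc, hab, Category.assoc, IsMonHom.one_hom m0,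
          Hom.one_def, toUnit_unique b (toUnit T)]
      obtain ⟨n, hn⟩ := exists_of_comp_eq_one q (j ≫ iN) hKq _ h1
      refine ⟨n, ?_, toUnit_unique _ _⟩
      rw [← cancel_mono iN, Category.assoc]
      exact hn
    · intro T c c' h1 _
      exact (cancel_mono j).mp h1
  -- etaleness
  haveI hjo : IsOpenImmersion j.left := isOpenImmersion_of_flat_closed j.left (isOpen_discrete _)
  haveI : Flat N.hom := inferInstance
  haveI : LocallyOfFiniteType N.hom := inferInstance
  have hM0et : Etale M0.hom := Groth.Agent.S5353.result k N0 N M0 j pt hjr' qN hKj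
  haveI := hM0et
  haveI : LocallyOfFiniteType M0.hom := inferInstance
  haveI : CompactSpace N.left := QuasiCompact.compactSpace_of_compactSpace N.hom
  haveI : CompactSpace M0.left :=
    Function.Surjective.compactSpace qN.left.continuous qN.left.surjective
  haveI : QuasiCompact M0.hom := inferInstance
  haveI : Finite N.left := by
    have := N.hom.finite_preimage_singleton pt
    have h2 : N.hom ⁻¹' {pt} = Set.univ := Set.eq_univ_of_forall fun x => hss _ _
    rw [h2] at this
    exact Set.finite_univ_iff.mp this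
  haveI : Finite M0.left := Finite.of_surjective _ qN.left.surjective
  haveI : LocallyQuasiFinite M0.hom :=
    LocallyQuasiFinite.of_finite_preimage_singleton M0.hom (fun x => Set.toFinite _)
  haveI hM0fin : IsFinite M0.hom := IsFinite.of_locallyQuasiFinite M0.hom
  have hχ' : SGA7.IsIsogenyOver χ := by
    refine ⟨hχs, ?_⟩
    intro M m hM
    obtain ⟨e, -⟩ := kernel_iso χ m0 m hKχ hM
    haveI : IsIso e.hom.left := ((Over.forget _).mapIso e).isIso_hom
    rw [← Over.w e.hom]
    infer_instance
  refine ⟨Q, instQ, q, χ, hqm, hχm, hχ, hψ, hχ', ?_, ?_⟩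
  · intro N' n' hN'
    obtain ⟨e, -⟩ := kernel_iso q (j ≫ iN) n' hKq hN'
    have hsur : Function.Surjective e.inv.left := by
      intro x
      refine ⟨e.hom.left x, ?_⟩
      rw [← Scheme.Hom.comp_apply, ← Over.comp_left, e.hom_inv_id]
      rfl
    exact Function.Surjective.connectedSpace hsur e.inv.left.continuous
  · intro M m hM
    obtain ⟨e, -⟩ := kernel_iso χ m0 m hKχ hM
    haveI : IsIso e.hom.left := ((Over.forget _).mapIso e).isIso_hom
    rw [← Over.w e.hom]
    infer_instance

end Field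

end Groth.Agent.Lib.Helper4.IsogConnEt1
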