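import Mathlib
import Groth.Prelude.Def_AlgGrp
import Groth.Agent.Lib.Helper7.SmoothBC.GeomRed

/-!
# homomorphisms killing the kernel of an etale surjective homomorphism factor through it (helper4)
-/

set_option backward.isDefEq.respectTransparency.types false
set_option synthInstance.maxHeartbeats 400000
set_option autoImplicit false
set_option linter.unusedSectionVars false
set_option linter.style.haveILetI false
set_option linter.unusedSimpArgs false
universe u v w
open CategoryTheory CategoryTheory.Limits AlgebraicGeometry TopologicalSpace Opposite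
open MonoidalCategory CartesianMonoidalCategory MonObj GrpObj

namespace Groth.Agent.Lib.Helper4.IsogFactor1

section Ker
variable (k : Type u) [Field k] [IsAlgClosed k]
  (E E' E'' : Over (Spec (CommRingCat.of k))) [GrpObj E] [GrpObj E'] [GrpObj E'']
  (φ : E ⟶ E') [IsMonHom φ] (ψ : E ⟶ E'') [IsMonHom ψ]

/-- a homomorphism killing the rational points of an étale kernel kills the kernel -/
theorem ker_comp_eq [Etale φ.left] [IsSeparated E''.hom] [LocallyOfFiniteType E''.hom]
    (hker : ∀ P : 𝟙_ (Over (Spec (CommRingCat.of k))) ⟶ E, P ≫ φ = η[E'] → P ≫ ψ = η[E'']) :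
    pullback.fst φ.left η[E'].left ≫ ψ.left = pullback.snd φ.left η[E'].left ≫ η[E''].left := by
  let π : pullback φ.left η[E'].left ⟶ Spec (CommRingCat.of k) := pullback.snd φ.left η[E'].left
  haveI : Etale π := inferInstanceAs (Etale (pullback.snd φ.left η[E'].left))
  haveI : Smooth π := inferInstance
  haveI : IsReduced (pullback φ.left η[E'].left) :=
    Groth.Agent.Helper7.SmoothBC.isReduced_of_smooth_over_field k π
  have hw1 : η[E'].left ≫ E'.hom = 𝟙 _ := Over.w η[E']
  have hw2 : η[E''].left ≫ E''.hom = 𝟙 _ := Over.w η[E'']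
  have H' : (pullback.fst φ.left η[E'].left ≫ ψ.left) ≫ E''.hom =
      (pullback.snd φ.left η[E'].left ≫ η[E''].left) ≫ E''.hom := by
    rw [Category.assoc, Category.assoc, Over.w ψ, hw2, ← Over.w φ, ← Category.assoc,
      pullback.condition, Category.assoc, hw1]
  haveI : LocallyOfFiniteType ((pullback.fst φ.left η[E'].left ≫ ψ.left) ≫ E''.hom) := by
    rw [H', Category.assoc, hw2, Category.comp_id]
    exact inferInstanceAs (LocallyOfFiniteType π)
  refine ext_of_apply_eq (K := k) E''.hom Set.univ isClosed_univ.isLocallyClosed dense_univ ?_ H'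
  intro x _ hx
  let p := pointOfClosedPoint π x hx
  have hp : p ≫ π = 𝟙 _ := pointOfClosedPoint_comp π x hx
  have hpx : p (IsLocalRing.closedPoint k) = x := pointOfClosedPoint_apply π x hx _
  let P : 𝟙_ (Over (Spec (CommRingCat.of k))) ⟶ E :=
    Over.homMk (p ≫ pullback.fst φ.left η[E'].left) (by
      rw [Category.assoc, ← Over.w φ, ← Category.assoc (pullback.fst _ _), pullback.condition,
        Category.assoc, hw1]
      exact hp)
  have hP : P ≫ φ = η[E'] := by
    ext1
    show (p ≫ pullback.fst φ.left η[E'].left) ≫ φ.left = η[E'].left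
    rw [Category.assoc, pullback.condition, ← Category.assoc]
    erw [hp]
    exact Category.id_comp _
  have h2 := congrArg (fun m => m.left) (hker P hP)
  have h3 : (p ≫ pullback.fst φ.left η[E'].left) ≫ ψ.left = η[E''].left := h2
  rw [← hpx, ← Scheme.Hom.comp_apply, ← Scheme.Hom.comp_apply, ← Category.assoc, h3,
    ← Category.assoc]
  erw [hp]
  rw [Category.id_comp]


/-- `ψ` coequalizes every pair of points with the same image under `φ` -/
theorem coeq_of_ker [Etale φ.left] [IsSeparated E''.hom] [LocallyOfFiniteType E''.hom]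
    (hker : ∀ P : 𝟙_ (Over (Spec (CommRingCat.of k))) ⟶ E, P ≫ φ = η[E'] → P ≫ ψ = η[E''])
    {Z : Scheme.{u}} (g₁ g₂ : Z ⟶ E.left) (h : g₁ ≫ φ.left = g₂ ≫ φ.left) :
    g₁ ≫ ψ.left = g₂ ≫ ψ.left := by
  let Z' : Over (Spec (CommRingCat.of k)) := Over.mk (g₁ ≫ E.hom)
  let G₁ : Z' ⟶ E := Over.homMk g₁ rfl
  have hg₂ : g₂ ≫ E.hom = g₁ ≫ E.hom := by
    rw [← Over.w φ, ← Category.assoc, ← h, Category.assoc]
  let G₂ : Z' ⟶ E := Over.homMk g₂ hg₂
  have hG : G₁ ≫ φ = G₂ ≫ φ := by
    ext1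
    exact h
  let d : Z' ⟶ E := G₁ * G₂⁻¹
  have hd : d ≫ φ = 1 := by
    show (G₁ * G₂⁻¹) ≫ φ = 1
    rw [MonObj.mul_comp, GrpObj.inv_comp, hG, mul_inv_cancel]
  have hd' : d.left ≫ φ.left = Z'.hom ≫ η[E'].left := congrArg (fun m => m.left) hd
  have hdψ : d ≫ ψ = 1 := by
    ext1
    show d.left ≫ ψ.left = Z'.hom ≫ η[E''].left
    rw [← pullback.lift_fst d.left Z'.hom hd', Category.assoc, ker_comp_eq k E E' E'' φ ψ hker,
      ← Category.assoc, pullback.lift_snd]
  have hfin : G₁ ≫ ψ = G₂ ≫ ψ := by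
    have h1 : (G₁ * G₂⁻¹) ≫ ψ = 1 := hdψ
    rw [MonObj.mul_comp, GrpObj.inv_comp] at h1
    exact mul_inv_eq_one.mp h1
  exact congrArg (fun m => m.left) hfin

theorem epi_tensor [Etale φ.left] [Surjective φ.left] : Epi (φ ⊗ₘ φ) := by
  have h1 : Etale (φ ⊗ₘ φ).left :=
    MorphismProperty.pullbackMap (P := @Etale) (inferInstance : Etale φ.left)
      (inferInstance : Etale φ.left) (Over.w φ).symm (Over.w φ).symm
  have h2 : Surjective (φ ⊗ₘ φ).left :=
    MorphismProperty.pullbackMap (P := @Surjective) (inferInstance : Surjective φ.left)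
      (inferInstance : Surjective φ.left) (Over.w φ).symm (Over.w φ).symm
  haveI : Epi (φ ⊗ₘ φ).left := inferInstance
  exact Over.epi_of_epi_left _

theorem main [Etale φ.left] [Surjective φ.left] [IsSeparated E''.hom]
    [LocallyOfFiniteType E''.hom]
    (hker : ∀ P : 𝟙_ (Over (Spec (CommRingCat.of k))) ⟶ E, P ≫ φ = η[E'] → P ≫ ψ = η[E'']) :
    ∃! ρ : E' ⟶ E'', IsMonHom ρ ∧ φ ≫ ρ = ψ := by
  haveI : Epi φ.left := inferInstance
  haveI : Epi φ := Over.epi_of_epi_left _
  let ρ₀ : E'.left ⟶ E''.left := EffectiveEpi.desc φ.left ψ.left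
    (fun g₁ g₂ h => coeq_of_ker k E E' E'' φ ψ hker g₁ g₂ h)
  have hρ₀ : φ.left ≫ ρ₀ = ψ.left := EffectiveEpi.fac _ _ _
  let ρ : E' ⟶ E'' := Over.homMk ρ₀ (by
    rw [← cancel_epi φ.left, ← Category.assoc, hρ₀, Over.w ψ, Over.w φ])
  have hρ : φ ≫ ρ = ψ := by
    ext1
    exact hρ₀
  have hmon : IsMonHom ρ := by
    refine ⟨?_, ?_⟩
    · rw [← IsMonHom.one_hom φ, Category.assoc, hρ, IsMonHom.one_hom]
    · haveI := epi_tensor k E E' φ
      rw [← cancel_epi (φ ⊗ₘ φ), ← Category.assoc, ← IsMonHom.mul_hom φ, Category.assoc, hρ,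
        IsMonHom.mul_hom ψ, ← Category.assoc, tensorHom_comp_tensorHom, hρ]
  refine ⟨ρ, ⟨hmon, hρ⟩, ?_⟩
  rintro ρ' ⟨-, hρ'⟩
  rw [← cancel_epi φ, hρ', hρ]

end Ker

end Groth.Agent.Lib.Helper4.IsogFactor1
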