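import Mathlib
import Groth.Prelude.Def_AGF
import Groth.Prelude.Def_AlgGrp
import Groth.Agent.Lib.Helper4.GenSub1
import Groth.Agent.Lib.Helper4.GenSubComm1
import Groth.Agent.Lib.Helper4.SepSub1
import Groth.Agent.Lib.Helper4.SecNbhd5
import Groth.Agent.Lib.Helper4.MaxAb1

/-!
# iterated commutator maps; a nontrivial nilpotent smooth connected group over a field has a nontrivial central smooth connected closed subgroup (S8040) (helper4)
-/

set_option backward.isDefEq.respectTransparency.types false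
set_option synthInstance.maxHeartbeats 400000
set_option autoImplicit false
set_option linter.unusedSectionVars false
set_option linter.style.haveILetI false
set_option linter.unusedSimpArgs false
universe u v w
open CategoryTheory CategoryTheory.Limits AlgebraicGeometry TopologicalSpace Opposite
open MonoidalCategory CartesianMonoidalCategory MonObj GrpObj
open scoped commutatorElement

namespace Groth.Agent.Lib.Helper4.NilpCentral1

variable (k : Type u) [Field k] (G : Over (Spec (CommRingCat.of k))) [GrpObj G]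

/-- precomposition commutes with the commutator -/
theorem comp_commutator {T T' : Over (Spec (CommRingCat.of k))} (t : T' ⟶ T) (a b : T ⟶ G) :
    t ≫ ⁅a, b⁆ = ⁅t ≫ a, t ≫ b⁆ := by
  rw [commutatorElement_def, commutatorElement_def, MonObj.comp_mul, MonObj.comp_mul,
    MonObj.comp_mul, GrpObj.comp_inv, GrpObj.comp_inv]

/-- the source of the `n`-fold iterated commutator map -/
noncomputable def X : ℕ → Over (Spec (CommRingCat.of k))
  | 0 => G
  | (n + 1) => X n ⊗ G

/-- the `n`-fold iterated commutator map `(g, g₁, …, gₙ) ↦ ⁅⁅…⁅g, g₁⁆, …⁆, gₙ⁆` -/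
noncomputable def c : ∀ n, X k G n ⟶ G
  | 0 => 𝟙 G
  | (n + 1) => (⁅fst (X k G n) G ≫ c n, snd (X k G n) G⁆ : X k G n ⊗ G ⟶ G)

theorem c_succ (n : ℕ) :
    c k G (n + 1) = (⁅fst (X k G n) G ≫ c k G n, snd (X k G n) G⁆ : X k G n ⊗ G ⟶ G) := rfl

theorem comp_c_succ (n : ℕ) {T : Over (Spec (CommRingCat.of k))} (t : T ⟶ X k G n ⊗ G) :
    (t : T ⟶ X k G (n + 1)) ≫ c k G (n + 1) =
      ⁅(t ≫ fst (X k G n) G) ≫ c k G n, t ≫ snd (X k G n) G⁆ := by
  rw [Category.assoc]
  exact comp_commutator k G t (fst (X k G n) G ≫ c k G n) (snd (X k G n) G)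

theorem c_mem_lcs (n : ℕ) : ∀ (T : Over (Spec (CommRingCat.of k))) (t : T ⟶ X k G n),
    t ≫ c k G n ∈ Subgroup.lowerCentralSeries (⊤ : Subgroup (T ⟶ G)) n := by
  induction n with
  | zero => intro T t; exact Subgroup.mem_top _
  | succ n ih =>
    intro T t
    rw [show t ≫ c k G (n + 1) = _ from comp_c_succ k G n t, Subgroup.lowerCentralSeries_succ]
    apply Subgroup.commutator_mem_commutator
    · exact ih T _
    · exact Subgroup.mem_top _

theorem c_eq_one_of_nilpotent (n : ℕ)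
    (hG : ∀ X : Over (Spec (CommRingCat.of k)), Subgroup.upperCentralSeries (X ⟶ G) n = ⊤) :
    c k G n = 1 := by
  haveI : Group.IsNilpotent (X k G n ⟶ G) := ⟨⟨n, hG _⟩⟩
  have h1 := Subgroup.upperCentralSeries_eq_top_iff_nilpotencyClass_le.mp (hG (X k G n))
  have h2 := Subgroup.lowerCentralSeries_eq_bot_iff_nilpotencyClass_le.mpr h1
  have h3 := c_mem_lcs k G n (X k G n) (𝟙 _)
  rw [h2, Subgroup.mem_bot, Category.id_comp] at h3
  exact h3

theorem c_zero_ne_one (hne : ¬ IsIso η[G]) : c k G 0 ≠ 1 := by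
  intro h
  apply hne
  have h1 : 𝟙 G = toUnit G ≫ η[G] := by
    rw [← Hom.one_def]; exact h
  exact ⟨toUnit G, toUnit_unique _ _, h1.symm⟩

section Props

variable [Smooth G.hom] [ConnectedSpace G.left]

theorem props (n : ℕ) : GeometricallyReduced (X k G n).hom ∧ ConnectedSpace (X k G n).left ∧
    ∃ x : 𝟙_ (Over (Spec (CommRingCat.of k))) ⟶ X k G n, x ≫ c k G n = 1 := by
  haveI hgr : GeometricallyReduced G.hom :=
    Groth.Agent.Lib.Helper4.SecNbhd5.geometricallyReduced_of_smooth G.hom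
  induction n with
  | zero =>
    exact ⟨hgr, ‹_›, (1 : 𝟙_ (Over (Spec (CommRingCat.of k))) ⟶ G), Category.comp_id _⟩
  | succ n ih =>
    obtain ⟨h1, h2, x, hx⟩ := ih
    haveI := h1
    haveI := h2
    refine ⟨Groth.Agent.Lib.Helper4.GenSub1.geometricallyReduced_tensor' (X k G n) G,
      Groth.Agent.Lib.Helper4.MaxAb1.connectedSpace_tensor (X k G n) G,
      lift x 1, ?_⟩
    refine (comp_c_succ k G n (lift x 1)).trans ?_
    rw [lift_fst, hx]
    exact commutatorElement_one_left _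

end Props


theorem main (k : Type u) [Field k]
    (G : Over (Spec (CommRingCat.of k))) [GrpObj G] [LocallyOfFiniteType G.hom] [QuasiCompact G.hom] [Smooth G.hom] [ConnectedSpace G.left]
    (hG : AGF.IsNilpotentGrp G) (hne : ¬ IsIso η[G]) :
    ∃ (H : Over (Spec (CommRingCat.of k))) (_ : GrpObj H) (j : H ⟶ G), IsMonHom j ∧ IsClosedImmersion j.left ∧
      Smooth H.hom ∧ ConnectedSpace H.left ∧ ¬ IsIso η[H] ∧
      ∀ (T : Over (Spec (CommRingCat.of k))) (g : T ⟶ G) (h : T ⟶ H), g * (h ≫ j) = (h ≫ j) * g := by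
  classical
  obtain ⟨n, hn⟩ := hG
  have hex : ∃ m, c k G m = 1 := ⟨n, c_eq_one_of_nilpotent k G n hn⟩
  have hpos : Nat.find hex ≠ 0 := by
    intro h0
    have := Nat.find_spec hex
    rw [h0] at this
    exact c_zero_ne_one k G hne this
  obtain ⟨m, hm⟩ := Nat.exists_eq_succ_of_ne_zero hpos
  have hm1 : c k G (m + 1) = 1 := by
    have := Nat.find_spec hex
    rw [hm] at this
    exact this
  have hm0 : c k G m ≠ 1 := Nat.find_min hex (by rw [hm]; exact Nat.lt_succ_self m)
  obtain ⟨hgr, hconn, x, hx⟩ := props k G m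
  haveI := hgr
  haveI := hconn
  obtain ⟨Γ, inst, i, hmon, hcl, ⟨f', hf'⟩, hΓgr, hmin⟩ :=
    Groth.Agent.Lib.Helper4.GenSub1.main_S3028 k G (X k G m) (c k G m)
  haveI := hmon
  haveI := hcl
  haveI := hΓgr
  have hx' : x ≫ c k G m = η[G] := by
    rw [hx, Hom.one_def, toUnit_unique (toUnit (𝟙_ _)) (𝟙 _), Category.id_comp]
  have hΓconn : ConnectedSpace Γ.left :=
    Groth.Agent.Lib.Helper4.GenSub1.main_S3031 k G (X k G m) x (c k G m) hx' Γ i ⟨f', hf'⟩ hmin
  haveI : LocallyOfFiniteType Γ.hom := by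
    rw [← Over.w i]; infer_instance
  haveI : GrpObj (Over.mk Γ.hom) := inst
  have hsm : Smooth Γ.hom :=
    Groth.Agent.Lib.Helper4.SepSub1.smooth_of_grpObj_of_geometricallyReduced Γ.hom
  refine ⟨Γ, inst, i, hmon, hcl, hsm, hΓconn, ?_, ?_⟩
  · intro hiso
    apply hm0
    haveI := hiso
    have h1 : f' = toUnit _ ≫ η[Γ] := by
      rw [← cancel_mono (inv η[Γ])]
      exact toUnit_unique _ _
    rw [← hf', h1, Category.assoc, IsMonHom.one_hom, Hom.one_def]
  · obtain ⟨Z, instZ, cz, hmz, hcz, hrep⟩ :=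
      Groth.Agent.Lib.Helper4.GenSubComm1.exists_cent k G (𝟙 G)
    have hfac : ∃ z : X k G m ⟶ Z, z ≫ cz = c k G m := by
      rw [hrep, Groth.Agent.Lib.Helper4.GenSubComm1.mem_cent]
      intro T' t a
      have h2 := comp_c_succ k G m (lift t a)
      rw [lift_fst, lift_snd] at h2
      have h3 : (lift t a : T' ⟶ X k G (m + 1)) ≫ c k G (m + 1) = 1 := by
        rw [hm1]; exact MonObj.comp_one _
      rw [h3] at h2
      have h4 := commutatorElement_eq_one_iff_commute.mp h2.symm
      rw [Category.comp_id]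
      exact h4.eq
    obtain ⟨j, hj⟩ := hmin Z instZ cz hmz hcz hfac
    intro T g h
    have h5 : (h ≫ i) ∈ Groth.Agent.Lib.Helper4.GenSubComm1.cent k G (𝟙 G) T :=
      (hrep T (h ≫ i)).mp ⟨h ≫ j, by rw [Category.assoc, hj]⟩
    have h6 := (Groth.Agent.Lib.Helper4.GenSubComm1.mem_cent k G (𝟙 G) T (h ≫ i)).mp h5 T (𝟙 T) g
    rw [Category.id_comp, Category.comp_id] at h6
    exact h6.symm

end Groth.Agent.Lib.Helper4.NilpCentral1
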