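import Mathlib
import Groth.Prelude.Def_EGA4b
import Groth.Agent.Lib.Lead.SD1

/-!
# J-2 schemes: equivalence with J-2 coordinate rings of affine opens (helper4)
-/

set_option backward.isDefEq.respectTransparency.types false
set_option synthInstance.maxHeartbeats 400000
set_option autoImplicit false
set_option linter.unusedSectionVars false
set_option linter.style.haveILetI false
set_option linter.unusedSimpArgs false
universe u v w
open CategoryTheory CategoryTheory.Limits AlgebraicGeometry TopologicalSpace Opposite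

namespace Groth.Agent.Lib.Helper4.J2Affine1

theorem isRegular_iff {Y : Scheme.{u}} {W : Y.Opens} (hW : IsAffineOpen W) (y : W) :
    IsRegularLocalRing (Y.presheaf.stalk y.1) ↔ hW.primeIdealOf y ∈ EGA4.regLocus Γ(Y, W) := by
  haveI := hW.isLocalization_stalk y
  let e : Localization.AtPrime (hW.primeIdealOf y).asIdeal ≃ₐ[Γ(Y, W)] Y.presheaf.stalk y.1 :=
    IsLocalization.algEquiv (hW.primeIdealOf y).asIdeal.primeCompl _ _
  constructor
  · intro h
    exact IsRegularLocalRing.of_ringEquiv e.symm.toRingEquiv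
  · intro h
    haveI : IsRegularLocalRing (Localization.AtPrime (hW.primeIdealOf y).asIdeal) := h
    exact IsRegularLocalRing.of_ringEquiv e.toRingEquiv

theorem preimage_reg {Y : Scheme.{u}} {W : Y.Opens} (hW : IsAffineOpen W) :
    hW.fromSpec ⁻¹' {y : Y | IsRegularLocalRing (Y.presheaf.stalk y)} =
      EGA4.regLocus Γ(Y, W) := by
  ext p
  have h1 := isRegular_iff hW ⟨hW.fromSpec p, Groth.Agent.Lead.SD.fromSpec_mem hW p⟩
  rw [Groth.Agent.Lead.SD.primeIdealOf_fromSpec hW p] at h1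
  exact h1

theorem reg_inter_open_iff {Y : Scheme.{u}} {W : Y.Opens} (hW : IsAffineOpen W) :
    IsOpen ({y : Y | IsRegularLocalRing (Y.presheaf.stalk y)} ∩ (W : Set Y)) ↔
      IsOpen (EGA4.regLocus Γ(Y, W)) := by
  rw [← preimage_reg hW]
  constructor
  · intro h
    have h2 := h.preimage hW.fromSpec.continuous
    rw [Set.preimage_inter] at h2
    have h3 : hW.fromSpec ⁻¹' (W : Set Y) = Set.univ := by
      ext p
      simp only [Set.mem_preimage, Set.mem_univ, iff_true]
      exact Groth.Agent.Lead.SD.fromSpec_mem hW p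
    rw [h3, Set.inter_univ] at h2
    exact h2
  · intro h
    have h2 := hW.fromSpec.isOpenEmbedding.isOpenMap _ h
    rw [Set.image_preimage_eq_inter_range, hW.range_fromSpec] at h2
    exact h2

theorem isRegular_spec_iff (S : Type u) [CommRing S] (p : PrimeSpectrum S) :
    IsRegularLocalRing ((Spec (CommRingCat.of S)).presheaf.stalk p) ↔ p ∈ EGA4.regLocus S := by
  let e : Localization.AtPrime p.asIdeal ≃+* (Spec (CommRingCat.of S)).presheaf.stalk p :=
    (AlgebraicGeometry.StructureSheaf.stalkIso S p).toRingEquiv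
  constructor
  · intro h
    exact IsRegularLocalRing.of_ringEquiv e.symm
  · intro h
    haveI : IsRegularLocalRing (Localization.AtPrime p.asIdeal) := h
    exact IsRegularLocalRing.of_ringEquiv e

theorem main (X : Scheme.{u}) [IsLocallyNoetherian X] :
    ((∀ (Y : Scheme.{u}) (g : Y ⟶ X), LocallyOfFiniteType g →
        IsOpen {y : Y | IsRegularLocalRing (Y.presheaf.stalk y)}) ↔
      ∀ U : X.affineOpens, EGA4.IsJ2 Γ(X, U)) ∧
    ((∀ (Y : Scheme.{u}) (g : Y ⟶ X), LocallyOfFiniteType g →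
        IsOpen {y : Y | IsRegularLocalRing (Y.presheaf.stalk y)}) ↔
      ∀ x : X, ∃ U : X.affineOpens, x ∈ (U : X.Opens) ∧ EGA4.IsJ2 Γ(X, U)) := by
  have hAB : (∀ (Y : Scheme.{u}) (g : Y ⟶ X), LocallyOfFiniteType g →
        IsOpen {y : Y | IsRegularLocalRing (Y.presheaf.stalk y)}) →
      ∀ U : X.affineOpens, EGA4.IsJ2 Γ(X, U) := by
    intro hA U S _ _ hS
    let Y : Scheme.{u} := Spec (CommRingCat.of S)
    let g : Y ⟶ X := Spec.map (CommRingCat.ofHom (algebraMap Γ(X, U) S)) ≫ U.2.fromSpec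
    haveI : LocallyOfFiniteType (Spec.map (CommRingCat.ofHom (algebraMap Γ(X, U) S))) := by
      rw [HasRingHomProperty.Spec_iff (P := @LocallyOfFiniteType)]
      exact RingHom.finiteType_algebraMap.mpr hS
    have hg : LocallyOfFiniteType g := inferInstance
    have h1 := hA Y g hg
    have h2 : EGA4.regLocus S = {y : Y | IsRegularLocalRing (Y.presheaf.stalk y)} := by
      ext p
      exact (isRegular_spec_iff S p).symm
    rw [h2]
    exact h1
  have hBC : (∀ U : X.affineOpens, EGA4.IsJ2 Γ(X, U)) →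
      ∀ x : X, ∃ U : X.affineOpens, x ∈ (U : X.Opens) ∧ EGA4.IsJ2 Γ(X, U) := by
    intro hB x
    obtain ⟨_, ⟨V : X.Opens, hV, rfl⟩, hxV, -⟩ :=
      X.isBasis_affineOpens.exists_subset_of_mem_open (Set.mem_univ x) isOpen_univ
    exact ⟨⟨V, hV⟩, hxV, hB ⟨V, hV⟩⟩
  have hCA : (∀ x : X, ∃ U : X.affineOpens, x ∈ (U : X.Opens) ∧ EGA4.IsJ2 Γ(X, U)) →
      ∀ (Y : Scheme.{u}) (g : Y ⟶ X), LocallyOfFiniteType g →
        IsOpen {y : Y | IsRegularLocalRing (Y.presheaf.stalk y)} := by
    intro hC Y g hg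
    rw [isOpen_iff_forall_mem_open]
    intro y hy
    obtain ⟨U, hxU, hJ⟩ := hC (g y)
    obtain ⟨_, ⟨W : Y.Opens, hW, rfl⟩, hyW, hWU⟩ :=
      Y.isBasis_affineOpens.exists_subset_of_mem_open (show y ∈ ((g ⁻¹ᵁ U.1 : Y.Opens) : Set Y) from hxU)
        (g ⁻¹ᵁ U.1).isOpen
    have hft := g.finiteType_appLE U.2 hW hWU
    letI : Algebra Γ(X, U) Γ(Y, W) := (g.appLE U.1 W hWU).hom.toAlgebra
    have h1 : IsOpen (EGA4.regLocus Γ(Y, W)) := hJ Γ(Y, W) hft
    have h2 := (reg_inter_open_iff hW).mpr h1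
    exact ⟨_, Set.inter_subset_left, h2, hy, hyW⟩
  exact ⟨⟨hAB, fun h => hCA (hBC h)⟩, ⟨fun h => hBC (hAB h), hCA⟩⟩

end Groth.Agent.Lib.Helper4.J2Affine1
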