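import Mathlib
import Groth.Agent.Lib.Helper4.Milnor

set_option linter.unusedSectionVars false
set_option linter.style.haveILetI false

namespace Groth.Agent.Helper4.Jac

open TensorProduct Groth.Agent.Helper4.Milnor

universe u

variable {R : Type u} [CommRing R] (I : Ideal R)

theorem ker_algebraMap_quotient : RingHom.ker (algebraMap R (R ⧸ I)) = I := by
  ext x
  rw [RingHom.mem_ker, Ideal.Quotient.algebraMap_eq, Ideal.Quotient.eq_zero_iff_mem]

theorem one_tmul_eq_zero_iff {M : Type*} [AddCommGroup M] [Module R M] (m : M) :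
    ((1 : R ⧸ I) ⊗ₜ[R] m : (R ⧸ I) ⊗[R] M) = 0 ↔ m ∈ I • (⊤ : Submodule R M) := by
  constructor
  · intro h
    have := mem_ker_smul_top_of_surjective (R := R) (S := R ⧸ I) M
      Ideal.Quotient.mk_surjective m h
    rwa [ker_algebraMap_quotient] at this
  · intro h
    apply one_tmul_eq_zero_of_mem (R := R) (S := R ⧸ I) M m
    rwa [ker_algebraMap_quotient]

/-- Nakayama: a map of finite projective modules which is bijective mod `I ⊆ Jac` is bijective. -/
theorem bijective_of_baseChange_bijective (hI : I ≤ Ideal.jacobson (⊥ : Ideal R)) {P P' : Type u}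
    [AddCommGroup P] [Module R P] [Module.Finite R P]
    [AddCommGroup P'] [Module R P'] [Module.Finite R P'] [Module.Projective R P'] (φ : P →ₗ[R] P')
    (h : Function.Bijective (φ.baseChange (R ⧸ I))) : Function.Bijective φ := by
  have hsurj : Function.Surjective φ := by
    rw [← LinearMap.range_eq_top, eq_top_iff]
    apply Submodule.le_of_le_smul_of_le_jacobson_bot (Module.Finite.fg_top) hI
    intro p' _
    obtain ⟨y, hy⟩ := h.2 ((1 : R ⧸ I) ⊗ₜ[R] p')
    obtain ⟨p, rfl⟩ := exists_one_tmul_of_surjective (R := R) (S := R ⧸ I) P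
      Ideal.Quotient.mk_surjective y
    rw [LinearMap.baseChange_tmul] at hy
    have h0 : ((1 : R ⧸ I) ⊗ₜ[R] (p' - φ p) : (R ⧸ I) ⊗[R] P') = 0 := by
      rw [TensorProduct.tmul_sub, hy, sub_self]
    rw [one_tmul_eq_zero_iff] at h0
    have : p' = φ p + (p' - φ p) := by abel
    rw [this]
    exact Submodule.add_mem_sup ⟨p, rfl⟩ h0
  refine ⟨?_, hsurj⟩
  -- split `φ`
  obtain ⟨s, hs⟩ := Module.projective_lifting_property φ LinearMap.id hsurj
  set K := LinearMap.ker φ with hK
  let π : P →ₗ[R] P := LinearMap.id - s ∘ₗ φ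
  have hπK : ∀ p, π p ∈ K := by
    intro p
    rw [hK, LinearMap.mem_ker]
    simp only [π, LinearMap.sub_apply, LinearMap.id_coe, id_eq, LinearMap.coe_comp,
      Function.comp_apply, map_sub]
    have := LinearMap.congr_fun hs (φ p)
    simp only [LinearMap.coe_comp, Function.comp_apply, LinearMap.id_coe, id_eq] at this
    rw [this, sub_self]
  have hπk : ∀ k ∈ K, π k = k := by
    intro k hk
    rw [hK, LinearMap.mem_ker] at hk
    simp [π, hk]
  have hKrange : K = LinearMap.range π := by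
    apply le_antisymm
    · intro k hk; exact ⟨k, hπk k hk⟩
    · rintro _ ⟨p, rfl⟩; exact hπK p
  have hKfg : K.FG := by
    rw [hKrange, LinearMap.range_eq_map]
    exact Submodule.FG.map _ Module.Finite.fg_top
  have hKle : K ≤ I • K := by
    intro k hk
    have h1 : (φ.baseChange (R ⧸ I)) ((1 : R ⧸ I) ⊗ₜ[R] k) = 0 := by
      rw [LinearMap.baseChange_tmul]
      rw [hK, LinearMap.mem_ker] at hk
      rw [hk, TensorProduct.tmul_zero]
    have h2 : ((1 : R ⧸ I) ⊗ₜ[R] k : (R ⧸ I) ⊗[R] P) = 0 := by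
      apply h.1
      rw [h1, map_zero]
    rw [one_tmul_eq_zero_iff] at h2
    rw [← hπk k hk]
    -- π (I • ⊤) ⊆ I • K
    have h3 : Submodule.map π (I • (⊤ : Submodule R P)) ≤ I • K := by
      rw [Submodule.map_smul'']
      apply Submodule.smul_mono le_rfl
      rintro _ ⟨p, _, rfl⟩
      exact hπK p
    exact h3 ⟨k, h2, rfl⟩
  have hKbot : K = ⊥ := Submodule.eq_bot_of_le_smul_of_le_jacobson_bot I K hKfg hKle hI
  rw [← LinearMap.ker_eq_bot, ← hK, hKbot]

theorem nonempty_linearEquiv_of_baseChange (hI : I ≤ Ideal.jacobson (⊥ : Ideal R)) (P P' : Type u)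
    [AddCommGroup P] [Module R P] [Module.Finite R P] [Module.Projective R P]
    [AddCommGroup P'] [Module R P'] [Module.Finite R P'] [Module.Projective R P']
    (e : (R ⧸ I) ⊗[R] P ≃ₗ[R ⧸ I] (R ⧸ I) ⊗[R] P') : Nonempty (P ≃ₗ[R] P') := by
  -- lift `e` to `φ : P → P'`
  let q' : P' →ₗ[R] (R ⧸ I) ⊗[R] P' := TensorProduct.mk R (R ⧸ I) P' 1
  have hq' : Function.Surjective q' := by
    intro y
    obtain ⟨p, rfl⟩ := exists_one_tmul_of_surjective (R := R) (S := R ⧸ I) P'
      Ideal.Quotient.mk_surjective y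
    exact ⟨p, rfl⟩
  let g : P →ₗ[R] (R ⧸ I) ⊗[R] P' :=
    (e.toLinearMap.restrictScalars R) ∘ₗ (TensorProduct.mk R (R ⧸ I) P 1)
  obtain ⟨φ, hφ⟩ := Module.projective_lifting_property q' g hq'
  have hbc : φ.baseChange (R ⧸ I) = e.toLinearMap := by
    apply TensorProduct.AlgebraTensorModule.curry_injective
    ext p
    have := LinearMap.congr_fun hφ p
    simpa [q', g] using this
  have hbij : Function.Bijective (φ.baseChange (R ⧸ I)) := by
    rw [hbc]; exact e.bijective
  exact ⟨LinearEquiv.ofBijective φ (bijective_of_baseChange_bijective I hI φ hbij)⟩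

end Groth.Agent.Helper4.Jac
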