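import Mathlib
import Groth.Agent.Lib.Helper4.Jac1

set_option linter.unusedSectionVars false
set_option linter.style.haveILetI false

namespace Groth.Agent.Helper4.Jac

open TensorProduct Groth.Agent.Helper4.Milnor

universe u

variable {R : Type u} [CommRing R] (I : Ideal R)

theorem exists_lift_baseChange (P P' : Type u) [AddCommGroup P] [Module R P]
    [Module.Projective R P] [AddCommGroup P'] [Module R P']
    (ψ : (R ⧸ I) ⊗[R] P →ₗ[R ⧸ I] (R ⧸ I) ⊗[R] P') :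
    ∃ φ : P →ₗ[R] P', φ.baseChange (R ⧸ I) = ψ := by
  let q' : P' →ₗ[R] (R ⧸ I) ⊗[R] P' := TensorProduct.mk R (R ⧸ I) P' 1
  have hq' : Function.Surjective q' := by
    intro y
    obtain ⟨p, rfl⟩ := exists_one_tmul_of_surjective (R := R) (S := R ⧸ I) P'
      Ideal.Quotient.mk_surjective y
    exact ⟨p, rfl⟩
  let g : P →ₗ[R] (R ⧸ I) ⊗[R] P' :=
    (ψ.restrictScalars R) ∘ₗ (TensorProduct.mk R (R ⧸ I) P 1)
  obtain ⟨φ, hφ⟩ := Module.projective_lifting_property q' g hq'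
  refine ⟨φ, ?_⟩
  apply TensorProduct.AlgebraTensorModule.curry_injective
  ext p
  have := LinearMap.congr_fun hφ p
  simpa [q', g] using this

/-- a split injection gives a product decomposition -/
theorem bijective_prod_mkQ {F₁ F₂ : Type u} [AddCommGroup F₁] [Module R F₁] [AddCommGroup F₂]
    [Module R F₂] (σ : F₂ →ₗ[R] F₁) (τ : F₁ →ₗ[R] F₂) (hτσ : ∀ y, τ (σ y) = y) :
    Function.Bijective (LinearMap.prod (LinearMap.range σ).mkQ τ) := by
  constructor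
  · rw [injective_iff_map_eq_zero]
    intro x hx
    have h1 : (LinearMap.range σ).mkQ x = 0 := congrArg Prod.fst hx
    have h2 : τ x = 0 := congrArg Prod.snd hx
    rw [Submodule.mkQ_apply, Submodule.Quotient.mk_eq_zero] at h1
    obtain ⟨y, rfl⟩ := h1
    rw [hτσ] at h2
    rw [h2, map_zero]
  · rintro ⟨q, y⟩
    obtain ⟨x₀, rfl⟩ := Submodule.mkQ_surjective _ q
    refine ⟨x₀ - σ (τ x₀) + σ y, ?_⟩
    have h1 : (LinearMap.range σ).mkQ (σ (τ x₀)) = 0 := by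
      rw [Submodule.mkQ_apply, Submodule.Quotient.mk_eq_zero]; exact ⟨_, rfl⟩
    have h2 : (LinearMap.range σ).mkQ (σ y) = 0 := by
      rw [Submodule.mkQ_apply, Submodule.Quotient.mk_eq_zero]; exact ⟨_, rfl⟩
    apply Prod.ext
    · change (LinearMap.range σ).mkQ (x₀ - σ (τ x₀) + σ y) = (LinearMap.range σ).mkQ x₀
      rw [map_add, map_sub, h1, h2, sub_zero, add_zero]
    · change τ (x₀ - σ (τ x₀) + σ y) = y
      rw [map_add, map_sub, hτσ, hτσ, sub_self, zero_add]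

/-- cokernels commute with base change -/
theorem nonempty_baseChange_quotient_equiv {F₁ F₂ E : Type u} [AddCommGroup F₁] [Module R F₁]
    [AddCommGroup F₂] [Module R F₂] [AddCommGroup E] [Module (R ⧸ I) E] (σ : F₂ →ₗ[R] F₁)
    (pb : (R ⧸ I) ⊗[R] F₁ →ₗ[R ⧸ I] E) (hpb : Function.Surjective pb)
    (hker : LinearMap.ker pb = LinearMap.range (σ.baseChange (R ⧸ I))) :
    Nonempty ((R ⧸ I) ⊗[R] (F₁ ⧸ LinearMap.range σ) ≃ₗ[R ⧸ I] E) := by
  let f₁ : (R ⧸ I) ⊗[R] F₁ →ₗ[R ⧸ I] (R ⧸ I) ⊗[R] (F₁ ⧸ LinearMap.range σ) :=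
    (LinearMap.range σ).mkQ.baseChange (R ⧸ I)
  have hf₁ : Function.Surjective f₁ :=
    LinearMap.lTensor_surjective (R ⧸ I) (Submodule.mkQ_surjective _)
  have hex : Function.Exact σ (LinearMap.range σ).mkQ := by
    intro x
    rw [Submodule.mkQ_apply, Submodule.Quotient.mk_eq_zero]
    rfl
  have hexB0 : Function.Exact (σ.lTensor (R ⧸ I)) ((LinearMap.range σ).mkQ.lTensor (R ⧸ I)) :=
    lTensor_exact (R ⧸ I) hex (Submodule.mkQ_surjective _)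
  have hkerf₁ : LinearMap.ker f₁ = LinearMap.ker pb := by
    rw [hker]
    ext x
    rw [LinearMap.mem_ker, LinearMap.mem_range]
    exact hexB0 x
  exact ⟨(f₁.quotKerEquivOfSurjective hf₁).symm ≪≫ₗ Submodule.quotEquivOfEq _ _ hkerf₁ ≪≫ₗ
    pb.quotKerEquivOfSurjective hpb⟩


/-- S6863 -/
theorem exists_isStablyFree_lift (hI : I ≤ Ideal.jacobson (⊥ : Ideal R)) (E : Type u)
    [AddCommGroup E] [Module (R ⧸ I) E] [Module.Finite (R ⧸ I) E]
    [Module.IsStablyFree (R ⧸ I) E] :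
    ∃ (M : Type u) (_ : AddCommGroup M) (_ : Module R M), Module.Finite R M ∧
      Module.IsStablyFree R M ∧ Nonempty ((R ⧸ I) ⊗[R] M ≃ₗ[R ⧸ I] E) := by
  classical
  obtain ⟨Nb, _, _, hfin, hfree, hfreeprod⟩ := Module.IsStablyFree.exist_free_prod (R ⧸ I) E
  let ι₁ := Module.Free.ChooseBasisIndex (R ⧸ I) (E × Nb)
  let ι₂ := Module.Free.ChooseBasisIndex (R ⧸ I) Nb
  let b₁ := Module.Free.chooseBasis (R ⧸ I) (E × Nb)
  let b₂ := Module.Free.chooseBasis (R ⧸ I) Nb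
  let a₁ : (R ⧸ I) ⊗[R] (ι₁ → R) ≃ₗ[R ⧸ I] E × Nb :=
    (TensorProduct.piScalarRight R (R ⧸ I) (R ⧸ I) ι₁).trans b₁.equivFun.symm
  let a₂ : (R ⧸ I) ⊗[R] (ι₂ → R) ≃ₗ[R ⧸ I] Nb :=
    (TensorProduct.piScalarRight R (R ⧸ I) (R ⧸ I) ι₂).trans b₂.equivFun.symm
  let σb : (R ⧸ I) ⊗[R] (ι₂ → R) →ₗ[R ⧸ I] (R ⧸ I) ⊗[R] (ι₁ → R) :=
    a₁.symm.toLinearMap ∘ₗ LinearMap.inr (R ⧸ I) E Nb ∘ₗ a₂.toLinearMap
  let ρb : (R ⧸ I) ⊗[R] (ι₁ → R) →ₗ[R ⧸ I] (R ⧸ I) ⊗[R] (ι₂ → R) :=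
    a₂.symm.toLinearMap ∘ₗ LinearMap.snd (R ⧸ I) E Nb ∘ₗ a₁.toLinearMap
  let pb : (R ⧸ I) ⊗[R] (ι₁ → R) →ₗ[R ⧸ I] E := LinearMap.fst (R ⧸ I) E Nb ∘ₗ a₁.toLinearMap
  have hρσ : ρb ∘ₗ σb = LinearMap.id := by
    apply LinearMap.ext
    intro x
    simp [ρb, σb]
  have hpb : Function.Surjective pb := by
    intro e
    exact ⟨a₁.symm (e, 0), by simp [pb]⟩
  have hkerpb : LinearMap.ker pb = LinearMap.range σb := by
    ext x
    constructor
    · intro hx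
      rw [LinearMap.mem_ker] at hx
      refine ⟨a₂.symm (a₁ x).2, ?_⟩
      simp only [σb, LinearMap.coe_comp, LinearEquiv.coe_coe, Function.comp_apply,
        LinearEquiv.apply_symm_apply, LinearMap.inr_apply]
      rw [LinearEquiv.symm_apply_eq]
      have hx' : (a₁ x).1 = 0 := hx
      exact Prod.ext hx'.symm rfl
    · rintro ⟨y, rfl⟩
      simp [pb, σb]
  obtain ⟨σ, hσ⟩ := exists_lift_baseChange I (ι₂ → R) (ι₁ → R) σb
  obtain ⟨ρ, hρ⟩ := exists_lift_baseChange I (ι₁ → R) (ι₂ → R) ρb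
  have hbij : Function.Bijective (ρ ∘ₗ σ) := by
    apply bijective_of_baseChange_bijective I hI
    rw [LinearMap.baseChange_comp, hσ, hρ, hρσ]
    exact Function.bijective_id
  let ε := LinearEquiv.ofBijective (ρ ∘ₗ σ) hbij
  let τ : (ι₁ → R) →ₗ[R] (ι₂ → R) := ε.symm.toLinearMap ∘ₗ ρ
  have hτσ : ∀ y, τ (σ y) = y := by
    intro y
    change ε.symm ((ρ ∘ₗ σ) y) = y
    exact ε.symm_apply_apply y
  let eθ : (ι₁ → R) ≃ₗ[R] ((ι₁ → R) ⧸ LinearMap.range σ) × (ι₂ → R) :=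
    LinearEquiv.ofBijective _ (bijective_prod_mkQ σ τ hτσ)
  haveI : Module.Free R (((ι₁ → R) ⧸ LinearMap.range σ) × (ι₂ → R)) := Module.Free.of_equiv eθ
  refine ⟨(ι₁ → R) ⧸ LinearMap.range σ, inferInstance, inferInstance, inferInstance,
    Module.IsStablyFree.of_free_prod R _ (ι₂ → R), ?_⟩
  exact nonempty_baseChange_quotient_equiv I σ pb hpb (by rw [hkerpb, hσ])

end Groth.Agent.Helper4.Jac
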