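import Mathlib
import Groth.Prelude.Def_Cyc
import Groth.Agent.Lib.Helper4.JacDim1

/-!
# S1861: generic points of components of preimages under flat morphisms of relative dimension r (helper4)
-/

set_option backward.isDefEq.respectTransparency.types false
set_option synthInstance.maxHeartbeats 400000
set_option autoImplicit false
set_option linter.unusedSectionVars false
set_option linter.style.haveILetI false
set_option linter.unusedSimpArgs false
universe u v w
open CategoryTheory CategoryTheory.Limits AlgebraicGeometry TopologicalSpace IsLocalRing Opposite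
open Cardinal
open Groth.Agent.Lib.Helper4.DimIneq1 Groth.Agent.Lib.Helper4.DimFT2 Groth.Agent.Lib.Helper4.Catenary1
open Groth.Agent.Lib.Helper4.DimEq1 Groth.Agent.Lib.Helper4.DimIneq2 Groth.Agent.Lib.Helper4.DimEq2
open Groth.Agent.Lib.Helper4.DimIneq3 Groth.Agent.Lib.Helper4.DimIneq4
open Groth.Agent.Lib.Helper4.NormFibre2 Groth.Agent.Lib.Helper4.RadBir3 Groth.Agent.Lib.Helper4.DimFT3
open Groth.Agent.Lib.Helper4.FibDim1 Groth.Agent.Lib.Helper4.FibDim2 Groth.Agent.Lib.Helper4.LocUC1
open Groth.Agent.Lib.Helper4.FibDim3 Groth.Agent.Lib.Helper4.FibDim4 Groth.Agent.Lib.Helper4.FibDim5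
open Groth.Agent.Lib.Helper4.FibDim6 Groth.Agent.Lib.Helper4.FibDim7 Groth.Agent.Lib.Helper4.JacDim1

namespace Groth.Agent.Lib.Helper4.JacDim3

section S1861

theorem S1861_main (X Y : Scheme.{u}) (δX : X → ℤ) (δY : Y → ℤ)
    (hY : Cyc.IsSetup Y δY) (f : X ⟶ Y) [Flat f] [LocallyOfFiniteType f] (r : ℕ)
    (hr : Cyc.HasRelDim f r) (hδ : Cyc.DeltaCompat f δX δY) (y : Y) (x : X)
    (hx : f x ∈ closure ({y} : Set Y))
    (hmax : ∀ x' : X, f x' ∈ closure ({y} : Set Y) → x' ⤳ x → x' = x) :
    f x = y ∧ δX x = δY y + r := by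
  haveI : IsLocallyNoetherian Y := hY.1
  have hgen : GeneralizingMap f := Flat.generalizingMap f
  have hfx : f x = y := by
    obtain ⟨x', hx', hfx'⟩ := hgen (specializes_iff_mem_closure.mpr hx)
    have : x' = x := hmax x' (by rw [hfx']; exact subset_closure (Set.mem_singleton y)) hx'
    rw [← this, hfx']
  refine ⟨hfx, ?_⟩
  obtain ⟨n, hn, hδn⟩ := hδ x
  have hn' : tr f x = n := tr_eq_of_trdeg_eq f _ n hn
  have hmem : ((tr f x : ℕ) : WithBot ℕ∞) ∈
      (fun Z : Set ↥(f.fiber y) => topologicalKrullDim ↥Z) ''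
        irreducibleComponents ↥(f.fiber y) := by
    rw [mem_compDims_iff]
    refine ⟨x, hfx, ?_, rfl⟩
    intro z' hz' hsp
    exact hmax z' (by rw [hz']; exact subset_closure (Set.mem_singleton y)) hsp
  obtain ⟨T, hT, hTd⟩ := hmem
  have h1 := hr y T hT
  change topologicalKrullDim ↥T = _ at hTd
  rw [h1] at hTd
  have h2 : r = tr f x := by exact_mod_cast hTd
  rw [hδn, hfx, h2, hn']

end S1861

end Groth.Agent.Lib.Helper4.JacDim3
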