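import Mathlib

/-!
# Jacobian criterion at a rational point (helper4)
-/

set_option backward.isDefEq.respectTransparency.types false
set_option synthInstance.maxHeartbeats 400000
set_option autoImplicit false
set_option linter.unusedSectionVars false
set_option linter.style.haveILetI false
set_option linter.unusedSimpArgs false
universe u v w
open MvPolynomial

namespace Groth.Agent.Lib.Helper4.JacPoint1
open MvPolynomial

variable {k : Type u} [Field k] {n : ℕ} (a : Fin n → k)

/-- gradient at `a` -/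
noncomputable def D : MvPolynomial (Fin n) k →ₗ[k] (Fin n → k) :=
  LinearMap.pi (fun j => (MvPolynomial.aeval a : MvPolynomial (Fin n) k →ₐ[k] k).toLinearMap ∘ₗ
    (MvPolynomial.pderiv j).toLinearMap)

theorem D_apply (f : MvPolynomial (Fin n) k) (j : Fin n) :
    D a f j = MvPolynomial.eval a (MvPolynomial.pderiv j f) := by
  simp [D, MvPolynomial.aeval_eq_eval]

theorem D_mul (f g : MvPolynomial (Fin n) k) :
    D a (f * g) = MvPolynomial.eval a f • D a g + MvPolynomial.eval a g • D a f := by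
  ext j
  simp only [D_apply, Pi.add_apply, Pi.smul_apply, smul_eq_mul, Derivation.leibniz, map_add,
    map_mul]

theorem D_X_sub_C (j : Fin n) :
    D a (X j - C (a j)) = Pi.single j 1 := by
  ext i
  simp only [D_apply, map_sub, pderiv_X, pderiv_C, sub_zero]
  by_cases h : i = j
  · subst h; simp
  · rw [Pi.single_eq_of_ne (Ne.symm h), Pi.single_eq_of_ne h]; simp

theorem D_eq_zero_of_mem_sq (f : MvPolynomial (Fin n) k)
    (hf : f ∈ (RingHom.ker (MvPolynomial.eval a)) ^ 2) : D a f = 0 := by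
  rw [pow_two] at hf
  refine Submodule.mul_induction_on hf ?_ ?_
  · intro x hx y hy
    rw [RingHom.mem_ker] at hx hy
    rw [D_mul, hx, hy, zero_smul, zero_smul, add_zero]
  · intro x y hx hy
    rw [map_add, hx, hy, add_zero]

theorem X_sub_C_mem (j : Fin n) : (X j - C (a j) : MvPolynomial (Fin n) k) ∈
    RingHom.ker (MvPolynomial.eval a) := by
  simp [RingHom.mem_ker]

theorem sub_C_mem (g : MvPolynomial (Fin n) k) : g - C (MvPolynomial.eval a g) ∈
    RingHom.ker (MvPolynomial.eval a) := by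
  simp [RingHom.mem_ker]

theorem taylor (g : MvPolynomial (Fin n) k) :
    g - C (MvPolynomial.eval a g) - ∑ j, C (D a g j) * (X j - C (a j)) ∈
      (RingHom.ker (MvPolynomial.eval a)) ^ 2 := by
  induction g using MvPolynomial.induction_on with
  | C c =>
    have : D a (C c) = 0 := by
      ext j; simp [D_apply]
    simp [this]
  | add p q hp hq =>
    have : p + q - C (MvPolynomial.eval a (p + q)) - ∑ j, C (D a (p + q) j) * (X j - C (a j)) =
        (p - C (MvPolynomial.eval a p) - ∑ j, C (D a p j) * (X j - C (a j))) +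
        (q - C (MvPolynomial.eval a q) - ∑ j, C (D a q j) * (X j - C (a j))) := by
      simp only [map_add, Pi.add_apply, add_mul, Finset.sum_add_distrib]
      ring
    rw [this]
    exact add_mem hp hq
  | mul_X p i hp =>
    have hD : ∀ j, D a (p * X i) j = a i * D a p j + MvPolynomial.eval a p * (Pi.single i 1 : Fin n → k) j := by
      intro j
      have h1 : D a (X i : MvPolynomial (Fin n) k) = Pi.single i 1 := by
        have := D_X_sub_C a i
        rw [map_sub] at this
        have hC : D a (C (a i)) = 0 := by ext j; simp [D_apply]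
        rw [hC, sub_zero] at this
        exact this
      rw [D_mul, h1]
      simp only [Pi.add_apply, Pi.smul_apply, smul_eq_mul, eval_X]
      ring
    have : p * X i - C (MvPolynomial.eval a (p * X i)) - ∑ j, C (D a (p * X i) j) * (X j - C (a j)) =
        (p - C (MvPolynomial.eval a p)) * (X i - C (a i)) +
        C (a i) * (p - C (MvPolynomial.eval a p) - ∑ j, C (D a p j) * (X j - C (a j))) := by
      simp only [hD, map_add, map_mul, add_mul, Finset.sum_add_distrib, eval_X]
      have h2 : ∑ j, C (MvPolynomial.eval a p) * C ((Pi.single i 1 : Fin n → k) j) * (X j - C (a j)) =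
          C (MvPolynomial.eval a p) * (X i - C (a i)) := by
        rw [Finset.sum_eq_single i]
        · simp
        · intro b _ hb
          rw [Pi.single_eq_of_ne hb]; simp
        · intro h; exact absurd (Finset.mem_univ i) h
      rw [h2]
      have h3 : ∑ j, C (a i) * C (D a p j) * (X j - C (a j)) =
          ∑ j, C (a i) * (C (D a p j) * (X j - C (a j))) := by
        apply Finset.sum_congr rfl; intros; ring
      rw [h3, ← Finset.mul_sum]
      ring
    rw [this]
    refine add_mem ?_ (Ideal.mul_mem_left _ _ hp)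
    rw [pow_two]
    exact Ideal.mul_mem_mul (sub_C_mem a p) (X_sub_C_mem a i)

theorem mem_sq_of_D_eq_zero (g : MvPolynomial (Fin n) k)
    (hg : g ∈ RingHom.ker (MvPolynomial.eval a)) (hD : D a g = 0) :
    g ∈ (RingHom.ker (MvPolynomial.eval a)) ^ 2 := by
  have := taylor a g
  rw [RingHom.mem_ker] at hg
  simpa [hg, hD] using this


theorem nonempty_equiv_quot {V X Y : Type*} [AddCommGroup V] [Module k V] [AddCommGroup X]
    [Module k X] [AddCommGroup Y] [Module k Y] (Θ : V →ₗ[k] X) (Δ : V →ₗ[k] Y)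
    (hΘ : Function.Surjective Θ) (hΔ : Function.Surjective Δ) (W : Submodule k Y)
    (h : ∀ v, Θ v = 0 ↔ Δ v ∈ W) : Nonempty (X ≃ₗ[k] Y ⧸ W) := by
  have hker : LinearMap.ker Θ = LinearMap.ker (W.mkQ ∘ₗ Δ) := by
    ext v
    simp only [LinearMap.mem_ker, LinearMap.comp_apply, Submodule.mkQ_apply,
      Submodule.Quotient.mk_eq_zero]
    exact h v
  have hs : Function.Surjective (W.mkQ ∘ₗ Δ) := (Submodule.mkQ_surjective W).comp hΔ
  exact ⟨(LinearMap.quotKerEquivOfSurjective Θ hΘ).symm.trans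
    ((Submodule.quotEquivOfEq _ _ hker).trans (LinearMap.quotKerEquivOfSurjective _ hs))⟩

section loc

variable {r : ℕ} (F : Fin r → MvPolynomial (Fin n) k)
  {B : Type u} [CommRing B] [Algebra k B] (π : MvPolynomial (Fin n) k →ₐ[k] B)
  (hπ : Function.Surjective π) (hker : RingHom.ker π = Ideal.span (Set.range F))
  (𝔪 : Ideal B) [𝔪.IsMaximal]

/-- the structure map `k[T] → B_𝔪` -/
noncomputable def φ : MvPolynomial (Fin n) k →ₐ[k] Localization.AtPrime 𝔪 :=
  (IsScalarTower.toAlgHom k B (Localization.AtPrime 𝔪)).comp π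

theorem φ_apply (f : MvPolynomial (Fin n) k) :
    φ π 𝔪 f = algebraMap _ (Localization.AtPrime 𝔪) (π f) :=
  rfl

variable (h𝔪 : 𝔪.comap π = RingHom.ker (MvPolynomial.eval a))

include h𝔪

theorem φ_mem_iff (f : MvPolynomial (Fin n) k) :
    φ π 𝔪 f ∈ IsLocalRing.maximalIdeal (Localization.AtPrime 𝔪) ↔
      f ∈ RingHom.ker (MvPolynomial.eval a) := by
  rw [φ_apply, IsLocalization.AtPrime.to_map_mem_maximal_iff (Localization.AtPrime 𝔪) 𝔪,
    ← h𝔪, Ideal.mem_comap]

theorem φ_isUnit (f : MvPolynomial (Fin n) k) (hf : f ∉ RingHom.ker (MvPolynomial.eval a)) :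
    IsUnit (φ π 𝔪 f) := by
  by_contra hu
  exact hf ((φ_mem_iff a π 𝔪 h𝔪 f).1 ((IsLocalRing.mem_maximalIdeal _).2 hu))

include hker in
omit h𝔪 in
theorem φ_F (i : Fin r) : φ π 𝔪 (F i) = 0 := by
  rw [φ_apply]
  have : π (F i) = 0 := by
    have : F i ∈ RingHom.ker π := by rw [hker]; exact Ideal.subset_span ⟨i, rfl⟩
    exact this
  rw [this, map_zero]

include hker in
theorem span_le : Ideal.span (Set.range F) ≤ RingHom.ker (MvPolynomial.eval a) := by
  rw [← h𝔪, ← hker]
  intro x hx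
  rw [Ideal.mem_comap, (RingHom.mem_ker).1 hx]
  exact zero_mem _

include hπ in
theorem exists_frac (y : Localization.AtPrime 𝔪) :
    ∃ f g : MvPolynomial (Fin n) k, g ∉ RingHom.ker (MvPolynomial.eval a) ∧
      y * φ π 𝔪 g = φ π 𝔪 f := by
  obtain ⟨⟨x, s⟩, hxs⟩ := IsLocalization.surj 𝔪.primeCompl y
  obtain ⟨f, rfl⟩ := hπ x
  obtain ⟨g, hg⟩ := hπ (s : B)
  refine ⟨f, g, ?_, ?_⟩
  · rw [← h𝔪, Ideal.mem_comap, hg]
    exact s.2
  · rw [φ_apply, φ_apply, hg]
    exact hxs

include hπ hker in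
theorem mem_sq_sup_of_φ_mem_sq (f : MvPolynomial (Fin n) k)
    (hf : f ∈ RingHom.ker (MvPolynomial.eval a))
    (h : φ π 𝔪 f ∈ IsLocalRing.maximalIdeal (Localization.AtPrime 𝔪) ^ 2) :
    f ∈ (RingHom.ker (MvPolynomial.eval a)) ^ 2 ⊔ Ideal.span (Set.range F) := by
  have hmk : π f ∈ 𝔪 := by
    rw [← Ideal.mem_comap, h𝔪]; exact hf
  rw [← Localization.AtPrime.map_eq_maximalIdeal, ← Ideal.map_pow, φ_apply,
    IsLocalization.mem_map_algebraMap_iff 𝔪.primeCompl] at h
  obtain ⟨⟨x, s⟩, hxs⟩ := h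
  rw [← map_mul, IsLocalization.eq_iff_exists 𝔪.primeCompl] at hxs
  obtain ⟨t, ht⟩ := hxs
  have hu : ((t : B) * (s : B)) * π f ∈ 𝔪 ^ 2 := by
    have : ((t : B) * (s : B)) * π f = (t : B) * (x : B) := by
      rw [← ht]; ring
    rw [this]
    exact Ideal.mul_mem_left _ _ x.2
  have hts : ((t : B) * (s : B)) ∉ 𝔪 := (t * s).2
  obtain ⟨v, i, hi, hvi⟩ := Ideal.IsMaximal.exists_inv (inferInstance : 𝔪.IsMaximal) hts
  have hmem : π f ∈ 𝔪 ^ 2 := by
    have : π f = v * (((t : B) * (s : B)) * π f) + i * π f := by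
      calc π f = (v * ((t : B) * (s : B)) + i) * π f := by
            rw [hvi, one_mul]
        _ = _ := by ring
    rw [this]
    refine add_mem (Ideal.mul_mem_left _ _ hu) ?_
    rw [pow_two]
    exact Ideal.mul_mem_mul hi hmk
  have hmap : 𝔪 = Ideal.map π (RingHom.ker (MvPolynomial.eval a)) := by
    rw [← h𝔪, Ideal.map_comap_of_surjective _ hπ]
  rw [hmap, ← Ideal.map_pow, ← Ideal.mem_comap,
    Ideal.comap_map_of_surjective _ hπ, ← RingHom.ker_eq_comap_bot] at hmem
  rw [← hker]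
  exact hmem

theorem φ_mem_sq_of_mem_sq (g : MvPolynomial (Fin n) k)
    (hg : g ∈ (RingHom.ker (MvPolynomial.eval a)) ^ 2) :
    φ π 𝔪 g ∈ IsLocalRing.maximalIdeal (Localization.AtPrime 𝔪) ^ 2 := by
  have hle : RingHom.ker (MvPolynomial.eval a) ≤
      (IsLocalRing.maximalIdeal (Localization.AtPrime 𝔪)).comap (φ π 𝔪).toRingHom := by
    intro x hx
    rw [Ideal.mem_comap]
    exact (φ_mem_iff a π 𝔪 h𝔪 x).2 hx
  have := Ideal.pow_right_mono hle 2 hg
  exact Ideal.le_comap_pow _ 2 this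

/-- the row space of the Jacobian at `a` -/
noncomputable def W : Submodule k (Fin n → k) := Submodule.span k (Set.range fun i => D a (F i))

include hker in
theorem D_mem_W_of_mem_span (h : MvPolynomial (Fin n) k) (hh : h ∈ Ideal.span (Set.range F)) :
    D a h ∈ W a F := by
  have hle := span_le a F π hker 𝔪 h𝔪
  induction hh using Submodule.span_induction with
  | mem x hx =>
    obtain ⟨i, rfl⟩ := hx
    exact Submodule.subset_span ⟨i, rfl⟩
  | zero => simp
  | add x y hx hy hx' hy' => rw [map_add]; exact add_mem hx' hy'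
  | smul c x hx hx' =>
    rw [smul_eq_mul, D_mul]
    have : MvPolynomial.eval a x = 0 := hle hx
    rw [this, zero_smul, add_zero]
    exact Submodule.smul_mem _ _ hx'

include hπ hker in
theorem φ_mem_sq_iff (f : MvPolynomial (Fin n) k) (hf : f ∈ RingHom.ker (MvPolynomial.eval a)) :
    φ π 𝔪 f ∈ IsLocalRing.maximalIdeal (Localization.AtPrime 𝔪) ^ 2 ↔ D a f ∈ W a F := by
  constructor
  · intro h
    have := mem_sq_sup_of_φ_mem_sq a F π hπ hker 𝔪 h𝔪 f hf h
    obtain ⟨g, hg, h', hh', rfl⟩ := Submodule.mem_sup.1 this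
    rw [map_add, D_eq_zero_of_mem_sq a g hg, zero_add]
    exact D_mem_W_of_mem_span a F π hker 𝔪 h𝔪 h' hh'
  · intro h
    obtain ⟨c, hc⟩ := (Submodule.mem_span_range_iff_exists_fun k).1 h
    set g := f - ∑ i, C (c i) * F i with hg
    have hle := span_le a F π hker 𝔪 h𝔪
    have hFi : ∀ i, F i ∈ RingHom.ker (MvPolynomial.eval a) :=
      fun i => hle (Ideal.subset_span ⟨i, rfl⟩)
    have hgmem : g ∈ RingHom.ker (MvPolynomial.eval a) :=
      sub_mem hf (Ideal.sum_mem _ fun i _ => Ideal.mul_mem_left _ _ (hFi i))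
    have hDg : D a g = 0 := by
      rw [hg, map_sub, map_sum, ← hc, sub_eq_zero]
      apply Finset.sum_congr rfl
      intro i _
      rw [D_mul]
      have : MvPolynomial.eval a (F i) = 0 := hFi i
      rw [this, zero_smul, add_zero, MvPolynomial.eval_C]
    have hg2 := mem_sq_of_D_eq_zero a g hgmem hDg
    have hφ : φ π 𝔪 f = φ π 𝔪 g := by
      have hsum : ∑ i, φ π 𝔪 (C (c i) * F i) = 0 :=
        Finset.sum_eq_zero (fun i _ => by rw [map_mul, φ_F F π hker 𝔪, mul_zero])
      rw [hg, map_sub, map_sum, hsum]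
      exact (sub_zero (φ π 𝔪 f)).symm
    rw [hφ]
    exact φ_mem_sq_of_mem_sq a π 𝔪 h𝔪 g hg2

theorem ker_le_comap : RingHom.ker (MvPolynomial.eval a) ≤
    (IsLocalRing.maximalIdeal (Localization.AtPrime 𝔪)).comap (φ π 𝔪) := by
  intro x hx
  rw [Ideal.mem_comap]
  exact (φ_mem_iff a π 𝔪 h𝔪 x).2 hx

/-- the comparison map -/
noncomputable def Θ : RingHom.ker (MvPolynomial.eval a) →ₗ[k]
      IsLocalRing.CotangentSpace (Localization.AtPrime 𝔪) :=
  (Ideal.mapCotangent (RingHom.ker (MvPolynomial.eval a))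
      (IsLocalRing.maximalIdeal (Localization.AtPrime 𝔪)) (φ π 𝔪) (ker_le_comap a π 𝔪 h𝔪)) ∘ₗ
      ((RingHom.ker (MvPolynomial.eval a)).toCotangent.restrictScalars k)

theorem Θ_apply (f : RingHom.ker (MvPolynomial.eval a)) :
    Θ a π 𝔪 h𝔪 f = (IsLocalRing.maximalIdeal (Localization.AtPrime 𝔪)).toCotangent
      ⟨φ π 𝔪 f.1, ker_le_comap a π 𝔪 h𝔪 f.2⟩ := rfl

include hπ in
theorem Θ_surjective : Function.Surjective (Θ a π 𝔪 h𝔪) := by
  intro v
  obtain ⟨⟨y, hy⟩, rfl⟩ := Ideal.toCotangent_surjective _ v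
  obtain ⟨f, g, hg, hfg⟩ := exists_frac a π hπ 𝔪 h𝔪 y
  have hc : MvPolynomial.eval a g ≠ 0 := fun h => hg h
  set c := MvPolynomial.eval a g with hcdef
  have hf : f ∈ RingHom.ker (MvPolynomial.eval a) := by
    rw [← φ_mem_iff a π 𝔪 h𝔪, ← hfg]
    exact Ideal.mul_mem_right _ _ hy
  have hf' : C c⁻¹ * f ∈ RingHom.ker (MvPolynomial.eval a) := Ideal.mul_mem_left _ _ hf
  refine ⟨⟨C c⁻¹ * f, hf'⟩, ?_⟩
  rw [Θ_apply, Ideal.toCotangent_eq]
  have hone : φ π 𝔪 (C c⁻¹) * φ π 𝔪 (C c) = 1 := by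
    rw [← map_mul, ← C_mul, inv_mul_cancel₀ hc, C_1, map_one]
  have key : φ π 𝔪 (C c⁻¹ * f) - y = φ π 𝔪 (C c⁻¹) * (φ π 𝔪 (g - C c) * y) := by
    rw [map_mul, ← hfg, map_sub]
    linear_combination y * hone
  change φ π 𝔪 (C c⁻¹ * f) - y ∈ _
  rw [key, pow_two]
  refine Ideal.mul_mem_left _ _ (Ideal.mul_mem_mul ?_ hy)
  rw [φ_mem_iff a π 𝔪 h𝔪]
  exact sub_C_mem a g

include hπ hker in
theorem Θ_eq_zero_iff (f : RingHom.ker (MvPolynomial.eval a)) :
    Θ a π 𝔪 h𝔪 f = 0 ↔ D a f.1 ∈ W a F := by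
  rw [Θ_apply, Ideal.toCotangent_eq_zero]
  exact φ_mem_sq_iff a F π hπ hker 𝔪 h𝔪 f.1 f.2

include hπ in
theorem bijective_algebraMap_residueField :
    Function.Bijective (algebraMap k (IsLocalRing.ResidueField (Localization.AtPrime 𝔪))) := by
  refine ⟨(algebraMap k (IsLocalRing.ResidueField (Localization.AtPrime 𝔪))).injective, ?_⟩
  intro z
  obtain ⟨y, rfl⟩ := IsLocalRing.residue_surjective z
  obtain ⟨f, g, hg, hfg⟩ := exists_frac a π hπ 𝔪 h𝔪 y
  have hc : MvPolynomial.eval a g ≠ 0 := fun h => hg h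
  set c := MvPolynomial.eval a g with hcdef
  set e := MvPolynomial.eval a f / c with he
  refine ⟨e, ?_⟩
  rw [IsScalarTower.algebraMap_apply k (Localization.AtPrime 𝔪)
    (IsLocalRing.ResidueField (Localization.AtPrime 𝔪)), IsLocalRing.ResidueField.algebraMap_eq]
  symm
  rw [← sub_eq_zero, ← map_sub, IsLocalRing.residue_eq_zero_iff]
  obtain ⟨u, hu⟩ := φ_isUnit a π 𝔪 h𝔪 g hg
  have hmem : (y - algebraMap k (Localization.AtPrime 𝔪) e) * φ π 𝔪 g ∈
      IsLocalRing.maximalIdeal (Localization.AtPrime 𝔪) := by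
    have : (y - algebraMap k (Localization.AtPrime 𝔪) e) * φ π 𝔪 g = φ π 𝔪 (f - C e * g) := by
      rw [map_sub, map_mul, ← hfg, ← MvPolynomial.algebraMap_eq, AlgHom.commutes]
      ring
    rw [this, φ_mem_iff a π 𝔪 h𝔪, RingHom.mem_ker, map_sub, map_mul, MvPolynomial.eval_C, he,
      ← hcdef, div_mul_cancel₀ _ hc, sub_self]
  have : y - algebraMap k (Localization.AtPrime 𝔪) e =
      ((y - algebraMap k (Localization.AtPrime 𝔪) e) * φ π 𝔪 g) * ↑u⁻¹ := by
    rw [← hu, mul_assoc, Units.mul_inv, mul_one]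
  rw [this]
  exact Ideal.mul_mem_right _ _ hmem


omit h𝔪 [𝔪.IsMaximal] in
theorem Δ_surjective : Function.Surjective
    (D a ∘ₗ ((RingHom.ker (MvPolynomial.eval a)).subtype.restrictScalars k)) := by
  intro v
  refine ⟨⟨∑ j, v j • (X j - C (a j)), Ideal.sum_mem _ fun j _ => ?_⟩, ?_⟩
  · rw [MvPolynomial.smul_eq_C_mul]
    exact Ideal.mul_mem_left _ _ (X_sub_C_mem a j)
  · simp only [LinearMap.comp_apply, LinearMap.restrictScalars_apply, Submodule.subtype_apply,
      map_sum, map_smul, D_X_sub_C]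
    ext i
    simp [Finset.sum_apply, Pi.single_apply]

include hπ in
theorem finrank_residueField_eq :
    Module.finrank (IsLocalRing.ResidueField (Localization.AtPrime 𝔪))
      (IsLocalRing.CotangentSpace (Localization.AtPrime 𝔪)) =
    Module.finrank k (IsLocalRing.CotangentSpace (Localization.AtPrime 𝔪)) := by
  have hb := bijective_algebraMap_residueField a π hπ 𝔪 h𝔪
  haveI : IsScalarTower k (IsLocalRing.ResidueField (Localization.AtPrime 𝔪))
      (IsLocalRing.CotangentSpace (Localization.AtPrime 𝔪)) := by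
    apply IsScalarTower.of_algebraMap_smul
    intro c v
    rw [IsScalarTower.algebraMap_apply k (Localization.AtPrime 𝔪)
      (IsLocalRing.ResidueField (Localization.AtPrime 𝔪)), algebraMap_smul, algebraMap_smul]
  have h1 : Module.finrank k (IsLocalRing.ResidueField (Localization.AtPrime 𝔪)) = 1 := by
    have e : k ≃ₗ[k] IsLocalRing.ResidueField (Localization.AtPrime 𝔪) :=
      LinearEquiv.ofBijective (Algebra.linearMap k _) hb
    rw [← e.finrank_eq, Module.finrank_self]
  have := Module.finrank_mul_finrank k (IsLocalRing.ResidueField (Localization.AtPrime 𝔪))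
    (IsLocalRing.CotangentSpace (Localization.AtPrime 𝔪))
  rw [h1, one_mul] at this
  exact this

include hπ hker in
theorem main_general :
    Module.finrank (IsLocalRing.ResidueField (Localization.AtPrime 𝔪))
        (IsLocalRing.CotangentSpace (Localization.AtPrime 𝔪)) +
      (Matrix.of fun i j => MvPolynomial.eval a (MvPolynomial.pderiv j (F i))).rank = n := by
  rw [finrank_residueField_eq a π hπ 𝔪 h𝔪]
  obtain ⟨e⟩ := nonempty_equiv_quot (Θ a π 𝔪 h𝔪)
    (D a ∘ₗ ((RingHom.ker (MvPolynomial.eval a)).subtype.restrictScalars k))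
    (Θ_surjective a π hπ 𝔪 h𝔪) (Δ_surjective a) (W a F)
    (fun f => Θ_eq_zero_iff a F π hπ hker 𝔪 h𝔪 f)
  rw [e.finrank_eq]
  have hW : (Matrix.of fun i j => MvPolynomial.eval a (MvPolynomial.pderiv j (F i))).rank =
      Module.finrank k (W a F) := by
    rw [Matrix.rank_eq_finrank_span_row]
    congr 2
  rw [hW, Submodule.finrank_quotient_add_finrank, Module.finrank_fin_fun]

end loc

theorem S11563_main (k : Type u) [Field k] (n r : ℕ)
    (F : Fin r → MvPolynomial (Fin n) k) (a : Fin n → k)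
    (𝔪 : Ideal (MvPolynomial (Fin n) k ⧸ Ideal.span (Set.range F))) [𝔪.IsMaximal]
    (h𝔪 : 𝔪.comap (Ideal.Quotient.mk (Ideal.span (Set.range F))) = RingHom.ker (MvPolynomial.eval a)) :
    Module.finrank (IsLocalRing.ResidueField (Localization.AtPrime 𝔪))
        (IsLocalRing.CotangentSpace (Localization.AtPrime 𝔪)) +
      (Matrix.of fun i j => MvPolynomial.eval a (MvPolynomial.pderiv j (F i))).rank = n :=
  main_general a F (Ideal.Quotient.mkₐ k (Ideal.span (Set.range F)))
    (Ideal.Quotient.mkₐ_surjective k _) (Ideal.Quotient.mkₐ_ker k _) 𝔪 h𝔪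


theorem cast_cancel_aux (c ρ n : ℕ) (h : c + ρ = n) (d : WithBot ℕ∞) :
    (c : WithBot ℕ∞) = d ↔ (ρ : WithBot ℕ∞) + d = n := by
  constructor
  · rintro rfl
    rw [← h]
    push_cast
    rw [add_comm]
  · intro hd
    induction d using WithBot.recBotCoe with
    | bot =>
      rw [WithBot.add_bot] at hd
      exact absurd hd (by simp)
    | coe e =>
      induction e using ENat.recTopCoe with
      | top =>
        exfalso
        have h1 : ((ρ : ℕ∞) + ⊤ : ℕ∞) = ((n : ℕ∞)) := by
          have : ((ρ : WithBot ℕ∞) + ((⊤ : ℕ∞) : WithBot ℕ∞)) = (((ρ : ℕ∞) + ⊤ : ℕ∞) : WithBot ℕ∞) := by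
            push_cast; rfl
          rw [this] at hd
          exact_mod_cast hd
        simp at h1
      | coe m =>
        have h1 : ρ + m = n := by
          have : ((ρ : WithBot ℕ∞) + (((m : ℕ) : ℕ∞) : WithBot ℕ∞)) = ((ρ + m : ℕ) : WithBot ℕ∞) := by
            push_cast; rfl
          rw [this] at hd
          exact_mod_cast hd
        have : c = m := by omega
        rw [this]
        rfl

theorem S11554_main (k : Type u) [Field k] (n r : ℕ)
    (F : Fin r → MvPolynomial (Fin n) k) (a : Fin n → k)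
    (𝔪 : Ideal (MvPolynomial (Fin n) k ⧸ Ideal.span (Set.range F))) [𝔪.IsMaximal]
    (h𝔪 : 𝔪.comap (Ideal.Quotient.mk (Ideal.span (Set.range F))) = RingHom.ker (MvPolynomial.eval a)) :
    IsRegularLocalRing (Localization.AtPrime 𝔪) ↔
      ((Matrix.of fun i j => MvPolynomial.eval a (MvPolynomial.pderiv j (F i))).rank : WithBot ℕ∞) +
        ringKrullDim (Localization.AtPrime 𝔪) = n := by
  haveI : IsNoetherianRing (Localization.AtPrime 𝔪) :=
    IsLocalization.isNoetherianRing 𝔪.primeCompl _ inferInstance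
  rw [IsRegularLocalRing.iff_finrank_cotangentSpace]
  exact cast_cancel_aux _ _ _ (S11563_main k n r F a 𝔪 h𝔪) _

end Groth.Agent.Lib.Helper4.JacPoint1
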