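import Mathlib
import Groth.Agent.Lib.Helper4.LocClosedPt1

/-!
# Noetherian Jacobson rings/schemes vs semi-local one-dimensional domains (helper4)
-/

set_option backward.isDefEq.respectTransparency.types false
set_option synthInstance.maxHeartbeats 400000
set_option autoImplicit false
set_option linter.unusedSectionVars false
set_option linter.style.haveILetI false
set_option linter.unusedSimpArgs false
universe u v w

namespace Groth.Agent.Lib.Helper4.Jacobson1
open Groth.Agent.Lib.Helper4.LocClosedPt1

/-- A Noetherian domain, not a field, in which some nonzero `f` lies in every nonzero prime is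
semi-local of dimension one. -/
theorem semilocal_dim_one {D : Type u} [CommRing D] [IsDomain D] [IsNoetherianRing D] (f : D)
    (hf : f ≠ 0) (h : ∀ Q : Ideal D, Q.IsPrime → Q ≠ ⊥ → f ∈ Q) (hfield : ¬ IsField D) :
    Finite (MaximalSpectrum D) ∧ ringKrullDim D = 1 := by
  have hdim1 : Ring.KrullDimLE 1 D := by
    refine Ring.krullDimLE_one_iff_of_noZeroDivisors.mpr fun I hI hIp => ?_
    obtain ⟨M, hM, hIM⟩ := Ideal.exists_le_maximal I hIp.ne_top
    by_cases hne : I = M
    · rw [hne]; exact hM
    · exfalso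
      haveI := hM.isPrime
      exact no_chain_dom f hf h I M (bot_lt_iff_ne_bot.mpr hI) (lt_of_le_of_ne hIM hne)
  refine ⟨?_, ?_⟩
  · have hfin := Ideal.finite_minimalPrimes_of_isNoetherianRing D (Ideal.span {f})
    haveI : Finite ↥(Ideal.span {f}).minimalPrimes := hfin
    let g : MaximalSpectrum D → ↥(Ideal.span {f}).minimalPrimes := fun M =>
      ⟨M.asIdeal, by
        have hM0 : M.asIdeal ≠ ⊥ := Ring.ne_bot_of_isMaximal_of_not_isField M.2 hfield
        have hfM : f ∈ M.asIdeal := h _ M.2.isPrime hM0
        refine ⟨⟨M.2.isPrime, (Ideal.span_singleton_le_iff_mem _).mpr hfM⟩, ?_⟩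
        rintro Q ⟨hQp, hfQ⟩ hQM
        have hQ0 : Q ≠ ⊥ := fun h' => hf (by
          have := hfQ (Ideal.mem_span_singleton_self f)
          rw [h'] at this; exact this)
        have hQmax : Q.IsMaximal :=
          Ring.krullDimLE_one_iff_of_noZeroDivisors.mp hdim1 Q hQ0 hQp
        exact (hQmax.eq_of_le M.2.ne_top hQM).ge⟩
    refine Finite.of_injective g fun M M' hMM' => ?_
    have : M.asIdeal = M'.asIdeal := congrArg Subtype.val hMM'
    exact MaximalSpectrum.ext this
  · have : ¬ ringKrullDim D ≤ 0 := fun h0 => by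
      have : Ring.KrullDimLE 0 D := Ring.krullDimLE_iff.mpr h0
      exact hfield Ring.KrullDimLE.isField_of_isDomain
    have h1 := Ring.krullDimLE_iff.mp hdim1
    exact le_antisymm h1 (Order.succ_le_of_lt (lt_of_not_ge this))

/-- A semi-local domain of dimension one is not Jacobson. -/
theorem not_jacobson_of_semilocal_dim_one {D : Type u} [CommRing D] [IsDomain D]
    [IsJacobsonRing D] (hfin : Finite (MaximalSpectrum D)) (hdim : ringKrullDim D = 1) : False := by
  classical
  have hfield : ¬ IsField D := fun hF => by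
    rw [ringKrullDim_eq_zero_of_isField hF] at hdim
    exact zero_ne_one hdim
  haveI : Fintype (MaximalSpectrum D) := Fintype.ofFinite _
  have hex : ∀ M : MaximalSpectrum D, ∃ x ∈ M.asIdeal, x ≠ 0 := by
    intro M
    have hM0 : M.asIdeal ≠ ⊥ := Ring.ne_bot_of_isMaximal_of_not_isField M.2 hfield
    exact Submodule.exists_mem_ne_zero_of_ne_bot hM0
  choose x hxM hx0 using hex
  have hprod : (∏ M, x M) ∈ (⊥ : Ideal D).jacobson := by
    rw [Ideal.jacobson, Ideal.mem_sInf]
    rintro J ⟨-, hJ⟩
    let MJ : MaximalSpectrum D := ⟨J, hJ⟩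
    have : x MJ ∣ ∏ M, x M := Finset.dvd_prod_of_mem _ (Finset.mem_univ _)
    exact Ideal.mem_of_dvd _ this (hxM MJ)
  rw [IsJacobsonRing.out ‹_› (Ideal.isRadical_bot), Ideal.mem_bot,
    Finset.prod_eq_zero_iff] at hprod
  obtain ⟨M, -, hM⟩ := hprod
  exact hx0 M hM

/-- S3431 -/
theorem isJacobsonRing_iff (A : Type u) [CommRing A] [IsNoetherianRing A] :
    IsJacobsonRing A ↔
      ∀ (p : Ideal A) [p.IsPrime], ¬ (Finite (MaximalSpectrum (A ⧸ p)) ∧ ringKrullDim (A ⧸ p) = 1) := by
  constructor
  · intro hJ p hp ⟨hfin, hdim⟩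
    exact not_jacobson_of_semilocal_dim_one (D := A ⧸ p) hfin hdim
  · intro H
    rw [isJacobsonRing_iff_prime_eq]
    intro P hP
    refine le_antisymm ?_ Ideal.le_jacobson
    intro f hfJ
    by_contra hfP
    -- a prime maximal among those containing `P` and avoiding `f`
    obtain ⟨p', ⟨hp'prime, hPp', hfp'⟩, hmax⟩ :=
      set_has_maximal_iff_noetherian.mpr (inferInstance : IsNoetherian A A)
        {Q : Ideal A | Q.IsPrime ∧ P ≤ Q ∧ f ∉ Q} ⟨P, hP, le_rfl, hfP⟩
    haveI := hp'prime
    apply H p'
    refine semilocal_dim_one (D := A ⧸ p') (Ideal.Quotient.mk p' f) ?_ ?_ ?_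
    · intro h0; exact hfp' (Ideal.Quotient.eq_zero_iff_mem.mp h0)
    · intro Q' hQ' hQ'0
      have hle : p' ≤ Q'.comap (Ideal.Quotient.mk p') := by
        intro a ha
        rw [Ideal.mem_comap, Ideal.Quotient.eq_zero_iff_mem.mpr ha]
        exact zero_mem _
      have hne : p' ≠ Q'.comap (Ideal.Quotient.mk p') := by
        intro he
        apply hQ'0
        rw [← Ideal.map_comap_of_surjective (Ideal.Quotient.mk p') Ideal.Quotient.mk_surjective Q',
          ← he]
        exact Ideal.map_quotient_self p'
      by_contra hfQ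
      have := hmax (Q'.comap (Ideal.Quotient.mk p')) ⟨inferInstance, hPp'.trans hle, hfQ⟩
      exact this (lt_of_le_of_ne hle hne)
    · intro hF
      have hp'max : Ideal.IsMaximal p' := Ideal.Quotient.maximal_of_isField p' hF
      apply hfp'
      rw [Ideal.jacobson, Ideal.mem_sInf] at hfJ
      exact hfJ ⟨hPp', hp'max⟩


open AlgebraicGeometry CategoryTheory TopologicalSpace

/-- a subspace embedded as a locally closed subset of a Jacobson space is Jacobson -/
theorem jacobsonSpace_of_isLocallyClosed {X Y : Type*} [TopologicalSpace X] [TopologicalSpace Y]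
    [JacobsonSpace Y] {f : X → Y} (hf : Topology.IsEmbedding f)
    (hr : IsLocallyClosed (Set.range f)) : JacobsonSpace X := by
  rw [jacobsonSpace_iff_locallyClosed]
  intro Z hZ hZ'
  obtain ⟨_, ⟨x, hx, rfl⟩, hx'⟩ := nonempty_inter_closedPoints
    (hZ.image f) (hZ'.image hf.isInducing hr)
  exact ⟨x, hx, preimage_closedPoints_subset hf.injective hf.continuous hx'⟩

/-- S5913 -/
theorem jacobsonSpace_iff (X : Scheme.{u}) [IsLocallyNoetherian X] :
    JacobsonSpace X ↔
      ∀ (R : CommRingCat.{u}) [IsDomain R] (i : Spec R ⟶ X) [IsImmersion i],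
        ¬ (Finite (MaximalSpectrum R) ∧ ringKrullDim R = 1) := by
  constructor
  · intro hJ R _ i _ ⟨hfin, hdim⟩
    haveI : JacobsonSpace (Spec R) :=
      jacobsonSpace_of_isLocallyClosed i.isEmbedding i.isLocallyClosed_range
    haveI : IsJacobsonRing R := PrimeSpectrum.isJacobsonRing_iff_jacobsonSpace.mpr
      (inferInstanceAs (JacobsonSpace (Spec R)))
    exact not_jacobson_of_semilocal_dim_one (D := R) hfin hdim
  · intro H
    rw [X.affineCover.isOpenCover_opensRange.jacobsonSpace_iff]
    intro i
    let e := (X.affineCover.f i).isOpenEmbedding.isEmbedding.toHomeomorph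
    suffices JacobsonSpace (X.affineCover.X i) from .of_isClosedEmbedding e.symm.isClosedEmbedding
    have hoi : IsOpenImmersion (X.affineCover.f i) := inferInstance
    have hln : IsLocallyNoetherian (X.affineCover.X i) := inferInstance
    let j : Spec (X.affineOpenCover.X i) ⟶ X := X.affineCover.f i
    haveI : IsOpenImmersion j := hoi
    change JacobsonSpace (Spec (X.affineOpenCover.X i))
    haveI : IsLocallyNoetherian (Spec (X.affineOpenCover.X i)) := hln
    haveI : IsNoetherianRing (X.affineOpenCover.X i) := isLocallyNoetherian_Spec.mp inferInstance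
    suffices IsJacobsonRing (X.affineOpenCover.X i) from inferInstance
    rw [isJacobsonRing_iff]
    intro p hp hsl
    let R' : CommRingCat.{u} := CommRingCat.of ((X.affineOpenCover.X i) ⧸ p)
    haveI : IsDomain R' := inferInstanceAs (IsDomain ((X.affineOpenCover.X i) ⧸ p))
    let φ : X.affineOpenCover.X i ⟶ R' := CommRingCat.ofHom (Ideal.Quotient.mk p)
    haveI : IsClosedImmersion (Spec.map φ) :=
      IsClosedImmersion.spec_of_surjective φ Ideal.Quotient.mk_surjective
    exact H R' (Spec.map φ ≫ j) hsl

end Groth.Agent.Lib.Helper4.Jacobson1
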