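import Mathlib
import Groth.Agent.Lib.Helper4.LocClosedPt1

/-!
# Punctured spectrum of a Noetherian local ring is Jacobson (helper4)
-/

set_option backward.isDefEq.respectTransparency.types false
set_option synthInstance.maxHeartbeats 400000
set_option autoImplicit false
set_option linter.unusedSectionVars false
set_option linter.style.haveILetI false
set_option linter.unusedSimpArgs false
universe u v w

namespace Groth.Agent.Lib.Helper4.Jacobson2
open Groth.Agent.Lib.Helper4.LocClosedPt1

variable (A : Type u) [CommRing A] [IsNoetherianRing A] [IsLocalRing A]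

/-- closedness of a point of the punctured spectrum in terms of primes. -/
theorem isClosed_singleton_punctured_iff
    (p : ↥({IsLocalRing.closedPoint A}ᶜ : Set (PrimeSpectrum A))) :
    IsClosed ({p} : Set ↥({IsLocalRing.closedPoint A}ᶜ : Set (PrimeSpectrum A))) ↔
      ∀ q : PrimeSpectrum A, p.1 ≤ q → q ≠ IsLocalRing.closedPoint A → q = p.1 := by
  constructor
  · intro hcl q hpq hqm
    have hsp : p ⤳ (⟨q, hqm⟩ : ↥({IsLocalRing.closedPoint A}ᶜ : Set (PrimeSpectrum A))) := by
      rw [subtype_specializes_iff]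
      exact (PrimeSpectrum.le_iff_specializes _ _).mp hpq
    have := hsp.mem_closed hcl rfl
    exact congrArg Subtype.val (Set.mem_singleton_iff.mp this)
  · intro H
    refine isClosed_of_closure_subset fun t ht => ?_
    have hsp : p ⤳ t := specializes_iff_mem_closure.mpr ht
    rw [subtype_specializes_iff, ← PrimeSpectrum.le_iff_specializes] at hsp
    exact Subtype.ext (H t.1 hsp t.2)

/-- ring-theoretic half -/
theorem forall_eq_iff_ringKrullDim_eq_one (p : PrimeSpectrum A)
    (hp : p ≠ IsLocalRing.closedPoint A) :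
    (∀ q : PrimeSpectrum A, p ≤ q → q ≠ IsLocalRing.closedPoint A → q = p) ↔
      ringKrullDim (A ⧸ p.asIdeal) = 1 := by
  let π := Ideal.Quotient.mk p.asIdeal
  have hπ : Function.Surjective π := Ideal.Quotient.mk_surjective
  have hfield : ¬ IsField (A ⧸ p.asIdeal) := fun hF => by
    have hmax : p.asIdeal.IsMaximal := Ideal.Quotient.maximal_of_isField _ hF
    apply hp
    exact PrimeSpectrum.ext (IsLocalRing.eq_maximalIdeal hmax)
  have hcomap_bot : (⊥ : Ideal (A ⧸ p.asIdeal)).comap π = p.asIdeal := by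
    rw [← RingHom.ker_eq_comap_bot]; exact Ideal.mk_ker
  constructor
  · intro H
    have hdim1 : Ring.KrullDimLE 1 (A ⧸ p.asIdeal) := by
      refine Ring.krullDimLE_one_iff_of_noZeroDivisors.mpr fun Q hQ0 hQp => ?_
      let q : PrimeSpectrum A := ⟨Q.comap π, inferInstance⟩
      have hpq : p ≤ q := by
        change p.asIdeal ≤ Q.comap π
        exact le_trans (le_of_eq hcomap_bot.symm) (Ideal.comap_mono bot_le)
      have hqp : q ≠ p := by
        intro he
        apply hQ0
        have : Q.comap π = p.asIdeal := congrArg PrimeSpectrum.asIdeal he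
        rw [← Ideal.map_comap_of_surjective π hπ Q, this]
        exact Ideal.map_quotient_self p.asIdeal
      have hqm : q = IsLocalRing.closedPoint A := by
        by_contra hne
        exact hqp (H q hpq hne)
      have hqmax : (Q.comap π).IsMaximal := by
        have : Q.comap π = IsLocalRing.maximalIdeal A := congrArg PrimeSpectrum.asIdeal hqm
        rw [this]; infer_instance
      rw [← Ideal.map_comap_of_surjective π hπ Q]
      exact (Ideal.map_eq_top_or_isMaximal_of_surjective π hπ hqmax).resolve_left (by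
        rw [Ideal.map_comap_of_surjective π hπ Q]; exact hQp.ne_top)
    have : ¬ ringKrullDim (A ⧸ p.asIdeal) ≤ 0 := fun h0 => by
      have : Ring.KrullDimLE 0 (A ⧸ p.asIdeal) := Ring.krullDimLE_iff.mpr h0
      exact hfield Ring.KrullDimLE.isField_of_isDomain
    have h1 := Ring.krullDimLE_iff.mp hdim1
    exact le_antisymm h1 (Order.succ_le_of_lt (lt_of_not_ge this))
  · intro hdim q hpq hqm
    by_contra hqp
    have hdim1 : Ring.KrullDimLE 1 (A ⧸ p.asIdeal) := Ring.krullDimLE_iff.mpr (by simp [hdim])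
    have hker : RingHom.ker π ≤ q.asIdeal := by rw [Ideal.mk_ker]; exact hpq
    haveI : (q.asIdeal.map π).IsPrime := Ideal.map_isPrime_of_surjective hπ hker
    have hcm : (q.asIdeal.map π).comap π = q.asIdeal := by
      rw [Ideal.comap_map_of_surjective π hπ, ← RingHom.ker_eq_comap_bot]
      exact sup_eq_left.mpr hker
    have hQ0 : q.asIdeal.map π ≠ ⊥ := by
      intro h0
      rw [h0, hcomap_bot] at hcm
      exact hqp (PrimeSpectrum.ext hcm.symm)
    have hmax : (q.asIdeal.map π).IsMaximal :=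
      Ring.krullDimLE_one_iff_of_noZeroDivisors.mp hdim1 _ hQ0 inferInstance
    have hqmax : q.asIdeal.IsMaximal := by
      rw [← hcm]; exact Ideal.comap_isMaximal_of_surjective π hπ
    exact hqm (PrimeSpectrum.ext (IsLocalRing.eq_maximalIdeal hqmax))


/-- (C): above any non-closed point avoiding `f` there is a closed point of the punctured spectrum
avoiding `f`. -/
theorem exists_closedPt_punctured (p : PrimeSpectrum A) (hp : p ≠ IsLocalRing.closedPoint A)
    (f : A) (hf : f ∉ p.asIdeal) :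
    ∃ q : PrimeSpectrum A, p ≤ q ∧ q ≠ IsLocalRing.closedPoint A ∧ f ∉ q.asIdeal ∧
      ∀ q' : PrimeSpectrum A, q ≤ q' → q' ≠ IsLocalRing.closedPoint A → q' = q := by
  obtain ⟨q0, ⟨hq0prime, hpq0, hq0m, hfq0⟩, hmax⟩ :=
    set_has_maximal_iff_noetherian.mpr (inferInstance : IsNoetherian A A)
      {Q : Ideal A | Q.IsPrime ∧ p.asIdeal ≤ Q ∧ Q ≠ IsLocalRing.maximalIdeal A ∧ f ∉ Q}
      ⟨p.asIdeal, p.2, le_rfl, fun h => hp (PrimeSpectrum.ext h), hf⟩
  let q : PrimeSpectrum A := ⟨q0, hq0prime⟩
  have hqm : q ≠ IsLocalRing.closedPoint A := fun h => hq0m (congrArg PrimeSpectrum.asIdeal h)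
  refine ⟨q, hpq0, hqm, hfq0, ?_⟩
  intro q' hqq' hq'm
  by_contra hne
  have hlt : q < q' := lt_of_le_of_ne hqq' (Ne.symm hne)
  have hq'lt : q' < IsLocalRing.closedPoint A := by
    refine lt_of_le_of_ne ?_ hq'm
    exact IsLocalRing.le_maximalIdeal q'.2.ne_top
  -- an element of `m` outside `q`
  obtain ⟨g, hgm, hgq⟩ : ∃ g ∈ IsLocalRing.maximalIdeal A, g ∉ q0 := by
    by_contra hcon
    push Not at hcon
    exact hq0m (le_antisymm (IsLocalRing.le_maximalIdeal hq0prime.ne_top) hcon)
  refine no_chain q q' (IsLocalRing.closedPoint A) (f * g) ?_ ?_ hlt hq'lt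
  · intro hfg
    rcases hq0prime.mem_or_mem hfg with h | h
    · exact hfq0 h
    · exact hgq h
  · intro Q hQ
    by_cases hQm : Q = IsLocalRing.closedPoint A
    · rw [hQm]
      exact Ideal.mul_mem_left _ _ hgm
    · have hQm' : Q.asIdeal ≠ IsLocalRing.maximalIdeal A := fun h => hQm (PrimeSpectrum.ext h)
      by_contra hfgQ
      have hfQ : f ∉ Q.asIdeal := fun h => hfgQ (Ideal.mul_mem_right _ _ h)
      exact hmax Q.asIdeal ⟨Q.2, hpq0.trans hQ.le, hQm', hfQ⟩ hQ

/-- S3433 -/
theorem punctured (A : Type u) [CommRing A] [IsNoetherianRing A] [IsLocalRing A] :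
    JacobsonSpace ↥({IsLocalRing.closedPoint A}ᶜ : Set (PrimeSpectrum A)) ∧
      ∀ p : ↥({IsLocalRing.closedPoint A}ᶜ : Set (PrimeSpectrum A)),
        IsClosed ({p} : Set ↥({IsLocalRing.closedPoint A}ᶜ : Set (PrimeSpectrum A))) ↔
          ringKrullDim (A ⧸ p.1.asIdeal) = 1 := by
  refine ⟨?_, fun p => ?_⟩
  · rw [jacobsonSpace_iff_locallyClosed]
    rintro Z ⟨z, hzZ⟩ ⟨O, C, hO, hC, rfl⟩
    obtain ⟨O', hO', rfl⟩ := isOpen_induced_iff.mp hO
    obtain ⟨_, ⟨f, rfl⟩, hzf, hfO'⟩ :=
      PrimeSpectrum.isTopologicalBasis_basic_opens.exists_subset_of_mem_open hzZ.1 hO'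
    obtain ⟨q, hzq, hqm, hfq, hqcl⟩ := exists_closedPt_punctured A z.1 z.2 f hzf
    refine ⟨⟨q, hqm⟩, ⟨hfO' hfq, ?_⟩, ?_⟩
    · have hsp : z ⤳ (⟨q, hqm⟩ : ↥({IsLocalRing.closedPoint A}ᶜ : Set (PrimeSpectrum A))) := by
        rw [subtype_specializes_iff]
        exact (PrimeSpectrum.le_iff_specializes _ _).mp hzq
      exact hsp.mem_closed hC hzZ.2
    · rw [mem_closedPoints_iff, isClosed_singleton_punctured_iff]
      exact hqcl
  · rw [isClosed_singleton_punctured_iff, forall_eq_iff_ringKrullDim_eq_one A p.1 p.2]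

end Groth.Agent.Lib.Helper4.Jacobson2
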