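import Mathlib
import Groth.Agent.Lib.Helper4.LocClosedPt1

/-!
# Complement of V(I) for I in the Jacobson radical of a Noetherian ring is a Jacobson space (helper4)
-/

set_option backward.isDefEq.respectTransparency.types false
set_option synthInstance.maxHeartbeats 400000
set_option autoImplicit false
set_option linter.unusedSectionVars false
set_option linter.style.haveILetI false
set_option linter.unusedSimpArgs false
universe u v w

namespace Groth.Agent.Lib.Helper4.Jacobson3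
open Groth.Agent.Lib.Helper4.LocClosedPt1

/-- S9832 -/
theorem jacobsonSpace_compl_zeroLocus (R : Type u) [CommRing R] [IsNoetherianRing R]
    (I : Ideal R) (hI : I ≤ (⊥ : Ideal R).jacobson) :
    JacobsonSpace ↥((PrimeSpectrum.zeroLocus (I : Set R))ᶜ) := by
  rw [jacobsonSpace_iff_locallyClosed]
  rintro Z ⟨z, hzZ⟩ ⟨O, C, hO, hC, rfl⟩
  obtain ⟨O', hO', rfl⟩ := isOpen_induced_iff.mp hO
  obtain ⟨_, ⟨f, rfl⟩, hzf, hfO'⟩ :=
    PrimeSpectrum.isTopologicalBasis_basic_opens.exists_subset_of_mem_open hzZ.1 hO'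
  -- an element of `I` outside `z`
  obtain ⟨g, hgI, hgz⟩ : ∃ g ∈ I, g ∉ z.1.asIdeal := by
    have := z.2
    rw [Set.mem_compl_iff, PrimeSpectrum.mem_zeroLocus, Set.not_subset] at this
    exact this
  have hfgz : f * g ∉ z.1.asIdeal := fun h =>
    (z.1.2.mem_or_mem h).elim hzf hgz
  obtain ⟨q0, ⟨hq0prime, hzq0, hfq0⟩, hmax⟩ :=
    set_has_maximal_iff_noetherian.mpr (inferInstance : IsNoetherian R R)
      {Q : Ideal R | Q.IsPrime ∧ z.1.asIdeal ≤ Q ∧ f * g ∉ Q}
      ⟨z.1.asIdeal, z.1.2, le_rfl, hfgz⟩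
  let q : PrimeSpectrum R := ⟨q0, hq0prime⟩
  have hqU : q ∈ (PrimeSpectrum.zeroLocus (I : Set R))ᶜ := by
    rw [Set.mem_compl_iff, PrimeSpectrum.mem_zeroLocus, Set.not_subset]
    exact ⟨g, hgI, fun h => hfq0 (Ideal.mul_mem_left _ _ h)⟩
  have hfq : f ∉ q.asIdeal := fun h => hfq0 (Ideal.mul_mem_right _ _ h)
  refine ⟨⟨q, hqU⟩, ⟨hfO' hfq, ?_⟩, ?_⟩
  · have hsp : z ⤳ (⟨q, hqU⟩ : ↥((PrimeSpectrum.zeroLocus (I : Set R))ᶜ)) := by
      rw [subtype_specializes_iff]
      exact (PrimeSpectrum.le_iff_specializes _ _).mp hzq0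
    exact hsp.mem_closed hC hzZ.2
  · rw [mem_closedPoints_iff]
    refine isClosed_of_closure_subset fun t ht => ?_
    have hsp : (⟨q, hqU⟩ : ↥((PrimeSpectrum.zeroLocus (I : Set R))ᶜ)) ⤳ t :=
      specializes_iff_mem_closure.mpr ht
    rw [subtype_specializes_iff, ← PrimeSpectrum.le_iff_specializes] at hsp
    by_contra hne
    have hlt : q < t.1 := lt_of_le_of_ne hsp fun h => hne (Subtype.ext h.symm)
    -- `t` is not maximal since `I ⊄ t`
    obtain ⟨M, hM, htM⟩ := Ideal.exists_le_maximal t.1.asIdeal t.1.2.ne_top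
    let pM : PrimeSpectrum R := ⟨M, hM.isPrime⟩
    have hIM : I ≤ M := by
      refine hI.trans ?_
      rw [Ideal.jacobson]
      exact sInf_le ⟨bot_le, hM⟩
    have htM' : t.1 < pM := by
      refine lt_of_le_of_ne htM fun h => ?_
      have := t.2
      rw [Set.mem_compl_iff, PrimeSpectrum.mem_zeroLocus] at this
      apply this
      rw [h]
      exact hIM
    refine no_chain q t.1 pM (f * g) hfq0 ?_ hlt htM'
    intro Q hQ
    by_contra hfgQ
    exact hmax Q.asIdeal ⟨Q.2, hzq0.trans hQ.le, hfgQ⟩ hQ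

end Groth.Agent.Lib.Helper4.Jacobson3
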