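import Mathlib
import Groth.Prelude.Def_ega3
import Groth.Prelude.Def_Coh
import Groth.Prelude.Def_LocCohZ
import Groth.Prelude.Def_Wider
import Groth.Agent.Lib.Helper4.KLC11
import Groth.Agent.Lib.Helper3.LocCohFl

/-!
# Flasqueness of the sheaf associated to a module and vanishing of Koszul direct limits (helper4)
-/

set_option backward.isDefEq.respectTransparency.types false
set_option synthInstance.maxHeartbeats 400000
set_option autoImplicit false
set_option linter.unusedSectionVars false
set_option linter.style.haveILetI false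
set_option linter.unusedSimpArgs false
universe u v w
open CategoryTheory CategoryTheory.Limits AlgebraicGeometry TopologicalSpace Opposite CohIII

namespace Groth.Agent.Lib.Helper4.KLC12
open Groth.Agent.Lib.Helper4

variable (A : Type u) [CommRing A] (M : Type u) [AddCommGroup M] [Module A M]

/-- flasque associated sheaf implies vanishing of the Koszul limits in positive degrees -/
theorem subsingleton_of_flasque
    (hfl : TopCat.Sheaf.IsFlasque (Coh.toAb (AlgebraicGeometry.tilde (R := CommRingCat.of A) (ModuleCat.of A M))))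
    (fs : List A) (i : ℕ) (hi : 0 < i) : Subsingleton (CohIII.koszulHLim fs (ModuleCat.of A M) i) := by
  obtain ⟨e⟩ := KLC11.koszulLim_localCoh A M fs i
  haveI := hfl
  have := Groth.Agent.Helper3.LocCohFl.HZ_subsingleton
    (Coh.toAb (AlgebraicGeometry.tilde (R := CommRingCat.of A) (ModuleCat.of A M)))
    (le_top : LocCoh.puncturedOpen A (Ideal.span {a | a ∈ fs}) ≤ ⊤) i hi
  exact e.toEquiv.subsingleton

/-- vanishing of the first Koszul limits implies the associated sheaf is flasque on a Noetherian spectrum -/
theorem flasque_of_subsingleton [NoetherianSpace (PrimeSpectrum A)]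
    (h1 : ∀ fs : List A, Subsingleton (CohIII.koszulHLim fs (ModuleCat.of A M) 1)) :
    TopCat.Sheaf.IsFlasque (Coh.toAb (AlgebraicGeometry.tilde (R := CommRingCat.of A) (ModuleCat.of A M))) := by
  classical
  let G := Coh.toAb (AlgebraicGeometry.tilde (R := CommRingCat.of A) (ModuleCat.of A M))
  have hv : Subsingleton (CohTop.HU G 1 (⊤ : (Spec (CommRingCat.of A)).Opens)) :=
    Groth.Agent.Helper1.QcAcyc.subsingleton_HU
      (AlgebraicGeometry.tilde (R := CommRingCat.of A) (ModuleCat.of A M)) ⊤
      (isAffineOpen_top (Spec (CommRingCat.of A))) 0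
  -- surjectivity from the whole space
  have key : ∀ W : (Spec (CommRingCat.of A)).Opens,
      Function.Surjective (G.obj.map (homOfLE (le_top : W ≤ ⊤)).op).hom := by
    intro W
    have hc : IsCompact (show Set (PrimeSpectrum A) from W.1) :=
      NoetherianSpace.isCompact (α := PrimeSpectrum A) _
    obtain ⟨t, ht⟩ := (PrimeSpectrum.isCompact_isOpen_iff (R := A)).mp ⟨hc, W.2⟩
    have hW : LocCoh.puncturedOpen A (Ideal.span {a | a ∈ t.toList}) = W := by
      apply Opens.ext
      show (PrimeSpectrum.zeroLocus (R := A) ((Ideal.span {a | a ∈ t.toList} : Ideal A) : Set A))ᶜ =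
        (show Set (PrimeSpectrum A) from W.1)
      rw [PrimeSpectrum.zeroLocus_span, ← ht]
      congr 2
      ext a
      simp
    obtain ⟨e⟩ := KLC11.koszulLim_localCoh A M t.toList 1
    rw [hW] at e
    obtain ⟨e2⟩ := LCZ2.nonempty_HZ1_equiv G (le_top : W ≤ ⊤) hv
    haveI := h1 t.toList
    have hsub : Subsingleton (G.obj.obj (op W) ⧸ (G.obj.map (homOfLE (le_top : W ≤ ⊤)).op).hom.range) :=
      (e.trans e2).symm.toEquiv.subsingleton
    intro s
    have : (QuotientAddGroup.mk s : G.obj.obj (op W) ⧸ (G.obj.map (homOfLE (le_top : W ≤ ⊤)).op).hom.range) = 0 :=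
      Subsingleton.elim _ _
    rw [QuotientAddGroup.eq_zero_iff] at this
    exact this
  constructor
  intro U V i
  rw [AddCommGrpCat.epi_iff_surjective]
  intro s
  obtain ⟨t, ht⟩ := key V.unop s
  refine ⟨(G.obj.map (homOfLE (le_top : U.unop ≤ ⊤)).op).hom t, ?_⟩
  rw [← ht, ← ConcreteCategory.comp_apply, ← G.obj.map_comp]
  rfl

theorem s6033 [NoetherianSpace (PrimeSpectrum A)] :
    ((∀ (M : Type u) [AddCommGroup M] [Module A M], Module.Injective A M →
        TopCat.Sheaf.IsFlasque (Coh.toAb (AlgebraicGeometry.tilde (R := CommRingCat.of A) (ModuleCat.of A M)))) ↔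
      ∀ (fs : List A) (M : Type u) [AddCommGroup M] [Module A M], Module.Injective A M →
        Subsingleton (CohIII.koszulHLim fs (ModuleCat.of A M) 1)) ∧
    ((∀ (M : Type u) [AddCommGroup M] [Module A M], Module.Injective A M →
        TopCat.Sheaf.IsFlasque (Coh.toAb (AlgebraicGeometry.tilde (R := CommRingCat.of A) (ModuleCat.of A M)))) →
      ∀ (fs : List A) (M : Type u) [AddCommGroup M] [Module A M], Module.Injective A M →
        ∀ i : ℕ, 0 < i → Subsingleton (CohIII.koszulHLim fs (ModuleCat.of A M) i)) := by
  refine ⟨⟨?_, ?_⟩, ?_⟩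
  · intro h fs M _ _ hM
    exact subsingleton_of_flasque A M (h M hM) fs 1 Nat.one_pos
  · intro h M _ _ hM
    exact flasque_of_subsingleton A M (fun fs => h fs M hM)
  · intro h fs M _ _ hM i hi
    exact subsingleton_of_flasque A M (h M hM) fs i hi

end Groth.Agent.Lib.Helper4.KLC12
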