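import Mathlib
import Groth.Prelude.Def_ega3
import Groth.Prelude.Def_Coh
import Groth.Prelude.Def_CohB1
import Groth.Prelude.Def_LocCohZ
import Groth.Prelude.Def_Wider
import Groth.Agent.Lib.Helper4.KLC8
import Groth.Agent.Lib.Helper4.KLC9
import Groth.Agent.Lib.Helper4.KLC10
import Groth.Agent.Lib.Helper4.KLC11
import Groth.Agent.Lib.Helper4.LCZ1
import Groth.Agent.Lib.Helper4.LCZ2
import Groth.Agent.Lib.Helper1.QcAcyc
import Groth.Agent.Lib.Helper3.H0Iso
import Groth.Agent.S0464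

/-!
# cohomology with supports on an affine scheme as a Koszul direct limit (helper4) (helper4)
-/

set_option backward.isDefEq.respectTransparency.types false
set_option synthInstance.maxHeartbeats 400000
set_option autoImplicit false
set_option linter.unusedSectionVars false
set_option linter.style.haveILetI false
set_option linter.unusedSimpArgs false
universe u v w
open CategoryTheory CategoryTheory.Limits AlgebraicGeometry TopologicalSpace Topology

namespace Groth.Agent.Lib.Helper4.KLCAff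
open Opposite CohIII
open Groth.Agent.Helper1 Groth.Agent.Helper1.QcCech Groth.Agent.Helper1.QcsLoc
open Groth.Agent.Helper9.KosLim
open Groth.Agent.Lib.Helper4 Groth.Agent.Lib.Helper4.KLC1 Groth.Agent.Lib.Helper4.KLC3

variable (Y : Scheme.{u}) [IsAffine Y] (F : Y.Modules) [F.IsQuasicoherent] (fs : List Γ(Y, ⊤))

theorem iSup_V_eq : iSup (V (KLC8.gg fs)) = KLC4.UU fs := by
  apply le_antisymm
  · exact iSup_le fun i => le_iSup (fun i : Fin fs.length => Y.basicOpen (fs.get i)) i.down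
  · exact iSup_le fun i => le_iSup (V (KLC8.gg fs)) (ULift.up i)

/-- degrees at least two -/
theorem hz_ge_two (n : ℕ) :
    Nonempty (LocCohZ.HZM Y F (n + 2) (KLC4.UU fs) ≃+
      CohIII.koszulHLim fs (ModuleCat.of Γ(Y, ⊤) (F.val.obj (op ⊤))) (n + 2)) := by
  let G := Coh.toAb F
  have hv : ∀ p : ℕ, Subsingleton (CohTop.HU G (p + 1) (⊤ : Y.Opens)) := fun p =>
    Groth.Agent.Helper1.QcAcyc.subsingleton_HU F ⊤ (isAffineOpen_top Y) p
  have hb : Function.Bijective (LocCohZ.delta G (n + 1) (le_top : KLC4.UU fs ≤ ⊤)) :=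
    ⟨LCZ1.delta_injective G _ (n + 1) (hv n), LCZ1.delta_surjective G _ (n + 1) (hv (n + 1))⟩
  let Ea := AddEquiv.ofBijective _ hb
  have hacyc : ∀ (q : ℕ) (a : Fin (q + 1) → KLC8.II fs) (r : ℕ),
      Subsingleton (CohTop.HU G (r + 1) (iInf fun k => V (KLC8.gg fs) (a k))) := by
    intro q a r
    have h2 : IsAffineOpen (iInf fun k => V (KLC8.gg fs) (a k)) := by
      have := QcCech.isAffineOpen_W (KLC8.gg fs) (isAffineOpen_top Y) a
      rwa [TCx.W_eq_iInf] at this
    exact Groth.Agent.Helper1.QcAcyc.subsingleton_HU F _ h2 r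
  obtain ⟨Eb⟩ := Groth.Agent.S0464.result (X := Y.toTopCat) G (V (KLC8.gg fs)) hacyc (n + 1)
  rw [iSup_V_eq] at Eb
  obtain ⟨Ec⟩ := KLC9.koszul_of_model fs F
    (TCx.K (V (KLC8.gg fs)) F.presheaf)
    (KLC8.phiEquiv F fs) (fun n x => KLC8.phi_d F fs n x) (n + 1)
    (by omega)
  exact ⟨Ea.symm.trans (Eb.symm.trans Ec)⟩


/-- degree zero -/
theorem hz_zero :
    Nonempty (LocCohZ.HZM Y F 0 (KLC4.UU fs) ≃+
      CohIII.koszulHLim fs (ModuleCat.of Γ(Y, ⊤) (F.val.obj (op ⊤))) 0) := by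
  let G := Coh.toAb F
  let E0 := LocCohZ.sect0Equiv G (le_top : KLC4.UU fs ≤ ⊤)
  obtain ⟨⟨E1⟩, -⟩ := KLC4.final Y fs F
  exact ⟨E0.trans E1⟩

/-- degree one -/
theorem hz_one :
    Nonempty (LocCohZ.HZM Y F 1 (KLC4.UU fs) ≃+
      CohIII.koszulHLim fs (ModuleCat.of Γ(Y, ⊤) (F.val.obj (op ⊤))) 1) := by
  let G := Coh.toAb F
  have hv : Subsingleton (CohTop.HU G 1 (⊤ : Y.Opens)) :=
    Groth.Agent.Helper1.QcAcyc.subsingleton_HU F ⊤ (isAffineOpen_top Y) 0
  obtain ⟨E0⟩ := LCZ2.nonempty_HZ1_equiv G (le_top : KLC4.UU fs ≤ ⊤) hv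
  obtain ⟨-, ⟨E1⟩⟩ := KLC4.final Y fs F
  exact ⟨E0.trans E1⟩

/-- cohomology with supports in the complement of a union of basic opens of an affine scheme -/
theorem main (i : ℕ) :
    Nonempty (LocCohZ.HZM Y F i (KLC4.UU fs) ≃+
      CohIII.koszulHLim fs (ModuleCat.of Γ(Y, ⊤) (F.val.obj (op ⊤))) i) := by
  match i with
  | 0 => exact hz_zero Y F fs
  | 1 => exact hz_one Y F fs
  | (n + 2) => exact hz_ge_two Y F fs n

end Groth.Agent.Lib.Helper4.KLCAff
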