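import Mathlib

/-!
# Kaehler fibre at a rational point equals the cotangent space (helper4)
-/

set_option backward.isDefEq.respectTransparency.types false
set_option synthInstance.maxHeartbeats 400000
set_option autoImplicit false
set_option linter.unusedSectionVars false
set_option linter.style.haveILetI false
set_option linter.unusedSimpArgs false
universe u v w
open TensorProduct KaehlerDifferential

namespace Groth.Agent.Lib.Helper4.KaehlerFiber1
open TensorProduct KaehlerDifferential

/-- if `k → S/m` is bijective then `κ ⊗ Ω_{S/k} ≅ m/m²` -/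
theorem finrank_eq_of_bijective (k : Type u) [Field k] (S : Type u) [CommRing S] [Algebra k S]
    (m : Ideal S) (hb : Function.Bijective (algebraMap k (S ⧸ m))) :
    Module.finrank (S ⧸ m) ((S ⧸ m) ⊗[S] Ω[S⁄k]) = Module.finrank (S ⧸ m) m.Cotangent := by
  have hsurj : Function.Surjective (algebraMap S (S ⧸ m)) := Ideal.Quotient.mk_surjective
  have hker : RingHom.ker (algebraMap S (S ⧸ m)) = m := Ideal.mk_ker
  -- surjectivity of `kerCotangentToTensor`
  have hs : Function.Surjective (kerCotangentToTensor k S (S ⧸ m)) := by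
    intro x
    haveI : Subsingleton Ω[(S ⧸ m)⁄k] := KaehlerDifferential.subsingleton_of_surjective k (S ⧸ m) hb.2
    have hex := KaehlerDifferential.exact_kerCotangentToTensor_mapBaseChange k S (S ⧸ m) hsurj
    exact (hex x).1 (Subsingleton.elim _ _)
  -- injectivity from a section
  let ek : k ≃ₐ[k] (S ⧸ m) := AlgEquiv.ofBijective (Algebra.ofId k (S ⧸ m)) hb
  let g : (S ⧸ m) →ₐ[k] S ⧸ (RingHom.ker (algebraMap S (S ⧸ m)) ^ 2) :=
    (Algebra.ofId k _).comp ek.symm.toAlgHom
  have hg : (IsScalarTower.toAlgHom k S (S ⧸ m)).kerSquareLift.comp g = AlgHom.id k (S ⧸ m) := by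
    apply AlgHom.ext
    intro x
    obtain ⟨c, rfl⟩ := hb.2 x
    simp
  obtain ⟨l, hl⟩ := (retractionKerCotangentToTensorEquivSection (R := k) hsurj).symm ⟨g, hg⟩
  have hi : Function.Injective (kerCotangentToTensor k S (S ⧸ m)) := by
    apply Function.LeftInverse.injective (g := l)
    intro x
    exact LinearMap.congr_fun hl x
  let e : m.Cotangent ≃ₗ[S] (S ⧸ m) ⊗[S] Ω[S⁄k] :=
    (Ideal.Cotangent.equivOfEq m _ hker.symm).trans
      (LinearEquiv.ofBijective (kerCotangentToTensor k S (S ⧸ m)) ⟨hi, hs⟩)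
  exact ((e.extendScalarsOfSurjective hsurj).finrank_eq).symm

theorem main (k : Type u) [Field k]
    [IsAlgClosed k] (S : Type u) [CommRing S] [Algebra k S] [Algebra.FiniteType k S]
    (m : Ideal S) [m.IsMaximal] :
    Module.finrank (S ⧸ m) ((S ⧸ m) ⊗[S] Ω[S⁄k]) = Module.finrank (S ⧸ m) m.Cotangent := by
  apply finrank_eq_of_bijective
  letI : Field (S ⧸ m) := Ideal.Quotient.field m
  haveI : Algebra.FiniteType k (S ⧸ m) :=
    Algebra.FiniteType.of_surjective (Ideal.Quotient.mkₐ k m) (Ideal.Quotient.mkₐ_surjective k m)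
  haveI : Module.Finite k (S ⧸ m) := finite_of_finite_type_of_isJacobsonRing k (S ⧸ m)
  exact IsAlgClosed.algebraMap_bijective_of_isIntegral

end Groth.Agent.Lib.Helper4.KaehlerFiber1
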