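import Mathlib
import Groth.Prelude
import Groth.Agent.Lib.Helper4.EtParam1
import Groth.Agent.Lib.Helper4.AdaptGerm1
import Groth.Agent.Lib.Helper7.EtCoord.RankDim

/-!
# Number of generators of Kaehler differentials for geometrically integral hypersurface singularities (S17877) (helper4)
-/

set_option backward.isDefEq.respectTransparency.types false
set_option synthInstance.maxHeartbeats 400000
set_option autoImplicit false
set_option linter.unusedSectionVars false
set_option linter.style.haveILetI false
set_option linter.unusedSimpArgs false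
universe u v w
open TensorProduct IsLocalRing KaehlerDifferential

namespace Groth.Agent.Lib.Helper4.KaehlerGen1

section Local

variable {k R : Type u} [Field k] [CommRing R] [Algebra k R] [IsLocalRing R]

/-- fibre of differentials of a local ring: `≤ embdim + dim Ω[κ/k]` -/
theorem finrank_tensor_kaehler_le [IsNoetherianRing R] [Module.Finite R (Ω[R⁄k])]
    [Module.Finite (ResidueField R) (Ω[ResidueField R⁄k])] :
    Module.finrank (ResidueField R) (ResidueField R ⊗[R] Ω[R⁄k]) ≤
      Module.finrank (ResidueField R) (CotangentSpace R) +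
        Module.finrank (ResidueField R) (Ω[ResidueField R⁄k]) := by
  classical
  set κ := ResidueField R
  obtain ⟨s, hscard, hsspan⟩ :=
    Submodule.FG.exists_span_finset_card_eq_spanFinrank (maximalIdeal R).fg_of_isNoetherianRing
  rw [spanFinrank_maximalIdeal_eq_finrank_cotangentSpace] at hscard
  obtain ⟨b, hbsub, hbspan, hbli⟩ := exists_linearIndependent κ (Set.range (D k κ))
  rw [KaehlerDifferential.span_range_derivation] at hbspan
  let B : Module.Basis ↥b κ (Ω[κ⁄k]) := Module.Basis.mk hbli (by
    rw [Subtype.range_coe_subtype, Set.setOf_mem_eq, hbspan])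
  haveI : Finite ↥b := hbli.finite
  haveI : Fintype ↥b := Fintype.ofFinite _
  have hbcard : Fintype.card ↥b = Module.finrank κ (Ω[κ⁄k]) :=
    (Module.finrank_eq_card_basis B).symm
  have hlift : ∀ y : ↥b, ∃ x : R, D k κ (IsLocalRing.residue R x) = (y : Ω[κ⁄k]) := by
    intro y
    obtain ⟨z, hz⟩ := hbsub y.2
    obtain ⟨x, rfl⟩ := IsLocalRing.residue_surjective z
    exact ⟨x, hz⟩
  choose lift hlift' using hlift
  let g : ↥s ⊕ ↥b → R := Sum.elim (fun x => (x : R)) lift
  have ha : Ideal.span (g '' Set.range Sum.inl) = maximalIdeal R := by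
    rw [← hsspan]
    congr 1
    ext x
    simp [g]
  have hb : Submodule.span κ ((fun i => D k κ (residue R (g i))) '' Set.range Sum.inr) = ⊤ := by
    rw [← hbspan]
    congr 1
    ext x
    constructor
    · rintro ⟨_, ⟨y, rfl⟩, rfl⟩
      simp only [g, Sum.elim_inr, hlift']
      exact y.2
    · intro hx
      exact ⟨Sum.inr ⟨x, hx⟩, ⟨_, rfl⟩, by simp only [g, Sum.elim_inr, hlift']⟩
  have hspan := Groth.Agent.Lib.Helper4.EtParam1.span_D_eq_top (k := k) g _ _ ha hb
  have h2 : Submodule.span κ (Set.range fun i => (1 : κ) ⊗ₜ[R] D k R (g i)) = ⊤ := by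
    have h3 := Submodule.baseChange_span (R := R) κ (Set.range fun i => D k R (g i))
    rw [hspan, Submodule.baseChange_top, ← Set.range_comp] at h3
    exact h3.symm
  have h4 := finrank_range_le_card (R := κ) (fun i : ↥s ⊕ ↥b => (1 : κ) ⊗ₜ[R] D k R (g i))
  rw [Set.finrank, h2, finrank_top, Fintype.card_sum, hbcard, Fintype.card_coe, hscard] at h4
  exact h4

end Local

section Fibre

/-- invariance of fibre rank under field extension -/
theorem finrank_tensor_field_ext (A : Type u) [CommRing A] (M : Type u) [AddCommGroup M] [Module A M]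
    (F F' : Type u) [Field F] [Field F'] [Algebra A F] [Algebra A F'] [Algebra F F']
    [IsScalarTower A F F'] :
    Module.finrank F' (F' ⊗[A] M) = Module.finrank F (F ⊗[A] M) := by
  rw [← Module.finrank_baseChange (R := F') (S := F) (M' := F ⊗[A] M)]
  exact (AlgebraTensorModule.cancelBaseChange A F F' F' M).finrank_eq.symm

/-- fibre of differentials after base change -/
theorem finrank_tensor_kaehler_baseChange (K L A B : Type u) [CommRing K] [CommRing L] [CommRing A]
    [CommRing B] [Algebra K L] [Algebra K A] [Algebra L B] [Algebra A B] [Algebra K B]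
    [IsScalarTower K L B] [IsScalarTower K A B] [Algebra.IsPushout K L A B]
    (F : Type u) [Field F] [Algebra B F] [Algebra A F] [IsScalarTower A B F] :
    Module.finrank F (F ⊗[B] Ω[B⁄L]) = Module.finrank F (F ⊗[A] Ω[A⁄K]) := by
  exact ((AlgebraTensorModule.congr (LinearEquiv.refl F F)
    (KaehlerDifferential.tensorKaehlerEquiv K L A B).symm) ≪≫ₗ
      AlgebraTensorModule.cancelBaseChange A B F F (Ω[A⁄K])).finrank_eq

/-- number of generators of a localized module -/
theorem exists_finset_span_localizedModule (A : Type u) [CommRing A] (M : Type u) [AddCommGroup M]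
    [Module A M] [Module.Finite A M] (p : Ideal A) [p.IsPrime] :
    ∃ s : Finset (LocalizedModule p.primeCompl M),
      s.card = Module.finrank p.ResidueField (p.ResidueField ⊗[A] M) ∧
        Submodule.span (Localization.AtPrime p) (s : Set (LocalizedModule p.primeCompl M)) = ⊤ := by
  set R := Localization.AtPrime p
  set Mp := LocalizedModule p.primeCompl M
  set κ := p.ResidueField
  have hfg : (⊤ : Submodule R Mp).FG := Module.Finite.fg_top
  obtain ⟨s, hscard, hsspan⟩ := Submodule.FG.exists_span_finset_card_eq_spanFinrank hfg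
  refine ⟨s, ?_, hsspan⟩
  rw [hscard, ← TensorProduct.spanFinrank_top_eq_of_residueField _ hfg,
    ← Module.finrank_eq_spanFinrank_of_free]
  have hbc : IsBaseChange R (LocalizedModule.mkLinearMap p.primeCompl M) :=
    IsLocalizedModule.isBaseChange p.primeCompl R _
  let e1 : ResidueField R ⊗[R] ↥(⊤ : Submodule R Mp) ≃ₗ[ResidueField R] ResidueField R ⊗[R] (R ⊗[A] M) :=
    AlgebraTensorModule.congr (LinearEquiv.refl _ _) (Submodule.topEquiv ≪≫ₗ hbc.equiv.symm)
  let e2 : ResidueField R ⊗[R] (R ⊗[A] M) ≃ₗ[ResidueField R] ResidueField R ⊗[A] M :=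
    AlgebraTensorModule.cancelBaseChange A R (ResidueField R) (ResidueField R) M
  exact (e1 ≪≫ₗ e2).finrank_eq

end Fibre

section AlgClosed

theorem isGeometricallyReduced_of_isAlgClosed (L F : Type u) [Field L] [IsAlgClosed L] [CommRing F]
    [Algebra L F] [IsReduced F] : Algebra.IsGeometricallyReduced L F := by
  rw [Algebra.isGeometricallyReduced_field_iff]
  have hbij : Function.Bijective (algebraMap L (AlgebraicClosure L)) :=
    IsAlgClosed.algebraMap_bijective_of_isIntegral
  let e0 : L ≃ₐ[L] AlgebraicClosure L := AlgEquiv.ofBijective (Algebra.ofId L _) hbij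
  let e : AlgebraicClosure L ⊗[L] F ≃ₐ[L] F :=
    (Algebra.TensorProduct.congr e0.symm AlgEquiv.refl).trans (Algebra.TensorProduct.lid L F)
  exact isReduced_of_injective e.toRingEquiv.toRingHom e.injective

end AlgClosed

section Main

open Groth.Agent.Lib.Helper4.AdaptGerm1 in
theorem main
    {K : Type u} [Field K] {A : Type u} [CommRing A] [Algebra K A] [Algebra.FiniteType K A]
    [IsDomain (TensorProduct K (AlgebraicClosure K) A)]
    (hhyp : ∀ (q : Ideal (TensorProduct K (AlgebraicClosure K) A)) [q.IsPrime],
      (Module.finrank (IsLocalRing.ResidueField (Localization.AtPrime q))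
          (IsLocalRing.CotangentSpace (Localization.AtPrime q)) : ℕ∞) ≤ q.height + 1)
    (d : ℕ) (hd : ringKrullDim A = d) (p : Ideal A) [p.IsPrime] :
    ∃ s : Finset (LocalizedModule p.primeCompl (KaehlerDifferential K A)),
      s.card ≤ d + 1 ∧ Submodule.span (Localization.AtPrime p) (s : Set (LocalizedModule p.primeCompl (KaehlerDifferential K A))) = ⊤ := by
  set L := AlgebraicClosure K
  set B := TensorProduct K L A
  letI : Algebra A B := Algebra.TensorProduct.rightAlgebra
  haveI : Algebra.IsIntegral A B := Algebra.IsPushout.isIntegral (R := K) (S := L) (A := A) (SA := B)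
  have hinj : Function.Injective (algebraMap A B) :=
    Algebra.TensorProduct.includeRight_injective (RingHom.injective _)
  have hker : (⊥ : Ideal B).comap (algebraMap A B) ≤ p := by
    rw [← RingHom.ker_eq_comap_bot, (RingHom.injective_iff_ker_eq_bot _).mp hinj]; exact bot_le
  obtain ⟨q, -, hqp, hqc⟩ := Ideal.exists_ideal_over_prime_of_isIntegral (S := B) p (⊥ : Ideal B) hker
  haveI := hqp
  haveI : q.LiesOver p := ⟨hqc.symm⟩
  letI := Localization.AtPrime.algebraOfLiesOver p q
  obtain ⟨s, hscard, hsspan⟩ := exists_finset_span_localizedModule A (Ω[A⁄K]) p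
  refine ⟨s, ?_, hsspan⟩
  rw [hscard, ← finrank_tensor_field_ext A (Ω[A⁄K]) p.ResidueField q.ResidueField,
    ← finrank_tensor_kaehler_baseChange K L A B q.ResidueField,
    ← (Groth.Agent.Helper7.EtCoord.eK L B q).finrank_eq]
  haveI : Algebra.FiniteType L B := inferInstance
  haveI : IsNoetherianRing B := Algebra.FiniteType.isNoetherianRing L B
  haveI : IsNoetherianRing (Localization.AtPrime q) :=
    IsLocalization.isNoetherianRing q.primeCompl _ inferInstance
  haveI : Algebra.EssFiniteType L (Localization.AtPrime q) := Algebra.EssFiniteType.comp L B _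
  haveI : Algebra.EssFiniteType L q.ResidueField := essFT L B q
  haveI : Algebra.IsGeometricallyReduced L q.ResidueField :=
    isGeometricallyReduced_of_isAlgClosed L _
  have h1 : Module.finrank q.ResidueField
      (q.ResidueField ⊗[Localization.AtPrime q] Ω[Localization.AtPrime q⁄L]) ≤
      Module.finrank q.ResidueField (IsLocalRing.CotangentSpace (Localization.AtPrime q)) +
        Module.finrank q.ResidueField (Ω[q.ResidueField⁄L]) :=
    finrank_tensor_kaehler_le (k := L) (R := Localization.AtPrime q)
  have h2 : Module.finrank q.ResidueField (Ω[q.ResidueField⁄L]) =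
      Cardinal.toNat (Algebra.trdeg L q.ResidueField) :=
    finrank_eq_trdeg_of_isGeometricallyReduced L q.ResidueField
  have h3 := hhyp q
  haveI : Algebra.FiniteType L (B ⧸ q) :=
    Algebra.FiniteType.of_surjective (Ideal.Quotient.mkₐ L q) (Ideal.Quotient.mkₐ_surjective L q)
  obtain ⟨t, htr, hdim⟩ := Groth.Agent.Lib.Helper4.DimFT1.exists_dim_eq_trdeg L (B ⧸ q)
  have ht : Algebra.trdeg L q.ResidueField = t := by
    rw [Groth.Agent.Lib.Helper4.DimFT1.trdeg_fractionRing_eq L (B ⧸ q) q.ResidueField, htr]
  have h4 := Groth.Agent.Lib.Helper4.DimFT1.height_add_dim_quotient_le q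
  have h5 : ringKrullDim B = d := by
    rw [Groth.Agent.Lib.Helper4.DimFT1.ringKrullDim_eq_of_isIntegral_of_injective A B hinj, hd]
  rw [hdim, h5] at h4
  rw [ht, Cardinal.toNat_natCast] at h2
  obtain ⟨h, hh⟩ := ENat.ne_top_iff_exists.mp (Ideal.height_ne_top (I := q) hqp.ne_top)
  rw [← hh] at h3 h4
  have h6 : Module.finrank q.ResidueField
      (IsLocalRing.CotangentSpace (Localization.AtPrime q)) ≤ h + 1 := by exact_mod_cast h3
  have h7 : h + t ≤ d := by exact_mod_cast h4
  omega

end Main

end Groth.Agent.Lib.Helper4.KaehlerGen1
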