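import Mathlib
import Groth.Prelude.Def_Found
set_option autoImplicit false
universe u
namespace Groth.Agent.Helper4.Kap

variable {R : Type u} [CommRing R]

/-- abstract splitting lemma -/
theorem isCompl_range_ker_of_bijective {U P : Type*} [AddCommGroup U] [Module R U] [AddCommGroup P]
    [Module R P] (e : U →ₗ[R] P) (g : P →ₗ[R] U) (h : Function.Bijective (g ∘ₗ e)) :
    IsCompl (LinearMap.range e) (LinearMap.ker g) ∧ Function.Injective e := by
  constructor
  · constructor
    · rw [Submodule.disjoint_def]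
      rintro z ⟨t, rfl⟩ hz
      have h1 : (g ∘ₗ e) t = 0 := hz
      have h2 : t = 0 := h.1 (by rw [h1, map_zero])
      rw [h2, map_zero]
    · rw [codisjoint_iff, eq_top_iff]
      intro z _
      obtain ⟨t, ht⟩ := h.2 (g z)
      have h1 : z = e t + (z - e t) := by abel
      rw [h1]
      apply Submodule.add_mem_sup (LinearMap.mem_range_self e t)
      rw [LinearMap.mem_ker, map_sub]
      have h2 : g (e t) = g z := ht
      rw [h2, sub_self]
  · intro t t' htt
    apply h.1
    simp only [LinearMap.comp_apply, htt]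

variable [IsLocalRing R]

theorem exists_free_summand (P : Type u) [AddCommGroup P] [Module R P] [Module.Projective R P] (x : P) :
    ∃ (S : Finset P) (e : (S → R) →ₗ[R] P) (g : P →ₗ[R] (S → R)),
      Function.Bijective (g ∘ₗ e) ∧ x ∈ LinearMap.range e := by
  classical
  obtain ⟨s, hs⟩ := (Module.projective_def' (R := R) (P := P)).1 inferInstance
  have hps : ∀ z, (Finsupp.linearCombination R id) (s z) = z := fun z => by
    have := LinearMap.congr_fun hs z
    simpa using this
  generalize hp : (Finsupp.linearCombination R (id : P → P)) = p at hps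
  -- minimal basis
  obtain ⟨b, -, hb⟩ := WellFounded.has_min
    (measure (fun b : Module.Basis P R (P →₀ R) => (b.repr (s x)).support.card)).wf Set.univ
    ⟨Finsupp.basisSingleOne, trivial⟩
  have hmin : ∀ b' : Module.Basis P R (P →₀ R),
      (b.repr (s x)).support.card ≤ (b'.repr (s x)).support.card := fun b' => not_lt.1 (hb b' trivial)
  generalize hy : s x = y at hmin
  generalize ha : b.repr y = a at hmin
  generalize hS : a.support = S at hmin
  have hy_sum : y = ∑ i ∈ S, a i • b i := by
    conv_lhs => rw [← b.linearCombination_repr y]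
    rw [Finsupp.linearCombination_apply, Finsupp.sum, ha, hS]
  have step1 : ∀ j ∈ S, ∀ β : P → R, a j ≠ ∑ i ∈ S.erase j, β i * a i := by
    intro j hj β heq
    let N : (P →₀ R) →ₗ[R] (P →₀ R) := b.constr R (fun i => if i ∈ S.erase j then β i • b j else 0)
    have hNb : ∀ i, N (b i) = if i ∈ S.erase j then β i • b j else 0 := fun i => b.constr_basis R _ i
    have hNN : ∀ v, N (N v) = 0 := by
      intro v
      have : N ∘ₗ N = 0 := by
        apply b.ext
        intro i
        simp only [LinearMap.comp_apply, hNb, LinearMap.zero_apply]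
        split_ifs with h
        · rw [map_smul, hNb, if_neg (Finset.notMem_erase j S), smul_zero]
        · rw [map_zero]
      exact LinearMap.congr_fun this v
    let T : (P →₀ R) ≃ₗ[R] (P →₀ R) := LinearEquiv.ofLinearMap (LinearMap.id + N) (LinearMap.id - N)
      (LinearMap.ext fun v => by simp [hNN]) (LinearMap.ext fun v => by simp [hNN])
    have hNy : N y = a j • b j := by
      rw [hy_sum, map_sum]
      simp_rw [map_smul, hNb]
      rw [heq, Finset.sum_smul, ← Finset.sum_erase_add S _ hj]
      rw [if_neg (Finset.notMem_erase j S), smul_zero, add_zero]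
      apply Finset.sum_congr rfl
      intro i hi
      rw [if_pos hi, smul_smul, mul_comm]
    have hrepr : (b.map T).repr y = a - Finsupp.single j (a j) := by
      rw [Module.Basis.map_repr]
      simp only [LinearEquiv.trans_apply]
      have : T.symm y = y - N y := rfl
      rw [this, map_sub, ha, hNy, map_smul, Module.Basis.repr_self, Finsupp.smul_single, smul_eq_mul, mul_one]
    have hsub : ((b.map T).repr y).support ⊆ S.erase j := by
      intro i hi
      rw [hrepr, Finsupp.mem_support_iff, Finsupp.sub_apply] at hi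
      rw [Finset.mem_erase]
      by_cases hij : i = j
      · subst hij; simp at hi
      · refine ⟨hij, ?_⟩
        rw [Finsupp.single_apply, if_neg (Ne.symm hij), sub_zero] at hi
        rw [← hS, Finsupp.mem_support_iff]; exact hi
    have h1 := hmin (b.map T)
    have h2 := Finset.card_le_card hsub
    have h3 := Finset.card_erase_lt_of_mem hj
    omega
  -- the idempotent
  have hπy : s (p y) = y := by rw [← hy, hps]
  -- coefficients
  have hrel : ∀ j, a j = ∑ i ∈ S, a i * b.repr (s (p (b i))) j := by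
    intro j
    have h1 : b.repr (s (p y)) j = a j := by rw [hπy, ha]
    rw [← h1]
    conv_lhs => rw [hy_sum]
    simp only [map_sum, map_smul, Finsupp.coe_finsetSum, Finsupp.coe_smul, Finset.sum_apply,
      Pi.smul_apply, smul_eq_mul]
  have h3a : ∀ j ∈ S, ∀ i ∈ S, i ≠ j → ¬ IsUnit (b.repr (s (p (b i))) j) := by
    intro j hj i hi hij hu
    obtain ⟨u, hu⟩ := hu
    have h1 := hrel j
    rw [← Finset.add_sum_erase S _ hi] at h1
    apply step1 i hi (fun i' => ↑u⁻¹ * ((if i' = j then 1 else 0) - b.repr (s (p (b i'))) j))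
    have hjmem : j ∈ S.erase i := Finset.mem_erase.2 ⟨Ne.symm hij, hj⟩
    have h2 : ∑ i' ∈ S.erase i, (↑u⁻¹ * ((if i' = j then 1 else 0) - b.repr (s (p (b i'))) j)) * a i'
        = ↑u⁻¹ * (a j - ∑ i' ∈ S.erase i, a i' * b.repr (s (p (b i'))) j) := by
      rw [mul_sub, Finset.mul_sum]
      have : a j = ∑ i' ∈ S.erase i, (if i' = j then 1 else 0) * a i' := by
        simp [Finset.sum_ite_eq', hjmem]
      conv_rhs => rw [this, Finset.mul_sum, ← Finset.sum_sub_distrib]
      apply Finset.sum_congr rfl
      intro i' _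
      ring
    rw [h2]
    have h4 : a j - ∑ i' ∈ S.erase i, a i' * b.repr (s (p (b i'))) j = a i * ↑u := by
      rw [hu]; linear_combination h1
    rw [h4]
    calc a i = a i * (↑u * ↑u⁻¹) := by rw [Units.mul_inv, mul_one]
      _ = ↑u⁻¹ * (a i * ↑u) := by ring
  have h3b : ∀ j ∈ S, ¬ IsUnit (1 - b.repr (s (p (b j))) j) := by
    intro j hj hu
    obtain ⟨u, hu⟩ := hu
    have h1 := hrel j
    rw [← Finset.add_sum_erase S _ hj] at h1
    apply step1 j hj (fun i' => ↑u⁻¹ * b.repr (s (p (b i'))) j)
    have h2 : ∑ i' ∈ S.erase j, (↑u⁻¹ * b.repr (s (p (b i'))) j) * a i'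
        = ↑u⁻¹ * ∑ i' ∈ S.erase j, a i' * b.repr (s (p (b i'))) j := by
      rw [Finset.mul_sum]
      apply Finset.sum_congr rfl
      intro i' _
      ring
    rw [h2]
    have h4 : ∑ i' ∈ S.erase j, a i' * b.repr (s (p (b i'))) j = a j * ↑u := by
      rw [hu]; linear_combination -h1
    rw [h4]
    calc a j = a j * (↑u * ↑u⁻¹) := by rw [Units.mul_inv, mul_one]
      _ = ↑u⁻¹ * (a j * ↑u) := by ring
  -- the matrix
  let C : Matrix S S R := fun j i => b.repr (s (p (b i.1))) j.1
  have hCres : (IsLocalRing.residue R).mapMatrix C = 1 := by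
    ext j i
    simp only [RingHom.mapMatrix_apply, Matrix.map_apply, Matrix.one_apply]
    by_cases hji : j = i
    · subst hji
      rw [if_pos rfl]
      have : IsLocalRing.residue R (1 - b.repr (s (p (b j.1))) j.1) = 0 := by
        rw [IsLocalRing.residue_eq_zero_iff]
        exact h3b j.1 j.2
      rw [map_sub, map_one, sub_eq_zero] at this
      exact this.symm
    · rw [if_neg hji]
      show IsLocalRing.residue R (b.repr (s (p (b i.1))) j.1) = 0
      rw [IsLocalRing.residue_eq_zero_iff]
      exact h3a j.1 j.2 i.1 i.2 (fun h => hji (Subtype.ext h.symm))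
  have hdet : IsUnit C.det := by
    by_contra hnu
    have h1 : IsLocalRing.residue R C.det = 0 := by
      rw [IsLocalRing.residue_eq_zero_iff]; exact hnu
    rw [RingHom.map_det, hCres, Matrix.det_one] at h1
    exact one_ne_zero h1
  -- e and g
  let ιS : (S → R) →ₗ[R] (P →₀ R) := Fintype.linearCombination R (fun j : S => b j.1)
  let q : (P →₀ R) →ₗ[R] (S → R) := LinearMap.pi (fun j : S => (Finsupp.lapply j.1) ∘ₗ b.repr.toLinearMap)
  have hq : ∀ v (j : S), q v j = b.repr v j.1 := fun v j => rfl
  have hιS : ∀ t : S → R, ιS t = ∑ j : S, t j • b j.1 := fun t => by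
    simp [ιS, Fintype.linearCombination_apply]
  have hππ : ∀ v, s (p (s (p v))) = s (p v) := fun v => by rw [hps]
  refine ⟨S, p ∘ₗ s ∘ₗ p ∘ₗ ιS, q ∘ₗ s, ?_, ?_⟩
  · have hcomp : ∀ t, ((q ∘ₗ s) ∘ₗ (p ∘ₗ s ∘ₗ p ∘ₗ ιS)) t = C.mulVec t := by
      intro t
      ext j
      simp only [LinearMap.comp_apply, hππ, hq, hιS, map_sum, map_smul, Finsupp.coe_finsetSum,
        Finsupp.coe_smul, Finset.sum_apply, Pi.smul_apply, smul_eq_mul, Matrix.mulVec, dotProduct, C]
      apply Finset.sum_congr rfl
      intro i _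
      ring
    rw [Function.bijective_iff_has_inverse]
    refine ⟨fun t => C⁻¹.mulVec t, ?_, ?_⟩
    · intro t
      show C⁻¹.mulVec (((q ∘ₗ s) ∘ₗ (p ∘ₗ s ∘ₗ p ∘ₗ ιS)) t) = t
      rw [hcomp, Matrix.mulVec_mulVec, Matrix.nonsing_inv_mul C hdet, Matrix.one_mulVec]
    · intro t
      show ((q ∘ₗ s) ∘ₗ (p ∘ₗ s ∘ₗ p ∘ₗ ιS)) (C⁻¹.mulVec t) = t
      rw [hcomp, Matrix.mulVec_mulVec, Matrix.mul_nonsing_inv C hdet, Matrix.one_mulVec]
  · refine ⟨fun j => a j.1, ?_⟩
    have h1 : ιS (fun j => a j.1) = y := by
      rw [hιS, hy_sum]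
      exact Finset.sum_coe_sort S (fun i => a i • b i)
    simp only [LinearMap.comp_apply, h1, hπy]
    rw [← hy, hps]

/-- one step of the inductive construction -/
theorem step_exists (P : Type u) [AddCommGroup P] [Module R P] [Module.Projective R P]
    (A B : Submodule R P) (hAB : IsCompl A B) (x : P) :
    ∃ G B' : Submodule R P, G ≤ B ∧ B' ≤ B ∧ IsCompl (A ⊔ G) B' ∧ Module.Free R G ∧ x ∈ A ⊔ G := by
  have hBproj : Module.Projective R B :=
    Module.Projective.of_split B.subtype (Submodule.projectionOnto B A hAB.symm)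
      (Submodule.projectionOnto_comp_subtype _)
  obtain ⟨u, hu, v, hv, huv⟩ := Submodule.mem_sup.1
    (by rw [hAB.sup_eq_top]; trivial : x ∈ A ⊔ B)
  obtain ⟨S, e, g, hbij, hvmem⟩ := exists_free_summand (R := R) B ⟨v, hv⟩
  obtain ⟨hcompl, hinj⟩ := isCompl_range_ker_of_bijective e g hbij
  have hsubinj : Function.Injective B.subtype := Submodule.subtype_injective B
  refine ⟨(LinearMap.range e).map B.subtype, (LinearMap.ker g).map B.subtype,
    Submodule.map_subtype_le _ _, Submodule.map_subtype_le _ _, ?_, ?_, ?_⟩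
  · constructor
    · rw [Submodule.disjoint_def]
      intro z hz1 hz2
      obtain ⟨a, ha, g₁, hg₁, rfl⟩ := Submodule.mem_sup.1 hz1
      have hg₁B : g₁ ∈ B := Submodule.map_subtype_le _ _ hg₁
      have hzB : a + g₁ ∈ B := Submodule.map_subtype_le _ _ hz2
      have haB : a ∈ B := by
        have := B.sub_mem hzB hg₁B
        simpa using this
      have ha0 : a = 0 := by
        have : a ∈ A ⊓ B := ⟨ha, haB⟩
        rw [hAB.inf_eq_bot] at this
        simpa using this
      rw [ha0, zero_add] at hz2 ⊢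
      have : g₁ ∈ (LinearMap.range e).map B.subtype ⊓ (LinearMap.ker g).map B.subtype := ⟨hg₁, hz2⟩
      rw [← Submodule.map_inf _ hsubinj, hcompl.inf_eq_bot, Submodule.map_bot] at this
      simpa using this
    · rw [codisjoint_iff, sup_assoc, ← Submodule.map_sup, hcompl.sup_eq_top, Submodule.map_top,
        Submodule.range_subtype, hAB.sup_eq_top]
  · exact Module.Free.of_equiv
      ((LinearEquiv.ofInjective e hinj).trans
        (Submodule.equivMapOfInjective B.subtype hsubinj (LinearMap.range e)))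
  · rw [← huv]
    apply Submodule.add_mem_sup hu
    exact ⟨⟨v, hv⟩, hvmem, rfl⟩

/-- a countably generated projective module over a local ring is free -/
theorem free_of_countable (P : Type u) [AddCommGroup P] [Module R P] [Module.Projective R P]
    (x : ℕ → P) (hx : Submodule.span R (Set.range x) = ⊤) : Module.Free R P := by
  classical
  choose Gf Bf hG hB hcompl hfree hmem using
    (fun (st : {AB : Submodule R P × Submodule R P // IsCompl AB.1 AB.2}) (n : ℕ) =>
      step_exists (R := R) P st.1.1 st.1.2 st.2 (x n))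
  let seq : ℕ → {AB : Submodule R P × Submodule R P // IsCompl AB.1 AB.2} := fun n =>
    Nat.rec ⟨(⊥, ⊤), isCompl_bot_top⟩ (fun n st => ⟨(st.1.1 ⊔ Gf st n, Bf st n), hcompl st n⟩) n
  have seq_succ : ∀ n, seq (n + 1) = ⟨((seq n).1.1 ⊔ Gf (seq n) n, Bf (seq n) n), hcompl (seq n) n⟩ :=
    fun n => rfl
  have seq_zero : seq 0 = ⟨(⊥, ⊤), isCompl_bot_top⟩ := rfl
  have hA_succ : ∀ n, (seq (n + 1)).1.1 = (seq n).1.1 ⊔ Gf (seq n) n := fun n => by rw [seq_succ]
  have hB_succ : ∀ n, (seq (n + 1)).1.2 = Bf (seq n) n := fun n => by rw [seq_succ]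
  have hAmono : Monotone (fun n => (seq n).1.1) :=
    monotone_nat_of_le_succ (fun n => by simp only [hA_succ]; exact le_sup_left)
  have hBanti : Antitone (fun n => (seq n).1.2) :=
    antitone_nat_of_succ_le (fun n => by simp only [hB_succ]; exact hB (seq n) n)
  have hGA : ∀ k n, k < n → Gf (seq k) k ≤ (seq n).1.1 := by
    intro k n hkn
    have h1 : Gf (seq k) k ≤ (seq (k + 1)).1.1 := by rw [hA_succ]; exact le_sup_right
    exact h1.trans (hAmono hkn)
  have hGB : ∀ k n, n ≤ k → Gf (seq k) k ≤ (seq n).1.2 := by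
    intro k n hnk
    exact (hG (seq k) k).trans (hBanti hnk)
  have hind : iSupIndep (fun n => Gf (seq n) n) := by
    rw [iSupIndep_iff_finsetSum_eq_zero_imp_eq_zero]
    intro s v hv hsum
    have key : ∀ n, ∑ i ∈ s.filter (· < n), v i = 0 := by
      intro n
      have h1 := Finset.sum_filter_add_sum_filter_not s (· < n) v
      rw [hsum] at h1
      have h2 : ∑ i ∈ s.filter (· < n), v i ∈ (seq n).1.1 :=
        Submodule.sum_mem _ (fun i hi => hGA i n (Finset.mem_filter.1 hi).2 (hv i (Finset.mem_filter.1 hi).1))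
      have h3 : ∑ i ∈ s.filter (fun i => ¬ i < n), v i ∈ (seq n).1.2 :=
        Submodule.sum_mem _ (fun i hi => hGB i n (not_lt.1 (Finset.mem_filter.1 hi).2)
          (hv i (Finset.mem_filter.1 hi).1))
      have h4 : ∑ i ∈ s.filter (· < n), v i = -∑ i ∈ s.filter (fun i => ¬ i < n), v i :=
        eq_neg_of_add_eq_zero_left h1
      have h5 : ∑ i ∈ s.filter (· < n), v i ∈ (seq n).1.1 ⊓ (seq n).1.2 :=
        ⟨h2, by rw [h4]; exact Submodule.neg_mem _ h3⟩
      rw [(seq n).2.inf_eq_bot] at h5
      simpa using h5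
    intro i hi
    have h1 : s.filter (· < i + 1) = insert i (s.filter (· < i)) := by
      ext k
      simp only [Finset.mem_filter, Finset.mem_insert]
      constructor
      · rintro ⟨hk, hlt⟩
        rcases Nat.lt_succ_iff_lt_or_eq.1 hlt with h | h
        · exact Or.inr ⟨hk, h⟩
        · exact Or.inl h
      · rintro (rfl | ⟨hk, hlt⟩)
        · exact ⟨hi, Nat.lt_succ_self _⟩
        · exact ⟨hk, Nat.lt_succ_of_lt hlt⟩
    have h2 := key (i + 1)
    rw [h1, Finset.sum_insert (by simp), key i, add_zero] at h2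
    exact h2
  have hAle : ∀ n, (seq n).1.1 ≤ ⨆ n, Gf (seq n) n := by
    intro n
    induction n with
    | zero => rw [seq_zero]; exact bot_le
    | succ n ih => rw [hA_succ]; exact sup_le ih (le_iSup (fun n => Gf (seq n) n) n)
  have htop : ⨆ n, Gf (seq n) n = ⊤ := by
    rw [eq_top_iff, ← hx, Submodule.span_le]
    rintro _ ⟨n, rfl⟩
    apply hAle (n + 1)
    rw [hA_succ]
    exact hmem (seq n) n
  have hint := DirectSum.isInternal_submodule_of_iSupIndep_of_iSup_eq_top hind htop
  have : ∀ n, Module.Free R (Gf (seq n) n) := fun n => hfree (seq n) n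
  exact Module.Free.of_equiv (LinearEquiv.ofBijective (DirectSum.coeLinearMap (fun n => Gf (seq n) n)) hint)

open scoped Classical in
/-- the finitely supported functions form an internal direct sum of the coordinate lines -/
theorem isInternal_lsingle (ι : Type u) :
    DirectSum.IsInternal (fun i : ι => LinearMap.range (Finsupp.lsingle i : R →ₗ[R] (ι →₀ R))) := by
  apply DirectSum.isInternal_submodule_of_iSupIndep_of_iSup_eq_top _ Finsupp.iSup_lsingle_range
  rw [iSupIndep_iff_finsetSum_eq_zero_imp_eq_zero]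
  intro s v hv hsum i hi
  choose r hr using hv
  have h1 : ∀ j, (∑ k ∈ s, v k) j = ∑ k ∈ s, (v k) j := fun j => by
    rw [Finsupp.coe_finsetSum, Finset.sum_apply]
  have h2 := h1 i
  rw [hsum, Finsupp.zero_apply] at h2
  have h3 : ∑ k ∈ s, (v k) i = (v i) i := by
    apply Finset.sum_eq_single_of_mem i hi
    intro k hk hki
    have := hr k hk
    rw [← this]
    simp [Finsupp.lsingle_apply, Finsupp.single_apply, hki]
  have h4 := hr i hi
  rw [← h4] at h3 ⊢
  rw [h3] at h2
  simp only [Finsupp.lsingle_apply, Finsupp.single_eq_same] at h2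
  rw [← h2]
  simp

/-- cyclic modules are countably generated -/
theorem cg_range_lsingle (ι : Type u) (i : ι) :
    CAlg.IsCountablyGenerated R (LinearMap.range (Finsupp.lsingle i : R →ₗ[R] (ι →₀ R))) := by
  refine ⟨{⟨Finsupp.single i 1, ⟨1, rfl⟩⟩}, Set.countable_singleton _, ?_⟩
  rw [eq_top_iff]
  rintro ⟨z, ⟨r, rfl⟩⟩ _
  rw [Submodule.mem_span_singleton]
  refine ⟨r, ?_⟩
  apply Subtype.ext
  simp [Finsupp.lsingle_apply]

end Groth.Agent.Helper4.Kap
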