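import Mathlib
import Groth.Prelude.Def_Mor2
import Groth.Agent.Lib.Helper2.Hopf.KillOrder3
import Groth.Agent.Lib.Helper2.Hopf.DeligneSch

/-!
# Finite locally free group schemes of rank n over a reduced base are killed by n (S4114), via helper2 KillOrder3 + DeligneSch skeleton (helper4)
-/

set_option backward.isDefEq.respectTransparency.types false
set_option synthInstance.maxHeartbeats 400000
set_option autoImplicit false
set_option linter.unusedSectionVars false
set_option linter.style.haveILetI false
set_option linter.unusedSimpArgs false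
universe u v w
open CategoryTheory CategoryTheory.Limits MonoidalCategory CartesianMonoidalCategory MonObj GrpObj AlgebraicGeometry
open scoped TensorProduct
open Groth.Agent.Helper2.DeligneSch

namespace Groth.Agent.Lib.Helper4.KillOrderSch1

section spec

variable (R : Type u) [CommRing R] (A : Type u) [CommRing A]

/-- the spectrum of a finite locally free Hopf algebra of rank `n` over a reduced ring is killed
by `n` -/
theorem spec_pow_eq_one_of_isReduced [IsReduced R] [HopfAlgebra R A] [Module.Finite R A]
    [Module.Projective R A] (n : ℕ) (hn : ∀ p : PrimeSpectrum R, Module.rankAtStalk A p = n) :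
    (𝟙 ((Spec (.of A)).asOver (Spec (.of R)))) ^ n = 1 := by
  have h0 : (WithConv.toConv (AlgHom.id R A)) ^ n = 1 :=
    Groth.Agent.Helper2.KillOrder.convPow_of_reduced R A n hn A (AlgHom.id R A)
  have h1 := congrArg (Spec.mapMulEquiv (R := R) (S := A) (T := A)) h0
  rw [map_pow, map_one] at h1
  convert h1 using 2
  ext1
  simp [Spec.mapMulEquiv]

end spec

section affineBase

theorem affine_pow_eq_one_of_isReduced (R : CommRingCat.{u}) [IsReduced R] (G : Over (Spec R))
    [GrpObj G]
    [hfin : IsFinite G.hom] [hflat : Flat G.hom] [hfp : LocallyOfFinitePresentation G.hom] (r : ℕ)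
    (hr : ∀ s : ↥(Spec R), Scheme.Hom.finrank G.hom s = r) : (𝟙 G) ^ r = 1 := by
  haveI : IsAffine G.left := isAffine_of_isAffineHom G.hom
  have hess : (hopfSpec R).essImage (Grp.mk G) := essImage_hopfSpec.mpr ‹_›
  obtain ⟨H, ⟨e⟩⟩ := hess
  let A : CommHopfAlgCat R := H.unop
  let e₁ : (Spec (.of A)).asOver (Spec (.of R)) ≅ G := (Grp.forget _).mapIso e
  haveI hmon : IsMonHom e₁.hom := inferInstanceAs (IsMonHom e.hom.hom.hom)
  have hiso : IsIso e₁.hom.left := inferInstanceAs (IsIso ((Over.forget _).map e₁.hom))
  obtain ⟨h1, h2, h3, h4⟩ := @props_of_iso_comp (Spec (.of A)) G.left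
    (Spec (.of R)) e₁.hom.left hiso G.hom (Spec.map (CommRingCat.ofHom (algebraMap R A)))
    (Over.w e₁.hom) hfin hflat hfp
  simp only [Flat.SpecMap_iff, IsFinite.SpecMap_iff, LocallyOfFinitePresentation.SpecMap_iff,
    CommRingCat.hom_ofHom] at h1 h2 h3
  haveI : Module.Finite R A := RingHom.finite_algebraMap.mp h1
  haveI : Module.Flat R A := (RingHom.flat_algebraMap_iff).mp h2
  haveI : Algebra.FinitePresentation R A := RingHom.finitePresentation_algebraMap.mp h3
  haveI : Module.FinitePresentation R A :=
    Module.FinitePresentation.of_finite_of_finitePresentation R A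
  haveI : Module.Projective R A := Module.Flat.projective_of_finitePresentation
  have hrank : ∀ p : PrimeSpectrum R, Module.rankAtStalk A p = r := by
    intro p
    rw [← Scheme.Hom.finrank_SpecMap_algebraMap, h4]
    exact hr p
  have key := spec_pow_eq_one_of_isReduced (R := R) (A := A) r hrank
  exact id_pow_eq_one_of_iso e₁ r key

end affineBase

section general

open scoped CategoryTheory.Obj

theorem main (S : Scheme.{u}) [IsReduced S] (G : Over S) [GrpObj G] (n : ℕ)
    (hG : Mor2.IsFinLocFreeOfDeg n G.hom) : (𝟙 G : G ⟶ G) ^ n = 1 := by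
  obtain ⟨⟨hfin, hflat, hfp⟩, hr⟩ := hG
  let 𝒰 := S.affineOpenCover
  have key : ∀ i, (Over.pullback (𝒰.f i)).map ((𝟙 G) ^ n) =
      (Over.pullback (𝒰.f i)).map (1 : G ⟶ G) := by
    intro i
    have h1 : IsFinite ((Over.pullback (𝒰.f i)).obj G).hom :=
      inferInstanceAs (IsFinite (pullback.snd G.hom (𝒰.f i)))
    have h2 : Flat ((Over.pullback (𝒰.f i)).obj G).hom :=
      inferInstanceAs (Flat (pullback.snd G.hom (𝒰.f i)))
    have h3 : LocallyOfFinitePresentation ((Over.pullback (𝒰.f i)).obj G).hom :=
      inferInstanceAs (LocallyOfFinitePresentation (pullback.snd G.hom (𝒰.f i)))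
    haveI : IsReduced (Spec (𝒰.X i)) := isReduced_of_isOpenImmersion (𝒰.f i)
    haveI : _root_.IsReduced (𝒰.X i) := by
      have := (inferInstance : IsReduced (Spec (𝒰.X i)))
      exact (affine_isReduced_iff _).mp this
    have h4 := affine_pow_eq_one_of_isReduced (𝒰.X i) ((Over.pullback (𝒰.f i)).obj G) n (fun s => by
      have := Scheme.Hom.finrank_pullback_snd G.hom (𝒰.f i) s
      rw [hr] at this
      exact this)
    have h5 := map_pow (Over.pullback (𝒰.f i)).homMonoidHom (𝟙 G) n
    simp only [Functor.homMonoidHom_apply, CategoryTheory.Functor.map_id] at h5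
    exact h5.trans (h4.trans (Functor.map_one _).symm)
  have h7 : ∀ (i) (f : G ⟶ G), ((Over.pullback (𝒰.f i)).map f).left ≫ pullback.fst G.hom (𝒰.f i) =
      pullback.fst G.hom (𝒰.f i) ≫ f.left := fun i f => pullback.lift_fst _ _ _
  apply Over.OverMorphism.ext
  apply Scheme.Cover.hom_ext (𝒰.openCover.pullback₁ G.hom)
  intro i
  have h6 := congrArg (fun f => f.left ≫ pullback.fst G.hom (𝒰.f i)) (key i)
  exact (h7 i _).symm.trans (h6.trans (h7 i _))

end general

end Groth.Agent.Lib.Helper4.KillOrderSch1
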