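import Mathlib
import Groth.Agent.Lib.Helper4.ProdDim1
import Groth.Agent.Lib.Helper4.FibDimComp1
import Groth.Agent.Lib.Lead.GenSmP1
import Groth.Agent.Lib.Helper4.FibDimBC2
import Groth.Agent.Lib.Helper4.ConjDense1
import Groth.Agent.Lib.Helper4.TopDim2

/-!
# generic smoothness for reducible regular sources; dimensions of fibres and base changes of flat morphisms between equidimensional schemes over a field (helper4)
-/

set_option backward.isDefEq.respectTransparency.types false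
set_option synthInstance.maxHeartbeats 400000
set_option autoImplicit false
set_option linter.unusedSectionVars false
set_option linter.style.haveILetI false
set_option linter.unusedSimpArgs false
universe u v w
open CategoryTheory CategoryTheory.Limits AlgebraicGeometry TopologicalSpace Opposite
open Cardinal AffineSpace MvPolynomial
open Groth.Agent.Lib.Helper4.DimIneq1 Groth.Agent.Lib.Helper4.DimFT2 Groth.Agent.Lib.Helper4.Catenary1
open Groth.Agent.Lib.Helper4.DimEq1 Groth.Agent.Lib.Helper4.DimIneq2 Groth.Agent.Lib.Helper4.DimEq2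
open Groth.Agent.Lib.Helper4.DimIneq3 Groth.Agent.Lib.Helper4.DimIneq4
open Groth.Agent.Lib.Helper4.NormFibre2 Groth.Agent.Lib.Helper4.RadBir3 Groth.Agent.Lib.Helper4.DimFT3
open Groth.Agent.Lib.Helper4.FibDim1 Groth.Agent.Lib.Helper4.FibDim2 Groth.Agent.Lib.Helper4.LocUC1
open Groth.Agent.Lib.Helper4.FibDim3 Groth.Agent.Lib.Helper4.FibDim4 Groth.Agent.Lib.Helper4.FibDim5
open Groth.Agent.Lib.Helper4.FibDim6 Groth.Agent.Lib.Helper4.FibDim7 Groth.Agent.Lib.Helper4.JacDim1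
open Groth.Agent.Lib.Helper4.DimFT1
open Groth.Agent.Lib.Helper4.Chev2 Groth.Agent.Lib.Helper4.Chev5 Groth.Agent.Lib.Helper4.Chev6 Groth.Agent.Lib.Helper4.Chev8
open Groth.Agent.Lib.Helper4.JacDim4 Groth.Agent.Lib.Helper4.EffCartierDim1
open Groth.Agent.Lib.Helper4.Chev9 Groth.Agent.Lib.Helper4.Chev4
open Groth.Agent.Lib.Helper4.Chev10 Groth.Agent.Lib.Helper4.Chev11 Groth.Agent.Lib.Helper4.Chev3 Groth.Agent.Lib.Helper4.Equi1 Groth.Agent.Lib.Helper4.Equi2 Groth.Agent.Lib.Helper4.OpenAt1 Groth.Agent.Lib.Helper4.Equi3 Groth.Agent.Lib.Helper4.Equi4 Groth.Agent.Lib.Helper4.Equi5 Groth.Agent.Lib.Helper4.Equi6 Groth.Agent.Lib.Helper4.Equi7 Groth.Agent.Lib.Helper4.Aff1 Groth.Agent.Lib.Helper4.Aff2 Groth.Agent.Lib.Helper4.Equi10 Groth.Agent.Lib.Helper4.Val1 Groth.Agent.Lib.Helper4.BaseChg1 Groth.Agent.Lib.Helper4.UnivOpen1 Groth.Agent.Lib.Helper4.FibClosure1 Groth.Agent.Lib.Helper4.OpenNoeth1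 Groth.Agent.Lib.Helper4.SecComp1 Groth.Agent.Lib.Helper4.SecComp2
open Groth.Agent.Lib.Helper4.SecComp3 Groth.Agent.Lib.Helper4.PropDim1 Groth.Agent.Lib.Helper4.ZMTNormalPt1 Groth.Agent.Lib.Helper4.UO Groth.Agent.Lib.Helper4.UOp
open Groth.Agent.Lib.Helper4.ChevCrit1 Groth.Agent.Lib.Helper4.ChevCrit2 Groth.Agent.Lib.Helper4.ChevCrit3
open Groth.Agent.Lib.Helper4.IrrCompDomain1 Groth.Agent.Lib.Helper4.RadBir1
open Groth.Agent.Lib.Helper4.ChevCrit4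
open Groth.Agent.Lib.Helper4.ChevCrit5
open Groth.Agent.Lib.Helper4.DedekindOpen1 Groth.Agent.Lib.Helper4.UnivOpenT1
open Groth.Agent.Lib.Helper4.ChevCrit7
open Groth.Agent.Lib.Helper4.DvrFlat1 Groth.Agent.Lib.Helper4.FlatDimK1 Groth.Agent.Lib.Helper4.BaseChgMax1
open Groth.Agent.Lib.Helper4.FibDimComp1 Groth.Agent.Lib.Helper4.ProdDim1 Groth.Agent.Lib.Helper4.FibDimBC2 Groth.Agent.Lib.Helper4.LocNoethFib1

namespace Groth.Agent.Lib.Helper4.KleimanDim1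

/-- generic smoothness on the target in characteristic zero, for a possibly reducible regular
source -/
theorem exists_dense_open_smooth (X Y : Scheme.{u}) [IsIntegral Y]
    [IsLocallyNoetherian X] (hreg : ∀ x : X, IsRegularLocalRing (X.presheaf.stalk x))
    (f : X ⟶ Y) [LocallyOfFinitePresentation f] [QuasiCompact f]
    [PerfectField Y.functionField] :
    ∃ V : Y.Opens, Dense (V : Set Y) ∧ Smooth (f ∣_ V) := by
  let Z : Set X := (f.smoothLocus : Set X)ᶜ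
  have hZc : IsClosed Z := f.smoothLocus.2.isClosed_compl
  have hZ : Topology.IsLocallyConstructible Z :=
    Groth.Agent.Lead.GenSmP.isLocallyConstructible_of_isClosed Z hZc
  have hE := f.isLocallyConstructible_image hZ
  have hη : genericPoint Y ∉ f '' Z := by
    rintro ⟨x, hx, hfx⟩
    exact hx (Groth.Agent.Lead.GenSmP.mem_smoothLocus_of_regular_of_perfect f x hfx (hreg x))
  have hgen : ∀ U : Set Y, IsOpen U → U.Nonempty → genericPoint Y ∈ U := by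
    intro U hU hne
    rw [(genericPoint_spec Y).mem_open_set_iff hU]
    simpa using hne
  obtain ⟨U, hUo, hηU, hUE⟩ :=
    Groth.Agent.Lead.GenSmP.exists_open_disjoint_of_isLocallyConstructible (genericPoint Y) hgen
      hE hη
  refine ⟨⟨U, hUo⟩, hUo.dense ⟨_, hηU⟩, ?_⟩
  have h1 : ((f ⁻¹ᵁ ⟨U, hUo⟩).ι ≫ f).smoothLocus = ⊤ := by
    rw [← Scheme.Hom.preimage_smoothLocus_eq, ← top_le_iff]
    rintro x -
    show (f ⁻¹ᵁ ⟨U, hUo⟩).ι x ∈ f.smoothLocus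
    by_contra hx
    exact hUE (f ((f ⁻¹ᵁ ⟨U, hUo⟩).ι x)) x.2 ⟨_, hx, rfl⟩
  have h2 : Smooth ((f ⁻¹ᵁ ⟨U, hUo⟩).ι ≫ f) := Scheme.Hom.smoothLocus_eq_top_iff.mp h1
  rw [← morphismRestrict_ι] at h2
  exact MorphismProperty.of_postcomp (W := @Smooth) (W' := @IsOpenImmersion)
    (f ∣_ ⟨U, hUo⟩) (Scheme.Opens.ι ⟨U, hUo⟩) inferInstance h2

/-- a flat morphism between equidimensional schemes locally of finite type over a field: the
residual transcendence degree at a point maximal in its fibre -/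
theorem tr_add_eq_of_flat_of_fibreMax (k : Type u) [Field k] {A B : Scheme.{u}}
    (qA : A ⟶ Spec (CommRingCat.of k)) (qB : B ⟶ Spec (CommRingCat.of k))
    [LocallyOfFiniteType qA] [LocallyOfFiniteType qB] (h : A ⟶ B) [LocallyOfFiniteType h]
    (hh : h ≫ qB = qA) [Flat h]
    (a b : ℕ) (hA : ∀ ξ : A, (∀ ξ' : A, ξ' ⤳ ξ → ξ' = ξ) → tr qA ξ = a)
    (hB : ∀ η : B, (∀ η' : B, η' ⤳ η → η' = η) → tr qB η = b) (u' : A)
    (hmax : ∀ z' : A, h z' = h u' → z' ⤳ u' → z' = u') :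
    tr h u' + b = a := by
  haveI : IsLocallyNoetherian B := LocallyOfFiniteType.isLocallyNoetherian qB
  haveI : LocallyOfFinitePresentation h :=
    LocallyOfFinitePresentation.iff_locallyOfFiniteType.2 inferInstance
  have hopen : ∀ z : A, EGA43.IsOpenAt h.base z :=
    (Groth.Agent.Lib.Helper4.UOp.isOpenMap_iff_isOpenAt _).mp h.isOpenMap
  have hdimeq := stalk_dim_eq_of_isOpenAt_of_max h u' hmax (hopen u')
  obtain ⟨ξ, hξz, hξmax, h1⟩ := exists_max_gen_stalk_dim k qA u'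
  obtain ⟨η, hηy, hηmax, h2⟩ := exists_max_gen_stalk_dim k qB (h u')
  rw [hA ξ hξmax, hdimeq] at h1
  rw [hB η hηmax] at h2
  have htr : tr qA u' = tr qB (h u') + tr h u' := by
    rw [← Groth.Agent.Lib.Helper4.PropDim1.tr_comp h qB u']
    exact (tr_congr_hom _ _ hh u').symm
  have := wb_arith _ _ _ _ _ h2 h1
  omega

theorem fibreDimAt_const_of_flat (k : Type u) [Field k] {A B : Scheme.{u}}
    (qA : A ⟶ Spec (CommRingCat.of k)) (qB : B ⟶ Spec (CommRingCat.of k))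
    [LocallyOfFiniteType qA] [LocallyOfFiniteType qB] (h : A ⟶ B) [LocallyOfFiniteType h]
    (hh : h ≫ qB = qA) [Flat h]
    (a b : ℕ) (hA : ∀ ξ : A, (∀ ξ' : A, ξ' ⤳ ξ → ξ' = ξ) → tr qA ξ = a)
    (hB : ∀ η : B, (∀ η' : B, η' ⤳ η → η' = η) → tr qB η = b) (u : A) :
    ∃ e : ℕ, FlatMor.fibreDimAt h u = (e : WithBot ℕ∞) ∧ e + b = a := by
  obtain ⟨u', hu'u, -, hmax, hfd⟩ := exists_fibreMax_tr_eq h u
  exact ⟨tr h u', hfd, tr_add_eq_of_flat_of_fibreMax k qA qB h hh a b hA hB u' hmax⟩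

/-- maximal points of a base change of a flat morphism between equidimensional schemes -/
theorem tr_max_pullback (k : Type u) [Field k] {A B Zs W : Scheme.{u}}
    (qA : A ⟶ Spec (CommRingCat.of k)) (qB : B ⟶ Spec (CommRingCat.of k))
    (qZ : Zs ⟶ Spec (CommRingCat.of k)) (qW : W ⟶ Spec (CommRingCat.of k))
    [LocallyOfFiniteType qA] [LocallyOfFiniteType qB] [LocallyOfFiniteType qZ]
    [LocallyOfFiniteType qW] (h : A ⟶ B) [LocallyOfFiniteType h] (hh : h ≫ qB = qA) [Flat h]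
    (gz : Zs ⟶ B) (w₁ : W ⟶ A) (w₂ : W ⟶ Zs) (hW : IsPullback w₁ w₂ h gz)
    (hw₂ : w₂ ≫ qZ = qW)
    (a b s : ℕ) (hA : ∀ ξ : A, (∀ ξ' : A, ξ' ⤳ ξ → ξ' = ξ) → tr qA ξ = a)
    (hB : ∀ η : B, (∀ η' : B, η' ⤳ η → η' = η) → tr qB η = b)
    (hZ : ∀ ζ : Zs, (∀ ζ' : Zs, ζ' ⤳ ζ → ζ' = ζ) → tr qZ ζ = s)
    (ξ : W) (hξ : ∀ ξ' : W, ξ' ⤳ ξ → ξ' = ξ) : tr qW ξ + b = s + a := by
  haveI : LocallyOfFiniteType w₂ := MorphismProperty.of_isPullback hW inferInstance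
  haveI : Flat w₂ := MorphismProperty.of_isPullback hW inferInstance
  have hzmax : ∀ ζ' : Zs, ζ' ⤳ w₂ ξ → ζ' = w₂ ξ := by
    intro ζ' hζ'
    obtain ⟨ξ', hξ'sp, hξ'ζ⟩ := Flat.generalizingMap w₂ hζ'
    rw [← hξ'ζ, hξ ξ' hξ'sp]
  have htr : tr qW ξ = tr qZ (w₂ ξ) + tr w₂ ξ := by
    rw [← Groth.Agent.Lib.Helper4.PropDim1.tr_comp w₂ qZ ξ]
    exact (tr_congr_hom _ _ hw₂ ξ).symm
  have h1 : FlatMor.fibreDimAt w₂ ξ = ((tr w₂ ξ : ℕ) : WithBot ℕ∞) :=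
    fibreDimAt_eq_tr_of_max w₂ ξ (fun z' _ hsp => hξ z' hsp)
  rw [fibreDimAt_abs h gz w₁ w₂ hW ξ] at h1
  obtain ⟨e, he1, he2⟩ := fibreDimAt_const_of_flat k qA qB h hh a b hA hB (w₁ ξ)
  rw [he1] at h1
  have h2 : e = tr w₂ ξ := by exact_mod_cast h1
  rw [htr, hZ _ hzmax]
  omega


theorem tr_opens_ι (k : Type u) [Field k] {W : Scheme.{u}} (qW : W ⟶ Spec (CommRingCat.of k))
    [LocallyOfFiniteType qW] (U : W.Opens) (x : U.toScheme) :
    tr (U.ι ≫ qW) x = tr qW (U.ι x) := by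
  rw [Groth.Agent.Lib.Helper4.PropDim1.tr_comp U.ι qW x,
    Groth.Agent.Lib.Helper4.ConjDense1.tr_eq_zero_of_mono U.ι x, add_zero]

theorem isMax_opens_ι {W : Scheme.{u}} (U : W.Opens) (x : U.toScheme)
    (hx : ∀ x' : U.toScheme, x' ⤳ x → x' = x) : ∀ ξ' : W, ξ' ⤳ U.ι x → ξ' = U.ι x := by
  intro ξ' hsp
  have hmem : ξ' ∈ U := hsp.mem_open U.2 x.2
  obtain ⟨x', hx'⟩ : ξ' ∈ Set.range U.ι := by
    rw [Scheme.Opens.range_ι]; exact hmem
  have h1 : x' ⤳ x := by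
    rw [← U.ι.isOpenEmbedding.isInducing.specializes_iff, hx']
    exact hsp
  rw [← hx', hx x' h1]

/-- the fibre of a morphism over a rational point of an open over which it is flat -/
theorem tr_fibre_max (k : Type u) [Field k] {W Gs P : Scheme.{u}}
    (qW : W ⟶ Spec (CommRingCat.of k)) (qG : Gs ⟶ Spec (CommRingCat.of k))
    (qP : P ⟶ Spec (CommRingCat.of k)) [LocallyOfFiniteType qW] [LocallyOfFiniteType qG]
    [IsSeparated qG] [LocallyOfFiniteType qP]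
    (q : W ⟶ Gs) (hq : q ≫ qG = qW) (V : Gs.Opens) [Flat (q ∣_ V)]
    (σ : Spec (CommRingCat.of k) ⟶ Gs) (hσ : σ ≫ qG = 𝟙 _) (hσV : Set.range σ.base ⊆ V)
    (j : P ⟶ W) (hP : IsPullback qP j σ q)
    (c dG : ℕ) (hWmax : ∀ ξ : W, (∀ ξ' : W, ξ' ⤳ ξ → ξ' = ξ) → tr qW ξ = c)
    (hGmax : ∀ η : Gs, (∀ η' : Gs, η' ⤳ η → η' = η) → tr qG η = dG)
    (τ : P) (hτ : ∀ τ' : P, τ' ⤳ τ → τ' = τ) : tr qP τ + dG = c := by
  haveI : IsClosedImmersion σ := isClosedImmersion_of_comp_eq_id qG σ hσ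
  haveI : IsClosedImmersion j := MorphismProperty.of_isPullback hP inferInstance
  haveI : LocallyOfFiniteType (q ≫ qG) := by rw [hq]; infer_instance
  haveI : LocallyOfFiniteType q := locallyOfFiniteType_of_comp q qG
  have hqP : j ≫ qW = qP := by
    rw [← hq, ← Category.assoc, ← hP.w, Category.assoc, hσ, Category.comp_id]
  have h1 : tr qP τ = tr qW (j τ) := by
    rw [← tr_congr_hom _ _ hqP τ, Groth.Agent.Lib.Helper4.PropDim1.tr_comp j qW τ,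
      Groth.Agent.Lib.Helper4.ConjDense1.tr_eq_zero_of_mono j τ, add_zero]
  have hqw : q (j τ) = σ (qP τ) := by
    rw [← Scheme.Hom.comp_apply, ← Scheme.Hom.comp_apply, hP.w]
  have hwV : j τ ∈ q ⁻¹ᵁ V := by
    show q (j τ) ∈ V
    rw [hqw]
    exact hσV ⟨_, rfl⟩
  obtain ⟨wV, hwVdef⟩ : ∃ wV : (q ⁻¹ᵁ V).toScheme, wV = ⟨j τ, hwV⟩ := ⟨_, rfl⟩
  have hιw : (q ⁻¹ᵁ V).ι wV = j τ := by rw [hwVdef]; rfl
  have hh : (q ∣_ V) ≫ (V.ι ≫ qG) = (q ⁻¹ᵁ V).ι ≫ qW := by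
    rw [← Category.assoc, morphismRestrict_ι, Category.assoc, hq]
  have hA : ∀ ξ : (q ⁻¹ᵁ V).toScheme, (∀ ξ' : (q ⁻¹ᵁ V).toScheme, ξ' ⤳ ξ → ξ' = ξ) →
      tr ((q ⁻¹ᵁ V).ι ≫ qW) ξ = c := by
    intro ξ hξ
    rw [tr_opens_ι k qW]
    exact hWmax _ (isMax_opens_ι _ ξ hξ)
  have hB : ∀ η : V.toScheme, (∀ η' : V.toScheme, η' ⤳ η → η' = η) →
      tr (V.ι ≫ qG) η = dG := by
    intro η hη
    rw [tr_opens_ι k qG]
    exact hGmax _ (isMax_opens_ι _ η hη)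
  have hmaxw : ∀ z' : (q ⁻¹ᵁ V).toScheme, (q ∣_ V) z' = (q ∣_ V) wV → z' ⤳ wV → z' = wV := by
    intro z' hz' hsp
    have hq' : q ((q ⁻¹ᵁ V).ι z') = σ (qP τ) := by
      have e1 : V.ι ((q ∣_ V) z') = V.ι ((q ∣_ V) wV) := by rw [hz']
      rw [← Scheme.Hom.comp_apply, ← Scheme.Hom.comp_apply, morphismRestrict_ι,
        Scheme.Hom.comp_apply, Scheme.Hom.comp_apply, hιw, hqw] at e1
      exact e1
    obtain ⟨τ', -, hτ'⟩ := exists_preimage_of_isPullback hP (qP τ) ((q ⁻¹ᵁ V).ι z') hq'.symm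
    have hsp' : τ' ⤳ τ := by
      rw [← j.isEmbedding.isInducing.specializes_iff, hτ', ← hιw]
      exact hsp.map (q ⁻¹ᵁ V).ι.continuous
    have : τ' = τ := hτ τ' hsp'
    apply (q ⁻¹ᵁ V).ι.isOpenEmbedding.injective
    rw [← hτ', this, hιw]
  haveI : LocallyOfFiniteType (q ∣_ V) := inferInstance
  have h2 := tr_add_eq_of_flat_of_fibreMax k ((q ⁻¹ᵁ V).ι ≫ qW) (V.ι ≫ qG) (q ∣_ V) hh c dG
    hA hB wV hmaxw
  -- the transcendence degree over the base point vanishes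
  have h3 : tr ((q ⁻¹ᵁ V).ι ≫ qW) wV = tr (V.ι ≫ qG) ((q ∣_ V) wV) + tr (q ∣_ V) wV := by
    rw [← Groth.Agent.Lib.Helper4.PropDim1.tr_comp (q ∣_ V) (V.ι ≫ qG) wV]
    exact (tr_congr_hom _ _ hh wV).symm
  have h4 : tr (V.ι ≫ qG) ((q ∣_ V) wV) = 0 := by
    rw [tr_opens_ι k qG]
    have e1 : V.ι ((q ∣_ V) wV) = σ (qP τ) := by
      rw [← Scheme.Hom.comp_apply, morphismRestrict_ι, Scheme.Hom.comp_apply, hιw, hqw]
    rw [e1]
    haveI : LocallyOfFiniteType (σ ≫ qG) := by rw [hσ]; infer_instance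
    have e2 := Groth.Agent.Lib.Helper4.PropDim1.tr_comp σ qG (qP τ)
    have e3 : tr (σ ≫ qG) (qP τ) = 0 := by
      rw [tr_congr_hom _ _ hσ (qP τ)]
      exact Groth.Agent.Lib.Helper4.ConjDense1.tr_eq_zero_of_mono (𝟙 _) _
    omega
  rw [tr_opens_ι k qW, hιw] at h3
  omega

end Groth.Agent.Lib.Helper4.KleimanDim1
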