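import Mathlib
import Groth.Agent.Lib.Helper4.Act1
import Groth.Prelude.Def_AlgGrp
import Groth.Agent.Lib.Helper2.Sch.OrbitSmoothCharZero
import Groth.Agent.Lib.Helper4.KleimanDim1
import Groth.Agent.Lib.Helper4.WordPts1
import Groth.Agent.Lib.Helper2.Sch.SmoothFieldRegular
import Groth.Agent.Lib.Lead.GenSmP2
import Groth.Agent.Lib.Helper4.TopDim2
import Groth.Agent.Lib.Helper4.ProdDim1

/-!
# Kleiman transversality in characteristic zero (S10928) (helper4)
-/

set_option backward.isDefEq.respectTransparency.types false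
set_option synthInstance.maxHeartbeats 400000
set_option autoImplicit false
set_option linter.unusedSectionVars false
set_option linter.style.haveILetI false
set_option linter.unusedSimpArgs false
universe u v w
open CategoryTheory CategoryTheory.Limits AlgebraicGeometry TopologicalSpace Opposite
open MonoidalCategory CartesianMonoidalCategory MonObj GrpObj

namespace Groth.Agent.Lib.Helper4.Kleiman1

section Cat
variable {C : Type u} [Category.{v} C] [CartesianMonoidalCategory C]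
variable {G X : C} [GrpObj G] (act : G ⊗ X ⟶ X)
  (one_act : (η[G] ▷ X) ≫ act = (λ_ X).hom)
  (mul_act : (μ[G] ▷ X) ≫ act = (α_ G G X).hom ≫ (G ◁ act) ≫ act)

/-- `(g, t) ↦ g * t₁(t)` is a base change of `T ⟶ 𝟙` -/
theorem isPullback_mul_whisker {T : C} (t₁ : T ⟶ G) :
    IsPullback ((G ◁ t₁) ≫ μ[G]) (snd G T) (toUnit G) (toUnit T) := by
  refine ⟨⟨toUnit_unique _ _⟩, ⟨PullbackCone.IsLimit.mk _
    (fun s => lift (s.fst * (s.snd ≫ t₁)⁻¹) s.snd) ?_ ?_ ?_⟩⟩
  · intro s
    rw [lift_whiskerLeft_assoc, ← Hom.mul_def, inv_mul_cancel_right]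
  · intro s
    rw [lift_snd]
  · intro s m h1 h2
    apply CartesianMonoidalCategory.hom_ext
    · rw [lift_fst]
      have hm : m = lift (m ≫ fst G T) (m ≫ snd G T) := by simp
      rw [hm, lift_whiskerLeft_assoc, ← Hom.mul_def] at h1
      rw [← h1, ← h2, mul_inv_cancel_right]
    · rw [lift_snd]
      exact h2

theorem comp_orbit {S : C} (x₀ : 𝟙_ C ⟶ X) (m : S ⟶ G) :
    m ≫ lift (𝟙 G) (toUnit G ≫ x₀) ≫ act = lift m (toUnit S ≫ x₀) ≫ act := by
  rw [← Category.assoc, comp_lift, Category.comp_id, ← Category.assoc,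
    toUnit_unique (m ≫ toUnit G) (toUnit S)]

include one_act mul_act in
/-- the base change of `(g, y) ↦ g • f y` along the orbit map -/
theorem isPullback_orbit_act {Y T : C} (x₀ : 𝟙_ C ⟶ X) (fY : Y ⟶ X) (t₁ : T ⟶ G) (t₂ : T ⟶ Y)
    (hT : IsPullback t₁ t₂ (lift (𝟙 G) (toUnit G ≫ x₀) ≫ act) fY) :
    IsPullback ((G ◁ t₁) ≫ μ[G]) (G ◁ t₂) (lift (𝟙 G) (toUnit G ≫ x₀) ≫ act)
      ((G ◁ fY) ≫ act) := by
  have key : ∀ {S : C} (a : S ⟶ G) (b : S ⟶ T),
      (a * (b ≫ t₁)) ≫ lift (𝟙 G) (toUnit G ≫ x₀) ≫ act = lift a (b ≫ t₂ ≫ fY) ≫ act := by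
    intro S a b
    rw [comp_orbit, Groth.Agent.Helper4.Act.mul_smul' act mul_act, ← comp_orbit act x₀ (b ≫ t₁),
      Category.assoc, hT.w]
  have comm : ((G ◁ t₁) ≫ μ[G]) ≫ lift (𝟙 G) (toUnit G ≫ x₀) ≫ act =
      (G ◁ t₂) ≫ (G ◁ fY) ≫ act := by
    have h1 : (G ◁ t₁) ≫ μ[G] = fst G T * (snd G T ≫ t₁) := by
      rw [Hom.mul_def]
      congr 1
      apply CartesianMonoidalCategory.hom_ext <;> simp
    have h2 : (G ◁ t₂) ≫ (G ◁ fY) = lift (fst G T) (snd G T ≫ t₂ ≫ fY) := by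
      apply CartesianMonoidalCategory.hom_ext <;> simp
    rw [h1, key, ← Category.assoc (G ◁ t₂), h2]
  refine ⟨⟨comm⟩, ⟨PullbackCone.IsLimit.mk comm
    (fun s => lift (s.snd ≫ fst G Y) (hT.lift ((s.snd ≫ fst G Y)⁻¹ * s.fst) (s.snd ≫ snd G Y) ?_))
    ?_ ?_ ?_⟩⟩
  · -- compatibility for the lift into T
    rw [comp_orbit, Groth.Agent.Helper4.Act.mul_smul' act mul_act, ← comp_orbit act x₀ s.fst,
      s.condition]
    have h3 : s.snd ≫ (G ◁ fY) ≫ act = lift (s.snd ≫ fst G Y) (s.snd ≫ snd G Y ≫ fY) ≫ act := by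
      rw [← Category.assoc]
      congr 1
      apply CartesianMonoidalCategory.hom_ext <;> simp
    rw [h3, ← Groth.Agent.Helper4.Act.mul_smul' act mul_act, inv_mul_cancel,
      Groth.Agent.Helper4.Act.one_smul' act one_act, Category.assoc]
  · intro s
    rw [lift_whiskerLeft_assoc, ← Hom.mul_def, IsPullback.lift_fst, mul_inv_cancel_left]
  · intro s
    rw [lift_whiskerLeft, IsPullback.lift_snd]
    apply CartesianMonoidalCategory.hom_ext <;> simp
  · intro s m h1 h2
    have hm : m = lift (m ≫ fst G T) (m ≫ snd G T) := by simp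
    have hf : m ≫ fst G T = s.snd ≫ fst G Y := by
      rw [← h2, Category.assoc, whiskerLeft_fst]
    apply CartesianMonoidalCategory.hom_ext
    · rw [lift_fst]
      exact hf
    · rw [lift_snd]
      apply hT.hom_ext
      · rw [IsPullback.lift_fst]
        rw [hm, lift_whiskerLeft_assoc, ← Hom.mul_def] at h1
        rw [← h1, ← hf, inv_mul_cancel_left, Category.assoc]
      · rw [IsPullback.lift_snd, ← h2, Category.assoc, Category.assoc, whiskerLeft_snd]

/-- the inclusion of the slice `{σ} × Y` is the base change of the point `σ` -/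
theorem isPullback_slice {Y : C} (σ : 𝟙_ C ⟶ G) :
    IsPullback (toUnit Y) (lift (toUnit Y ≫ σ) (𝟙 Y)) σ (fst G Y) := by
  refine ⟨⟨by rw [lift_fst]⟩, ⟨PullbackCone.IsLimit.mk _ (fun s => s.snd ≫ snd G Y) ?_ ?_ ?_⟩⟩
  · intro s
    exact toUnit_unique _ _
  · intro s
    apply CartesianMonoidalCategory.hom_ext
    · rw [Category.assoc, lift_fst, ← s.condition, ← Category.assoc]
      congr 1
      exact toUnit_unique _ _
    · rw [Category.assoc, lift_snd, Category.comp_id]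
  · intro s m _ h2
    rw [← h2, Category.assoc, lift_snd, Category.comp_id]

/-- the fibre of `W = (G × Y) ×_X Z ⟶ G` over a point `σ` is `Y ×_X Z` for the translate of `Y` -/
theorem isPullback_fibre {Y Z W P : C} (h : G ⊗ Y ⟶ X) (gZ : Z ⟶ X) (w₁ : W ⟶ G ⊗ Y)
    (w₂ : W ⟶ Z) (hW : IsPullback w₁ w₂ h gZ) (σ : 𝟙_ C ⟶ G) (p₁ : P ⟶ Y) (p₂ : P ⟶ Z)
    (hP : IsPullback p₁ p₂ (lift (toUnit Y ≫ σ) (𝟙 Y) ≫ h) gZ) :
    ∃ j : P ⟶ W, j ≫ w₂ = p₂ ∧ j ≫ w₁ = p₁ ≫ lift (toUnit Y ≫ σ) (𝟙 Y) ∧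
      IsPullback (toUnit P) j σ (w₁ ≫ fst G Y) := by
  have hcomm : (p₁ ≫ lift (toUnit Y ≫ σ) (𝟙 Y)) ≫ h = p₂ ≫ gZ := by
    rw [Category.assoc]; exact hP.w
  refine ⟨hW.lift _ _ hcomm, hW.lift_snd _ _ hcomm, hW.lift_fst _ _ hcomm, ?_⟩
  have hbig : IsPullback p₁ (hW.lift _ _ hcomm ≫ w₂) (lift (toUnit Y ≫ σ) (𝟙 Y) ≫ h) gZ := by
    rw [hW.lift_snd]; exact hP
  have htop : IsPullback p₁ (hW.lift _ _ hcomm) (lift (toUnit Y ≫ σ) (𝟙 Y)) w₁ :=
    IsPullback.of_bot hbig (hW.lift_fst _ _ hcomm).symm hW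
  have hpaste := htop.paste_horiz (isPullback_slice (G := G) (Y := Y) σ)
  rw [toUnit_unique (p₁ ≫ toUnit Y) (toUnit P)] at hpaste
  exact hpaste

end Cat

section Sm
variable (k : Type u) [Field k] [IsAlgClosed k] [CharZero k]
  {G X : Over (Spec (CommRingCat.of k))} [GrpObj G] (a : AlgGrp.Action G X)
  [LocallyOfFiniteType G.hom] [QuasiCompact G.hom]
  [IsReduced X.left] [IsSeparated X.hom] [LocallyOfFiniteType X.hom] [QuasiCompact X.hom]

/-- for a homogeneous space in characteristic zero, `(g, y) ↦ g • f y` is smooth when the source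
of `f` is smooth -/
theorem smooth_act_whisker
    (htrans : ∀ x x' : 𝟙_ (Over (Spec (CommRingCat.of k))) ⟶ X,
      ∃ σ : 𝟙_ (Over (Spec (CommRingCat.of k))) ⟶ G, lift σ x ≫ a.act = x')
    (x₀ : 𝟙_ (Over (Spec (CommRingCat.of k))) ⟶ X)
    (Y' : Over (Spec (CommRingCat.of k))) [Smooth Y'.hom] (fY : Y' ⟶ X) :
    Smooth ((G ◁ fY) ≫ a.act).left := by
  obtain ⟨o, hodef⟩ : ∃ o : G ⟶ X, o = lift (𝟙 G) (toUnit G ≫ x₀) ≫ a.act := ⟨_, rfl⟩
  have ho_sm : Smooth o.left := by
    rw [hodef]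
    exact Groth.Agent.Helper2.OrbitSmoothCharZero.smooth_orbit k a.act a.one_act a.mul_act htrans x₀
  obtain ⟨ho_fl, ho_sj⟩ : Flat o.left ∧ Surjective o.left := by
    rw [hodef]
    exact Groth.Agent.Helper2.OrbitSmoothCharZero.flat_surjective_orbit k a.act a.one_act
      a.mul_act htrans x₀
  have ho_qc : QuasiCompact o.left := by
    haveI : QuasiCompact (o.left ≫ X.hom) := by rw [Over.w o]; infer_instance
    exact QuasiCompact.of_comp o.left X.hom
  have hT : IsPullback (pullback.fst o fY) (pullback.snd o fY) o fY := IsPullback.of_hasPullback o fY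
  have hT' := hT.map (Over.forget _)
  simp only [Over.forget_obj, Over.forget_map] at hT'
  have ht₂ : Smooth (pullback.snd o fY).left := MorphismProperty.of_isPullback hT' ho_sm
  have hTsm : Smooth (toUnit (pullback o fY)).left := by
    have h1 : (toUnit (pullback o fY)).left = (pullback.snd o fY).left ≫ Y'.hom := by
      rw [Over.w (pullback.snd o fY)]
      rfl
    rw [h1]
    infer_instance
  have hsq2 := (isPullback_mul_whisker (G := G) (pullback.fst o fY)).map (Over.forget _)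
  simp only [Over.forget_obj, Over.forget_map] at hsq2
  have hfst : Smooth ((G ◁ pullback.fst o fY) ≫ μ[G]).left :=
    MorphismProperty.of_isPullback hsq2.flip hTsm
  have hsq1 := (isPullback_orbit_act a.act a.one_act a.mul_act x₀ fY (pullback.fst o fY)
    (pullback.snd o fY) (hodef ▸ hT)).map (Over.forget _)
  simp only [Over.forget_obj, Over.forget_map] at hsq1
  rw [← hodef] at hsq1
  exact MorphismProperty.of_isPullback_of_descendsAlong
    (P := @Smooth) (Q := @Surjective ⊓ @Flat ⊓ @QuasiCompact) hsq1 ⟨⟨ho_sj, ho_fl⟩, ho_qc⟩ hfst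

end Sm

section Main
open Groth.Agent.Lib.Helper4.FibDim1 Groth.Agent.Lib.Helper4.KleimanDim1
variable (k : Type u) [Field k] [IsAlgClosed k] [CharZero k]

theorem main (G X : Over (Spec (CommRingCat.of k))) [GrpObj G] (a : AlgGrp.Action G X)
    [IsIntegral G.left] [IsSeparated G.hom] [LocallyOfFiniteType G.hom] [QuasiCompact G.hom]
    [IsIntegral X.left] [IsSeparated X.hom] [LocallyOfFiniteType X.hom] [QuasiCompact X.hom]
    (htrans : ∀ x x' : 𝟙_ (Over (Spec (CommRingCat.of k))) ⟶ X,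
      ∃ σ : 𝟙_ (Over (Spec (CommRingCat.of k))) ⟶ G, CartesianMonoidalCategory.lift σ x ≫ a.act = x')
    {Y Z : Scheme.{u}} (f : Y ⟶ X.left) (g : Z ⟶ X.left)
    [IsIntegral Y] [IsSeparated (f ≫ X.hom)] [QuasiCompact (f ≫ X.hom)] [Smooth (f ≫ X.hom)]
    [IsIntegral Z] [IsSeparated (g ≫ X.hom)] [QuasiCompact (g ≫ X.hom)] [Smooth (g ≫ X.hom)]
    (n r s : ℕ) (hn : topologicalKrullDim ↥X.left = n) (hr : topologicalKrullDim ↥Y = r)
    (hs : topologicalKrullDim ↥Z = s) :
    ∃ V : G.left.Opens, (V : Set ↥G.left).Nonempty ∧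
      ∀ σ : 𝟙_ (Over (Spec (CommRingCat.of k))) ⟶ G, Set.range σ.left.base ⊆ (V : Set ↥G.left) →
        ∀ fσ : Y ⟶ X.left,
          fσ = (CartesianMonoidalCategory.lift (CartesianMonoidalCategory.toUnit (Over.mk (f ≫ X.hom)) ≫ σ)
            (Over.homMk f) ≫ a.act).left →
          Smooth (pullback.fst fσ g ≫ f ≫ X.hom) ∧
            (IsEmpty ↥(pullback fσ g) ∨ (n ≤ r + s ∧ topologicalKrullDim ↥(pullback fσ g) = ((r + s - n : ℕ) : WithBot ℕ∞))) := by
  classical
  let Y' : Over (Spec (CommRingCat.of k)) := Over.mk (f ≫ X.hom)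
  let Z' : Over (Spec (CommRingCat.of k)) := Over.mk (g ≫ X.hom)
  let fY : Y' ⟶ X := Over.homMk f
  let gZ : Z' ⟶ X := Over.homMk g
  haveI : Smooth Y'.hom := inferInstanceAs (Smooth (f ≫ X.hom))
  haveI : Smooth Z'.hom := inferInstanceAs (Smooth (g ≫ X.hom))
  haveI : QuasiCompact Y'.hom := inferInstanceAs (QuasiCompact (f ≫ X.hom))
  haveI : QuasiCompact Z'.hom := inferInstanceAs (QuasiCompact (g ≫ X.hom))
  -- a base point
  haveI : Nonempty X.left := inferInstance
  obtain ⟨σ₀, hσ₀⟩ := Groth.Agent.Lib.Helper4.WordPts1.exists_section_of_lft (k := k) X.hom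
  let x₀ : 𝟙_ (Over (Spec (CommRingCat.of k))) ⟶ X := Over.homMk σ₀ (by simpa using hσ₀)
  -- the map h
  let h : G ⊗ Y' ⟶ X := (G ◁ fY) ≫ a.act
  have hsm : Smooth h.left := smooth_act_whisker k a htrans x₀ Y' fY
  -- W
  let W := pullback h gZ
  let w₁ : W ⟶ G ⊗ Y' := pullback.fst h gZ
  let w₂ : W ⟶ Z' := pullback.snd h gZ
  have hW : IsPullback w₁ w₂ h gZ := IsPullback.of_hasPullback h gZ
  have hW' := hW.map (Over.forget _)
  simp only [Over.forget_obj, Over.forget_map] at hW'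
  haveI hw₂sm : Smooth w₂.left := MorphismProperty.of_isPullback hW' hsm
  haveI hWsm : Smooth W.hom := by
    rw [← Over.w w₂]; infer_instance
  haveI : QuasiCompact (G ⊗ Y').hom := by
    rw [← Over.w (fst G Y')]
    have : QuasiCompact (fst G Y').left := by dsimp; infer_instance
    infer_instance
  haveI : QuasiCompact h.left := by
    haveI : QuasiCompact (h.left ≫ X.hom) := by rw [Over.w h]; infer_instance
    exact QuasiCompact.of_comp h.left X.hom
  haveI : QuasiCompact w₂.left := MorphismProperty.of_isPullback hW' inferInstance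
  haveI : QuasiCompact W.hom := by rw [← Over.w w₂]; infer_instance
  let q : W ⟶ G := w₁ ≫ fst G Y'
  haveI : QuasiCompact q.left := by
    haveI : QuasiCompact (q.left ≫ G.hom) := by rw [Over.w q]; infer_instance
    exact QuasiCompact.of_comp q.left G.hom
  haveI : IsLocallyNoetherian W.left := LocallyOfFiniteType.isLocallyNoetherian W.hom
  haveI : IsLocallyNoetherian G.left := LocallyOfFiniteType.isLocallyNoetherian G.hom
  haveI : LocallyOfFiniteType q.left := by
    haveI : LocallyOfFiniteType (q.left ≫ G.hom) := by rw [Over.w q]; infer_instance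
    exact locallyOfFiniteType_of_comp q.left G.hom
  haveI : LocallyOfFinitePresentation q.left :=
    LocallyOfFinitePresentation.iff_locallyOfFiniteType.2 inferInstance
  haveI : CharZero G.left.functionField := Groth.Agent.Lead.GenSmP.charZero_functionField k G.hom
  haveI : PerfectField G.left.functionField := inferInstance
  obtain ⟨V, hVd, hVsm⟩ := exists_dense_open_smooth W.left G.left
    (fun x => Groth.Agent.Helper2.SmoothFieldRegular.S1535_main k W.hom x) q.left
  refine ⟨V, hVd.nonempty, ?_⟩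
  intro σ hσV fσ hfσ
  subst hfσ
  let ισ : Y' ⟶ G ⊗ Y' := lift (toUnit Y' ≫ σ) (𝟙 Y')
  let fσ' : Y' ⟶ X := lift (toUnit Y' ≫ σ) fY ≫ a.act
  have hισ : ισ ≫ h = fσ' := by
    show lift _ _ ≫ (G ◁ fY) ≫ a.act = _
    rw [lift_whiskerLeft_assoc, Category.id_comp]
  let P' : Over (Spec (CommRingCat.of k)) := Over.mk (pullback.fst fσ'.left g ≫ f ≫ X.hom)
  let p₁ : P' ⟶ Y' := Over.homMk (pullback.fst fσ'.left g) rfl
  have hp₂ : pullback.snd fσ'.left g ≫ Z'.hom = P'.hom := by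
    show pullback.snd fσ'.left g ≫ g ≫ X.hom = pullback.fst fσ'.left g ≫ f ≫ X.hom
    rw [← Category.assoc, ← pullback.condition, Category.assoc]
    congr 1
    exact Over.w fσ'
  let p₂ : P' ⟶ Z' := Over.homMk (pullback.snd fσ'.left g) hp₂
  have hP : IsPullback p₁ p₂ fσ' gZ := by
    refine IsPullback.of_map (Over.forget _) ?_ (IsPullback.of_hasPullback fσ'.left g)
    ext
    exact pullback.condition
  obtain ⟨j, hj₂, hj₁, hjP⟩ := isPullback_fibre h gZ w₁ w₂ hW σ p₁ p₂ (hισ ▸ hP)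
  have hjP' : IsPullback P'.hom j.left σ.left q.left := hjP.map (Over.forget _)
  have hσ1 : σ.left ≫ G.hom = 𝟙 _ := Over.w σ
  have hqj : ∀ τ : P'.left, q.left (j.left τ) = σ.left (P'.hom τ) := by
    intro τ
    rw [← Scheme.Hom.comp_apply, ← Scheme.Hom.comp_apply, hjP'.w]
  -- smoothness
  have hsmooth : Smooth P'.hom := by
    have hjV : Set.range j.left ⊆ Set.range (q.left ⁻¹ᵁ V).ι := by
      rw [Scheme.Opens.range_ι]
      rintro _ ⟨τ, rfl⟩
      show q.left (j.left τ) ∈ V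
      rw [hqj]
      exact hσV ⟨_, rfl⟩
    have hσV' : Set.range σ.left ⊆ Set.range V.ι := by
      rw [Scheme.Opens.range_ι]
      exact hσV
    let jV : P'.left ⟶ (q.left ⁻¹ᵁ V).toScheme := IsOpenImmersion.lift (q.left ⁻¹ᵁ V).ι j.left hjV
    let σV : Spec (CommRingCat.of k) ⟶ V.toScheme := IsOpenImmersion.lift V.ι σ.left hσV'
    have hjVfac : jV ≫ (q.left ⁻¹ᵁ V).ι = j.left := IsOpenImmersion.lift_fac _ _ _
    have hσVfac : σV ≫ V.ι = σ.left := IsOpenImmersion.lift_fac _ _ _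
    have hbig : IsPullback (jV ≫ (q.left ⁻¹ᵁ V).ι) P'.hom q.left (σV ≫ V.ι) := by
      rw [hjVfac, hσVfac]
      exact hjP'.flip
    have hcomm : jV ≫ (q.left ∣_ V) = P'.hom ≫ σV := by
      rw [← cancel_mono V.ι, Category.assoc, morphismRestrict_ι, ← Category.assoc, hjVfac,
        Category.assoc, hσVfac]
      exact hjP'.w.symm
    have hsq : IsPullback jV P'.hom (q.left ∣_ V) σV :=
      IsPullback.of_right hbig hcomm (isPullback_morphismRestrict q.left V).flip
    exact MorphismProperty.of_isPullback hsq hVsm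
  refine ⟨hsmooth, ?_⟩
  -- dimensions
  haveI : LocallyOfFiniteType P'.hom := inferInstance
  haveI : LocallyOfFiniteType (G ⊗ Y').hom := by
    rw [← Over.w (fst G Y')]
    have : LocallyOfFiniteType (fst G Y').left := by dsimp; infer_instance
    infer_instance
  haveI : LocallyOfFiniteType h.left := by
    haveI : LocallyOfFiniteType (h.left ≫ X.hom) := by rw [Over.w h]; infer_instance
    exact locallyOfFiniteType_of_comp h.left X.hom
  obtain ⟨dG, hdG⟩ : ∃ dG : ℕ, tr G.hom (genericPoint G.left) = dG := ⟨_, rfl⟩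
  have hdimG : topologicalKrullDim G.left = (dG : WithBot ℕ∞) := by
    rw [Groth.Agent.Lib.Helper4.FlatDimK1.dim_of_irreducible k G.hom, hdG]
  have hgen : ∀ {T : Scheme.{u}} [IrreducibleSpace T] (t : T), (∀ t' : T, t' ⤳ t → t' = t) →
      t = genericPoint T := by
    intro T _ t ht
    exact (ht _ (genericPoint_specializes t)).symm
  have hGmax : ∀ t : G.left, (∀ t' : G.left, t' ⤳ t → t' = t) → tr G.hom t = dG := by
    intro t ht
    rw [hgen t ht, hdG]
  have hXmax : ∀ t : X.left, (∀ t' : X.left, t' ⤳ t → t' = t) → tr X.hom t = n := by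
    intro t ht
    have h1 := Groth.Agent.Lib.Helper4.FlatDimK1.dim_of_irreducible k X.hom
    rw [hn] at h1
    rw [hgen t ht]
    exact_mod_cast h1.symm
  have hZmax : ∀ t : Z'.left, (∀ t' : Z'.left, t' ⤳ t → t' = t) → tr Z'.hom t = s := by
    intro t ht
    have h1 := Groth.Agent.Lib.Helper4.FlatDimK1.dim_of_irreducible (Y := Z) k Z'.hom
    rw [hs] at h1
    rw [hgen (T := Z) t ht]
    exact_mod_cast h1.symm
  haveI : IsIntegral Y'.left := inferInstanceAs (IsIntegral Y)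
  haveI : IsIntegral Z'.left := inferInstanceAs (IsIntegral Z)
  have hAmax : ∀ t : (G ⊗ Y').left, (∀ t' : (G ⊗ Y').left, t' ⤳ t → t' = t) →
      tr (G ⊗ Y').hom t = dG + r := by
    intro t ht
    have h1 := Groth.Agent.Lib.Helper4.ProdDim1.S4662_main G.hom Y'.hom _
      (Groth.Agent.Lib.Helper4.FibDim4.closure_mem_irreducibleComponents_of_isMax _ t
        (Groth.Agent.Lib.Helper4.FlatDimK1.isMax_of_forall t ht))
    rw [Groth.Agent.Lib.Helper4.PropDim1.dim_closure_of_field k (G ⊗ Y').hom t, hdimG] at h1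
    have h2 : topologicalKrullDim ↥Y'.left = (r : WithBot ℕ∞) := hr
    rw [h2] at h1
    exact_mod_cast h1
  have hWall : ∀ ξ : W.left, (∀ ξ' : W.left, ξ' ⤳ ξ → ξ' = ξ) → tr W.hom ξ + n = s + (dG + r) :=
    fun ξ hξ => tr_max_pullback k (G ⊗ Y').hom X.hom Z'.hom W.hom h.left (Over.w h) gZ.left
      w₁.left w₂.left hW' (Over.w w₂) (dG + r) n s hAmax hXmax hZmax ξ hξ
  have key : ∀ τ : P'.left, (∀ τ' : P'.left, τ' ⤳ τ → τ' = τ) → tr P'.hom τ + n = r + s := by
    intro τ hτ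
    obtain ⟨ξ₀, -, hξ₀max, -⟩ :=
      Groth.Agent.Lib.Helper4.FlatDimK1.exists_max_gen_stalk_dim k W.hom (j.left τ)
    have hc := hWall ξ₀ hξ₀max
    have hWmax : ∀ ξ : W.left, (∀ ξ' : W.left, ξ' ⤳ ξ → ξ' = ξ) → tr W.hom ξ = tr W.hom ξ₀ := by
      intro ξ hξ
      have := hWall ξ hξ
      omega
    haveI : Flat (q.left ∣_ V) := inferInstance
    have h1 := tr_fibre_max k W.hom G.hom P'.hom q.left (Over.w q) V σ.left hσ1 hσV j.left hjP'
      (tr W.hom ξ₀) dG hWmax hGmax τ hτ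
    omega
  by_cases hemp : IsEmpty ↥(pullback fσ'.left g)
  · left
    exact hemp
  · right
    rw [not_isEmpty_iff] at hemp
    obtain ⟨τ₀⟩ := hemp
    obtain ⟨τ₁, -, hτ₁max, -⟩ :=
      Groth.Agent.Lib.Helper4.FlatDimK1.exists_max_gen_stalk_dim k P'.hom τ₀
    have hk1 := key τ₁ hτ₁max
    refine ⟨by omega, ?_⟩
    show topologicalKrullDim ↥P'.left = _
    rw [Groth.Agent.Helper4.TD.topologicalKrullDim_eq_iSup_irreducibleComponents]
    apply le_antisymm
    · refine iSup₂_le fun Zc hZc => ?_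
      obtain ⟨τ, hτmax, rfl⟩ := Groth.Agent.Lib.Helper4.FibDim4.exists_isMax_closure_eq _ Zc hZc
      rw [Groth.Agent.Lib.Helper4.PropDim1.dim_closure_of_field k P'.hom τ]
      have := key τ (Groth.Agent.Lib.Helper4.FlatDimK1.eq_of_isMax_of_specializes τ hτmax)
      have h3 : tr P'.hom τ = r + s - n := by omega
      rw [h3]
    · have hcomp := Groth.Agent.Lib.Helper4.FibDim4.closure_mem_irreducibleComponents_of_isMax _ τ₁
        (Groth.Agent.Lib.Helper4.FlatDimK1.isMax_of_forall τ₁ hτ₁max)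
      refine le_trans ?_ (le_iSup₂ (f := fun (Y₀ : Set ↥P'.left)
        (_ : Y₀ ∈ irreducibleComponents ↥P'.left) => topologicalKrullDim ↥Y₀) _ hcomp)
      rw [Groth.Agent.Lib.Helper4.PropDim1.dim_closure_of_field k P'.hom τ₁]
      have h3 : tr P'.hom τ₁ = r + s - n := by omega
      rw [h3]

end Main
end Groth.Agent.Lib.Helper4.Kleiman1
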