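import Mathlib
import Groth.Agent.Lib.Helper4.Act1
import Groth.Prelude.Def_AlgGrp
import Groth.Agent.Lib.Helper2.Sch.OrbitSmoothCharZero
import Groth.Agent.Lib.Helper4.KleimanDim1
import Groth.Agent.Lib.Helper4.Kleiman1
import Groth.Agent.Lib.Helper4.WordPts1
import Groth.Agent.Lib.Helper4.TopDim2
import Groth.Agent.Lib.Helper4.ProdDim1
import Groth.Agent.Lib.Helper7.GrobFree.Scheme
import Groth.Agent.Lib.Helper3.PiFlat1
import Groth.Agent.Lib.Helper4.HomogDim1
import Groth.Agent.Lib.Helper4.AbFibComp1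
import Groth.Agent.Lib.Helper4.GrpIrr1

/-!
# generic translates in homogeneous spaces meet properly (dimension part of Kleiman transversality for closed subsets) (helper4)
-/

set_option backward.isDefEq.respectTransparency.types false
set_option synthInstance.maxHeartbeats 400000
set_option autoImplicit false
set_option linter.unusedSectionVars false
set_option linter.style.haveILetI false
set_option linter.unusedSimpArgs false
universe u v w
open CategoryTheory CategoryTheory.Limits AlgebraicGeometry TopologicalSpace Opposite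
open MonoidalCategory CartesianMonoidalCategory MonObj GrpObj

namespace Groth.Agent.Lib.Helper4.Kleiman2

/-- a closed irreducible subset is the range of a closed immersion from an integral scheme -/
theorem exists_integral_closedImmersion {X : Scheme.{u}} (Z : Set X) (hc : IsClosed Z)
    (hZ : IsIrreducible Z) :
    ∃ (Z' : Scheme.{u}) (i : Z' ⟶ X), IsClosedImmersion i ∧ IsIntegral Z' ∧ Set.range i = Z := by
  obtain ⟨I, hI⟩ : ∃ I, I = Scheme.IdealSheafData.vanishingIdeal ⟨Z, hc⟩ := ⟨_, rfl⟩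
  have r : Set.range I.subschemeι = Z := by
    rw [Scheme.IdealSheafData.range_subschemeι, hI, Scheme.IdealSheafData.coe_support_vanishingIdeal]
    rfl
  refine ⟨I.subscheme, I.subschemeι, inferInstance, ?_, r⟩
  have hemb := I.subschemeι.isEmbedding
  have h3 : IrreducibleSpace (Set.range I.subschemeι) := by
    rw [r]; exact Subtype.irreducibleSpace hZ
  haveI : IrreducibleSpace I.subscheme := (hemb.toHomeomorph.irreducibleSpace_iff).mpr h3
  haveI : IsReduced I.subscheme := by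
    rw [hI]
    exact Groth.Agent.Lib.Helper4.AbFibComp1.isReduced_vanishingIdeal_subscheme ⟨Z, hc⟩
  exact isIntegral_of_irreducibleSpace_of_isReduced _

section Fl
variable (k : Type u) [Field k] [IsAlgClosed k]
  {G X : Over (Spec (CommRingCat.of k))} [GrpObj G] (a : AlgGrp.Action G X)
  [LocallyOfFiniteType G.hom] [QuasiCompact G.hom]
  [IsReduced X.left] [IsSeparated X.hom] [LocallyOfFiniteType X.hom] [QuasiCompact X.hom]

/-- for a homogeneous space, `(g, y) ↦ g • f y` is flat -/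
theorem flat_act_whisker
    (htrans : ∀ x x' : 𝟙_ (Over (Spec (CommRingCat.of k))) ⟶ X,
      ∃ σ : 𝟙_ (Over (Spec (CommRingCat.of k))) ⟶ G, lift σ x ≫ a.act = x')
    (x₀ : 𝟙_ (Over (Spec (CommRingCat.of k))) ⟶ X)
    (Y' : Over (Spec (CommRingCat.of k))) (fY : Y' ⟶ X) :
    Flat ((G ◁ fY) ≫ a.act).left := by
  obtain ⟨o, hodef⟩ : ∃ o : G ⟶ X, o = lift (𝟙 G) (toUnit G ≫ x₀) ≫ a.act := ⟨_, rfl⟩
  obtain ⟨ho_fl, ho_sj⟩ : Flat o.left ∧ Surjective o.left := by
    rw [hodef]
    exact Groth.Agent.Helper2.OrbitSmoothCharZero.flat_surjective_orbit k a.act a.one_act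
      a.mul_act htrans x₀
  have ho_qc : QuasiCompact o.left := by
    haveI : QuasiCompact (o.left ≫ X.hom) := by rw [Over.w o]; infer_instance
    exact QuasiCompact.of_comp o.left X.hom
  have hT : IsPullback (pullback.fst o fY) (pullback.snd o fY) o fY := IsPullback.of_hasPullback o fY
  have hTfl : Flat (toUnit (pullback o fY)).left :=
    Groth.Agent.Lib.Helper4.ProdDim1.flat_to_field _
  have hsq2 := (Groth.Agent.Lib.Helper4.Kleiman1.isPullback_mul_whisker (G := G)
    (pullback.fst o fY)).map (Over.forget _)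
  simp only [Over.forget_obj, Over.forget_map] at hsq2
  have hfst : Flat ((G ◁ pullback.fst o fY) ≫ μ[G]).left :=
    MorphismProperty.of_isPullback hsq2.flip hTfl
  have hsq1 := (Groth.Agent.Lib.Helper4.Kleiman1.isPullback_orbit_act a.act a.one_act a.mul_act
    x₀ fY (pullback.fst o fY) (pullback.snd o fY) (hodef ▸ hT)).map (Over.forget _)
  simp only [Over.forget_obj, Over.forget_map] at hsq1
  rw [← hodef] at hsq1
  haveI := Groth.Agent.Helper3.PiFlat.flat_descendsAlong_fpqc.{u}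
  exact MorphismProperty.of_isPullback_of_descendsAlong
    (P := @Flat) (Q := @Surjective ⊓ @Flat ⊓ @QuasiCompact) hsq1 ⟨⟨ho_sj, ho_fl⟩, ho_qc⟩ hfst

end Fl

section Key
open Groth.Agent.Lib.Helper4.FibDim1 Groth.Agent.Lib.Helper4.KleimanDim1
  Groth.Agent.Lib.Helper4.Kleiman1
variable (k : Type u) [Field k] [IsAlgClosed k]

/-- dimension count for generic translates in a homogeneous space -/
theorem key_dim (G X : Over (Spec (CommRingCat.of k))) [GrpObj G] (a : AlgGrp.Action G X)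
    [IsIntegral G.left] [IsSeparated G.hom] [LocallyOfFiniteType G.hom] [QuasiCompact G.hom]
    [IsIntegral X.left] [IsSeparated X.hom] [LocallyOfFiniteType X.hom] [QuasiCompact X.hom]
    (htrans : ∀ x x' : 𝟙_ (Over (Spec (CommRingCat.of k))) ⟶ X,
      ∃ σ : 𝟙_ (Over (Spec (CommRingCat.of k))) ⟶ G, CartesianMonoidalCategory.lift σ x ≫ a.act = x')
    (Y' Z' : Over (Spec (CommRingCat.of k)))
    [IsIntegral Y'.left] [LocallyOfFiniteType Y'.hom] [QuasiCompact Y'.hom]
    [IsIntegral Z'.left] [LocallyOfFiniteType Z'.hom] [QuasiCompact Z'.hom]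
    (fY : Y' ⟶ X) (gZ : Z' ⟶ X)
    (n r s : ℕ) (hn : topologicalKrullDim ↥X.left = n) (hr : topologicalKrullDim ↥Y'.left = r)
    (hs : topologicalKrullDim ↥Z'.left = s) :
    ∃ V : G.left.Opens, Dense (V : Set ↥G.left) ∧
      ∀ σ : 𝟙_ (Over (Spec (CommRingCat.of k))) ⟶ G, Set.range σ.left.base ⊆ (V : Set ↥G.left) →
        ∀ (P' : Over (Spec (CommRingCat.of k))) [LocallyOfFiniteType P'.hom] (p₁ : P' ⟶ Y')
          (p₂ : P' ⟶ Z'), IsPullback p₁ p₂ (lift (toUnit Y' ≫ σ) fY ≫ a.act) gZ →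
          ∀ τ : P'.left, (∀ τ' : P'.left, τ' ⤳ τ → τ' = τ) → tr P'.hom τ + n = r + s := by
  classical
  haveI : Nonempty X.left := inferInstance
  obtain ⟨σ₀, hσ₀⟩ := Groth.Agent.Lib.Helper4.WordPts1.exists_section_of_lft (k := k) X.hom
  let x₀ : 𝟙_ (Over (Spec (CommRingCat.of k))) ⟶ X := Over.homMk σ₀ (by simpa using hσ₀)
  let h : G ⊗ Y' ⟶ X := (G ◁ fY) ≫ a.act
  haveI hfl : Flat h.left := flat_act_whisker k a htrans x₀ Y' fY
  let W := pullback h gZ
  let w₁ : W ⟶ G ⊗ Y' := pullback.fst h gZ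
  let w₂ : W ⟶ Z' := pullback.snd h gZ
  have hW : IsPullback w₁ w₂ h gZ := IsPullback.of_hasPullback h gZ
  have hW' := hW.map (Over.forget _)
  simp only [Over.forget_obj, Over.forget_map] at hW'
  haveI : LocallyOfFiniteType (G ⊗ Y').hom := by
    rw [← Over.w (fst G Y')]
    have : LocallyOfFiniteType (fst G Y').left := by dsimp; infer_instance
    infer_instance
  haveI : LocallyOfFiniteType h.left := by
    haveI : LocallyOfFiniteType (h.left ≫ X.hom) := by rw [Over.w h]; infer_instance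
    exact locallyOfFiniteType_of_comp h.left X.hom
  haveI : LocallyOfFiniteType w₂.left := MorphismProperty.of_isPullback hW' inferInstance
  haveI : LocallyOfFiniteType W.hom := by rw [← Over.w w₂]; infer_instance
  haveI : QuasiCompact (G ⊗ Y').hom := by
    rw [← Over.w (fst G Y')]
    have : QuasiCompact (fst G Y').left := by dsimp; infer_instance
    infer_instance
  haveI : QuasiCompact h.left := by
    haveI : QuasiCompact (h.left ≫ X.hom) := by rw [Over.w h]; infer_instance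
    exact QuasiCompact.of_comp h.left X.hom
  haveI : QuasiCompact w₂.left := MorphismProperty.of_isPullback hW' inferInstance
  haveI : QuasiCompact W.hom := by rw [← Over.w w₂]; infer_instance
  let q : W ⟶ G := w₁ ≫ fst G Y'
  haveI : QuasiCompact q.left := by
    haveI : QuasiCompact (q.left ≫ G.hom) := by rw [Over.w q]; infer_instance
    exact QuasiCompact.of_comp q.left G.hom
  haveI : LocallyOfFiniteType q.left := by
    haveI : LocallyOfFiniteType (q.left ≫ G.hom) := by rw [Over.w q]; infer_instance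
    exact locallyOfFiniteType_of_comp q.left G.hom
  obtain ⟨V, hVd, hVfl, -⟩ := Groth.Agent.Helper7.GrobFree.generic_flatness_reduced q.left
  refine ⟨V, hVd, ?_⟩
  intro σ hσV P' _ p₁ p₂ hP τ hτ
  let ισ : Y' ⟶ G ⊗ Y' := lift (toUnit Y' ≫ σ) (𝟙 Y')
  have hισ : ισ ≫ h = lift (toUnit Y' ≫ σ) fY ≫ a.act := by
    show lift _ _ ≫ (G ◁ fY) ≫ a.act = _
    rw [lift_whiskerLeft_assoc, Category.id_comp]
  obtain ⟨j, hj₂, hj₁, hjP⟩ := isPullback_fibre h gZ w₁ w₂ hW σ p₁ p₂ (hισ ▸ hP)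
  have hjP' : IsPullback P'.hom j.left σ.left q.left := hjP.map (Over.forget _)
  have hσ1 : σ.left ≫ G.hom = 𝟙 _ := Over.w σ
  obtain ⟨dG, hdG⟩ : ∃ dG : ℕ, tr G.hom (genericPoint G.left) = dG := ⟨_, rfl⟩
  have hdimG : topologicalKrullDim G.left = (dG : WithBot ℕ∞) := by
    rw [Groth.Agent.Lib.Helper4.FlatDimK1.dim_of_irreducible k G.hom, hdG]
  have hgen : ∀ {T : Scheme.{u}} [IrreducibleSpace T] (t : T), (∀ t' : T, t' ⤳ t → t' = t) →
      t = genericPoint T := by
    intro T _ t ht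
    exact (ht _ (genericPoint_specializes t)).symm
  have hGmax : ∀ t : G.left, (∀ t' : G.left, t' ⤳ t → t' = t) → tr G.hom t = dG := by
    intro t ht
    rw [hgen t ht, hdG]
  have hXmax : ∀ t : X.left, (∀ t' : X.left, t' ⤳ t → t' = t) → tr X.hom t = n := by
    intro t ht
    have h1 := Groth.Agent.Lib.Helper4.FlatDimK1.dim_of_irreducible k X.hom
    rw [hn] at h1
    rw [hgen t ht]
    exact_mod_cast h1.symm
  have hZmax : ∀ t : Z'.left, (∀ t' : Z'.left, t' ⤳ t → t' = t) → tr Z'.hom t = s := by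
    intro t ht
    have h1 := Groth.Agent.Lib.Helper4.FlatDimK1.dim_of_irreducible k Z'.hom
    rw [hs] at h1
    rw [hgen t ht]
    exact_mod_cast h1.symm
  have hAmax : ∀ t : (G ⊗ Y').left, (∀ t' : (G ⊗ Y').left, t' ⤳ t → t' = t) →
      tr (G ⊗ Y').hom t = dG + r := by
    intro t ht
    have h1 := Groth.Agent.Lib.Helper4.ProdDim1.S4662_main G.hom Y'.hom _
      (Groth.Agent.Lib.Helper4.FibDim4.closure_mem_irreducibleComponents_of_isMax _ t
        (Groth.Agent.Lib.Helper4.FlatDimK1.isMax_of_forall t ht))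
    rw [Groth.Agent.Lib.Helper4.PropDim1.dim_closure_of_field k (G ⊗ Y').hom t, hdimG, hr] at h1
    exact_mod_cast h1
  have hWall : ∀ ξ : W.left, (∀ ξ' : W.left, ξ' ⤳ ξ → ξ' = ξ) → tr W.hom ξ + n = s + (dG + r) :=
    fun ξ hξ => tr_max_pullback k (G ⊗ Y').hom X.hom Z'.hom W.hom h.left (Over.w h) gZ.left
      w₁.left w₂.left hW' (Over.w w₂) (dG + r) n s hAmax hXmax hZmax ξ hξ
  obtain ⟨ξ₀, -, hξ₀max, -⟩ :=
    Groth.Agent.Lib.Helper4.FlatDimK1.exists_max_gen_stalk_dim k W.hom (j.left τ)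
  have hc := hWall ξ₀ hξ₀max
  have hWmax : ∀ ξ : W.left, (∀ ξ' : W.left, ξ' ⤳ ξ → ξ' = ξ) → tr W.hom ξ = tr W.hom ξ₀ := by
    intro ξ hξ
    have := hWall ξ hξ
    omega
  have h1 := tr_fibre_max k W.hom G.hom P'.hom q.left (Over.w q) V σ.left hσ1 hσV j.left hjP'
    (tr W.hom ξ₀) dG hWmax hGmax τ hτ
  omega

end Key

section Main
open Groth.Agent.Lib.Helper4.FibDim1 Groth.Agent.Lib.Helper4.KleimanDim1
  Groth.Agent.Lib.Helper4.Kleiman1
variable (k : Type u) [Field k] [IsAlgClosed k]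

theorem main_S15241
    (G X : Over (Spec (CommRingCat.of k))) [GrpObj G] (a : AlgGrp.Action G X)
    [IsIntegral G.left] [IsSeparated G.hom] [LocallyOfFiniteType G.hom] [QuasiCompact G.hom]
    [IsIntegral X.left] [IsSeparated X.hom] [LocallyOfFiniteType X.hom] [QuasiCompact X.hom]
    (htrans : ∀ x x' : 𝟙_ (Over (Spec (CommRingCat.of k))) ⟶ X,
      ∃ σ : 𝟙_ (Over (Spec (CommRingCat.of k))) ⟶ G, CartesianMonoidalCategory.lift σ x ≫ a.act = x')
    (Y₁ Y₂ : Set ↥X.left) (h₁c : IsClosed Y₁) (h₁i : IsIrreducible Y₁) (h₂c : IsClosed Y₂) (h₂i : IsIrreducible Y₂)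
    (n r s : ℕ) (hn : topologicalKrullDim ↥X.left = n) (hr : topologicalKrullDim ↥Y₁ = r)
    (hs : topologicalKrullDim ↥Y₂ = s) :
    ∃ V : G.left.Opens, (V : Set ↥G.left).Nonempty ∧
      ∀ σ : 𝟙_ (Over (Spec (CommRingCat.of k))) ⟶ G, Set.range ⇑σ.left.base ⊆ (V : Set ↥G.left) →
        ⇑(CartesianMonoidalCategory.lift (CartesianMonoidalCategory.toUnit X ≫ σ) (𝟙 X) ≫ a.act).left.base '' Y₁ ∩ Y₂ = ∅ ∨
        (n ≤ r + s ∧ ∀ C ∈ irreducibleComponents
            ↥(⇑(CartesianMonoidalCategory.lift (CartesianMonoidalCategory.toUnit X ≫ σ) (𝟙 X) ≫ a.act).left.base '' Y₁ ∩ Y₂),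
          topologicalKrullDim ↥C = ((r + s - n : ℕ) : WithBot ℕ∞)) := by
  classical
  obtain ⟨Y₁s, i₁, hi₁c, hi₁int, hi₁r⟩ := exists_integral_closedImmersion Y₁ h₁c h₁i
  obtain ⟨Y₂s, i₂, hi₂c, hi₂int, hi₂r⟩ := exists_integral_closedImmersion Y₂ h₂c h₂i
  let Y' : Over (Spec (CommRingCat.of k)) := Over.mk (i₁ ≫ X.hom)
  let Z' : Over (Spec (CommRingCat.of k)) := Over.mk (i₂ ≫ X.hom)
  let fY : Y' ⟶ X := Over.homMk i₁
  let gZ : Z' ⟶ X := Over.homMk i₂
  haveI : IsIntegral Y'.left := hi₁int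
  haveI : IsIntegral Z'.left := hi₂int
  haveI : LocallyOfFiniteType Y'.hom := inferInstanceAs (LocallyOfFiniteType (i₁ ≫ X.hom))
  haveI : LocallyOfFiniteType Z'.hom := inferInstanceAs (LocallyOfFiniteType (i₂ ≫ X.hom))
  haveI : QuasiCompact Y'.hom := inferInstanceAs (QuasiCompact (i₁ ≫ X.hom))
  haveI : QuasiCompact Z'.hom := inferInstanceAs (QuasiCompact (i₂ ≫ X.hom))
  have hr' : topologicalKrullDim ↥Y'.left = r := by
    rw [← hr]
    exact (i₁.isEmbedding.toHomeomorph.trans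
      (Homeomorph.setCongr hi₁r)).isHomeomorph.topologicalKrullDim_eq
  have hs' : topologicalKrullDim ↥Z'.left = s := by
    rw [← hs]
    exact (i₂.isEmbedding.toHomeomorph.trans
      (Homeomorph.setCongr hi₂r)).isHomeomorph.topologicalKrullDim_eq
  obtain ⟨V, hVd, hV⟩ := key_dim k G X a htrans Y' Z' fY gZ n r s hn hr' hs'
  refine ⟨V, hVd.nonempty, ?_⟩
  intro σ hσV
  obtain ⟨τσ, hτσ⟩ : ∃ τσ : X ⟶ X, τσ = lift (toUnit X ≫ σ) (𝟙 X) ≫ a.act := ⟨_, rfl⟩
  rw [← hτσ]
  haveI : IsIso τσ := by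
    rw [hτσ]; exact Groth.Agent.Lib.Helper4.HomogDim1.isIso_trans a σ
  haveI : IsIso τσ.left := inferInstanceAs (IsIso ((Over.forget _).map τσ))
  let fσ' : Y' ⟶ X := lift (toUnit Y' ≫ σ) fY ≫ a.act
  have hfσ : fσ' = fY ≫ τσ := by
    rw [hτσ, ← Category.assoc, comp_lift, Category.comp_id, ← Category.assoc,
      toUnit_unique (fY ≫ toUnit X) (toUnit Y')]
  have hfσl : fσ'.left = i₁ ≫ τσ.left := by rw [hfσ]; rfl
  let P' : Over (Spec (CommRingCat.of k)) := Over.mk (pullback.fst fσ'.left i₂ ≫ i₁ ≫ X.hom)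
  let p₁ : P' ⟶ Y' := Over.homMk (pullback.fst fσ'.left i₂) rfl
  have hp₂ : pullback.snd fσ'.left i₂ ≫ Z'.hom = P'.hom := by
    show pullback.snd fσ'.left i₂ ≫ i₂ ≫ X.hom = pullback.fst fσ'.left i₂ ≫ i₁ ≫ X.hom
    rw [← Category.assoc, ← pullback.condition, Category.assoc]
    congr 1
    exact Over.w fσ'
  let p₂ : P' ⟶ Z' := Over.homMk (pullback.snd fσ'.left i₂) hp₂
  have hP : IsPullback p₁ p₂ fσ' gZ := by
    refine IsPullback.of_map (Over.forget _) ?_ (IsPullback.of_hasPullback fσ'.left i₂)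
    ext
    exact pullback.condition
  haveI : IsClosedImmersion fσ'.left := by rw [hfσl]; infer_instance
  haveI : LocallyOfFiniteType P'.hom := by
    rw [← hp₂]
    infer_instance
  have hkey := hV σ hσV P' p₁ p₂ hP
  -- the closed embedding of the fibre product into X
  let e : P'.left ⟶ X.left := pullback.snd fσ'.left i₂ ≫ i₂
  haveI : IsClosedImmersion e := inferInstance
  have hrange : Set.range e = ⇑τσ.left.base '' Y₁ ∩ Y₂ := by
    have h1 : Set.range e = i₂ '' Set.range (pullback.snd fσ'.left i₂) := by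
      rw [← Set.range_comp]; rfl
    rw [h1, Scheme.Pullback.range_snd, Set.image_preimage_eq_inter_range, hi₂r, hfσl]
    congr 1
    have h2 : Set.range (i₁ ≫ τσ.left) = τσ.left '' Set.range i₁ := by
      rw [← Set.range_comp]; rfl
    rw [h2, hi₁r]
  let Φ : ↥P'.left ≃ₜ ↥(⇑τσ.left.base '' Y₁ ∩ Y₂) :=
    e.isEmbedding.toHomeomorph.trans (Homeomorph.setCongr hrange)
  by_cases hemp : IsEmpty ↥P'.left
  · left
    rw [Set.eq_empty_iff_forall_notMem]
    intro x hx
    exact hemp.false (Φ.symm ⟨x, hx⟩)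
  · right
    rw [not_isEmpty_iff] at hemp
    obtain ⟨τ₀⟩ := hemp
    obtain ⟨τ₁, -, hτ₁max, -⟩ :=
      Groth.Agent.Lib.Helper4.FlatDimK1.exists_max_gen_stalk_dim k P'.hom τ₀
    have hk1 := hkey τ₁ hτ₁max
    refine ⟨by omega, ?_⟩
    intro C hC
    have hC' : Φ ⁻¹' C ∈ irreducibleComponents ↥P'.left := by
      refine preimage_mem_irreducibleComponents hC Φ.isOpenEmbedding ?_
      rw [Φ.surjective.range_eq, Set.inter_univ]
      exact hC.1.1
    have hdim : topologicalKrullDim ↥(Φ ⁻¹' C) = topologicalKrullDim ↥C := by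
      have h3 : Φ '' (Φ ⁻¹' C) = C := Set.image_preimage_eq _ Φ.surjective
      exact ((Φ.image _).trans (Homeomorph.setCongr h3)).isHomeomorph.topologicalKrullDim_eq
    rw [← hdim]
    obtain ⟨τ, hτmax, hτC⟩ := Groth.Agent.Lib.Helper4.FibDim4.exists_isMax_closure_eq _ _ hC'
    rw [← hτC, Groth.Agent.Lib.Helper4.PropDim1.dim_closure_of_field k P'.hom τ]
    have := hkey τ (Groth.Agent.Lib.Helper4.FlatDimK1.eq_of_isMax_of_specializes τ hτmax)
    have h3 : tr P'.hom τ = r + s - n := by omega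
    rw [h3]

end Main
end Groth.Agent.Lib.Helper4.Kleiman2
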