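import Mathlib
import Groth.Prelude.Def_LCI2
import Groth.Prelude.Def_ega3
import Groth.Prelude.Def_RegImm
import Groth.Agent.Lib.Helper4.KosComp1
import Groth.Agent.Lib.Helper4.RelRegBC1

/-!
# Composite of Koszul-regular immersions (helper4)
-/

set_option backward.isDefEq.respectTransparency.types false
set_option synthInstance.maxHeartbeats 400000
set_option autoImplicit false
set_option linter.unusedSectionVars false
set_option linter.style.haveILetI false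
set_option linter.unusedSimpArgs false
universe u v w
open CategoryTheory CategoryTheory.Limits AlgebraicGeometry TopologicalSpace IsLocalRing Opposite Topology
open RingTheory.Sequence
open Groth.Agent.Lib.Helper4.RegSpread1 Groth.Agent.Lib.Helper4.RegSpread2 Groth.Agent.Lib.Helper4.RegComp1
open Groth.Agent.Lib.Helper4.QuasiRegImm1 Groth.Agent.Lib.Helper4.RegFlatBC1 Groth.Agent.Lib.Helper4.RelRegBC1
open Groth.Agent.Lib.Helper4.KosComp1

namespace Groth.Agent.Lib.Helper4.KosComp2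

/-- restrict the data of a regular immersion at a point to a smaller affine open -/
theorem isRegularImmersionAt_restrict (k : RegImm.Kind) {X Z : Scheme.{u}} (i : Z ⟶ X) (z : Z)
    (U : X.Opens) (hU : IsAffineOpen U) (hcl : IsClosedImmersion (i ∣_ U))
    (rs : List Γ(X, U)) (hrs : k.Seq Γ(X, U) rs) (hker : RingHom.ker (i.app U).hom = Ideal.ofList rs)
    (U' : X.Opens) (hU' : IsAffineOpen U') (hle : U' ≤ U) (hzU' : i z ∈ U') :
    IsClosedImmersion (i ∣_ U') ∧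
      ∃ rs' : List Γ(X, U'), rs'.length = rs.length ∧ k.Seq Γ(X, U') rs' ∧
        RingHom.ker (i.app U').hom = Ideal.ofList rs' := by
  have hU'U : U' ≤ (𝟙 X) ⁻¹ᵁ U := hle
  haveI := hcl
  obtain ⟨hcl', hk⟩ := closedImmersion_ker_of_isPullback i (𝟙 X) i (𝟙 Z) (IsPullback.of_id_fst) U hU
    U' hU' hU'U
  have hflat : ((𝟙 X : X ⟶ X).appLE U U' hU'U).hom.Flat :=
    HasRingHomProperty.appLE @Flat (𝟙 X) inferInstance ⟨U, hU⟩ ⟨U', hU'⟩ hU'U
  have hker' : RingHom.ker (i.app U').hom =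
      Ideal.ofList (rs.map ((𝟙 X : X ⟶ X).appLE U U' hU'U).hom) := by
    rw [hk, hker, Ideal.map_ofList]
  refine ⟨hcl', _, List.length_map _, ?_, hker'⟩
  apply kind_seq_of_flat k _ _ _ hflat rs hrs
  rw [← hker']
  haveI : Nonempty ↥(i ⁻¹ᵁ U') := ⟨⟨z, hzU'⟩⟩
  exact RingHom.ker_ne_top _

theorem exists_lift_list' {A B : Type*} [CommRing A] [CommRing B] (ψ : A →+* B)
    (hψ : Function.Surjective ψ) (ts : List B) : ∃ ts' : List A, ts'.map ψ = ts ∧ ts'.length = ts.length := by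
  refine ⟨ts.map (Function.surjInv hψ), ?_, List.length_map _⟩
  rw [List.map_map]
  conv_rhs => rw [← List.map_id ts]
  apply List.map_congr_left
  intro t _
  exact Function.surjInv_eq hψ t

theorem koszul_comp_at {X Y Z : Scheme.{u}} (i : Y ⟶ X) (j : Z ⟶ Y) [IsImmersion i] (z : Z)
    (U : X.Opens) (hU : IsAffineOpen U) (hzU : i (j z) ∈ U) (hcl : IsClosedImmersion (i ∣_ U))
    (rs : List Γ(X, U)) (hrs : LCI.IsKoszulRegularSeq Γ(X, U) rs)
    (hker : RingHom.ker (i.app U).hom = Ideal.ofList rs)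
    (V : Y.Opens) (hV : IsAffineOpen V) (hzV : j z ∈ V) (hclj : IsClosedImmersion (j ∣_ V))
    (ts : List Γ(Y, V)) (hts : LCI.IsKoszulRegularSeq Γ(Y, V) ts)
    (hkerj : RingHom.ker (j.app V).hom = Ideal.ofList ts) :
    ∃ W : X.affineOpens, (j ≫ i) z ∈ W.1 ∧ IsClosedImmersion ((j ≫ i) ∣_ W.1) ∧
      ∃ l : List Γ(X, W.1), l.length = ts.length + rs.length ∧ LCI.IsKoszulRegularSeq Γ(X, W.1) l ∧
        RingHom.ker ((j ≫ i).app W.1).hom = Ideal.ofList l := by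
  -- an open of X cutting out V
  obtain ⟨W₀, hW₀⟩ : ∃ W₀ : X.Opens, i ⁻¹ᵁ W₀ = V := by
    obtain ⟨t, ht, hpre⟩ := (i.isEmbedding.isInducing.isOpen_iff).mp V.2
    exact ⟨⟨t, ht⟩, Opens.ext hpre⟩
  have hzW₀ : i (j z) ∈ W₀ := by
    have : j z ∈ i ⁻¹ᵁ W₀ := by rw [hW₀]; exact hzV
    exact this
  obtain ⟨U', hU', hzU', hU'le⟩ := Opens.isBasis_iff_nbhd.mp (X.isBasis_affineOpens)
    (show i (j z) ∈ U ⊓ W₀ from ⟨hzU, hzW₀⟩)
  obtain ⟨hcl', rs', hlen, hrs', hker'⟩ := isRegularImmersionAt_restrict .koszul i (j z) U hU hcl rs hrs hker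
    U' hU' (hU'le.trans inf_le_left) hzU'
  haveI := hcl'
  obtain ⟨hYU', hsurj⟩ := affine_surjective_of_isClosedImmersion_restrict i U' hU'
  have hYV : i ⁻¹ᵁ U' ≤ V := by
    rw [← hW₀]
    intro y hy
    exact (hU'le.trans inf_le_right) hy
  obtain ⟨hclj', ts₁, hlenj, hts₁, hkerj'⟩ := isRegularImmersionAt_restrict .koszul j z V hV hclj ts hts hkerj
    (i ⁻¹ᵁ U') hYU' hYV hzU'
  haveI := hclj'
  obtain ⟨ts', hts', hlen'⟩ := exists_lift_list' (i.app U').hom hsurj ts₁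
  have hkos := koszul_append_of_surjective (i.app U').hom hsurj rs' hrs' hker' ts' (by rw [hts']; exact hts₁)
  refine ⟨⟨U', hU'⟩, hzU', ?_, ts' ++ rs', ?_, hkos, ?_⟩
  · rw [morphismRestrict_comp]
    change IsClosedImmersion (j ∣_ i ⁻¹ᵁ U' ≫ i ∣_ U')
    infer_instance
  · rw [List.length_append, hlen', hlenj, hlen]
  · have h1 := ofList_append_comap (i.app U').hom hsurj rs' hker' ts'
    rw [Ideal.ofList_append, sup_comm, ← Ideal.ofList_append, h1, hts', ← hkerj', Scheme.Hom.comp_app]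
    ext a
    rw [RingHom.mem_ker, Ideal.mem_comap, RingHom.mem_ker]
    rfl

theorem S8654_main {X Y Z : Scheme.{u}} (i : Y ⟶ X) (j : Z ⟶ Y)
    (hi : RegImm.IsRegularImmersion .koszul i) (hj : RegImm.IsRegularImmersion .koszul j) :
    RegImm.IsRegularImmersion .koszul (j ≫ i) := by
  obtain ⟨himm, hi⟩ := hi
  obtain ⟨hjmm, hj⟩ := hj
  haveI := himm
  haveI := hjmm
  refine ⟨inferInstance, fun z => ?_⟩
  obtain ⟨U, hzU, hcl, rs, hrs, hker⟩ := hi (j z)
  obtain ⟨V, hzV, hclj, ts, hts, hkerj⟩ := hj z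
  obtain ⟨W, hzW, hclW, l, -, hl, hkerW⟩ := koszul_comp_at i j z U.1 U.2 hzU hcl rs hrs hker V.1 V.2 hzV hclj
    ts hts hkerj
  exact ⟨W, hzW, hclW, l, hl, hkerW⟩

theorem S8655_main {X Y Z : Scheme.{u}} (n m : ℕ) (i : Y ⟶ X) (j : Z ⟶ Y)
    (hi : RegImm.IsRegularImmersionOfCodim .koszul n i) (hj : RegImm.IsRegularImmersionOfCodim .koszul m j) :
    RegImm.IsRegularImmersionOfCodim .koszul (m + n) (j ≫ i) := by
  obtain ⟨himm, hi⟩ := hi
  obtain ⟨hjmm, hj⟩ := hj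
  haveI := himm
  haveI := hjmm
  refine ⟨inferInstance, fun z => ?_⟩
  obtain ⟨U, hzU, hcl, rs, hrsl, hrs, hker⟩ := hi (j z)
  obtain ⟨V, hzV, hclj, ts, htsl, hts, hkerj⟩ := hj z
  obtain ⟨W, hzW, hclW, l, hlen, hl, hkerW⟩ := koszul_comp_at i j z U.1 U.2 hzU hcl rs hrs hker V.1 V.2 hzV hclj
    ts hts hkerj
  exact ⟨W, hzW, hclW, l, by rw [hlen, hrsl, htsl], hl, hkerW⟩

end Groth.Agent.Lib.Helper4.KosComp2
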