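import Mathlib
import Groth.Prelude.Def_LCI2
import Groth.Prelude.Def_ega3
import Groth.Prelude.Def_RegImm
import Groth.Agent.Lib.Helper4.KosComp2
import Groth.Agent.Lib.Helper8.Koszul6

/-!
# Regular and Koszul-regular immersions are Koszul morphisms (helper4)
-/

set_option backward.isDefEq.respectTransparency.types false
set_option synthInstance.maxHeartbeats 400000
set_option autoImplicit false
set_option linter.unusedSectionVars false
set_option linter.style.haveILetI false
set_option linter.unusedSimpArgs false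
universe u v w
open CategoryTheory CategoryTheory.Limits AlgebraicGeometry TopologicalSpace IsLocalRing Opposite Topology
open RingTheory.Sequence
open Groth.Agent.Lib.Helper4.KosComp1 Groth.Agent.Lib.Helper4.KosComp2

namespace Groth.Agent.Lib.Helper4.KosImm1

/-- a regular immersion is a Koszul-regular immersion -/
theorem koszul_of_regular {Z X : Scheme.{u}} (i : Z ⟶ X)
    (hi : RegImm.IsRegularImmersion .regular i) : RegImm.IsRegularImmersion .koszul i := by
  obtain ⟨himm, h⟩ := hi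
  refine ⟨himm, fun z => ?_⟩
  obtain ⟨U, hzU, hcl, rs, hrs, hker⟩ := h z
  refine ⟨U, hzU, hcl, rs, ?_, hker⟩
  have hrs' : IsRegular Γ(X, U.1) rs := hrs
  exact (Groth.Agent.Helper8.KoszulLib.koszul_regular rs hrs'.toIsWeaklyRegular).1

theorem koszul_topIso {Z X : Scheme.{u}} (i : Z ⟶ X) (hi : RegImm.IsRegularImmersion .koszul i) :
    RegImm.IsRegularImmersion .koszul ((⊤ : Z.Opens).ι ≫ i) := by
  obtain ⟨himm, h⟩ := hi
  haveI := himm
  refine ⟨inferInstance, fun z => ?_⟩
  obtain ⟨U, hzU, hcl, rs, hrs, hker⟩ := h ((⊤ : Z.Opens).ι z)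
  haveI := hcl
  haveI htop : IsIso (⊤ : Z.Opens).ι := (Scheme.topIso Z).isIso_hom
  refine ⟨U, hzU, ?_, rs, hrs, ?_⟩
  · rw [morphismRestrict_comp]
    haveI : IsIso ((⊤ : Z.Opens).ι ∣_ i ⁻¹ᵁ U.1) := inferInstance
    haveI : IsClosedImmersion ((⊤ : Z.Opens).ι ∣_ i ⁻¹ᵁ U.1) := inferInstance
    change IsClosedImmersion ((⊤ : Z.Opens).ι ∣_ i ⁻¹ᵁ U.1 ≫ i ∣_ U.1)
    exact IsClosedImmersion.comp _ _
  · rw [← hker, Scheme.Hom.comp_app]
    ext a
    rw [RingHom.mem_ker, RingHom.mem_ker]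
    change ((⊤ : Z.Opens).ι.app (i ⁻¹ᵁ U.1)).hom ((i.app U.1).hom a) = 0 ↔ _
    have hinj : Function.Injective ((⊤ : Z.Opens).ι.app (i ⁻¹ᵁ U.1)).hom := by
      have : IsIso ((⊤ : Z.Opens).ι.app (i ⁻¹ᵁ U.1)) := inferInstance
      exact ((ConcreteCategory.isIso_iff_bijective _).mp this).1
    rw [← map_zero ((⊤ : Z.Opens).ι.app (i ⁻¹ᵁ U.1)).hom]
    exact hinj.eq_iff

theorem S9773_main {Z X : Scheme.{u}} (i : Z ⟶ X) (k : RegImm.Kind)
    (hk : k = RegImm.Kind.regular ∨ k = RegImm.Kind.koszul) (hi : RegImm.IsRegularImmersion k i) (z : Z) :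
    Synt.IsKoszulAt i z := by
  have hkos : RegImm.IsRegularImmersion .koszul i := by
    rcases hk with rfl | rfl
    · exact koszul_of_regular i hi
    · exact hi
  haveI := hkos.1
  refine ⟨⊤, X, (⊤ : Z.Opens).ι ≫ i, 𝟙 X, trivial, inferInstance, koszul_topIso i hkos, inferInstance, ?_⟩
  rw [Category.comp_id]

end Groth.Agent.Lib.Helper4.KosImm1
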