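import Mathlib
import Groth.Prelude.Def_CAlgX
import Groth.Agent.Lib.Helper4.QReg1

/-!
# Appending an H1-regular sequence (mod J) to a quasi-regular sequence is quasi-regular (helper4)
-/

set_option backward.isDefEq.respectTransparency.types false
set_option synthInstance.maxHeartbeats 400000
set_option autoImplicit false
set_option linter.unusedSectionVars false
set_option linter.style.haveILetI false
set_option linter.unusedSimpArgs false
universe u v w
open MvPolynomial
open Groth.Agent.Lib.Helper4.QReg1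

namespace Groth.Agent.Lib.Helper4.QReg2

section Gen

variable {A : Type u} [CommRing A] {k : ℕ} (h : Fin k → A)

theorem prod_pow_mem (d : Fin k →₀ ℕ) :
    ∏ i, h i ^ d i ∈ Ideal.span (Set.range h) ^ d.degree := by
  have : Ideal.span (Set.range h) ^ d.degree = ∏ i, Ideal.span (Set.range h) ^ d i := by
    rw [Finset.prod_pow_eq_pow_sum, Finsupp.degree_eq_sum]
  rw [this]
  apply Ideal.prod_mem_prod
  intro i _
  exact Ideal.pow_mem_pow (Ideal.subset_span (Set.mem_range_self i)) _

/-- L0 -/
theorem eval_mem_mul_pow (V : MvPolynomial (Fin k) A) (𝔟 : Ideal A) (t : ℕ)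
    (hV : ∀ d ∈ V.support, coeff d V ∈ 𝔟 ∧ t ≤ d.degree) :
    eval h V ∈ 𝔟 * Ideal.span (Set.range h) ^ t := by
  rw [eval_eq']
  apply Ideal.sum_mem
  intro d hd
  obtain ⟨h1, h2⟩ := hV d hd
  exact Ideal.mul_mem_mul h1 (Ideal.pow_le_pow_right h2 (prod_pow_mem h d))

/-- L2 -/
theorem exists_homog_of_mem : ∀ (a : ℕ) (𝔟 : Ideal A) (y : A),
    y ∈ Ideal.span (Set.range h) ^ a * 𝔟 →
    ∃ W : MvPolynomial (Fin k) A, W.IsHomogeneous a ∧ W ∈ Ideal.map C 𝔟 ∧ eval h W = y := by
  intro a
  induction a with
  | zero =>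
    intro 𝔟 y hy
    rw [pow_zero, Ideal.one_eq_top, Ideal.top_mul] at hy
    exact ⟨C y, isHomogeneous_C _ _, Ideal.mem_map_of_mem _ hy, eval_C _⟩
  | succ a ih =>
    intro 𝔟 y hy
    rw [pow_succ', mul_assoc] at hy
    refine Submodule.mul_induction_on hy ?_ ?_
    · intro b hb z hz
      obtain ⟨Wz, h1, h2, h3⟩ := ih 𝔟 z hz
      obtain ⟨cc, hcc⟩ := (Ideal.mem_span_range_iff_exists_fun).mp hb
      refine ⟨Wz * ∑ i, C (cc i) * X i, ?_, Ideal.mul_mem_right _ _ h2, ?_⟩
      · apply h1.mul
        apply IsHomogeneous.sum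
        intro i _
        exact (isHomogeneous_X A i).C_mul _
      · rw [map_mul, h3, map_sum, ← hcc, mul_comm]
        congr 1
        apply Finset.sum_congr rfl
        intro i _
        rw [map_mul, eval_C, eval_X]
    · intro x y hx hy
      obtain ⟨Q1, h1, h2, h3⟩ := hx
      obtain ⟨Q2, k1, k2, k3⟩ := hy
      exact ⟨Q1 + Q2, h1.add k1, Ideal.add_mem _ h2 k2, by rw [map_add, h3, k3]⟩

attribute [local instance] MvPolynomial.gradedAlgebra in
theorem hc_mul_deg1 (c : ℕ) (B t : MvPolynomial (Fin k) A) (ht : t.IsHomogeneous 1) :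
    homogeneousComponent (c + 1) (B * t) = homogeneousComponent c B * t := by
  have := DirectSum.coe_decompose_mul_add_of_right_mem (homogeneousSubmodule (Fin k) A)
    (a := B) (b := t) (i := c) (j := 1) ht
  rw [← decomposition.decompose'_apply, ← decomposition.decompose'_apply]
  exact this

theorem hc_map {B : Type*} [CommRing B] (φ : A →+* B) (c : ℕ) (V : MvPolynomial (Fin k) A) :
    homogeneousComponent c (map φ V) = map φ (homogeneousComponent c V) := by
  ext d
  rw [coeff_homogeneousComponent, coeff_map, coeff_map, coeff_homogeneousComponent]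
  split_ifs <;> simp

/-- L4: lifting homogeneous polynomials along a surjection -/
theorem exists_homog_lift {B : Type*} [CommRing B] (φ : A →+* B) (hφ : Function.Surjective φ)
    (c : ℕ) (U : MvPolynomial (Fin k) B) (hU : U.IsHomogeneous c) :
    ∃ V : MvPolynomial (Fin k) A, V.IsHomogeneous c ∧ map φ V = U := by
  obtain ⟨V₀, hV₀⟩ := map_surjective φ hφ U
  refine ⟨homogeneousComponent c V₀, homogeneousComponent_isHomogeneous c V₀, ?_⟩
  rw [← hc_map, hV₀, homogeneousComponent_eq_self hU]

/-- HR: homogeneous representation of elements of `Tid` -/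
theorem exists_homog_repr (c : ℕ) (ξ : MvPolynomial (Fin k) A) (hξ : ξ.IsHomogeneous (c + 1))
    (hT : ξ ∈ Tid h) :
    ∃ B : Fin k × Fin k → MvPolynomial (Fin k) A, (∀ p, (B p).IsHomogeneous c) ∧
      ξ = ∑ p, B p * (C (h p.1) * X p.2 - C (h p.2) * X p.1) := by
  rw [Tid] at hT
  obtain ⟨B, hB⟩ := (Ideal.mem_span_range_iff_exists_fun).mp hT
  refine ⟨fun p => homogeneousComponent c (B p), fun p => homogeneousComponent_isHomogeneous c _, ?_⟩
  have := congrArg (homogeneousComponent (c + 1)) hB
  rw [homogeneousComponent_eq_self hξ, map_sum] at this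
  rw [← this]
  apply Finset.sum_congr rfl
  intro p _
  rw [hc_mul_deg1]
  exact ((isHomogeneous_X A p.2).C_mul _).sub ((isHomogeneous_X A p.1).C_mul _)

end Gen

section Ideals

variable {A : Type u} [CommRing A] {n m : ℕ} (f : Fin n → A) (g : Fin m → A)

theorem eval_map_mk {B : Type*} [CommRing B] (φ : A →+* B) (V : MvPolynomial (Fin m) A) :
    eval (fun j => φ (g j)) (map φ V) = φ (eval g V) := by
  rw [eval_map, eval, coe_eval₂Hom, eval₂_comp_left φ (RingHom.id A) g V]
  rfl

theorem K1 (𝔍 𝔊 : Ideal A) (b : ℕ) : (𝔍 ⊔ 𝔊) ^ (b + 1) ≤ 𝔊 ^ (b + 1) ⊔ 𝔍 * (𝔍 ⊔ 𝔊) ^ b := by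
  induction b with
  | zero => simp [sup_comm]
  | succ b ih =>
    calc (𝔍 ⊔ 𝔊) ^ (b + 1 + 1) = (𝔍 ⊔ 𝔊) * (𝔍 ⊔ 𝔊) ^ (b + 1) := pow_succ' _ _
      _ = 𝔍 * (𝔍 ⊔ 𝔊) ^ (b + 1) ⊔ 𝔊 * (𝔍 ⊔ 𝔊) ^ (b + 1) := Ideal.sup_mul _ _ _
      _ ≤ 𝔍 * (𝔍 ⊔ 𝔊) ^ (b + 1) ⊔ 𝔊 * (𝔊 ^ (b + 1) ⊔ 𝔍 * (𝔍 ⊔ 𝔊) ^ b) :=
        sup_le_sup_left (Ideal.mul_mono_right ih) _
      _ ≤ 𝔊 ^ (b + 1 + 1) ⊔ 𝔍 * (𝔍 ⊔ 𝔊) ^ (b + 1) := by
        rw [Ideal.mul_sup]
        refine sup_le le_sup_right (sup_le ?_ ?_)
        · rw [← pow_succ']
          exact le_sup_left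
        · refine le_trans ?_ le_sup_right
          rw [← mul_assoc, mul_comm 𝔊 𝔍, mul_assoc, pow_succ' (𝔍 ⊔ 𝔊) b]
          exact Ideal.mul_mono_right (Ideal.mul_mono_left le_sup_right)

theorem I2 (hg : CAlgX.IsH1Regular (fun j => Ideal.Quotient.mk (Ideal.span (Set.range f)) (g j)))
    (c : ℕ) : Ideal.span (Set.range g) ^ c ⊓ Ideal.span (Set.range f) ≤
      Ideal.span (Set.range f) * Ideal.span (Set.range g) ^ c := by
  cases c with
  | zero => simp
  | succ c =>
    rintro u ⟨hu1, hu2⟩
    have hu1' : u ∈ Ideal.span (Set.range g) ^ (c + 1) * ⊤ := by rwa [Ideal.mul_top]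
    obtain ⟨V, hV1, _, hV3⟩ := exists_homog_of_mem g (c + 1) ⊤ u hu1'
    obtain ⟨φ, hφ⟩ : ∃ φ : A →+* A ⧸ Ideal.span (Set.range f),
        φ = Ideal.Quotient.mk (Ideal.span (Set.range f)) := ⟨_, rfl⟩
    have hVh : (map φ V).IsHomogeneous (c + 1) := hV1.map φ
    have hVe : eval (fun j => φ (g j)) (map φ V) = 0 := by
      rw [eval_map_mk, hV3, hφ]
      exact Ideal.Quotient.eq_zero_iff_mem.mpr hu2
    have hlt := linear_type (fun j => φ (g j)) (by rw [hφ]; exact hg) (c + 1) _ hVh hVe
    obtain ⟨Bb, hBb1, hBb2⟩ := exists_homog_repr (fun j => φ (g j)) c _ hVh hlt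
    have hlift : ∀ p, ∃ B : MvPolynomial (Fin m) A, B.IsHomogeneous c ∧ map φ B = Bb p :=
      fun p => exists_homog_lift φ (by rw [hφ]; exact Ideal.Quotient.mk_surjective) c _ (hBb1 p)
    choose B hB1 hB2 using hlift
    obtain ⟨V', hV'⟩ : ∃ V', V' = V - ∑ p, B p * (C (g p.1) * X p.2 - C (g p.2) * X p.1) :=
      ⟨_, rfl⟩
    have h1 : map φ V' = 0 := by
      rw [hV', map_sub, hBb2, map_sum]
      simp only [map_mul, map_sub, map_C, map_X, hB2, sub_self]
    have h2 : ∀ d, coeff d V' ∈ Ideal.span (Set.range f) := by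
      intro d
      have := congrArg (coeff d) h1
      rw [coeff_map, coeff_zero, hφ] at this
      exact Ideal.Quotient.eq_zero_iff_mem.mp this
    have h3 : V'.IsHomogeneous (c + 1) := by
      rw [hV']
      apply hV1.sub
      apply IsHomogeneous.sum
      intro p _
      exact (hB1 p).mul (((isHomogeneous_X A p.2).C_mul _).sub ((isHomogeneous_X A p.1).C_mul _))
    have h4 : eval g V' = u := by
      rw [hV', map_sub, hV3, map_sum]
      simp only [map_mul, map_sub, eval_C, eval_X]
      have : ∀ p : Fin m × Fin m, (eval g) (B p) * (g p.1 * g p.2 - g p.2 * g p.1) = 0 := by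
        intro p; ring
      simp only [this, Finset.sum_const_zero, sub_zero]
    rw [← h4]
    apply eval_mem_mul_pow
    intro d hd
    refine ⟨h2 d, ?_⟩
    have : d.degree = c + 1 := by
      by_contra hne
      exact (mem_support_iff.mp hd) (h3.coeff_eq_zero hne)
    omega

theorem Kstar (hf : CAlgX.IsQuasiRegular f)
    (hg : CAlgX.IsH1Regular (fun j => Ideal.Quotient.mk (Ideal.span (Set.range f)) (g j)))
    (a c : ℕ) : Ideal.span (Set.range f) ^ a * Ideal.span (Set.range g) ^ c ⊓
      Ideal.span (Set.range f) ^ (a + 1) ≤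
      Ideal.span (Set.range f) ^ (a + 1) * Ideal.span (Set.range g) ^ c := by
  rintro x ⟨hx1, hx2⟩
  obtain ⟨W, hW1, hW2, hW3⟩ := exists_homog_of_mem f a _ x hx1
  rw [mem_map_C_iff] at hW2
  have h1 : ∀ d, coeff d W ∈ Ideal.span (Set.range f) := hf a W hW1 (by rw [hW3]; exact hx2)
  have h2 : eval f W ∈ (Ideal.span (Set.range f) * Ideal.span (Set.range g) ^ c) *
      Ideal.span (Set.range f) ^ a := by
    apply eval_mem_mul_pow
    intro d hd
    refine ⟨I2 f g hg c ⟨hW2 d, h1 d⟩, ?_⟩
    have : d.degree = a := by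
      by_contra hne
      exact (mem_support_iff.mp hd) (hW1.coeff_eq_zero hne)
    omega
  rw [hW3] at h2
  have e : (Ideal.span (Set.range f) * Ideal.span (Set.range g) ^ c) *
      Ideal.span (Set.range f) ^ a =
      Ideal.span (Set.range f) ^ (a + 1) * Ideal.span (Set.range g) ^ c := by
    rw [pow_succ]
    ring
  rw [← e]
  exact h2

end Ideals

section Iter

variable {A : Type u} [CommRing A] {n m : ℕ} (f : Fin n → A) (g : Fin m → A)

/-- evaluation of an iterated polynomial -/
noncomputable def ev (P : MvPolynomial (Fin n) (MvPolynomial (Fin m) A)) : A :=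
  eval f (map (eval g) P)

theorem ev_sub (P Q : MvPolynomial (Fin n) (MvPolynomial (Fin m) A)) :
    ev f g (P - Q) = ev f g P - ev f g Q := by
  simp [ev]

/-- total degree `N` in both groups of variables -/
def TD (N : ℕ) (P : MvPolynomial (Fin n) (MvPolynomial (Fin m) A)) : Prop :=
  ∀ α β, coeff β (coeff α P) ≠ 0 → α.degree + β.degree = N

theorem iter_main (hf : CAlgX.IsQuasiRegular f)
    (hg : CAlgX.IsH1Regular (fun j => Ideal.Quotient.mk (Ideal.span (Set.range f)) (g j)))
    (N : ℕ) : ∀ (k a : ℕ), a + k = N + 1 →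
      ∀ P : MvPolynomial (Fin n) (MvPolynomial (Fin m) A), TD N P →
        (∀ α, α.degree < a → coeff α P = 0) →
        ev f g P ∈ Ideal.span (Set.range f) ^ a *
          (Ideal.span (Set.range f) ⊔ Ideal.span (Set.range g)) ^ k →
        ∀ α β, coeff β (coeff α P) ∈ Ideal.span (Set.range f) ⊔ Ideal.span (Set.range g) := by
  intro k
  induction k with
  | zero =>
    intro a ha P hTD hlow _ α β
    by_cases h0 : coeff β (coeff α P) = 0
    · rw [h0]; exact Ideal.zero_mem _
    · have h1 := hTD α β h0
      have h2 : coeff α P = 0 := hlow α (by omega)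
      rw [h2, coeff_zero] at h0
      exact absurd rfl h0
  | succ k ih =>
    intro a ha P hTD hlow hev
    have hak : a + k = N := by omega
    obtain ⟨P', hP'⟩ : ∃ P', P' = homogeneousComponent a P := ⟨_, rfl⟩
    obtain ⟨P'', hP''⟩ : ∃ P'', P'' = P - P' := ⟨_, rfl⟩
    have cP' : ∀ α, coeff α P' = if α.degree = a then coeff α P else 0 := by
      intro α; rw [hP', coeff_homogeneousComponent]
    have cP'' : ∀ α, coeff α P'' = if α.degree = a then 0 else coeff α P := by
      intro α
      rw [hP'', coeff_sub, cP']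
      split_ifs <;> simp
    -- (s1)
    have s1 : ev f g P'' ∈ Ideal.span (Set.range f) ^ (a + 1) := by
      have := eval_mem_mul_pow f (map (eval g) P'') ⊤ (a + 1) (by
        intro d hd
        refine ⟨Submodule.mem_top, ?_⟩
        rw [mem_support_iff, coeff_map, cP''] at hd
        by_cases hda : d.degree = a
        · rw [if_pos hda, map_zero] at hd; exact absurd rfl hd
        · rw [if_neg hda] at hd
          have : ¬ d.degree < a := by
            intro hlt
            rw [hlow d hlt, map_zero] at hd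
            exact hd rfl
          omega)
      rwa [Ideal.top_mul] at this
    -- (s2)
    have s2 : ev f g P ∈ Ideal.span (Set.range f) ^ a * Ideal.span (Set.range g) ^ (k + 1) ⊔
        Ideal.span (Set.range f) ^ (a + 1) *
          (Ideal.span (Set.range f) ⊔ Ideal.span (Set.range g)) ^ k := by
      have h1 := Ideal.mul_mono_right (I := Ideal.span (Set.range f) ^ a)
        (K1 (Ideal.span (Set.range f)) (Ideal.span (Set.range g)) k)
      have h2 := h1 hev
      rw [Ideal.mul_sup, ← mul_assoc, ← pow_succ] at h2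
      exact h2
    obtain ⟨u, hu, v, hv, huv⟩ := Submodule.mem_sup.mp s2
    -- (s3)
    obtain ⟨W, hW1, hW2, hW3⟩ := exists_homog_of_mem f a _ u hu
    rw [mem_map_C_iff] at hW2
    -- (s4), (s5), (s6)
    have hQ'h : (map (eval g) P').IsHomogeneous a := by
      rw [hP']
      exact (homogeneousComponent_isHomogeneous a P).map _
    have s4 : eval f (map (eval g) P' - W) ∈ Ideal.span (Set.range f) ^ (a + 1) := by
      have e : eval f (map (eval g) P' - W) = v - ev f g P'' := by
        rw [map_sub, hW3, hP'', ev_sub, ← huv]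
        simp only [ev]
        ring
      rw [e]
      exact Ideal.sub_mem _ (Ideal.mul_le_left hv) s1
    have s6 : ∀ α, coeff α (map (eval g) P' - W) ∈ Ideal.span (Set.range f) :=
      hf a _ (hQ'h.sub hW1) s4
    -- (s7)
    obtain ⟨φ, hφ⟩ : ∃ φ : A →+* A ⧸ Ideal.span (Set.range f),
        φ = Ideal.Quotient.mk (Ideal.span (Set.range f)) := ⟨_, rfl⟩
    have hgq : CAlgX.IsQuasiRegular (fun j => φ (g j)) := by
      rw [hφ]; exact S2103_main _ hg
    have hmapG : Ideal.span (Set.range (fun j => φ (g j))) = Ideal.map φ (Ideal.span (Set.range g)) := by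
      rw [Ideal.map_span, ← Set.range_comp]
      rfl
    have s7 : ∀ α, α.degree = a → ∀ β, coeff β (coeff α P) ∈
        Ideal.span (Set.range f) ⊔ Ideal.span (Set.range g) := by
      intro α hα β
      have hPα : (coeff α P).IsHomogeneous k := by
        intro β' hβ'
        have h0 := hTD α β' hβ'
        have h1 : β'.degree = k := by omega
        rw [Finsupp.degree_eq_weight_one] at h1
        exact h1
      have h1 : eval g (coeff α P) ∈ Ideal.span (Set.range f) ⊔ Ideal.span (Set.range g) ^ (k + 1) := by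
        have h6 := s6 α
        rw [coeff_sub, coeff_map, cP', if_pos hα] at h6
        have : eval g (coeff α P) = (eval g (coeff α P) - coeff α W) + coeff α W := by ring
        rw [this]
        exact Ideal.add_mem _ (Ideal.mem_sup_left h6) (Ideal.mem_sup_right (hW2 α))
      have h2 : eval (fun j => φ (g j)) (map φ (coeff α P)) ∈
          Ideal.span (Set.range (fun j => φ (g j))) ^ (k + 1) := by
        rw [eval_map_mk, hmapG, ← Ideal.map_pow]
        obtain ⟨x, hx, y, hy, hxy⟩ := Submodule.mem_sup.mp h1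
        rw [← hxy, map_add]
        have : φ x = 0 := by rw [hφ]; exact Ideal.Quotient.eq_zero_iff_mem.mpr hx
        rw [this, zero_add]
        exact Ideal.mem_map_of_mem _ hy
      have h3 := hgq k _ (hPα.map φ) h2 β
      rw [coeff_map, hmapG, hφ] at h3
      have h4 := Ideal.mem_comap.mpr h3
      rw [Ideal.comap_map_of_surjective _ Ideal.Quotient.mk_surjective, ← RingHom.ker_eq_comap_bot,
        Ideal.mk_ker, sup_comm] at h4
      exact h4
    -- (s9)
    have s9 : ev f g P' ∈ ((Ideal.span (Set.range f) ⊔ Ideal.span (Set.range g)) *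
        Ideal.span (Set.range g) ^ k) * Ideal.span (Set.range f) ^ a := by
      apply eval_mem_mul_pow
      intro d hd
      have hda : d.degree = a := by
        by_contra hne
        exact (mem_support_iff.mp hd) (hQ'h.coeff_eq_zero hne)
      refine ⟨?_, by omega⟩
      rw [coeff_map, cP', if_pos hda]
      apply eval_mem_mul_pow
      intro e he
      refine ⟨s7 d hda e, ?_⟩
      have := hTD d e (mem_support_iff.mp he)
      omega
    -- (s10)
    have s10 : ev f g P' ∈ Ideal.span (Set.range f) ^ a * Ideal.span (Set.range g) ^ (k + 1) ⊔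
        Ideal.span (Set.range f) ^ (a + 1) *
          (Ideal.span (Set.range f) ⊔ Ideal.span (Set.range g)) ^ k := by
      have hle : ((Ideal.span (Set.range f) ⊔ Ideal.span (Set.range g)) *
          Ideal.span (Set.range g) ^ k) * Ideal.span (Set.range f) ^ a ≤
          Ideal.span (Set.range f) ^ a * Ideal.span (Set.range g) ^ (k + 1) ⊔
          Ideal.span (Set.range f) ^ (a + 1) *
            (Ideal.span (Set.range f) ⊔ Ideal.span (Set.range g)) ^ k := by
        rw [Ideal.sup_mul, Ideal.sup_mul, sup_comm]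
        apply sup_le_sup
        · apply le_of_eq
          rw [pow_succ]
          ring
        · have : Ideal.span (Set.range f) * Ideal.span (Set.range g) ^ k *
              Ideal.span (Set.range f) ^ a =
              Ideal.span (Set.range f) ^ (a + 1) * Ideal.span (Set.range g) ^ k := by
            rw [pow_succ]; ring
          rw [this]
          exact Ideal.mul_mono_right (Ideal.pow_right_mono le_sup_right k)
      exact hle s9
    obtain ⟨u', hu', v', hv', huv'⟩ := Submodule.mem_sup.mp s10
    -- (s11)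
    have s11 : ev f g P'' ∈ Ideal.span (Set.range f) ^ (a + 1) *
        (Ideal.span (Set.range f) ⊔ Ideal.span (Set.range g)) ^ k := by
      have e : ev f g P'' = (u - u') + (v - v') := by
        rw [hP'', ev_sub, ← huv, ← huv']; ring
      have h1 : u - u' ∈ Ideal.span (Set.range f) ^ (a + 1) := by
        have : u - u' = ev f g P'' - (v - v') := by rw [e]; ring
        rw [this]
        exact Ideal.sub_mem _ s1 (Ideal.sub_mem _ (Ideal.mul_le_left hv) (Ideal.mul_le_left hv'))
      have h2 := Kstar f g hf hg a (k + 1) ⟨Ideal.sub_mem _ hu hu', h1⟩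
      have h3 : Ideal.span (Set.range f) ^ (a + 1) * Ideal.span (Set.range g) ^ (k + 1) ≤
          Ideal.span (Set.range f) ^ (a + 1) *
            (Ideal.span (Set.range f) ⊔ Ideal.span (Set.range g)) ^ k :=
        Ideal.mul_mono_right ((Ideal.pow_le_pow_right (Nat.le_succ k)).trans
          (Ideal.pow_right_mono le_sup_right k))
      rw [e]
      exact Ideal.add_mem _ (h3 h2) (Ideal.sub_mem _ hv hv')
    -- (s12)
    have s12 := ih (a + 1) (by omega) P'' (by
        intro α β hne
        rw [cP''] at hne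
        by_cases hα : α.degree = a
        · rw [if_pos hα, coeff_zero] at hne; exact absurd rfl hne
        · rw [if_neg hα] at hne; exact hTD α β hne) (by
        intro α hα
        rw [cP'']
        by_cases hα' : α.degree = a
        · rw [if_pos hα']
        · rw [if_neg hα']; exact hlow α (by omega)) s11
    -- (s13)
    intro α β
    by_cases hα : α.degree = a
    · exact s7 α hα β
    · have := s12 α β
      rwa [cP'', if_neg hα] at this

end Iter

section Transfer

variable {A : Type u} [CommRing A] {n m : ℕ} (f : Fin n → A) (g : Fin m → A)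

/-- concatenation of exponent vectors -/
noncomputable def cat (α : Fin n →₀ ℕ) (β : Fin m →₀ ℕ) : Fin (n + m) →₀ ℕ :=
  Finsupp.equivFunOnFinite.symm (Fin.append α β)

@[simp] theorem cat_left (α : Fin n →₀ ℕ) (β : Fin m →₀ ℕ) (i : Fin n) :
    cat α β (Fin.castAdd m i) = α i := by
  simp [cat]

@[simp] theorem cat_right (α : Fin n →₀ ℕ) (β : Fin m →₀ ℕ) (j : Fin m) :
    cat α β (Fin.natAdd n j) = β j := by
  simp [cat]

theorem cat_eq_zero_iff (α : Fin n →₀ ℕ) (β : Fin m →₀ ℕ) : (0 = cat α β) ↔ (0 = α ∧ 0 = β) := by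
  constructor
  · intro h
    constructor
    · ext i
      have := DFunLike.congr_fun h (Fin.castAdd m i)
      simpa using this
    · ext j
      have := DFunLike.congr_fun h (Fin.natAdd n j)
      simpa using this
  · rintro ⟨rfl, rfl⟩
    ext k
    refine Fin.addCases (fun i => ?_) (fun j => ?_) k <;> simp

theorem cat_sub_left (α : Fin n →₀ ℕ) (β : Fin m →₀ ℕ) (i : Fin n) :
    cat α β - Finsupp.single (Fin.castAdd m i) 1 = cat (α - Finsupp.single i 1) β := by
  ext k
  refine Fin.addCases (fun i' => ?_) (fun j => ?_) k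
  · simp only [Finsupp.coe_tsub, Pi.sub_apply, cat_left, Finsupp.single_apply]
    by_cases h : i = i'
    · subst h; simp
    · have : ¬ Fin.castAdd m i = Fin.castAdd m i' := fun h' => h (Fin.castAdd_injective _ _ h')
      simp [h, this]
  · simp only [Finsupp.coe_tsub, Pi.sub_apply, cat_right, Finsupp.single_apply]
    have : ¬ Fin.castAdd m i = Fin.natAdd n j := by
      intro h'
      have := congrArg Fin.val h'
      simp at this
      omega
    simp [this]

theorem cat_sub_right (α : Fin n →₀ ℕ) (β : Fin m →₀ ℕ) (j : Fin m) :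
    cat α β - Finsupp.single (Fin.natAdd n j) 1 = cat α (β - Finsupp.single j 1) := by
  ext k
  refine Fin.addCases (fun i => ?_) (fun j' => ?_) k
  · simp only [Finsupp.coe_tsub, Pi.sub_apply, cat_left, Finsupp.single_apply]
    have : ¬ Fin.natAdd n j = Fin.castAdd m i := by
      intro h'
      have := congrArg Fin.val h'
      simp at this
      omega
    simp [this]
  · simp only [Finsupp.coe_tsub, Pi.sub_apply, cat_right, Finsupp.single_apply]
    by_cases h : j = j'
    · subst h; simp
    · have : ¬ Fin.natAdd n j = Fin.natAdd n j' := fun h' => h (Fin.natAdd_injective _ _ h')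
      simp [h, this]

theorem cat_degree (α : Fin n →₀ ℕ) (β : Fin m →₀ ℕ) :
    (cat α β).degree = α.degree + β.degree := by
  rw [Finsupp.degree_eq_sum, Finsupp.degree_eq_sum, Finsupp.degree_eq_sum, Fin.sum_univ_add]
  simp

theorem exists_cat (d : Fin (n + m) →₀ ℕ) : ∃ α β, d = cat (n := n) (m := m) α β := by
  refine ⟨Finsupp.equivFunOnFinite.symm (fun i => d (Fin.castAdd m i)),
    Finsupp.equivFunOnFinite.symm (fun j => d (Fin.natAdd n j)), ?_⟩
  ext k
  refine Fin.addCases (fun i => ?_) (fun j => ?_) k <;> simp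

/-- the splitting map -/
noncomputable def Theta : MvPolynomial (Fin (n + m)) A →ₐ[A]
    MvPolynomial (Fin n) (MvPolynomial (Fin m) A) :=
  aeval (Fin.append (fun i => (X i : MvPolynomial (Fin n) (MvPolynomial (Fin m) A)))
    (fun j => C (X j)))

theorem Theta_C (a : A) : Theta (n := n) (m := m) (C a) = C (C a) := by
  simp [Theta]

theorem Theta_X_left (i : Fin n) : Theta (A := A) (n := n) (m := m) (X (Fin.castAdd m i)) = X i := by
  simp [Theta]

theorem Theta_X_right (j : Fin m) :
    Theta (A := A) (n := n) (m := m) (X (Fin.natAdd n j)) = C (X j) := by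
  simp [Theta]

theorem coeff_Theta (P : MvPolynomial (Fin (n + m)) A) :
    ∀ (α : Fin n →₀ ℕ) (β : Fin m →₀ ℕ), coeff β (coeff α (Theta P)) = coeff (cat α β) P := by
  classical
  induction P using MvPolynomial.induction_on with
  | C a =>
    intro α β
    rw [Theta_C, coeff_C, coeff_C]
    by_cases h1 : 0 = α
    · rw [if_pos h1, coeff_C]
      by_cases h2 : 0 = β
      · rw [if_pos h2, if_pos ((cat_eq_zero_iff α β).mpr ⟨h1, h2⟩)]
      · rw [if_neg h2, if_neg (fun h => h2 ((cat_eq_zero_iff α β).mp h).2)]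
    · rw [if_neg h1, coeff_zero, if_neg (fun h => h1 ((cat_eq_zero_iff α β).mp h).1)]
  | add p q hp hq =>
    intro α β
    rw [map_add, coeff_add, coeff_add, coeff_add, hp, hq]
  | mul_X p k hp =>
    intro α β
    rw [map_mul]
    refine Fin.addCases (fun i => ?_) (fun j => ?_) k
    · rw [Theta_X_left, coeff_mul_X', coeff_mul_X']
      have hs : Fin.castAdd m i ∈ (cat α β).support ↔ i ∈ α.support := by
        simp [Finsupp.mem_support_iff]
      by_cases hi : i ∈ α.support
      · rw [if_pos hi, if_pos (hs.mpr hi), hp, cat_sub_left]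
      · rw [if_neg hi, if_neg (fun h => hi (hs.mp h)), coeff_zero]
    · rw [Theta_X_right, mul_comm (Theta p), coeff_C_mul, coeff_X_mul', coeff_mul_X']
      have hs : Fin.natAdd n j ∈ (cat α β).support ↔ j ∈ β.support := by
        simp [Finsupp.mem_support_iff]
      by_cases hj : j ∈ β.support
      · rw [if_pos hj, if_pos (hs.mpr hj), hp, cat_sub_right]
      · rw [if_neg hj, if_neg (fun h => hj (hs.mp h))]

theorem ev_Theta (P : MvPolynomial (Fin (n + m)) A) :
    ev f g (Theta P) = eval (Fin.append f g) P := by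
  induction P using MvPolynomial.induction_on with
  | C a => simp [ev, Theta_C]
  | add p q hp hq =>
    simp only [ev, map_add] at hp hq ⊢
    rw [hp, hq]
  | mul_X p k hp =>
    simp only [ev, map_mul] at hp ⊢
    rw [hp]
    congr 1
    refine Fin.addCases (fun i => ?_) (fun j => ?_) k
    · rw [Theta_X_left]; simp
    · rw [Theta_X_right]; simp

theorem range_append : Set.range (Fin.append f g) = Set.range f ∪ Set.range g := by
  ext x
  constructor
  · rintro ⟨k, rfl⟩
    refine Fin.addCases (fun i => ?_) (fun j => ?_) k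
    · left; exact ⟨i, by simp⟩
    · right; exact ⟨j, by simp⟩
  · rintro (⟨i, rfl⟩ | ⟨j, rfl⟩)
    · exact ⟨Fin.castAdd m i, by simp⟩
    · exact ⟨Fin.natAdd n j, by simp⟩

theorem S2104_main (hf : CAlgX.IsQuasiRegular f)
    (hg : CAlgX.IsH1Regular (fun j => Ideal.Quotient.mk (Ideal.span (Set.range f)) (g j))) :
    CAlgX.IsQuasiRegular (Fin.append f g) := by
  intro N P hP hev d
  have hK : Ideal.span (Set.range (Fin.append f g)) =
      Ideal.span (Set.range f) ⊔ Ideal.span (Set.range g) := by
    rw [range_append, Ideal.span_union]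
  rw [hK] at hev ⊢
  have hTD : TD N (Theta (n := n) (m := m) P) := by
    intro α β hne
    rw [coeff_Theta] at hne
    have h1 := hP hne
    rw [← cat_degree, Finsupp.degree_eq_weight_one]
    exact h1
  have key := iter_main f g hf hg N (N + 1) 0 (by omega) (Theta P) hTD
    (fun α h => absurd h (Nat.not_lt_zero _)) (by
      rw [pow_zero, one_mul, ev_Theta]
      exact hev)
  obtain ⟨α, β, rfl⟩ := exists_cat (n := n) (m := m) d
  rw [← coeff_Theta]
  exact key α β

end Transfer

end Groth.Agent.Lib.Helper4.QReg2
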