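import Mathlib
import Groth.Prelude.Def_CAlgX
import Groth.Agent.Lib.Helper4.QReg2

/-!
# Freeness of J^n/J^{n+1} over A/J for a quasi-regular sequence (helper4)
-/

set_option backward.isDefEq.respectTransparency.types false
set_option synthInstance.maxHeartbeats 400000
set_option autoImplicit false
set_option linter.unusedSectionVars false
set_option linter.style.haveILetI false
set_option linter.unusedSimpArgs false
universe u v w
open MvPolynomial

namespace Groth.Agent.Lib.Helper4.QReg3
open Groth.Agent.Lib.Helper4.QReg2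

variable {A : Type u} [CommRing A] {c : ℕ} (f : Fin c → A)

/-- exponents of degree `n` -/
abbrev Idx (c n : ℕ) : Type := {d : Fin c →₀ ℕ // d.degree = n}

instance (c n : ℕ) : Finite (Idx c n) := by
  have h : {d : Fin c →₀ ℕ | d.degree ≤ n}.Finite := Finsupp.finite_of_degree_le n
  exact Set.Finite.subset h (fun d (hd : d.degree = n) => le_of_eq hd) |>.to_subtype

noncomputable instance (c n : ℕ) : Fintype (Idx c n) := Fintype.ofFinite _

/-- the monomial `f^d` as an element of `J^n` -/
noncomputable def mon (n : ℕ) (d : Idx c n) : ↥(Ideal.span (Set.range f) ^ n) :=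
  ⟨∏ i, f i ^ d.1 i, by
    have := prod_pow_mem f d.1
    rwa [d.2] at this⟩

/-- the polynomial with prescribed coefficients in degree `n` -/
noncomputable def pol (n : ℕ) (a : Idx c n → A) : MvPolynomial (Fin c) A :=
  ∑ d : Idx c n, monomial d.1 (a d)

theorem pol_isHomogeneous (n : ℕ) (a : Idx c n → A) : (pol n a).IsHomogeneous n := by
  apply IsHomogeneous.sum
  intro d _
  apply isHomogeneous_monomial
  exact d.2

theorem coeff_pol (n : ℕ) (a : Idx c n → A) (d : Idx c n) : coeff d.1 (pol n a) = a d := by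
  classical
  rw [pol, coeff_sum]
  rw [Finset.sum_eq_single d]
  · rw [coeff_monomial, if_pos rfl]
  · intro b _ hb
    rw [coeff_monomial, if_neg]
    intro h
    exact hb (Subtype.ext h)
  · intro h
    exact absurd (Finset.mem_univ d) h

theorem coeff_pol_of_ne (n : ℕ) (a : Idx c n → A) (d : Fin c →₀ ℕ) (hd : d.degree ≠ n) :
    coeff d (pol n a) = 0 :=
  (pol_isHomogeneous n a).coeff_eq_zero hd

theorem eval_pol (n : ℕ) (a : Idx c n → A) :
    eval f (pol n a) = ∑ d : Idx c n, a d * ∏ i, f i ^ d.1 i := by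
  rw [pol, map_sum]
  refine Finset.sum_congr rfl (fun d _ => ?_)
  rw [eval_monomial]
  congr 1
  rw [Finsupp.prod_fintype]
  intro i
  exact pow_zero _

theorem pol_coeff (n : ℕ) (W : MvPolynomial (Fin c) A) (hW : W.IsHomogeneous n) :
    pol n (fun d => coeff d.1 W) = W := by
  ext d
  by_cases hd : d.degree = n
  · exact coeff_pol n _ ⟨d, hd⟩
  · rw [coeff_pol_of_ne n _ d hd]
    exact (hW.coeff_eq_zero hd).symm

/-- the map `A^ι → J^n / J^{n+1}` -/
noncomputable def phi (n : ℕ) : (Idx c n → A) →ₗ[A]
    (↥(Ideal.span (Set.range f) ^ n) ⧸ Submodule.comap (Ideal.span (Set.range f) ^ n).subtype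
      (Ideal.span (Set.range f) ^ (n + 1))) :=
  (Submodule.mkQ _).comp (Fintype.linearCombination A (mon f n))

theorem coe_linearCombination (n : ℕ) (a : Idx c n → A) :
    ((Fintype.linearCombination A (mon f n) a : ↥(Ideal.span (Set.range f) ^ n)) : A) =
      eval f (pol n a) := by
  rw [Fintype.linearCombination_apply, eval_pol, Submodule.coe_sum]
  rfl

theorem phi_eq_zero_iff (n : ℕ) (a : Idx c n → A) :
    phi f n a = 0 ↔ eval f (pol n a) ∈ Ideal.span (Set.range f) ^ (n + 1) := by
  rw [phi, LinearMap.comp_apply, Submodule.mkQ_apply, Submodule.Quotient.mk_eq_zero,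
    Submodule.mem_comap, Submodule.subtype_apply, coe_linearCombination]

theorem phi_surjective (n : ℕ) : Function.Surjective (phi f n) := by
  intro y
  obtain ⟨⟨y, hy⟩, rfl⟩ := Submodule.Quotient.mk_surjective _ y
  have hy' : y ∈ Ideal.span (Set.range f) ^ n * ⊤ := by rwa [Ideal.mul_top]
  obtain ⟨W, hW, -, hev⟩ := exists_homog_of_mem f n ⊤ y hy'
  refine ⟨fun d => coeff d.1 W, ?_⟩
  rw [phi, LinearMap.comp_apply, Submodule.mkQ_apply]
  congr 1
  apply Subtype.ext
  rw [coe_linearCombination, pol_coeff n W hW, hev]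

theorem phi_ker (hq : CAlgX.IsQuasiRegular f) (n : ℕ) :
    LinearMap.ker (phi f n) =
      LinearMap.ker ((Submodule.mkQ (Ideal.span (Set.range f))).compLeft (Idx c n)) := by
  ext a
  rw [LinearMap.mem_ker, LinearMap.mem_ker, phi_eq_zero_iff]
  constructor
  · intro h
    funext d
    have := hq n (pol n a) (pol_isHomogeneous n a) h d.1
    rw [coeff_pol] at this
    show Submodule.Quotient.mk (a d) = 0
    rwa [Submodule.Quotient.mk_eq_zero]
  · intro h
    rw [eval_pol, pow_succ']
    refine Ideal.sum_mem _ (fun d _ => Ideal.mul_mem_mul ?_ (mon f n d).2)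
    have := congrFun h d
    change Submodule.Quotient.mk (a d) = 0 at this
    rwa [Submodule.Quotient.mk_eq_zero] at this

/-- **freeness of the graded pieces** for a quasi-regular sequence -/
theorem nonempty_quot_equiv (hq : CAlgX.IsQuasiRegular f) (n : ℕ) :
    Nonempty ((↥(Ideal.span (Set.range f) ^ n) ⧸ Submodule.comap (Ideal.span (Set.range f) ^ n).subtype
      (Ideal.span (Set.range f) ^ (n + 1))) ≃ₗ[A] (Idx c n → A ⧸ Ideal.span (Set.range f))) := by
  have hs : Function.Surjective ((Submodule.mkQ (Ideal.span (Set.range f))).compLeft (Idx c n)) := by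
    intro y
    refine ⟨fun d => (Submodule.Quotient.mk_surjective _ (y d)).choose, ?_⟩
    funext d
    exact (Submodule.Quotient.mk_surjective _ (y d)).choose_spec
  exact ⟨(LinearMap.quotKerEquivOfSurjective _ (phi_surjective f n)).symm ≪≫ₗ
    Submodule.quotEquivOfEq _ _ (phi_ker f hq n) ≪≫ₗ LinearMap.quotKerEquivOfSurjective _ hs⟩

end Groth.Agent.Lib.Helper4.QReg3
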