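import Mathlib
import Groth.Prelude.Def_EtMil
import Groth.Agent.Lib.Helper1.TorL
import Groth.Agent.Lib.Helper1.TorBalNat
import Groth.Agent.Lib.Helper1.TorLES2

/-!
# Milnor squares: injectivity of the glueing unit vs surjectivity on Tor_1 (S14958); additivity of Tor in the second variable (helper4)
-/

set_option backward.isDefEq.respectTransparency.types false
set_option synthInstance.maxHeartbeats 400000
set_option autoImplicit false
set_option linter.unusedSectionVars false
set_option linter.style.haveILetI false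
set_option linter.unusedSimpArgs false
universe u v w
open CategoryTheory CategoryTheory.Limits TensorProduct MonoidalCategory
open Groth.Agent.Helper1.TorL Groth.Agent.Helper1.TorBalNat

namespace Groth.Agent.Lib.Helper4.TorMilnor1

section
variable (B' B A' A : Type u) [CommRing B'] [CommRing B] [CommRing A'] [CommRing A]
    [Algebra B' B] [Algebra B' A'] [Algebra B A] [Algebra A' A] [Algebra B' A]
    [IsScalarTower B' B A] [IsScalarTower B' A' A]

/-- the map `B' → B × A'`, `b' ↦ (b', -b')` -/
noncomputable def fLin : B' →ₗ[B'] (B × A') :=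
  LinearMap.prod (Algebra.linearMap B' B) (-(Algebra.linearMap B' A'))

/-- the map `B × A' → A`, `(b, a') ↦ b + a'` -/
noncomputable def gLin : (B × A') →ₗ[B'] A :=
  LinearMap.coprod (IsScalarTower.toAlgHom B' B A).toLinearMap
    (IsScalarTower.toAlgHom B' A' A).toLinearMap

theorem gLin_comp_fLin : gLin B' B A' A ∘ₗ fLin B' B A' = 0 := by
  ext
  simp [gLin, fLin, ← IsScalarTower.algebraMap_apply]

theorem milnor_shortExact (hsq : EtMil.IsFibreSquare B' B A' A) :
    (ModuleCat.shortComplexOfCompEqZero (fLin B' B A') (gLin B' B A' A)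
      (gLin_comp_fLin B' B A' A)).ShortExact := by
  refine ModuleCat.shortComplex_shortExact _ ?_ ?_ ?_
  · intro y
    constructor
    · intro hy
      have h1 : algebraMap B A y.1 = algebraMap A' A (-y.2) := by
        have : algebraMap B A y.1 + algebraMap A' A y.2 = 0 := by
          simpa [gLin] using hy
        rw [map_neg]
        exact eq_neg_of_add_eq_zero_left this
      obtain ⟨b', ⟨hb1, hb2⟩, _⟩ := hsq.2 y.1 (-y.2) h1
      refine ⟨b', ?_⟩
      ext
      · simpa [fLin] using hb1
      · simp [fLin, hb2]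
    · rintro ⟨b', rfl⟩
      exact LinearMap.congr_fun (gLin_comp_fLin B' B A' A) b'
  · intro x y hxy
    have h1 : algebraMap B' B x = algebraMap B' B y := by
      simpa [fLin] using congrArg Prod.fst hxy
    have h2 : algebraMap B' A' x = algebraMap B' A' y := by
      simpa [fLin] using congrArg Prod.snd hxy
    obtain ⟨b', _, huniq⟩ := hsq.2 (algebraMap B' B y) (algebraMap B' A' y)
      (by rw [← IsScalarTower.algebraMap_apply, ← IsScalarTower.algebraMap_apply])
    rw [huniq x ⟨h1, h2⟩, huniq y ⟨rfl, rfl⟩]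
  · intro a
    obtain ⟨a', rfl⟩ := hsq.1 a
    exact ⟨(0, a'), by simp [gLin]⟩


/-- epi of a map out of a product vs the `biprod.desc` of the images under an additive functor -/
theorem epi_map_coprod_iff {R : Type u} [CommRing R] {D : Type*} [Category D] [Preadditive D]
    [HasBinaryBiproducts D]
    (F : ModuleCat.{u} R ⥤ D) [F.Additive] (M N P : Type u) [AddCommGroup M] [Module R M]
    [AddCommGroup N] [Module R N] [AddCommGroup P] [Module R P]
    (a : M →ₗ[R] P) (b : N →ₗ[R] P) :
    Epi (F.map (ModuleCat.ofHom (LinearMap.coprod a b))) ↔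
      Epi (biprod.desc (F.map (ModuleCat.ofHom a)) (F.map (ModuleCat.ofHom b))) := by
  let i₁ : ModuleCat.of R M ⟶ ModuleCat.of R (M × N) := ModuleCat.ofHom (LinearMap.inl R M N)
  let i₂ : ModuleCat.of R N ⟶ ModuleCat.of R (M × N) := ModuleCat.ofHom (LinearMap.inr R M N)
  let p₁ : ModuleCat.of R (M × N) ⟶ ModuleCat.of R M := ModuleCat.ofHom (LinearMap.fst R M N)
  let p₂ : ModuleCat.of R (M × N) ⟶ ModuleCat.of R N := ModuleCat.ofHom (LinearMap.snd R M N)
  have hid : p₁ ≫ i₁ + p₂ ≫ i₂ = 𝟙 _ := by
    apply ModuleCat.hom_ext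
    apply LinearMap.ext
    rintro ⟨m, n⟩
    simp [i₁, i₂, p₁, p₂]
  let u : F.obj (ModuleCat.of R M) ⊞ F.obj (ModuleCat.of R N) ⟶ F.obj (ModuleCat.of R (M × N)) :=
    biprod.desc (F.map i₁) (F.map i₂)
  let v : F.obj (ModuleCat.of R (M × N)) ⟶ F.obj (ModuleCat.of R M) ⊞ F.obj (ModuleCat.of R N) :=
    biprod.lift (F.map p₁) (F.map p₂)
  have hvu : v ≫ u = 𝟙 _ := by
    simp only [u, v, biprod.lift_desc]
    rw [← F.map_comp, ← F.map_comp, ← F.map_add, hid, F.map_id]
  have hu : Epi u := by
    have : Epi (v ≫ u) := by rw [hvu]; infer_instance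
    exact epi_of_epi v u
  have hg1 : i₁ ≫ ModuleCat.ofHom (LinearMap.coprod a b) = ModuleCat.ofHom a := by
    ext x; simp [i₁]
  have hg2 : i₂ ≫ ModuleCat.ofHom (LinearMap.coprod a b) = ModuleCat.ofHom b := by
    ext x; simp [i₂]
  have hD : u ≫ F.map (ModuleCat.ofHom (LinearMap.coprod a b)) =
      biprod.desc (F.map (ModuleCat.ofHom a)) (F.map (ModuleCat.ofHom b)) := by
    apply biprod.hom_ext'
    · simp only [u, biprod.inl_desc_assoc, biprod.inl_desc]
      rw [← F.map_comp, hg1]
    · simp only [u, biprod.inr_desc_assoc, biprod.inr_desc]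
      rw [← F.map_comp, hg2]
  rw [← hD]
  constructor
  · intro h
    exact epi_comp u _
  · intro h
    exact epi_of_epi u _


instance tensCxFunctorR_additive {R : Type u} [CommRing R] (C : ChainComplex (ModuleCat.{u} R) ℕ) :
    (tensCxFunctorR C).Additive where
  map_add {X Y f g} := by
    ext i : 1
    exact MonoidalPreadditive.whiskerLeft_add (X := C.X i) f g

/-- `Tor_n(M, -)` is additive. -/
theorem tor_obj_additive {R : Type u} [CommRing R] (M : ModuleCat.{u} R) (n : ℕ) :
    ((Tor (ModuleCat.{u} R) n).obj M).Additive := by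
  obtain ⟨e⟩ := natBalance n (projectiveResolution M)
  haveI : (HKf (projectiveResolution M).complex n).Additive := by
    unfold HKf
    infer_instance
  exact Functor.additive_of_iso e.symm

/-- injectivity of `L' ⊗ fLin` in elementary terms -/
theorem lTensor_fLin_injective_iff (L' : Type u) [AddCommGroup L'] [Module B' L'] :
    Function.Injective ((fLin B' B A').lTensor L') ↔
      (∀ l : L', ((1 : B) ⊗ₜ[B'] l : B ⊗[B'] L') = 0 → ((1 : A') ⊗ₜ[B'] l : A' ⊗[B'] L') = 0 →
        l = 0) := by
  have key : ∀ l : L', (fLin B' B A').lTensor L' (l ⊗ₜ[B'] (1 : B')) = 0 ↔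
      ((1 : B) ⊗ₜ[B'] l : B ⊗[B'] L') = 0 ∧ ((1 : A') ⊗ₜ[B'] l : A' ⊗[B'] L') = 0 := by
    intro l
    have hf : fLin B' B A' (1 : B') = ((1 : B), (-1 : A')) := by
      simp [fLin]
    rw [LinearMap.lTensor_tmul, hf]
    constructor
    · intro h
      constructor
      · have := congrArg ((LinearMap.fst B' B A').lTensor L') h
        rw [LinearMap.lTensor_tmul, map_zero] at this
        have h2 := congrArg (TensorProduct.comm B' L' B) this
        simpa using h2
      · have := congrArg ((LinearMap.snd B' B A').lTensor L') h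
        rw [LinearMap.lTensor_tmul, map_zero] at this
        have h2 := congrArg (TensorProduct.comm B' L' A') this
        rw [TensorProduct.comm_tmul, map_zero, LinearMap.snd_apply, TensorProduct.neg_tmul,
          neg_eq_zero] at h2
        exact h2
    · rintro ⟨h1, h2⟩
      have e : ((1 : B), (-1 : A')) = LinearMap.inl B' B A' 1 - LinearMap.inr B' B A' 1 := by
        ext <;> simp
      rw [e, TensorProduct.tmul_sub]
      have h1' : l ⊗ₜ[B'] (1 : B) = 0 := by
        have := congrArg (TensorProduct.comm B' B L') h1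
        simpa using this
      have h2' : l ⊗ₜ[B'] (1 : A') = 0 := by
        have := congrArg (TensorProduct.comm B' A' L') h2
        simpa using this
      have e1 : l ⊗ₜ[B'] (LinearMap.inl B' B A' 1) =
          (LinearMap.inl B' B A').lTensor L' (l ⊗ₜ[B'] (1 : B)) := rfl
      have e2 : l ⊗ₜ[B'] (LinearMap.inr B' B A' 1) =
          (LinearMap.inr B' B A').lTensor L' (l ⊗ₜ[B'] (1 : A')) := rfl
      rw [e1, e2, h1', h2', map_zero, map_zero, sub_zero]
  have hrid : ∀ x : L' ⊗[B'] B', x = (TensorProduct.rid B' L' x) ⊗ₜ[B'] (1 : B') := by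
    intro x
    exact ((TensorProduct.rid B' L').symm_apply_apply x).symm
  constructor
  · intro hinj l h1 h2
    have : l ⊗ₜ[B'] (1 : B') = (0 : L' ⊗[B'] B') := by
      apply hinj
      rw [map_zero]
      exact (key l).mpr ⟨h1, h2⟩
    have h3 := congrArg (TensorProduct.rid B' L') this
    simpa using h3
  · intro h
    rw [injective_iff_map_eq_zero]
    intro x hx
    rw [hrid x] at hx ⊢
    obtain ⟨h1, h2⟩ := (key _).mp hx
    rw [h _ h1 h2, TensorProduct.zero_tmul]


variable {B' B A' A} in
theorem S14958_main (hsq : EtMil.IsFibreSquare B' B A' A)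
    (L' : Type u) [AddCommGroup L'] [Module B' L'] :
    (∀ l : L', ((1 : B) ⊗ₜ[B'] l : B ⊗[B'] L') = 0 → ((1 : A') ⊗ₜ[B'] l : A' ⊗[B'] L') = 0 → l = 0) ↔
    Epi (biprod.desc
      (((Tor (ModuleCat.{u} B') 1).obj (ModuleCat.of B' L')).map
        (ModuleCat.ofHom (IsScalarTower.toAlgHom B' B A).toLinearMap))
      (((Tor (ModuleCat.{u} B') 1).obj (ModuleCat.of B' L')).map
        (ModuleCat.ofHom (IsScalarTower.toAlgHom B' A' A).toLinearMap))) := by
  have hS := milnor_shortExact B' B A' A hsq
  obtain ⟨-, -, δ, w₁, w₂, hex3, hex1⟩ :=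
    Groth.Agent.Helper1.TorLES2.main (ModuleCat.of B' L') _ hS 0
  rw [← lTensor_fLin_injective_iff B' B A' L']
  haveI : ((Tor (ModuleCat.{u} B') 1).obj (ModuleCat.of B' L')).Additive :=
    tor_obj_additive _ 1
  have hE := epi_map_coprod_iff ((Tor (ModuleCat.{u} B') 1).obj (ModuleCat.of B' L')) B A' A
    (IsScalarTower.toAlgHom B' B A).toLinearMap (IsScalarTower.toAlgHom B' A' A).toLinearMap
  rw [← hE]
  -- mono of Tor₀ map
  have hmono : Mono (((Tor (ModuleCat.{u} B') 0).obj (ModuleCat.of B' L')).map
      (ModuleCat.ofHom (fLin B' B A'))) ↔ Function.Injective ((fLin B' B A').lTensor L') := by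
    have hn := tor0Iso_naturality₂ (ModuleCat.of B' L') (ModuleCat.ofHom (fLin B' B A'))
    have hw : Mono ((ModuleCat.of B' L') ◁ (ModuleCat.ofHom (fLin B' B A'))) ↔
        Function.Injective ((fLin B' B A').lTensor L') := by
      rw [ModuleCat.mono_iff_injective]
      rfl
    rw [← hw]
    constructor
    · intro h
      have h1 : Mono ((tor0Iso (ModuleCat.of B' L') _).hom ≫
          (ModuleCat.of B' L') ◁ (ModuleCat.ofHom (fLin B' B A'))) := by
        rw [← hn]; infer_instance
      have h3 : (ModuleCat.of B' L') ◁ (ModuleCat.ofHom (fLin B' B A')) =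
            (tor0Iso (ModuleCat.of B' L') _).inv ≫ ((tor0Iso (ModuleCat.of B' L') _).hom ≫
              (ModuleCat.of B' L') ◁ (ModuleCat.ofHom (fLin B' B A'))) := by simp
      rw [h3]; infer_instance
    · intro h
      have h1 : Mono (((Tor (ModuleCat.{u} B') 0).obj (ModuleCat.of B' L')).map
          (ModuleCat.ofHom (fLin B' B A')) ≫ (tor0Iso (ModuleCat.of B' L') _).hom) := by
        rw [hn]; infer_instance
      exact mono_of_mono _ (tor0Iso (ModuleCat.of B' L') _).hom
  rw [← hmono]
  constructor
  · intro hm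
    have hδ : δ = 0 := by
      rw [← cancel_mono (((Tor (ModuleCat.{u} B') 0).obj (ModuleCat.of B' L')).map
        (ModuleCat.ofHom (fLin B' B A'))), zero_comp]
      exact w₂
    exact hex3.epi_f hδ
  · intro he
    haveI : Epi (((Tor (ModuleCat.{u} B') 1).obj (ModuleCat.of B' L')).map
        (ModuleCat.ofHom (gLin B' B A' A))) := he
    have hδ : δ = 0 := by
      rw [← cancel_epi (((Tor (ModuleCat.{u} B') 1).obj (ModuleCat.of B' L')).map
        (ModuleCat.ofHom (gLin B' B A' A))), comp_zero]
      exact w₁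
    exact hex1.mono_g hδ

end

end Groth.Agent.Lib.Helper4.TorMilnor1
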