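import Mathlib
import Groth.Prelude.Def_DRing2
import Groth.Prelude.Def_LCI2
import Groth.Prelude.Def_CAlgX
import Groth.Agent.Lib.Helper1.TorBal
import Groth.Agent.Lib.Helper4.KosRes3
import Groth.Agent.Lib.Helper4.QReg1
import Groth.Agent.Lib.Helper4.QReg3
import Groth.Agent.Lib.Helper4.TorMilnor1
import Groth.Agent.Lib.Lead.KosH1

/-!
# Tor vanishing for J^n and J^n/J^{n+1} against A' (SGA6 VII) (helper4)
-/

set_option backward.isDefEq.respectTransparency.types false
set_option synthInstance.maxHeartbeats 400000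
set_option autoImplicit false
set_option linter.unusedSectionVars false
set_option linter.style.haveILetI false
set_option linter.unusedSimpArgs false
universe u v w
open CategoryTheory CategoryTheory.Limits MonoidalCategory

namespace Groth.Agent.Lib.Helper4.KosRes4
open Groth.Agent.Helper1.TorL Groth.Agent.Helper1.TorBal Groth.Agent.Lib.Helper4.KosRes1
open Groth.Agent.Lib.Helper4.KosRes2 Groth.Agent.Lib.Helper4.KosRes3 Groth.Agent.Lib.Helper4.QReg3

variable {A : Type u} [CommRing A]

/-- an additive functor killing `X` kills finite powers of `X` -/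
theorem isZero_obj_pi_of_additive {D : Type*} [Category D] [Preadditive D]
    (F : ModuleCat.{u} A ⥤ D) [F.Additive]
    (X : Type u) [AddCommGroup X] [Module A X] (ι : Type) [Fintype ι]
    (h : IsZero (F.obj (ModuleCat.of A X))) : IsZero (F.obj (ModuleCat.of A (ι → X))) := by
  classical
  rw [IsZero.iff_id_eq_zero]
  have h1 : 𝟙 (ModuleCat.of A (ι → X)) = ∑ i : ι,
      ModuleCat.ofHom (LinearMap.proj (R := A) (φ := fun _ : ι => X) i) ≫
        ModuleCat.ofHom (LinearMap.single A (fun _ : ι => X) i) := by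
    apply ModuleCat.hom_ext
    apply LinearMap.ext
    intro x
    funext j
    simp only [ModuleCat.hom_id, LinearMap.id_coe, id_eq, ModuleCat.hom_sum, ModuleCat.hom_comp,
      ModuleCat.hom_ofHom, LinearMap.coe_sum, Finset.sum_apply, LinearMap.comp_apply,
      LinearMap.proj_apply, LinearMap.single_apply]
    rw [Finset.sum_eq_single j]
    · simp
    · intro b _ hb
      simp [Pi.single_apply, hb.symm]
    · intro hj
      exact absurd (Finset.mem_univ j) hj
  rw [← F.map_id, h1, F.map_sum]
  refine Finset.sum_eq_zero (fun i _ => ?_)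
  rw [F.map_comp]
  rw [h.eq_of_tgt (F.map (ModuleCat.ofHom (LinearMap.proj (R := A) (φ := fun _ : ι => X) i))) 0,
    zero_comp]

theorem isZero_tor_pi (X : Type u) [AddCommGroup X] [Module A X] (Y : ModuleCat.{u} A)
    (ι : Type) [Fintype ι] (n : ℕ) (h : IsZero (T n (ModuleCat.of A X) Y)) :
    IsZero (T n (ModuleCat.of A (ι → X)) Y) := by
  rw [isZero_tor_symm] at h ⊢
  haveI : ((Tor (ModuleCat.{u} A) n).obj Y).Additive :=
    Groth.Agent.Lib.Helper4.TorMilnor1.tor_obj_additive Y n
  exact isZero_obj_pi_of_additive ((Tor (ModuleCat.{u} A) n).obj Y) X ι h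

variable (A' : Type u) [CommRing A'] [Algebra A A']

section
variable (fs : List A) (hfs : LCI.IsKoszulRegularSeq A fs)
  (hfs' : LCI.IsKoszulRegularSeq A' (fs.map (algebraMap A A')))
include hfs hfs'

theorem isZero_tor_gr (n i : ℕ) :
    IsZero (T (i + 1) (ModuleCat.of A
      (↥(Ideal.span {x | x ∈ fs} ^ n) ⧸ Submodule.comap (Ideal.span {x | x ∈ fs} ^ n).subtype
        (Ideal.span {x | x ∈ fs} ^ (n + 1)))) (ModuleCat.of A A')) := by
  have h0 := isZero_tor_quotient A A' fs hfs hfs' i
  have hq : CAlgX.IsQuasiRegular fs.get :=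
    Groth.Agent.Lib.Helper4.QReg1.S2103_main fs.get
      (Groth.Agent.Lead.KosH1.isH1Regular_of_koszul fs hfs)
  rw [setOf_mem_eq_range] at h0 ⊢
  obtain ⟨e⟩ := nonempty_quot_equiv fs.get hq n
  have h1 := isZero_tor_pi (A ⧸ Ideal.span (Set.range fs.get)) (ModuleCat.of A A')
    (Idx fs.length n) (i + 1) h0
  exact h1.of_iso (torCongrLeft e.toModuleIso (ModuleCat.of A A') (i + 1))

theorem isZero_tor_pow (n : ℕ) : ∀ i : ℕ,
    IsZero (T (i + 1) (ModuleCat.of A ↥(Ideal.span {x | x ∈ fs} ^ n)) (ModuleCat.of A A')) := by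
  induction n with
  | zero =>
    intro i
    have e : ↥(Ideal.span {x | x ∈ fs} ^ 0) ≃ₗ[A] A := by
      rw [pow_zero, Ideal.one_eq_top]
      exact Submodule.topEquiv
    haveI : Module.Flat A (ModuleCat.of A ↥(Ideal.span {x | x ∈ fs} ^ 0)) :=
      Module.Flat.of_linearEquiv e
    exact isZero_tor_succ_of_flat _ _ i
  | succ n ih =>
    intro i
    set J := Ideal.span {x | x ∈ fs} with hJ
    have hle : J ^ (n + 1) ≤ J ^ n := Ideal.pow_le_pow_right (Nat.le_succ n)
    have hS := shortExact_subtype_mkQ (R := A) (Submodule.comap (J ^ n).subtype (J ^ (n + 1)))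
    have h3 := isZero_tor_gr A' fs hfs hfs' n (i + 1)
    have h2 := ih i
    have h1 := isZero_tor_X₁ _ hS (ModuleCat.of A A') (i + 1) h3 h2
    exact h1.of_iso (torCongrLeft
      (Submodule.comapSubtypeEquivOfLe hle).symm.toModuleIso (ModuleCat.of A A') (i + 1))

end

end Groth.Agent.Lib.Helper4.KosRes4
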