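import Mathlib
import Groth.Prelude.Def_KRR
import Groth.Agent.Lib.Helper4.UnitPr
import Groth.Agent.Lib.Helper5.Perf.RpushOpen
import Groth.Agent.Lib.Helper1.InvInv2
import Groth.Agent.Lib.Lead.ParaF1

/-!
# p_K [O_P] = 1: S3759 (helper4)
-/

set_option backward.isDefEq.respectTransparency.types false
set_option synthInstance.maxHeartbeats 400000
set_option autoImplicit false
set_option linter.unusedSectionVars false
set_option linter.style.haveILetI false
set_option linter.unusedSimpArgs false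
universe u v w
open CategoryTheory CategoryTheory.Limits AlgebraicGeometry TopologicalSpace Opposite
open Groth.Agent.Helper1 Groth.Agent.Helper3
open Groth.Agent.Lib.Helper4
open Groth.Agent.Lib.Helper4.KrrB Groth.Agent.Lib.Helper4.KrrI Groth.Agent.Lib.Helper4.KrrH

namespace Groth.Agent.Lib.Helper4.KrrK

section K0
variable {A : Type u} [Category.{v} A] [Abelian A] (P : ObjectProperty A)

theorem clSub_ses (S : ShortComplex A) (hS : S.ShortExact) (h₁ : P S.X₁) (h₂ : P S.X₂) (h₃ : P S.X₃) :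
    KZero.clSub P S.X₂ = KZero.clSub P S.X₁ + KZero.clSub P S.X₃ := by
  unfold KZero.clSub
  rw [dif_pos h₁, dif_pos h₂, dif_pos h₃]
  rw [← QuotientAddGroup.mk_add, QuotientAddGroup.eq]
  have hmem : FreeAbelianGroup.of (⟨S.X₂, h₂⟩ : Subtype P) - FreeAbelianGroup.of ⟨S.X₁, h₁⟩ -
      FreeAbelianGroup.of ⟨S.X₃, h₃⟩ ∈ KZero.relSub P :=
    AddSubgroup.subset_closure ⟨S, h₁, h₂, h₃, hS, rfl⟩
  have h2 := (KZero.relSub P).neg_mem hmem
  convert h2 using 1
  abel

theorem clSub_isZero (O : A) (hO : IsZero O) (hP : P O) : KZero.clSub P O = 0 := by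
  have hS : (ShortComplex.mk (𝟙 O) (𝟙 O) (hO.eq_of_src _ _)).ShortExact := by
    refine ShortComplex.ShortExact.mk' ?_ ?_ ?_
    · exact ShortComplex.exact_of_isZero_X₂ _ hO
    · exact ⟨fun _ _ _ => hO.eq_of_tgt _ _⟩
    · exact ⟨fun _ _ _ => hO.eq_of_src _ _⟩
  have h := clSub_ses P _ hS hP hP hP
  change KZero.clSub P O = KZero.clSub P O + KZero.clSub P O at h
  exact left_eq_add.1 h

theorem clSub_iso {M N : A} (e : M ≅ N) (hM : P M) (hN : P N) (O : A) (hO : IsZero O) (hP : P O) :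
    KZero.clSub P N = KZero.clSub P M := by
  have hS : (ShortComplex.mk e.hom (0 : N ⟶ O) (by simp)).ShortExact := by
    refine ShortComplex.ShortExact.mk' ?_ ?_ ?_
    · rw [ShortComplex.exact_iff_epi _ (by simp)]
      dsimp
      infer_instance
    · dsimp; infer_instance
    · exact ⟨fun _ _ _ => hO.eq_of_src _ _⟩
  have h := clSub_ses P _ hS hM hN hP
  change KZero.clSub P N = KZero.clSub P M + KZero.clSub P O at h
  rw [h, clSub_isZero P O hO hP, add_zero]

end K0

section Main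

theorem s3759 (n : ℕ) (Y : Scheme.{u}) [IsNoetherian Y] [ConnectedSpace ↥Y]
    (KP : Type v) [CommRing KP] [LambdaRing.LambdaOps KP] (PP : LambdaRing.PosStructure KP) (φP : SGA6.Kvb (KRR.PY n Y) →+ KP) (hKP : KRR.IsModel (KRR.PY n Y) KP PP φP)
    (KY : Type v) [CommRing KY] [LambdaRing.LambdaOps KY] (PY : LambdaRing.PosStructure KY) (φY : SGA6.Kvb Y →+ KY) (hKY : KRR.IsModel Y KY PY φY)
    (g : KP →+ KY) (hg : KRR.IsPushPr n Y φP φY g) :
    g (φP (KRR.cl (KRR.PY n Y) (Coh.structureModule (KRR.PY n Y)))) = 1 := by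
  have hflf : ∀ X : Scheme.{u}, FlatMod.IsFinLocFree (Coh.structureModule X) := fun X =>
    InvInv2.isFinLocFree_of_isInvertible Groth.Agent.Lead.ParaF.isInvertible_unit
  haveI : (Coh.structureModule Y).IsQuasicoherent := inferInstance
  have hreg : KRR.IsRegSheaf n Y (Coh.structureModule (KRR.PY n Y)) :=
    KrrJ.isRegSheaf_of_iso n Y (PullSec.unitIso (KRR.pr n Y))
      (isRegSheaf_pullback n Y (Coh.structureModule Y))
  rw [hg _ (hflf _) hreg]
  haveI := ChartU.isIso_unit_structure' (KRR.pr n Y) (fun U hU => ChartU.bijective_pr_app n Y U hU)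
  let e : Coh.structureModule Y ≅
      (Scheme.Modules.pushforward (KRR.pr n Y)).obj (Coh.structureModule (KRR.PY n Y)) :=
    asIso ((Scheme.Modules.pullbackPushforwardAdjunction (KRR.pr n Y)).unit.app
      (SheafOfModules.unit Y.ringCatSheaf)) ≪≫
      (Scheme.Modules.pushforward (KRR.pr n Y)).mapIso (PullSec.unitIso (KRR.pr n Y))
  obtain ⟨O, hO⟩ := HasZeroObject.zero (C := Y.Modules)
  have h1 : KRR.cl Y ((Scheme.Modules.pushforward (KRR.pr n Y)).obj (Coh.structureModule (KRR.PY n Y))) =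
      KRR.cl Y (Coh.structureModule Y) :=
    clSub_iso (KRR.vbP Y) e (hflf Y)
      (Groth.Agent.Lead.FLF.isFinLocFree_of_iso e (hflf Y)) O hO
      (Groth.Agent.Lib.Helper5.RpushOpen.isFinLocFree_of_isZero _ hO)
  rw [h1]
  exact hKY.map_one

end Main

end Groth.Agent.Lib.Helper4.KrrK
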