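import Mathlib
import Groth.Prelude.Def_LocCohZ
import Groth.Agent.Lib.Helper5.Misc.ShriekTopConst
import Groth.Agent.Lib.Helper5.Misc.ExtAdjAcyc
import Groth.Agent.Lib.Helper5.Misc.RDExact

/-!
# Excision for cohomology with supports: j_! of Z_V/Z_W (helper4)
-/

set_option backward.isDefEq.respectTransparency.types false
set_option synthInstance.maxHeartbeats 400000
set_option autoImplicit false
set_option linter.unusedSectionVars false
set_option linter.style.haveILetI false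
set_option linter.unusedSimpArgs false
universe u v w
open CategoryTheory CategoryTheory.Limits TopologicalSpace Opposite

namespace Groth.Agent.Lib.Helper4.LCZ3

variable {X : TopCat.{u}}

/-- Hom version of `sect0Equiv`. -/
noncomputable def zqHomEquiv (F : CohTop.Ab X) {W V : Opens X} (h : W ≤ V) :
    (LocCohZ.zq h ⟶ F) ≃ LocCohZ.sectZ F h :=
  (Abelian.Ext.addEquiv₀.symm.toEquiv).trans (LocCohZ.sect0Equiv F h).toEquiv

lemma zqHomEquiv_apply (F : CohTop.Ab X) {W V : Opens X} (h : W ≤ V) (φ : LocCohZ.zq h ⟶ F) :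
    ((zqHomEquiv F h φ : LocCohZ.sectZ F h) : F.obj.obj (op V)) =
      CohFree.evalGen (Opens.grothendieckTopology X) V F
        (cokernel.π (CohCx.freeSheafMap (Opens.grothendieckTopology X) (homOfLE h)) ≫ φ) := by
  change CohFree.evalGen (Opens.grothendieckTopology X) V F
      (cokernel.π _ ≫ Abelian.Ext.addEquiv₀ (Abelian.Ext.addEquiv₀.symm φ)) = _
  rw [AddEquiv.apply_symm_apply]

lemma zqHomEquiv_comp {F G : CohTop.Ab X} {W V : Opens X} (h : W ≤ V) (φ : LocCohZ.zq h ⟶ F)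
    (ψ : F ⟶ G) :
    ((zqHomEquiv G h (φ ≫ ψ) : LocCohZ.sectZ G h) : G.obj.obj (op V)) =
      (ψ.hom.app (op V)).hom ((zqHomEquiv F h φ : LocCohZ.sectZ F h) : F.obj.obj (op V)) := by
  rw [zqHomEquiv_apply, zqHomEquiv_apply]
  rfl



lemma map_map_apply (F : CohTop.Ab X) {A B C : Opens X} (f : A ⟶ B) (g : B ⟶ C) (k : A ⟶ C)
    (s : F.obj.obj (op C)) :
    (F.obj.map f.op).hom ((F.obj.map g.op).hom s) = (F.obj.map k.op).hom s := by
  have : k = f ≫ g := Subsingleton.elim _ _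
  rw [this, op_comp, F.obj.map_comp]
  rfl

lemma map_id_apply (F : CohTop.Ab X) {A : Opens X} (f : A ⟶ A)
    (s : F.obj.obj (op A)) :
    (F.obj.map f.op).hom s = s := by
  have : f = 𝟙 _ := Subsingleton.elim _ _
  rw [this, op_id, F.obj.map_id]
  rfl

/-- the image functor on opens -/
noncomputable abbrev jf (V : Opens X) : Opens (TopCat.of V) ⥤ Opens X :=
  V.isOpenEmbedding.isOpenMap.functor

lemma jf_top (V : Opens X) : (jf V).obj ⊤ = V := V.isOpenEmbedding_obj_top

lemma jf_map_obj {W V : Opens X} (h : W ≤ V) :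
    (jf V).obj ((Opens.map (CohCx.incl V)).obj W) = W := by
  have := V.functor_map_eq_inf W
  rw [inf_eq_left.2 h] at this
  exact this

/-- forward map on sections -/
noncomputable def sFwd (F : CohTop.Ab X) (V : Opens X) (s : F.obj.obj (op V)) :
    (CohTop.restr F V).obj.obj (op ⊤) :=
  (F.obj.map (homOfLE (jf_top V).le).op).hom s

/-- backward map on sections -/
noncomputable def sBwd (F : CohTop.Ab X) (V : Opens X) (t : (CohTop.restr F V).obj.obj (op ⊤)) :
    F.obj.obj (op V) :=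
  (F.obj.map (homOfLE (jf_top V).ge).op).hom (show F.obj.obj (op ((jf V).obj ⊤)) from t)

lemma sBwd_sFwd (F : CohTop.Ab X) (V : Opens X) (s : F.obj.obj (op V)) :
    sBwd F V (sFwd F V s) = s := by
  unfold sBwd sFwd
  rw [map_map_apply F _ _ (𝟙 _)]
  exact map_id_apply F _ s

lemma sFwd_sBwd (F : CohTop.Ab X) (V : Opens X) (t : (CohTop.restr F V).obj.obj (op ⊤)) :
    sFwd F V (sBwd F V t) = t := by
  unfold sBwd sFwd
  rw [map_map_apply F _ _ (𝟙 _)]
  exact map_id_apply F _ _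

lemma sFwd_mem (F : CohTop.Ab X) {W V : Opens X} (h : W ≤ V) (s : F.obj.obj (op V))
    (hs : s ∈ LocCohZ.sectZ F h) :
    sFwd F V s ∈ LocCohZ.sectZ (CohTop.restr F V)
        (le_top : (Opens.map (CohCx.incl V)).obj W ≤ ⊤) := by
  have hs : (F.obj.map (homOfLE h).op).hom s = 0 := hs
  rw [AddMonoidHom.mem_ker]
  change (F.obj.map ((jf V).map (homOfLE le_top)).op).hom _ = 0
  unfold sFwd
  rw [map_map_apply F _ _ (homOfLE ((jf_map_obj h).le.trans h)),
    ← map_map_apply F (homOfLE (jf_map_obj h).le) (homOfLE h), hs, map_zero]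

lemma sBwd_mem (F : CohTop.Ab X) {W V : Opens X} (h : W ≤ V)
    (t : (CohTop.restr F V).obj.obj (op ⊤))
    (ht : t ∈ LocCohZ.sectZ (CohTop.restr F V)
        (le_top : (Opens.map (CohCx.incl V)).obj W ≤ ⊤)) :
    sBwd F V t ∈ LocCohZ.sectZ F h := by
  have ht : (F.obj.map ((jf V).map (homOfLE (le_top :
    (Opens.map (CohCx.incl V)).obj W ≤ ⊤))).op).hom (show F.obj.obj (op ((jf V).obj ⊤)) from t) = 0 := ht
  rw [AddMonoidHom.mem_ker]
  unfold sBwd
  rw [map_map_apply F _ _ (homOfLE (h.trans (jf_top V).ge)),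
    ← map_map_apply F (homOfLE (jf_map_obj h).ge) ((jf V).map (homOfLE le_top)), ht, map_zero]

/-- sections with support: on `X` and on the open subspace. -/
noncomputable def sectEquiv (F : CohTop.Ab X) {W V : Opens X} (h : W ≤ V) :
    LocCohZ.sectZ F h ≃
      LocCohZ.sectZ (CohTop.restr F V)
        (le_top : (Opens.map (CohCx.incl V)).obj W ≤ ⊤) where
  toFun s := ⟨sFwd F V s.1, sFwd_mem F h s.1 s.2⟩
  invFun t := ⟨sBwd F V t.1, sBwd_mem F h t.1 t.2⟩
  left_inv s := Subtype.ext (sBwd_sFwd F V s.1)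
  right_inv t := Subtype.ext (sFwd_sBwd F V t.1)

lemma sFwd_natural {F G : CohTop.Ab X} (ψ : F ⟶ G) (V : Opens X) (s : F.obj.obj (op V)) :
    sFwd G V ((ψ.hom.app (op V)).hom s) =
      (((CohTop.restrFunctor V).map ψ).hom.app (op ⊤)).hom (sFwd F V s) := by
  unfold sFwd
  exact (ConcreteCategory.congr_hom (ψ.hom.naturality (homOfLE (jf_top V).le).op) s).symm


open Groth.Agent.Lib.Helper5.Misc Groth.Agent.Lib.Helper5

/-- the quotient sheaf on the open subspace -/
noncomputable abbrev zq' {W V : Opens X} (h : W ≤ V) : CohTop.Ab (TopCat.of V) :=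
  LocCohZ.zq (le_top : (Opens.map (CohCx.incl V)).obj W ≤ ⊤)

/-- the natural bijection on Hom's -/
noncomputable def EE (F : CohTop.Ab X) {W V : Opens X} (h : W ≤ V) :
    (LocCohZ.zq h ⟶ F) ≃ ((ShriekTop.shriekTop V).obj (zq' h) ⟶ F) :=
  (zqHomEquiv F h).trans ((sectEquiv F h).trans
    ((zqHomEquiv (CohTop.restr F V) le_top).symm.trans
      ((ShriekTop.adjTop V).homEquiv (zq' h) F).symm))

lemma EE_natural {F G : CohTop.Ab X} {W V : Opens X} (h : W ≤ V) (φ : LocCohZ.zq h ⟶ F)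
    (ψ : F ⟶ G) : EE G h (φ ≫ ψ) = EE F h φ ≫ ψ := by
  unfold EE
  simp only [Equiv.trans_apply]
  rw [← Adjunction.homEquiv_naturality_right_symm]
  congr 1
  apply (zqHomEquiv (CohTop.restr G V) le_top).injective
  rw [Equiv.apply_symm_apply]
  apply Subtype.ext
  rw [zqHomEquiv_comp, Equiv.apply_symm_apply]
  change sFwd G V _ = (((CohTop.restrFunctor V).map ψ).hom.app (op ⊤)).hom (sFwd F V _)
  rw [← sFwd_natural, zqHomEquiv_comp]

/-- `j_!(ℤ_V/ℤ_W on V) ≅ ℤ_V/ℤ_W on X`. -/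
noncomputable def shriekZqIso {W V : Opens X} (h : W ≤ V) :
    (ShriekTop.shriekTop V).obj (zq' h) ≅ LocCohZ.zq h where
  hom := EE _ h (𝟙 _)
  inv := (EE _ h).symm (𝟙 _)
  hom_inv_id := by
    rw [← EE_natural, Category.id_comp, Equiv.apply_symm_apply]
  inv_hom_id := by
    apply (EE _ h).injective
    rw [EE_natural, Equiv.apply_symm_apply, Category.id_comp]


attribute [local instance] HasDerivedCategory.standard in
theorem phi_bijective {W V : Opens X} (h : W ≤ V) (F : CohTop.Ab X) (i : ℕ) :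
    Function.Bijective (ExtAdjAcyc.Φ.{u, u} (ShriekTop.adjTop V) (zq' h) F i) := by
  haveI : (CohTop.restrFunctor V).Additive := (ShriekTop.adjTop V).right_adjoint_additive
  haveI : PreservesFiniteLimits (CohTop.restrFunctor V) := by
    have := (ShriekTop.adjTop V).rightAdjoint_preservesLimits
    infer_instance
  apply ExtAdjAcyc.Φ_bijective
  intro k hk
  obtain ⟨m, rfl⟩ : ∃ m, k = m + 1 := ⟨k - 1, by omega⟩
  exact RDExact.isZero_rightDerived_succ _ _ _

/-- the comparison equivalence -/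
noncomputable def eF {W V : Opens X} (h : W ≤ V) (i : ℕ) (F : CohTop.Ab X) :
    LocCohZ.HZ F i h ≃+ LocCohZ.HZc (CohTop.restr F V) i ((Opens.map (CohCx.incl V)).obj W) :=
  (ShriekAb.extAddEquivOfIso (shriekZqIso h).symm F i).trans
    (AddEquiv.ofBijective _ (phi_bijective h F i)).symm

lemma eF_symm_apply {W V : Opens X} (h : W ≤ V) (i : ℕ) (F : CohTop.Ab X)
    (y : LocCohZ.HZc (CohTop.restr F V) i ((Opens.map (CohCx.incl V)).obj W)) :
    (eF h i F).symm y = (Abelian.Ext.mk₀ (shriekZqIso h).inv).comp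
      (ExtAdjAcyc.Φ.{u, u} (ShriekTop.adjTop V) (zq' h) F i y) (zero_add i) := by
  rfl

theorem s6026 {W V : Opens X} (h : W ≤ V) (i : ℕ) :
    ∃ e : ∀ F : CohTop.Ab X,
        LocCohZ.HZ F i h ≃+ LocCohZ.HZc (CohTop.restr F V) i ((Opens.map (CohCx.incl V)).obj W),
      ∀ (F G : CohTop.Ab X) (φ : F ⟶ G) (x : LocCohZ.HZ F i h),
        e G (LocCohZ.map φ i h x) =
          LocCohZ.map ((CohTop.restrFunctor V).map φ) i
            (le_top : (Opens.map (CohCx.incl V)).obj W ≤ ⊤) (e F x) := by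
  refine ⟨eF h i, ?_⟩
  intro F G φ x
  obtain ⟨y, rfl⟩ := (eF h i F).symm.surjective x
  rw [AddEquiv.apply_symm_apply, ← AddEquiv.eq_symm_apply, eF_symm_apply, eF_symm_apply]
  change _ = (Abelian.Ext.mk₀ _).comp (ExtAdjAcyc.Φ _ _ _ _ (Abelian.Ext.comp _ (Abelian.Ext.mk₀ ((CohTop.restrFunctor V).map φ)) (add_zero i))) _
  rw [ExtAdjAcyc.Φ_comp_mk₀]
  change ((Abelian.Ext.mk₀ _).comp _ (zero_add i)).comp (Abelian.Ext.mk₀ φ) (add_zero i) = _
  rw [Abelian.Ext.comp_assoc_of_third_deg_zero]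

end Groth.Agent.Lib.Helper4.LCZ3
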