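import Mathlib
import Groth.Prelude.Def_LocCohZ

/-!
# Triple short exact sequence of quotient sheaves (helper4)
-/

set_option backward.isDefEq.respectTransparency.types false
set_option synthInstance.maxHeartbeats 400000
set_option autoImplicit false
set_option linter.unusedSectionVars false
set_option linter.style.haveILetI false
set_option linter.unusedSimpArgs false
universe u v w
open CategoryTheory CategoryTheory.Limits TopologicalSpace Opposite

namespace Groth.Agent.Lib.Helper4.LCZ4

lemma triple {C : Type u} [Category.{v} C] [Abelian C] {A B D : C} (f : A ⟶ B) (g : B ⟶ D)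
    (k : A ⟶ D) (a : A ⟶ A) (c : D ⟶ D) (hk : k = f ≫ g) (ha : a = 𝟙 A) (hc : c = 𝟙 D)
    [Mono f] [Mono g] (w1 : f ≫ g = a ≫ k) (w2 : k ≫ c = f ≫ g) :
    ∃ w : cokernel.map f k a g w1 ≫ cokernel.map k g f c w2 = 0,
      (ShortComplex.mk _ _ w).ShortExact := by
  subst hk ha hc
  have hex := kernelCokernelCompSequence_exact f g
  have h3 := hex.exact 3
  have h2 := hex.exact 2
  refine ⟨((kernelCokernelCompSequence f g).sc hex.toIsComplex 3).zero, ?_⟩
  have hmono : Mono (cokernel.map f (f ≫ g) (𝟙 _) g w1) := by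
    have hz : IsZero (kernel g) := isZero_kernel_of_mono g
    exact h2.mono_g (hz.eq_of_src _ _)
  have hepi : Epi (cokernel.map (f ≫ g) g f (𝟙 _) w2) := by
    have : Epi (cokernel.π (f ≫ g) ≫ cokernel.map (f ≫ g) g f (𝟙 _) w2) := by
      rw [cokernel.π_desc]
      infer_instance
    exact epi_of_epi (cokernel.π (f ≫ g)) _
  exact { exact := h3, mono_f := hmono, epi_g := hepi }


theorem s6028 {X : TopCat.{u}} {W V T : Opens X} (hWV : W ≤ V) (hVT : V ≤ T) :
    ∃ w : LocCohZ.zqMap (hWV.trans hVT) hWV le_rfl hVT ≫ LocCohZ.zqMap hVT (hWV.trans hVT) hWV le_rfl = 0,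
      (ShortComplex.mk _ _ w).ShortExact := by
  haveI : Mono (CohCx.freeSheafMap (Opens.grothendieckTopology X) (homOfLE hWV)) :=
    (LocCohZ.zqSeq_shortExact hWV).mono_f
  haveI : Mono (CohCx.freeSheafMap (Opens.grothendieckTopology X) (homOfLE hVT)) :=
    (LocCohZ.zqSeq_shortExact hVT).mono_f
  exact triple (CohCx.freeSheafMap (Opens.grothendieckTopology X) (homOfLE hWV))
    (CohCx.freeSheafMap (Opens.grothendieckTopology X) (homOfLE hVT))
    (CohCx.freeSheafMap (Opens.grothendieckTopology X) (homOfLE (hWV.trans hVT)))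
    (CohCx.freeSheafMap (Opens.grothendieckTopology X) (homOfLE le_rfl))
    (CohCx.freeSheafMap (Opens.grothendieckTopology X) (homOfLE le_rfl))
    (by rw [← CohFree.freeSheafMap_comp]; rfl)
    (by rw [← CohFree.freeSheafMap_id]; rfl)
    (by rw [← CohFree.freeSheafMap_id]; rfl)
    (by rw [← CohFree.freeSheafMap_comp, ← CohFree.freeSheafMap_comp]; rfl)
    (by rw [← CohFree.freeSheafMap_comp, ← CohFree.freeSheafMap_comp]; rfl)

end Groth.Agent.Lib.Helper4.LCZ4
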