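import Mathlib
import Groth.Prelude.Def_ega3
import Groth.Prelude.Def_Wider
import Groth.Prelude.Def_CAlg
import Groth.Agent.Lib.Helper8.LC11
import Groth.Agent.Lib.Helper8.Depth26
import Groth.Agent.S5152
import Groth.Agent.S5173

/-!
# vanishing of local cohomology and Koszul direct limits below the depth (helper4) (helper4)
-/

set_option backward.isDefEq.respectTransparency.types false
set_option synthInstance.maxHeartbeats 400000
set_option autoImplicit false
set_option linter.unusedSectionVars false
set_option linter.style.haveILetI false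
set_option linter.unusedSimpArgs false
universe u v w
open CategoryTheory CategoryTheory.Limits AlgebraicGeometry TopologicalSpace Topology

namespace Groth.Agent.Lib.Helper4.LCZAlg
open Groth.Agent.Helper8 Groth.Agent.Helper8.LC LocCoh

variable {R : Type u} [CommRing R] [IsNoetherianRing R] (J : Ideal R)
  (M : Type u) [AddCommGroup M] [Module R M] [Module.Finite R M]

theorem pow_smul_top_eq_top (h : J • (⊤ : Submodule R M) = ⊤) (k : ℕ) :
    (J ^ k) • (⊤ : Submodule R M) = ⊤ := by
  induction k with
  | zero => simp
  | succ k ih => rw [pow_succ, mul_smul, h, ih]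

theorem subsingleton_H_of_smul_top_eq_top (h : J • (⊤ : Submodule R M) = ⊤) (i : ℕ) :
    Subsingleton (LocCoh.H J i M) := by
  refine ⟨fun x y => ?_⟩
  obtain ⟨n, e, rfl⟩ := ι_rep J i (ModuleCat.of R M) x
  obtain ⟨m, e', rfl⟩ := ι_rep J i (ModuleCat.of R M) y
  have h1 := Depth.ext_subsingleton_of_smul_top_eq_top (I := J ^ n) (M := M)
    (pow_smul_top_eq_top J M h n) i
  have h2 := Depth.ext_subsingleton_of_smul_top_eq_top (I := J ^ m) (M := M)
    (pow_smul_top_eq_top J M h m) i
  rw [Subsingleton.elim e 0, Subsingleton.elim e' 0, map_zero, map_zero]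

/-- vanishing of local cohomology below `n` is the depth being at least `n` -/
theorem le_idealDepth_iff_H (n : ℕ) :
    (n : ℕ∞) ≤ idealDepth J M ↔ ∀ i : ℕ, i < n → Subsingleton (LocCoh.H J i M) := by
  by_cases h : J • (⊤ : Submodule R M) = ⊤
  · rw [Depth.idealDepth_of_smul_top_eq J M h]
    exact ⟨fun _ i _ => subsingleton_H_of_smul_top_eq_top J M h i, fun _ => le_top⟩
  · obtain ⟨d, hd⟩ := ENat.ne_top_iff_exists.mp (Depth.idealDepth_ne_top h)
    have hd' : idealDepth J M = d := hd.symm
    constructor
    · intro hn i hi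
      apply subsingleton_of_lt_idealDepth J h i
      exact lt_of_lt_of_le (by exact_mod_cast hi) hn
    · intro hv
      rw [hd']
      by_contra hlt
      have hlt' : d < n := by
        rw [not_le] at hlt
        exact_mod_cast hlt
      have := hv d hlt'
      have := nontrivial_of_idealDepth_eq J h d hd'
      exact absurd ‹Subsingleton (H J d M)› (not_subsingleton _)


/-- vanishing of the Koszul direct limits below `n` in terms of the depths of the localizations -/
theorem koszul_vanishing_iff (fs : List R) (n : ℕ) :
    (∀ i : ℕ, i < n → Subsingleton (CohIII.koszulHLim fs (ModuleCat.of R M) i)) ↔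
      ∀ p : PrimeSpectrum R, Ideal.span {a | a ∈ fs} ≤ p.asIdeal →
        (n : ℕ∞) ≤ LocCoh.depth (Localization.AtPrime p.asIdeal)
          (LocalizedModule p.asIdeal.primeCompl M) := by
  have h1 : (∀ i : ℕ, i < n → Subsingleton (CohIII.koszulHLim fs (ModuleCat.of R M) i)) ↔
      ∀ i : ℕ, i < n → Subsingleton (LocCoh.H (Ideal.span {a | a ∈ fs}) i M) := by
    refine forall_congr' fun i => forall_congr' fun _ => ?_
    obtain ⟨e⟩ := Groth.Agent.S5173.result R fs M i
    exact ⟨fun h => e.toEquiv.subsingleton, fun h => e.symm.toEquiv.subsingleton⟩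
  rw [h1, ← le_idealDepth_iff_H, Groth.Agent.S5152.result R (Ideal.span {a | a ∈ fs}) M]
  simp only [le_iInf_iff]

end Groth.Agent.Lib.Helper4.LCZAlg
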