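import Mathlib
import Groth.Prelude.Def_LocCohZ
import Groth.Agent.Lib.Helper3.LocCohSh

/-!
# local cohomology sheaves vanish when cohomology with supports vanishes on a basis (helper4) (helper4)
-/

set_option backward.isDefEq.respectTransparency.types false
set_option synthInstance.maxHeartbeats 400000
set_option autoImplicit false
set_option linter.unusedSectionVars false
set_option linter.style.haveILetI false
set_option linter.unusedSimpArgs false
universe u v w
open CategoryTheory CategoryTheory.Limits AlgebraicGeometry TopologicalSpace Topology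

namespace Groth.Agent.Lib.Helper4.LCZBasis
open Opposite

variable {X : TopCat.{u}}

/-- a morphism from a presheaf vanishing on a basis to a sheaf is zero -/
theorem hom_eq_zero_of_basis (B : Set (Opens X)) (hB : Opens.IsBasis B)
    (P : (Opens X)ᵒᵖ ⥤ AddCommGrpCat.{u}) (hP : ∀ V ∈ B, IsZero (P.obj (op V)))
    (G : CohTop.Ab X) (f : P ⟶ G.obj) : f = 0 := by
  ext ⟨V⟩ s
  change (f.app (op V)).hom s = 0
  let G' : TopCat.Sheaf AddCommGrpCat.{u} X := G
  have key : ∀ x : V, ∃ (W : Opens X) (hW : W ≤ V), x.1 ∈ W ∧
      (G.obj.map (homOfLE hW).op).hom ((f.app (op V)).hom s) = 0 := by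
    intro x
    obtain ⟨W, hWB, hxW, hWV⟩ := Opens.isBasis_iff_nbhd.1 hB x.2
    refine ⟨W, hWV, hxW, ?_⟩
    have h1 : (G.obj.map (homOfLE hWV).op).hom ((f.app (op V)).hom s) =
        (f.app (op W)).hom ((P.map (homOfLE hWV).op).hom s) := by
      have := f.naturality (homOfLE hWV).op
      exact (congrArg (fun g => g.hom s) this).symm
    rw [h1]
    have h2 : (P.map (homOfLE hWV).op).hom s = 0 := by
      have := hP W hWB
      exact (AddCommGrpCat.subsingleton_of_isZero this).elim _ _
    rw [h2, map_zero]
  choose W hW hxW hz using key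
  apply TopCat.Sheaf.eq_of_locally_eq' G' W V (fun x => homOfLE (hW x))
  · intro x hx
    exact Opens.mem_iSup.2 ⟨⟨x, hx⟩, hxW ⟨x, hx⟩⟩
  · intro x
    rw [map_zero]
    exact hz x


/-- the sheafification of a presheaf vanishing on a basis is zero -/
theorem isZero_sheafify_of_basis (B : Set (Opens X)) (hB : Opens.IsBasis B)
    (P : (Opens X)ᵒᵖ ⥤ AddCommGrpCat.{u}) (hP : ∀ V ∈ B, IsZero (P.obj (op V))) :
    IsZero ((presheafToSheaf (Opens.grothendieckTopology X) AddCommGrpCat.{u}).obj P) := by
  rw [IsZero.iff_id_eq_zero]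
  apply ((sheafificationAdjunction (Opens.grothendieckTopology X) AddCommGrpCat.{u}).homEquiv P
    _).injective
  rw [hom_eq_zero_of_basis B hB P hP _
    (((sheafificationAdjunction (Opens.grothendieckTopology X) AddCommGrpCat.{u}).homEquiv P _) (𝟙 _)),
    hom_eq_zero_of_basis B hB P hP _
    (((sheafificationAdjunction (Opens.grothendieckTopology X) AddCommGrpCat.{u}).homEquiv P _) 0)]

open Groth.Agent.Helper3 in
/-- the local cohomology sheaf vanishes as soon as the cohomology with supports vanishes on a basis -/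
theorem isZero_HZsh_of_basis (B : Set (Opens X)) (hB : Opens.IsBasis B)
    (U : Opens X) (F : CohTop.Ab X) (q : ℕ)
    (h : ∀ V ∈ B, Subsingleton (LocCohZ.HZ F q (inf_le_left : V ⊓ U ≤ V))) :
    IsZero ((LocCohZ.HZsh U q).obj F) := by
  refine IsZero.of_iso ?_ (LocCohSh.hzshIso U F q)
  apply isZero_sheafify_of_basis B hB
  intro V hV
  refine IsZero.of_iso ?_ (LocCohSh.sectionIso U (injectiveResolution F) V q)
  have := h V hV
  exact AddCommGrpCat.isZero_of_subsingleton _

end Groth.Agent.Lib.Helper4.LCZBasis
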