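import Mathlib
import Groth.Prelude.Def_ZClos
import Groth.Agent.S5849

/-!
# Element-level description of the stalk map of rho : F -> H0_{X/Z}(F) (helper4)
-/

set_option backward.isDefEq.respectTransparency.types false
set_option synthInstance.maxHeartbeats 400000
set_option autoImplicit false
set_option linter.unusedSectionVars false
set_option linter.style.haveILetI false
set_option linter.unusedSimpArgs false
universe u v w
open CategoryTheory CategoryTheory.Limits AlgebraicGeometry TopologicalSpace Topology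

namespace Groth.Agent.Lib.Helper4.ZClosStalk

open Opposite ZClos
open Groth.Agent.S5849 (Phi)

variable {X : Scheme.{u}} (Z : Set X) (F : X.Modules) (x : X)

/-- the diagram of stalks -/
noncomputable abbrev G : Cl Z ⥤ Ab.{u} := (diagram Z).obj F ⋙ Phi x

/-- the cocone of stalks -/
noncomputable def D : Cocone (G Z F x) := (Phi x).mapCocone (colimit.cocone ((diagram Z).obj F))

/-- it is a colimit -/
noncomputable def hD : IsColimit (D Z F x) :=
  isColimitOfPreserves (Phi x) (colimit.isColimit _)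

theorem rhoStalk_eq (T : Cl Z) :
    rhoStalk Z F x = (Phi x).map (toDiagram Z F T) ≫ (D Z F x).ι.app T := by
  have h1 : rhoStalk Z F x = (Phi x).map (rhoApp Z F) := rfl
  rw [h1, rhoApp_eq Z F T]
  exact (Phi x).map_comp _ _

theorem Phi_map_germ {M N : X.Modules} (φ : M ⟶ N) (V : X.Opens) (hx : x ∈ V) (s : Γ(M, V)) :
    (Phi x).map φ (M.presheaf.germ V x hx s) = N.presheaf.germ V x hx (φ.app V s) :=
  TopCat.Presheaf.stalkFunctor_map_germ_apply V x hx φ.mapPresheaf s


section Elem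

/-- the `T`-th term of the diagram -/
noncomputable abbrev R (T : Cl Z) : X.Modules := (resPush T.U).obj F

theorem toDiagram_app (T : Cl Z) (V : X.Opens) (s : Γ(F, V)) :
    (toDiagram Z F T).app V s = F.presheaf.map (homOfLE (T.U.ι.image_preimage_le V)).op s := rfl

theorem G_map_germ {T T' : Cl Z} (f : T ⟶ T') (V : X.Opens) (hx : x ∈ V) (t : Γ(R Z F T, V)) :
    (G Z F x).map f ((R Z F T).presheaf.germ V x hx t) =
      (R Z F T').presheaf.germ V x hx (F.presheaf.map (trIncl (Cl.U_anti f.le) V).op t) := by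
  have h2 := Phi_map_germ x (resPushMapApp (Cl.U_anti f.le) F) V hx t
  rw [resPushMapApp_app] at h2
  exact h2

theorem res_R (T : Cl Z) {V V' : X.Opens} (h : V' ≤ V) (t : Γ(R Z F T, V)) :
    (R Z F T).presheaf.map (homOfLE h).op t =
      F.presheaf.map (T.U.ι.opensFunctor.map ((Opens.map T.U.ι.base).map (homOfLE h))).op t := rfl

/-- two restrictions of the same section of `F` along possibly different proofs agree -/
theorem map_map_eq {A B C : X.Opens} (i : B ⟶ A) (j : C ⟶ B) (k : C ⟶ A) (s : Γ(F, A)) :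
    F.presheaf.map j.op (F.presheaf.map i.op s) = F.presheaf.map k.op s := by
  rw [← ConcreteCategory.comp_apply, ← Functor.map_comp, ← op_comp]
  rfl

/-- every element of the stalk of `H⁰` is represented by a section over `V ∩ T.U` -/
theorem exists_rep (y : ((H0 Z).obj F).presheaf.stalk x) :
    ∃ (T : Cl Z) (V : X.Opens) (hx : x ∈ V) (t : Γ(R Z F T, V)),
      y = (D Z F x).ι.app T ((R Z F T).presheaf.germ V x hx t) := by
  obtain ⟨T, y', hy'⟩ := Concrete.isColimit_exists_rep (G Z F x) (hD Z F x) y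
  obtain ⟨V, hx, t, ht⟩ := TopCat.Presheaf.exists_germ_eq (R Z F T).presheaf y'
  exact ⟨T, V, hx, t, by rw [ht, hy']⟩

end Elem


section Elem2

variable {Z}

theorem le_aux {T T' : Cl Z} (h : T ≤ T') {W V : X.Opens} (hW : W ≤ V) :
    T'.U.ι ''ᵁ T'.U.ι ⁻¹ᵁ W ≤ T.U.ι ''ᵁ T.U.ι ⁻¹ᵁ V := by
  rw [ι_image_preimage, ι_image_preimage]
  exact inf_le_inf (Cl.U_anti h) hW

variable (Z)

/-- equality of two represented elements of the stalk of `H⁰` -/
theorem rep_eq_iff (T T₂ : Cl Z) (V V₂ : X.Opens) (hx : x ∈ V) (hx₂ : x ∈ V₂)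
    (t : Γ(R Z F T, V)) (t₂ : Γ(R Z F T₂, V₂)) :
    (D Z F x).ι.app T ((R Z F T).presheaf.germ V x hx t) =
        (D Z F x).ι.app T₂ ((R Z F T₂).presheaf.germ V₂ x hx₂ t₂) ↔
      ∃ (T' : Cl Z) (h : T ≤ T') (h₂ : T₂ ≤ T') (W : X.Opens) (hW : W ≤ V) (hW₂ : W ≤ V₂),
        x ∈ W ∧ F.presheaf.map (homOfLE (le_aux h hW)).op t =
          F.presheaf.map (homOfLE (le_aux h₂ hW₂)).op t₂ := by
  constructor
  · intro h
    obtain ⟨k, f, g, hfg⟩ := Concrete.isColimit_exists_of_rep_eq (G Z F x) (hD Z F x) _ _ h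
    rw [G_map_germ, G_map_germ] at hfg
    obtain ⟨W, hxW, iU, iV, hW⟩ := TopCat.Presheaf.germ_eq (R Z F k).presheaf x hx hx₂ _ _ hfg
    refine ⟨k, f.le, g.le, W, iU.le, iV.le, hxW, ?_⟩
    have e1 : iU = homOfLE iU.le := rfl
    have e2 : iV = homOfLE iV.le := rfl
    rw [e1, e2, res_R, res_R, map_map_eq F _ _ (homOfLE (le_aux f.le iU.le)),
      map_map_eq F _ _ (homOfLE (le_aux g.le iV.le))] at hW
    exact hW
  · rintro ⟨T', h, h₂, W, hW, hW₂, hxW, heq⟩
    apply Concrete.isColimit_rep_eq_of_exists (G Z F x)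
    refine ⟨T', homOfLE h, homOfLE h₂, ?_⟩
    rw [G_map_germ, G_map_germ]
    rw [← TopCat.Presheaf.germ_res_apply (R Z F T').presheaf (homOfLE hW) x hxW,
      ← TopCat.Presheaf.germ_res_apply (R Z F T').presheaf (homOfLE hW₂) x hxW]
    congr 1
    rw [res_R, res_R, map_map_eq F _ _ (homOfLE (le_aux h hW)),
      map_map_eq F _ _ (homOfLE (le_aux h₂ hW₂))]
    exact heq

end Elem2


section Crit

theorem rhoStalk_germ (T : Cl Z) (V : X.Opens) (hx : x ∈ V) (s : Γ(F, V)) :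
    rhoStalk Z F x (F.presheaf.germ V x hx s) =
      (D Z F x).ι.app T ((R Z F T).presheaf.germ V x hx
        (F.presheaf.map (homOfLE (T.U.ι.image_preimage_le V)).op s)) := by
  have h1 := ConcreteCategory.congr_hom (rhoStalk_eq Z F x T) (F.presheaf.germ V x hx s)
  refine h1.trans ?_
  change (D Z F x).ι.app T ((Phi x).map (toDiagram Z F T) (F.presheaf.germ V x hx s)) = _
  rw [Phi_map_germ]
  rfl

theorem rhoStalk_germ_eq_zero_iff (V : X.Opens) (hx : x ∈ V) (s : Γ(F, V)) :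
    rhoStalk Z F x (F.presheaf.germ V x hx s) = 0 ↔
      ∃ (T : Cl Z) (W : X.Opens) (hW : W ≤ V), x ∈ W ∧
        F.presheaf.map (homOfLE ((T.U.ι.image_preimage_le W).trans hW)).op s = 0 := by
  have h0 : (D Z F x).ι.app ⊥ ((R Z F ⊥).presheaf.germ V x hx 0) = 0 := by
    have e1 : (R Z F ⊥).presheaf.germ V x hx 0 = 0 := map_zero _
    rw [e1]
    exact map_zero ((D Z F x).ι.app ⊥).hom
  have key := rep_eq_iff Z F x ⊥ ⊥ V V hx hx
    (F.presheaf.map (homOfLE ((⊥ : Cl Z).U.ι.image_preimage_le V)).op s) 0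
  rw [rhoStalk_germ Z F x ⊥ V hx s]
  constructor
  · intro h
    obtain ⟨T', h, h₂, W, hW, hW₂, hxW, heq⟩ := key.1 (h.trans h0.symm)
    refine ⟨T', W, hW, hxW, ?_⟩
    have heq' := heq.trans (map_zero (F.presheaf.map (homOfLE (le_aux h₂ hW₂)).op).hom)
    rw [map_map_eq F _ _ (homOfLE ((T'.U.ι.image_preimage_le W).trans hW))] at heq'
    exact heq'
  · rintro ⟨T', W, hW, hxW, heq⟩
    refine (key.2 ⟨T', bot_le, bot_le, W, hW, hW, hxW, ?_⟩).trans h0
    refine Eq.trans ?_ (map_zero (F.presheaf.map (homOfLE (le_aux (bot_le : (⊥ : Cl Z) ≤ T') hW)).op).hom).symm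
    rw [map_map_eq F _ _ (homOfLE ((T'.U.ι.image_preimage_le W).trans hW))]
    exact heq

/-- criterion for `Z`-purity at a point -/
theorem isZPureAt_iff :
    IsZPureAt Z F x ↔ ∀ (V : X.Opens) (hx : x ∈ V) (s : Γ(F, V)),
      (∃ (T : Cl Z) (W : X.Opens) (hW : W ≤ V), x ∈ W ∧
        F.presheaf.map (homOfLE ((T.U.ι.image_preimage_le W).trans hW)).op s = 0) →
      F.presheaf.germ V x hx s = 0 := by
  unfold IsZPureAt
  rw [injective_iff_map_eq_zero]
  constructor
  · intro h V hx s hs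
    exact h _ ((rhoStalk_germ_eq_zero_iff Z F x V hx s).2 hs)
  · intro h y hy
    obtain ⟨V, hx, s, rfl⟩ := TopCat.Presheaf.exists_germ_eq F.presheaf y
    exact h V hx s ((rhoStalk_germ_eq_zero_iff Z F x V hx s).1 hy)

/-- criterion for surjectivity of the stalk map of `ρ` -/
theorem rhoStalk_surjective_iff :
    Function.Surjective (rhoStalk Z F x) ↔ ∀ (T : Cl Z) (V : X.Opens) (hx : x ∈ V)
      (t : Γ(R Z F T, V)),
      ∃ (T' : Cl Z) (h : T ≤ T') (W : X.Opens) (hW : W ≤ V) (_ : x ∈ W) (s : Γ(F, W)),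
        F.presheaf.map (homOfLE (T'.U.ι.image_preimage_le W)).op s =
          F.presheaf.map (homOfLE (le_aux h hW)).op t := by
  constructor
  · intro hsurj T V hx t
    obtain ⟨z, hz⟩ := hsurj ((D Z F x).ι.app T ((R Z F T).presheaf.germ V x hx t))
    obtain ⟨V₁, hx₁, s₁, rfl⟩ := TopCat.Presheaf.exists_germ_eq F.presheaf z
    rw [rhoStalk_germ Z F x T V₁ hx₁ s₁] at hz
    obtain ⟨T', h, h₂, W, hW₁, hW, hxW, heq⟩ := (rep_eq_iff Z F x T T V₁ V hx₁ hx _ t).1 hz
    refine ⟨T', h₂, W, hW, hxW, F.presheaf.map (homOfLE hW₁).op s₁, ?_⟩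
    rw [← heq, map_map_eq F _ _ (homOfLE ((T'.U.ι.image_preimage_le W).trans hW₁)),
      map_map_eq F _ _ (homOfLE ((T'.U.ι.image_preimage_le W).trans hW₁))]
  · intro h y
    obtain ⟨T, V, hx, t, rfl⟩ := exists_rep Z F x y
    obtain ⟨T', hT, W, hW, hxW, s, hs⟩ := h T V hx t
    refine ⟨F.presheaf.germ W x hxW s, ?_⟩
    rw [rhoStalk_germ Z F x T' W hxW s]
    refine (rep_eq_iff Z F x T' T W V hxW hx _ t).2 ⟨T', le_rfl, hT, W, le_rfl, hW, hxW, ?_⟩
    rw [map_map_eq F _ _ (homOfLE (T'.U.ι.image_preimage_le W))]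
    exact hs

end Crit

end Groth.Agent.Lib.Helper4.ZClosStalk
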