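import Mathlib
import Groth.Prelude.Def_ZClos
import Groth.Agent.Lib.Helper4.ZClosStalk
import Groth.Agent.Lib.Helper4.CohHartogs1
import Groth.Agent.Lib.Helper1.FinPush

/-!
# Z-purity at a point iff depth >= 1 at generizations in Z (S5855) (helper4)
-/

set_option backward.isDefEq.respectTransparency.types false
set_option synthInstance.maxHeartbeats 400000
set_option autoImplicit false
set_option linter.unusedSectionVars false
set_option linter.style.haveILetI false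
set_option linter.unusedSimpArgs false
universe u v w
open CategoryTheory CategoryTheory.Limits AlgebraicGeometry TopologicalSpace Topology

namespace Groth.Agent.Lib.Helper4.ZClosDepth1

open Opposite ZClos Groth.Agent.Lead Groth.Agent.Lib.Helper4 Groth.Agent.Lib.Helper4.ZClosStalk

variable {X : Scheme.{u}}

section Aff

variable (M : X.Modules) {V : X.Opens} (hV : IsAffineOpen V)

attribute [local instance] SD.stalkModule

theorem germ_eq_zero_iff [M.IsQuasicoherent] (x : V) (m : Γ(M, V)) :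
    M.presheaf.germ V x.1 x.2 m = 0 ↔
      ∃ c : Γ(X, V), c ∉ (hV.primeIdealOf x).asIdeal ∧ c • m = 0 := by
  haveI := SD.isLocalizedModule_germ M hV x
  have h := IsLocalizedModule.eq_zero_iff (hV.primeIdealOf x).asIdeal.primeCompl
    (SD.germₗ M x) (m := m)
  rw [SD.germₗ_apply] at h
  rw [h]
  constructor
  · rintro ⟨c, hc⟩
    exact ⟨c.1, c.2, hc⟩
  · rintro ⟨c, hc, hcm⟩
    exact ⟨⟨c, hc⟩, hcm⟩

theorem specializes_iff_le (y₁ y₂ : V) :
    (y₁ : X) ⤳ (y₂ : X) ↔ (hV.primeIdealOf y₁).asIdeal ≤ (hV.primeIdealOf y₂).asIdeal := by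
  have h := hV.fromSpec.isOpenEmbedding.isInducing.specializes_iff
    (x := hV.primeIdealOf y₁) (y := hV.primeIdealOf y₂)
  rw [hV.fromSpec_primeIdealOf, hV.fromSpec_primeIdealOf] at h
  rw [h]
  exact (PrimeSpectrum.le_iff_specializes (hV.primeIdealOf y₁) (hV.primeIdealOf y₂)).symm

/-- depth of the stalk at a point of an affine open at least one iff the prime is not associated -/
theorem one_le_depth_stalk_iff [IsLocallyNoetherian X] (hM : Coh.IsCoh M) (x : V) :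
    (1 : ℕ∞) ≤ LocCoh.depth (X.presheaf.stalk x.1) (M.presheaf.stalk x.1) ↔
      (hV.primeIdealOf x).asIdeal ∉ associatedPrimes Γ(X, V) Γ(M, V) := by
  haveI : M.IsQuasicoherent := hM.1
  haveI : IsNoetherianRing Γ(X, V) := IsLocallyNoetherian.component_noetherian ⟨V, hV⟩
  haveI : Module.Finite Γ(X, V) Γ(M, V) := Groth.Agent.Helper1.FinPush.finite_sections M hM hV
  haveI := SD.isLocalizedModule_germ M hV x
  rw [CohHartogs1.depth_stalk_eq_of_isLocalizedModule M hV x (SD.germₗ M x)]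
  exact Hartogs1.one_le_depth_localized_iff (hV.primeIdealOf x).asIdeal

end Aff


section Alg

open Submodule in
theorem exists_ass_le {A : Type*} [CommRing A] [IsNoetherianRing A] {M : Type*} [AddCommGroup M]
    [Module A M] (p : Ideal A) [hp : p.IsPrime] (m : M) (hm : ∀ c : A, c ∉ p → c • m ≠ 0) :
    ∃ P ∈ associatedPrimes A M, P ≤ p ∧ ∀ c : A, c ∉ P → c • m ≠ 0 := by
  obtain ⟨𝓕, h𝓕⟩ : ∃ 𝓕 : Set (Ideal A), 𝓕 = {I | ∃ b : A, I = colon (⊥ : Submodule A M) {b • m} ∧ I ≤ p} :=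
    ⟨_, rfl⟩
  have hmem : ∀ (n : M) (a : A), a ∈ colon (⊥ : Submodule A M) {n} ↔ a • n = 0 := by
    intro n a
    rw [Submodule.mem_colon_singleton, Submodule.mem_bot]
  have hne : 𝓕.Nonempty := by
    refine ⟨colon (⊥ : Submodule A M) {(1 : A) • m}, ?_⟩
    rw [h𝓕]
    refine ⟨1, rfl, fun a ha => ?_⟩
    rw [hmem, one_smul] at ha
    by_contra hap
    exact hm a hap ha
  obtain ⟨I, hI𝓕, hImax⟩ := wellFounded_gt.has_min 𝓕 hne
  have hI𝓕' := hI𝓕
  rw [h𝓕] at hI𝓕'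
  obtain ⟨b, hIb, hIp⟩ := hI𝓕'
  obtain ⟨n, hn⟩ : ∃ n : M, n = b • m := ⟨_, rfl⟩
  rw [← hn] at hIb
  -- maximality
  have hmax : ∀ J ∈ 𝓕, I ≤ J → J = I := by
    intro J hJ hIJ
    by_contra hne'
    exact hImax J hJ (lt_of_le_of_ne hIJ (Ne.symm hne'))
  have hmem𝓕 : ∀ y : A, colon (⊥ : Submodule A M) {y • n} ≤ p →
      colon (⊥ : Submodule A M) {y • n} ∈ 𝓕 := by
    intro y hy
    rw [h𝓕]
    refine ⟨y * b, ?_, hy⟩
    rw [hn, mul_smul]
  have hle : ∀ y : A, I ≤ colon (⊥ : Submodule A M) {y • n} := by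
    intro y a ha
    rw [hIb, hmem] at ha
    rw [hmem, smul_comm, ha, smul_zero]
  have hprime : I.IsPrime := by
    refine ⟨fun htop => hp.ne_top (top_le_iff.1 (htop ▸ hIp)), fun {x y} hxy => ?_⟩
    by_contra hcon
    push Not at hcon
    obtain ⟨hx, hy⟩ := hcon
    by_cases hA : colon (⊥ : Submodule A M) {y • n} ≤ p
    · have heq := hmax _ (hmem𝓕 y hA) (hle y)
      apply hx
      rw [← heq, hmem, ← mul_smul]
      rw [hIb, hmem] at hxy
      exact hxy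
    · rw [SetLike.not_le_iff_exists] at hA
      obtain ⟨c, hc, hcp⟩ := hA
      rw [hmem] at hc
      have hcle : colon (⊥ : Submodule A M) {c • n} ≤ p := by
        intro e he
        rw [hmem, ← mul_smul] at he
        have : e * c ∈ I := by rw [hIb, hmem]; exact he
        rcases hp.mem_or_mem (hIp this) with h | h
        · exact h
        · exact absurd h hcp
      have heq := hmax _ (hmem𝓕 c hcle) (hle c)
      apply hy
      rw [← heq, hmem, smul_comm]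
      exact hc
  refine ⟨I, ?_, hIp, ?_⟩
  · exact (isAssociatedPrime_iff).2 ⟨hprime, n, hIb⟩
  · intro c hc hcm
    apply hc
    rw [hIb, hmem, hn, smul_comm, hcm, smul_zero]

end Alg


section Main

variable [IsLocallyNoetherian X] (Z : Set X) (hZ : StableUnderSpecialization Z)
  (F : X.Modules) (hF : Coh.IsCoh F)

/-- the closure of a point of `Z`, as an index of the diagram -/
def clPt (x' : X) (hx' : x' ∈ Z) : Cl Z :=
  ⟨⟨closure {x'}, isClosed_closure⟩, fun y hy => hZ (specializes_iff_mem_closure.2 hy) hx'⟩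

theorem mem_clPt_U {x' : X} (hx' : x' ∈ Z) (y : X) : y ∈ (clPt Z hZ x' hx').U ↔ ¬ x' ⤳ y := by
  rw [specializes_iff_mem_closure]
  rfl

include hF hZ in
theorem pure_of_depth (x : X)
    (h : ∀ x' : X, x' ⤳ x → x' ∈ Z →
      (1 : ℕ∞) ≤ LocCoh.depth (X.presheaf.stalk x') (F.presheaf.stalk x')) :
    IsZPureAt Z F x := by
  haveI : F.IsQuasicoherent := hF.1
  rw [isZPureAt_iff]
  rintro V hx s ⟨T, W, hW, hxW, hs⟩
  obtain ⟨W₀, hW₀, hxW₀, hW₀W⟩ : ∃ W₀ : X.Opens, IsAffineOpen W₀ ∧ x ∈ W₀ ∧ W₀ ≤ W := by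
    obtain ⟨_, ⟨W₀, hW₀, rfl⟩, h1, h2⟩ := X.isBasis_affineOpens.exists_subset_of_mem_open hxW W.2
    exact ⟨W₀, hW₀, h1, h2⟩
  haveI : IsNoetherianRing Γ(X, W₀) := IsLocallyNoetherian.component_noetherian ⟨W₀, hW₀⟩
  obtain ⟨m, hm⟩ : ∃ m : Γ(F, W₀), m = F.presheaf.map (homOfLE (hW₀W.trans hW)).op s := ⟨_, rfl⟩
  have hgerm : F.presheaf.germ V x hx s = F.presheaf.germ W₀ x hxW₀ m := by
    rw [hm, TopCat.Presheaf.germ_res_apply]
  rw [hgerm]
  by_contra hne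
  have hne' : ∀ c : Γ(X, W₀), c ∉ (hW₀.primeIdealOf ⟨x, hxW₀⟩).asIdeal → c • m ≠ 0 := by
    intro c hc hcm
    exact hne ((germ_eq_zero_iff F hW₀ ⟨x, hxW₀⟩ m).2 ⟨c, hc, hcm⟩)
  obtain ⟨P, hPass, hPle, hPm⟩ := exists_ass_le (hW₀.primeIdealOf ⟨x, hxW₀⟩).asIdeal m hne'
  have hPprime : P.IsPrime := IsAssociatedPrime.isPrime hPass
  obtain ⟨x', hx'⟩ : ∃ x' : X, x' = hW₀.fromSpec ⟨P, hPprime⟩ := ⟨_, rfl⟩
  have hx'W₀ : x' ∈ W₀ := by rw [hx']; exact SD.fromSpec_mem hW₀ _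
  have hPx' : hW₀.primeIdealOf ⟨x', hx'W₀⟩ = ⟨P, hPprime⟩ := by
    have := SD.primeIdealOf_fromSpec hW₀ ⟨P, hPprime⟩
    convert this
  have hsp : x' ⤳ x := by
    rw [specializes_iff_le hW₀ ⟨x', hx'W₀⟩ ⟨x, hxW₀⟩, hPx']
    exact hPle
  -- `x'` lies in `T`
  have hx'T : x' ∈ (T.1 : Set X) := by
    by_contra hnT
    have hx'U : x' ∈ T.U.ι ''ᵁ T.U.ι ⁻¹ᵁ W₀ := by
      rw [ι_image_preimage]
      exact ⟨hnT, hx'W₀⟩
    have hres : F.presheaf.map (homOfLE (T.U.ι.image_preimage_le W₀)).op m = 0 := by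
      rw [hm, map_map_eq F _ _ (homOfLE (((T.U.ι.image_preimage_le W₀).trans hW₀W).trans hW))]
      have hle : T.U.ι ''ᵁ T.U.ι ⁻¹ᵁ W₀ ≤ T.U.ι ''ᵁ T.U.ι ⁻¹ᵁ W := by
        rw [ι_image_preimage, ι_image_preimage]
        exact inf_le_inf_left _ hW₀W
      rw [← map_map_eq F (homOfLE ((T.U.ι.image_preimage_le W).trans hW)) (homOfLE hle), hs, map_zero]
    have hg0 : F.presheaf.germ W₀ x' hx'W₀ m = 0 := by
      rw [← TopCat.Presheaf.germ_res_apply F.presheaf (homOfLE (T.U.ι.image_preimage_le W₀)) x' hx'U,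
        hres, map_zero]
    obtain ⟨c, hc, hcm⟩ := (germ_eq_zero_iff F hW₀ ⟨x', hx'W₀⟩ m).1 hg0
    rw [hPx'] at hc
    exact hPm c hc hcm
  have hdep := h x' hsp (T.2 hx'T)
  rw [one_le_depth_stalk_iff F hW₀ hF ⟨x', hx'W₀⟩, hPx'] at hdep
  exact hdep hPass

include hF hZ in
theorem depth_of_pure (x : X) (hpure : IsZPureAt Z F x) (x' : X) (hsp : x' ⤳ x) (hx'Z : x' ∈ Z) :
    (1 : ℕ∞) ≤ LocCoh.depth (X.presheaf.stalk x') (F.presheaf.stalk x') := by
  haveI : F.IsQuasicoherent := hF.1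
  obtain ⟨W₀, hW₀, hxW₀⟩ : ∃ W₀ : X.Opens, IsAffineOpen W₀ ∧ x ∈ W₀ := by
    obtain ⟨_, ⟨W₀, hW₀, rfl⟩, h1, -⟩ :=
      X.isBasis_affineOpens.exists_subset_of_mem_open (Set.mem_univ x) isOpen_univ
    exact ⟨W₀, hW₀, h1⟩
  haveI : IsNoetherianRing Γ(X, W₀) := IsLocallyNoetherian.component_noetherian ⟨W₀, hW₀⟩
  have hx'W₀ : x' ∈ W₀ := hsp.mem_open W₀.2 hxW₀
  rw [one_le_depth_stalk_iff F hW₀ hF ⟨x', hx'W₀⟩]
  intro hPass
  obtain ⟨-, m, hPm⟩ := isAssociatedPrime_iff.1 hPass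
  obtain ⟨T, hT⟩ : ∃ T : Cl Z, T = clPt Z hZ x' hx'Z := ⟨_, rfl⟩
  have hres : F.presheaf.map (homOfLE ((T.U.ι.image_preimage_le W₀).trans le_rfl)).op m = 0 := by
    apply TopCat.Presheaf.section_ext ⟨F.presheaf, F.isSheaf⟩
    intro y hy
    rw [map_zero]
    have hy' : y ∈ T.U ⊓ W₀ := by rwa [ι_image_preimage] at hy
    rw [TopCat.Presheaf.germ_res_apply]
    rw [germ_eq_zero_iff F hW₀ ⟨y, hy'.2⟩ m]
    have hnsp : ¬ x' ⤳ y := by
      have := hy'.1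
      rw [hT] at this
      exact (mem_clPt_U Z hZ hx'Z y).1 this
    rw [specializes_iff_le hW₀ ⟨x', hx'W₀⟩ ⟨y, hy'.2⟩, SetLike.not_le_iff_exists] at hnsp
    obtain ⟨c, hcP, hcy⟩ := hnsp
    refine ⟨c, hcy, ?_⟩
    rw [hPm, Submodule.mem_colon_singleton, Submodule.mem_bot] at hcP
    exact hcP
  have hg := (isZPureAt_iff Z F x).1 hpure W₀ hxW₀ m ⟨T, W₀, le_rfl, hxW₀, hres⟩
  obtain ⟨c, hc, hcm⟩ := (germ_eq_zero_iff F hW₀ ⟨x, hxW₀⟩ m).1 hg
  apply hc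
  have hcP : c ∈ (hW₀.primeIdealOf ⟨x', hx'W₀⟩).asIdeal := by
    rw [hPm, Submodule.mem_colon_singleton, Submodule.mem_bot]; exact hcm
  exact (specializes_iff_le hW₀ ⟨x', hx'W₀⟩ ⟨x, hxW₀⟩).1 hsp hcP

include hF hZ in
theorem main (x : X) :
    IsZPureAt Z F x ↔
      ∀ x' : X, x' ⤳ x → x' ∈ Z →
        (1 : ℕ∞) ≤ LocCoh.depth (X.presheaf.stalk x') (F.presheaf.stalk x') :=
  ⟨fun h x' hsp hx' => depth_of_pure Z hZ F hF x h x' hsp hx', pure_of_depth Z hZ F hF x⟩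

end Main

end Groth.Agent.Lib.Helper4.ZClosDepth1
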