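import Mathlib
import Groth.Agent.Lib.Helper4.Hartogs1
import Groth.Agent.Lib.Helper4.ZClosDepth1

/-!
# Spreading depth >= 2 along V(J) to a basic open neighbourhood; pointwise depth-two criterion (helper4)
-/

set_option backward.isDefEq.respectTransparency.types false
set_option synthInstance.maxHeartbeats 400000
set_option autoImplicit false
set_option linter.unusedSectionVars false
set_option linter.style.haveILetI false
set_option linter.unusedSimpArgs false
universe u v w
open CategoryTheory CategoryTheory.Limits AlgebraicGeometry TopologicalSpace Topology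

namespace Groth.Agent.Lib.Helper4.ZClosAlg2

open Opposite IsLocalRing Groth.Agent.Lib.Helper4 Groth.Agent.Lib.Helper4.Hartogs1

variable {A : Type u} [CommRing A] {M : Type u} [AddCommGroup M] [Module A M]

/-- refined lift: the element is not in `x M` even after multiplying by elements outside `p` -/
theorem exists_lift_refined [IsNoetherianRing A] (p : Ideal A) [p.IsPrime] {x : A}
    (h : maximalIdeal (Localization.AtPrime p) ∈ associatedPrimes (Localization.AtPrime p)
      (QuotSMulTop (algebraMap A (Localization.AtPrime p) x) (LocalizedModule p.primeCompl M))) :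
    ∃ u : M, (∀ b ∈ p, ∃ n : M, b • u = x • n) ∧ ∀ s₀ : A, s₀ ∉ p → ¬ ∃ n : M, s₀ • u = x • n := by
  have h' : IsAssociatedPrime (maximalIdeal (Localization.AtPrime p))
      (QuotSMulTop (algebraMap A (Localization.AtPrime p) x) (LocalizedModule p.primeCompl M)) := h
  rw [isAssociatedPrime_iff] at h'
  obtain ⟨-, ubar, hu⟩ := h'
  obtain ⟨u', rfl⟩ := Submodule.Quotient.mk_surjective _ ubar
  have hmem : ∀ a : Localization.AtPrime p, a ∈ maximalIdeal (Localization.AtPrime p) ↔
      ∃ n : LocalizedModule p.primeCompl M, a • u' = (algebraMap A (Localization.AtPrime p) x) • n := by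
    intro a
    rw [hu, Submodule.mem_colon_singleton, Submodule.mem_bot, ← Submodule.Quotient.mk_smul,
      Submodule.Quotient.mk_eq_zero, mem_smul_top_iff]
  have hu'not : ¬ ∃ n : LocalizedModule p.primeCompl M,
      u' = (algebraMap A (Localization.AtPrime p) x) • n := by
    rintro ⟨n, hn⟩
    have : (1 : Localization.AtPrime p) ∈ maximalIdeal (Localization.AtPrime p) :=
      (hmem 1).2 ⟨n, by rw [one_smul, hn]⟩
    exact (Ideal.ne_top_iff_one _).1 (IsLocalRing.maximalIdeal.isMaximal _).ne_top this
  induction u' using LocalizedModule.induction_on with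
  | h u0 s =>
    have hrel : (LocalizedModule.mk u0 1 : LocalizedModule p.primeCompl M) =
        (s : A) • (LocalizedModule.mk u0 s : LocalizedModule p.primeCompl M) := by
      rw [LocalizedModule.smul'_mk, LocalizedModule.mk_eq]
      exact ⟨1, by simp [Submonoid.smul_def]⟩
    have hden : ∀ b ∈ p, ∃ g : A, g ∉ p ∧ ∃ n : M, (g * b) • u0 = x • n := by
      intro b hb
      have hb' : algebraMap A (Localization.AtPrime p) b ∈ maximalIdeal (Localization.AtPrime p) :=
        (IsLocalization.AtPrime.to_map_mem_maximal_iff _ p b).2 hb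
      obtain ⟨n, hn⟩ := (hmem _).1 hb'
      have h3 : b • (LocalizedModule.mk u0 1 : LocalizedModule p.primeCompl M) =
          x • ((s : A) • n) := by
        rw [hrel, smul_comm b, ← algebraMap_smul (Localization.AtPrime p) b, hn, algebraMap_smul,
          smul_comm]
      induction n using LocalizedModule.induction_on with
      | h n0 t =>
        rw [LocalizedModule.smul'_mk, LocalizedModule.smul'_mk, LocalizedModule.smul'_mk,
          LocalizedModule.mk_eq] at h3
        obtain ⟨w, hw⟩ := h3
        simp only [one_smul, Submonoid.smul_def] at hw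
        refine ⟨w.1 * t.1, fun hmem' => (p.primeCompl.mul_mem w.2 t.2) hmem', w.1 • s.1 • n0, ?_⟩
        rw [mul_smul, mul_smul, hw, smul_comm w.1 x]
    obtain ⟨g, hg, Hg⟩ := exists_common_denominator p x u0 p
      ((isNoetherianRing_iff_ideal_fg A).1 inferInstance p) hden
    refine ⟨g • u0, ?_, ?_⟩
    · intro b hb
      obtain ⟨n, hn⟩ := Hg b hb
      exact ⟨n, by rw [← hn, mul_smul, smul_comm]⟩
    · rintro s₀ hs₀ ⟨n, hn⟩
      apply hu'not
      refine ⟨(Localization.mk 1 (⟨s₀, hs₀⟩ * ⟨g, hg⟩ * s) : Localization.AtPrime p) •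
        (LocalizedModule.mk n 1 : LocalizedModule p.primeCompl M), ?_⟩
      rw [algebraMap_smul, smul_comm, LocalizedModule.smul'_mk, ← hn, LocalizedModule.mk_smul_mk,
        one_smul, mul_one, LocalizedModule.mk_eq]
      exact ⟨1, by
        simp only [Submonoid.smul_def, Submonoid.coe_mul, one_smul, mul_smul]
        rw [smul_comm s.1 s₀, smul_comm s.1 g]⟩


section Pointwise

variable [IsNoetherianRing A]

theorem mk_eq_zero_iff' (q : Ideal A) [q.IsPrime] (m : M) (s : q.primeCompl) :
    (LocalizedModule.mk m s : LocalizedModule q.primeCompl M) = 0 ↔ ∃ c : A, c ∉ q ∧ c • m = 0 := by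
  rw [← LocalizedModule.zero_mk s, LocalizedModule.mk_eq]
  constructor
  · rintro ⟨w, hw⟩
    simp only [smul_zero, Submonoid.smul_def] at hw
    exact ⟨w.1 * s.1, q.primeCompl.mul_mem w.2 s.2, by rw [mul_smul]; exact hw⟩
  · rintro ⟨c, hc, hcm⟩
    refine ⟨⟨c, hc⟩, ?_⟩
    simp only [smul_zero, Submonoid.smul_def]
    rw [smul_comm, hcm, smul_zero]

/-- `a` is regular on `M_q` if it avoids the associated primes of `M` contained in `q` -/
theorem regular_localized_of_avoid (q : Ideal A) [q.IsPrime] (a : A)
    (hreg : ∀ P ∈ associatedPrimes A M, P ≤ q → a ∉ P) :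
    IsSMulRegular (LocalizedModule q.primeCompl M) (algebraMap A (Localization.AtPrime q) a) := by
  rw [regular_algebraMap_iff, isSMulRegular_iff_right_eq_zero_of_smul]
  intro n hn
  induction n using LocalizedModule.induction_on with
  | h m s =>
    rw [LocalizedModule.smul'_mk, mk_eq_zero_iff'] at hn
    obtain ⟨w, hw, hwm⟩ := hn
    rw [mk_eq_zero_iff']
    by_contra hne
    have hne' : ∀ c : A, c ∉ q → c • m ≠ 0 := fun c hc hcm => hne ⟨c, hc, hcm⟩
    obtain ⟨P, hP, hPq, hPm⟩ := ZClosDepth1.exists_ass_le q m hne'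
    have hPprime : P.IsPrime := IsAssociatedPrime.isPrime hP
    have hmem : w * a ∈ P := by
      by_contra hnot
      exact hPm _ hnot (by rw [mul_smul]; exact hwm)
    rcases hPprime.mem_or_mem hmem with h | h
    · exact hw (hPq h)
    · exact hreg P hP hPq h

/-- pointwise criterion for depth at least two -/
theorem two_le_depth_of_regular_of_not_ass [Module.Finite A M] (q : Ideal A) [q.IsPrime] (a : A)
    (haq : a ∈ q) (hreg : ∀ P ∈ associatedPrimes A M, P ≤ q → a ∉ P)
    (hass : q ∉ associatedPrimes A (QuotSMulTop a M)) :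
    (2 : ℕ∞) ≤ LocCoh.depth (Localization.AtPrime q) (LocalizedModule q.primeCompl M) := by
  rw [two_le_depth_iff]
  right
  have hXmem : algebraMap A (Localization.AtPrime q) a ∈ maximalIdeal (Localization.AtPrime q) :=
    (IsLocalization.AtPrime.to_map_mem_maximal_iff _ q a).2 haq
  have hXreg := regular_localized_of_avoid (M := M) q a hreg
  have h2 : ∀ P' ∈ associatedPrimes (Localization.AtPrime q)
      (QuotSMulTop (algebraMap A (Localization.AtPrime q) a) (LocalizedModule q.primeCompl M)),
      ¬ maximalIdeal (Localization.AtPrime q) ≤ P' := by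
    intro P' hP' hle
    have hP'prime : P'.IsPrime := IsAssociatedPrime.isPrime hP'
    have hEq : P' = maximalIdeal (Localization.AtPrime q) :=
      le_antisymm (IsLocalRing.le_maximalIdeal hP'prime.ne_top) hle
    rw [hEq] at hP'
    obtain ⟨u, hu1, hu2⟩ := exists_lift_refined q hP'
    apply hass
    refine (isAssociatedPrime_iff).2 ⟨inferInstance, Submodule.Quotient.mk u, ?_⟩
    ext b
    rw [Submodule.mem_colon_singleton, Submodule.mem_bot, ← Submodule.Quotient.mk_smul,
      Submodule.Quotient.mk_eq_zero, mem_smul_top_iff]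
    constructor
    · intro hb
      exact hu1 b hb
    · intro hb
      by_contra hbq
      exact hu2 b hbq hb
  obtain ⟨r', hr', hreg'⟩ := (exists_regular_mem_iff _).2 h2
  exact ⟨_, hXmem, r', hr', hXreg, hreg'⟩

end Pointwise


section NotTwo

theorem not_two_le_depth_of_mem_ass_quot' [IsNoetherianRing A] [Module.Finite A M] {x : A}
    (P : Ideal A) [P.IsPrime]
    (hXreg : IsSMulRegular (LocalizedModule P.primeCompl M) (algebraMap A (Localization.AtPrime P) x))
    (hP : P ∈ associatedPrimes A (QuotSMulTop x M)) :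
    ¬ (2 : ℕ∞) ≤ LocCoh.depth (Localization.AtPrime P) (LocalizedModule P.primeCompl M) := by
  have hP' : IsAssociatedPrime P (QuotSMulTop x M) := hP
  rw [isAssociatedPrime_iff] at hP'
  obtain ⟨-, ubar, hu⟩ := hP'
  obtain ⟨u, rfl⟩ := Submodule.Quotient.mk_surjective _ ubar
  have hmem : ∀ a : A, a ∈ P ↔ ∃ n, a • u = x • n := by
    intro a
    rw [hu, Submodule.mem_colon_singleton, Submodule.mem_bot, ← Submodule.Quotient.mk_smul,
      Submodule.Quotient.mk_eq_zero, mem_smul_top_iff]
  have hxP : x ∈ P := (hmem x).2 ⟨u, rfl⟩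
  intro h2
  rw [two_le_depth_iff] at h2
  rcases h2 with hs | ⟨r, hr, r', hr', hreg, hreg'⟩
  · have : (LocalizedModule.mk u 1 : LocalizedModule P.primeCompl M) = 0 := Subsingleton.elim _ _
    obtain ⟨g, hg, hgu⟩ := (mk_one_eq_zero_iff u).1 this
    exact hg ((hmem g).2 ⟨0, by rw [hgu, smul_zero]⟩)
  · have hu' : ¬ ∃ n : LocalizedModule P.primeCompl M,
        (LocalizedModule.mk u 1 : LocalizedModule P.primeCompl M) =
          (algebraMap A (Localization.AtPrime P) x) • n := by
      rintro ⟨n, hn⟩
      induction n using LocalizedModule.induction_on with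
      | h n0 s =>
        rw [algebraMap_smul, LocalizedModule.smul'_mk, LocalizedModule.mk_eq] at hn
        obtain ⟨w, hw⟩ := hn
        simp only [one_smul, Submonoid.smul_def] at hw
        have : (w.1 * s.1) ∈ P := (hmem _).2 ⟨w.1 • n0, by rw [mul_smul, hw, smul_comm]⟩
        exact (P.primeCompl.mul_mem w.2 s.2) this
    have hI : ∀ a ∈ maximalIdeal (Localization.AtPrime P), ∃ n : LocalizedModule P.primeCompl M,
        a • (LocalizedModule.mk u 1 : LocalizedModule P.primeCompl M) =
          (algebraMap A (Localization.AtPrime P) x) • n := by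
      intro a ha
      obtain ⟨b, s, rfl⟩ := IsLocalization.exists_mk'_eq P.primeCompl a
      have hb : b ∈ P := (IsLocalization.AtPrime.mk'_mem_maximal_iff (Localization.AtPrime P) P b s).1 ha
      obtain ⟨n0, hn0⟩ := (hmem b).1 hb
      refine ⟨LocalizedModule.mk n0 s, ?_⟩
      rw [← Localization.mk_eq_mk', LocalizedModule.mk_smul_mk, hn0, algebraMap_smul, LocalizedModule.smul'_mk, mul_one]
    obtain ⟨v, hv, hv'⟩ := exchange (maximalIdeal (Localization.AtPrime P)) hr hXreg hreg _ hu' hI
    apply hv
    have h1 := hv' r' hr'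
    rw [← mem_smul_top_iff] at h1 ⊢
    exact (regular_quot_iff r r').1 hreg' v h1

end NotTwo


section Spread

theorem exists_prod_avoid (S : Finset (Ideal A)) (p : Ideal A) [hp : p.IsPrime] :
    ∃ g : A, g ∉ p ∧ ∀ P ∈ S, ¬ P ≤ p → g ∈ P := by
  classical
  induction S using Finset.induction_on with
  | empty => exact ⟨1, fun h => hp.ne_top ((Ideal.eq_top_iff_one _).2 h), fun P hP => absurd hP (Finset.notMem_empty P)⟩
  | insert P S hPS ih =>
    obtain ⟨g, hg, hgS⟩ := ih
    by_cases hPp : P ≤ p
    · refine ⟨g, hg, fun Q hQ hQp => ?_⟩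
      rcases Finset.mem_insert.1 hQ with rfl | hQ
      · exact absurd hPp hQp
      · exact hgS Q hQ hQp
    · rw [SetLike.not_le_iff_exists] at hPp
      obtain ⟨b, hbP, hbp⟩ := hPp
      refine ⟨g * b, fun h => ?_, fun Q hQ hQp => ?_⟩
      · rcases hp.mem_or_mem h with h | h
        · exact hg h
        · exact hbp h
      · rcases Finset.mem_insert.1 hQ with rfl | hQ
        · exact Ideal.mul_mem_left _ _ hbP
        · exact Ideal.mul_mem_right _ _ (hgS Q hQ hQp)

theorem exists_basicOpen_depth_two [IsNoetherianRing A] [Module.Finite A M] (J : Ideal A)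
    (p : Ideal A) [hp : p.IsPrime]
    (h : ∀ (q : Ideal A) [q.IsPrime], J ≤ q → q ≤ p → (2 : ℕ∞) ≤
      LocCoh.depth (Localization.AtPrime q) (LocalizedModule q.primeCompl M)) :
    ∃ g : A, g ∉ p ∧ ∀ (q : Ideal A) [q.IsPrime], J ≤ q → g ∉ q → (2 : ℕ∞) ≤
      LocCoh.depth (Localization.AtPrime q) (LocalizedModule q.primeCompl M) := by
  classical
  have hfin : (associatedPrimes A M).Finite := associatedPrimes.finite A M
  -- step a
  obtain ⟨a, haJ, ha⟩ : ∃ a ∈ J, ∀ P ∈ associatedPrimes A M, P ≤ p → a ∉ P := by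
    by_contra hcon
    push Not at hcon
    have hsub : (J : Set A) ⊆ ⋃ P ∈ ((hfin.toFinset.filter (· ≤ p) : Finset (Ideal A)) : Set (Ideal A)),
        (P : Set A) := by
      intro r hr
      obtain ⟨P, hP, hPp, hrP⟩ := hcon r hr
      simp only [Set.mem_iUnion]
      refine ⟨P, ?_, hrP⟩
      simp only [Finset.coe_filter, Set.mem_setOf_eq]
      exact ⟨hfin.mem_toFinset.2 hP, hPp⟩
    rw [Ideal.subset_union_prime (f := fun P : Ideal A => P) ⊥ ⊥ (by
      intro i hi _ _
      exact (hfin.mem_toFinset.1 (Finset.mem_filter.1 hi).1).isPrime)] at hsub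
    obtain ⟨P, hP, hle⟩ := hsub
    have hP' := Finset.mem_filter.1 hP
    have hPass : P ∈ associatedPrimes A M := hfin.mem_toFinset.1 hP'.1
    haveI : P.IsPrime := IsAssociatedPrime.isPrime hPass
    have h2 := h P hle hP'.2
    have h1 : (1 : ℕ∞) ≤ LocCoh.depth (Localization.AtPrime P) (LocalizedModule P.primeCompl M) :=
      le_trans (by norm_num) h2
    exact (one_le_depth_localized_iff P).1 h1 hPass
  have hfin₁ : (associatedPrimes A (QuotSMulTop a M)).Finite := associatedPrimes.finite A _
  obtain ⟨g₀, hg₀, hg₀S⟩ := exists_prod_avoid hfin.toFinset p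
  obtain ⟨g₁, hg₁, hg₁S⟩ := exists_prod_avoid hfin₁.toFinset p
  refine ⟨g₀ * g₁, fun hmem => ?_, ?_⟩
  · rcases hp.mem_or_mem hmem with h' | h'
    · exact hg₀ h'
    · exact hg₁ h'
  intro q hq hJq hgq
  have hg₀q : g₀ ∉ q := fun h' => hgq (Ideal.mul_mem_right _ _ h')
  have hg₁q : g₁ ∉ q := fun h' => hgq (Ideal.mul_mem_left _ _ h')
  have hreg : ∀ P ∈ associatedPrimes A M, P ≤ q → a ∉ P := by
    intro P hP hPq
    apply ha P hP
    by_contra hPp
    exact hg₀q (hPq (hg₀S P (hfin.mem_toFinset.2 hP) hPp))
  apply two_le_depth_of_regular_of_not_ass q a (hJq haJ) hreg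
  intro hqass
  have hqp : q ≤ p := by
    by_contra hqp
    exact hg₁q (hg₁S q (hfin₁.mem_toFinset.2 hqass) hqp)
  exact not_two_le_depth_of_mem_ass_quot' q (regular_localized_of_avoid q a hreg) hqass (h q hJq hqp)

end Spread

end Groth.Agent.Lib.Helper4.ZClosAlg2
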