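import Mathlib
import Groth.Prelude.Def_ZClos
import Groth.Agent.Lib.Helper4.ZClosStalk
import Groth.Agent.Lib.Helper4.ZClosDepth1
import Groth.Agent.Lib.Helper4.ZClosAlg2
import Groth.Agent.Lib.Helper4.CohHartogs1
import Groth.Agent.Lib.Helper1.FinPush
import Groth.Agent.Lib.Lead.SD2

/-!
# Z-closedness at a point iff depth >= 2 at generizations in Z (EGA IV 5.10.5 pointwise; helper4) (helper4)
-/

set_option backward.isDefEq.respectTransparency.types false
set_option synthInstance.maxHeartbeats 400000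
set_option autoImplicit false
set_option linter.unusedSectionVars false
set_option linter.style.haveILetI false
set_option linter.unusedSimpArgs false
universe u v w
open CategoryTheory CategoryTheory.Limits AlgebraicGeometry TopologicalSpace Topology

namespace Groth.Agent.Lib.Helper4.ZClosDepth2

open Opposite ZClos Groth.Agent.Lead Groth.Agent.Lib.Helper4 Groth.Agent.Lib.Helper4.ZClosStalk
open Groth.Agent.Lib.Helper4.Hartogs1 Groth.Agent.Lib.Helper4.ModHartogs1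
open Groth.Agent.Lib.Helper4.CohHartogs1

variable {X : Scheme.{u}}

section Alg

open IsLocalRing

variable {A : Type u} [CommRing A] [IsNoetherianRing A] {M : Type u} [AddCommGroup M] [Module A M]

/-- an element avoiding the associated primes below `p` has its kernel killed by some `g ∉ p` -/
theorem exists_kill_ker [Module.Finite A M] (p : Ideal A) [hp : p.IsPrime] (a : A)
    (hreg : ∀ P ∈ associatedPrimes A M, P ≤ p → a ∉ P) :
    ∃ g : A, g ∉ p ∧ ∀ k : M, a • k = 0 → g • k = 0 := by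
  have h1 : ∀ k : M, a • k = 0 → ∃ c : A, c ∉ p ∧ c • k = 0 := by
    intro k hk
    by_contra hcon
    push Not at hcon
    obtain ⟨P, hP, hPp, hPk⟩ := ZClosDepth1.exists_ass_le p k hcon
    exact hPk a (hreg P hP hPp) hk
  obtain ⟨K, hK⟩ : ∃ K : Submodule A M, K = LinearMap.ker (LinearMap.lsmul A M a) := ⟨_, rfl⟩
  have hKmem : ∀ k : M, k ∈ K ↔ a • k = 0 := by
    intro k; rw [hK, LinearMap.mem_ker, LinearMap.lsmul_apply]
  have hfg : K.FG := IsNoetherian.noetherian K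
  have key : ∀ (N : Submodule A M), N.FG → (∀ k ∈ N, ∃ c : A, c ∉ p ∧ c • k = 0) →
      ∃ g : A, g ∉ p ∧ ∀ k ∈ N, g • k = 0 := by
    intro N hN
    refine Submodule.fg_induction (R := A) (M := M) (motive := fun (N : Submodule A M) _ =>
      (∀ k ∈ N, ∃ c : A, c ∉ p ∧ c • k = 0) → ∃ g : A, g ∉ p ∧ ∀ k ∈ N, g • k = 0) ?_ ?_ N hN
    · intro m h
      obtain ⟨c, hc, hcm⟩ := h m (Submodule.mem_span_singleton_self m)
      refine ⟨c, hc, ?_⟩
      intro k hk
      obtain ⟨r, rfl⟩ := Submodule.mem_span_singleton.1 hk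
      rw [smul_comm, hcm, smul_zero]
    · intro N1 N2 _ _ h1 h2 h
      obtain ⟨g1, hg1, H1⟩ := h1 (fun k hk => h k (Submodule.mem_sup_left hk))
      obtain ⟨g2, hg2, H2⟩ := h2 (fun k hk => h k (Submodule.mem_sup_right hk))
      refine ⟨g1 * g2, ?_, ?_⟩
      · intro hmem
        rcases hp.mem_or_mem hmem with h' | h'
        · exact hg1 h'
        · exact hg2 h'
      · intro k hk
        obtain ⟨k1, hk1, k2, hk2, rfl⟩ := Submodule.mem_sup.1 hk
        rw [smul_add, mul_smul, mul_smul, H2 k2 hk2, smul_zero, smul_comm, H1 k1 hk1, smul_zero,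
          add_zero]
  obtain ⟨g, hg, Hg⟩ := key K hfg (fun k hk => h1 k ((hKmem k).1 hk))
  exact ⟨g, hg, fun k hk => Hg k ((hKmem k).2 hk)⟩

/-- prime avoidance for the associated primes below `p` -/
theorem exists_mem_avoid [Module.Finite A M] (p q : Ideal A) [hq : q.IsPrime]
    (h : ∀ P ∈ associatedPrimes A M, P ≤ p → ¬ q ≤ P) :
    ∃ a ∈ q, ∀ P ∈ associatedPrimes A M, P ≤ p → a ∉ P := by
  classical
  have hfin : (associatedPrimes A M).Finite := associatedPrimes.finite A M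
  obtain ⟨S, hS⟩ : ∃ S : Finset (Ideal A), S = hfin.toFinset.filter (fun P => P ≤ p) := ⟨_, rfl⟩
  have hSmem : ∀ P, P ∈ S ↔ P ∈ associatedPrimes A M ∧ P ≤ p := by
    intro P; rw [hS, Finset.mem_filter, Set.Finite.mem_toFinset]
  by_contra hcon
  push Not at hcon
  have hsub : (q : Set A) ⊆ ⋃ P ∈ (S : Set (Ideal A)), (P : Set A) := by
    intro a ha
    obtain ⟨P, hP, hPp, haP⟩ := hcon a ha
    exact Set.mem_biUnion ((hSmem P).2 ⟨hP, hPp⟩) haP
  rw [Ideal.subset_union_prime (R := A) (s := S) (f := fun P => P) ⊥ ⊥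
    (fun P hP _ _ => IsAssociatedPrime.isPrime ((hSmem P).1 hP).1)] at hsub
  obtain ⟨P, hP, hqP⟩ := hsub
  exact h P ((hSmem P).1 hP).1 ((hSmem P).1 hP).2 hqP

/-- the key algebraic criterion: extension property implies depth at least two -/
theorem two_le_depth_of_extension [Module.Finite A M] (p q : Ideal A) [hp : p.IsPrime]
    [hq : q.IsPrime] (hqp : q ≤ p) (a : A) (haq : a ∈ q)
    (hreg : ∀ P ∈ associatedPrimes A M, P ≤ p → a ∉ P)
    (hE : ∀ u : M, (∀ b ∈ q, ∃ n : M, b • u = a • n) → ∃ h : A, h ∉ p ∧ ∃ n : M, h • u = a • n) :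
    (2 : ℕ∞) ≤ LocCoh.depth (Localization.AtPrime q) (LocalizedModule q.primeCompl M) := by
  apply ZClosAlg2.two_le_depth_of_regular_of_not_ass q a haq
    (fun P hP hPq => hreg P hP (hPq.trans hqp))
  intro hass
  have hass' : IsAssociatedPrime q (QuotSMulTop a M) := hass
  rw [isAssociatedPrime_iff] at hass'
  obtain ⟨-, ubar, hu⟩ := hass'
  obtain ⟨u, rfl⟩ := Submodule.Quotient.mk_surjective _ ubar
  have hmem : ∀ b : A, b ∈ q ↔ ∃ n, b • u = a • n := by
    intro b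
    rw [hu, Submodule.mem_colon_singleton, Submodule.mem_bot, ← Submodule.Quotient.mk_smul,
      Submodule.Quotient.mk_eq_zero, Hartogs1.mem_smul_top_iff]
  obtain ⟨h, hh, n, hn⟩ := hE u (fun b hb => (hmem b).1 hb)
  exact hh (hqp ((hmem h).2 ⟨n, hn⟩))

end Alg


section Glue

variable (F : X.Modules) [F.IsQuasicoherent] {W₀ : X.Opens} (hW₀ : IsAffineOpen W₀)

attribute [local instance] SD.basicOpenModule

include hW₀ in
/-- a section over a basic open dividing a given section by the function -/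
theorem exists_div_basicOpen (f : Γ(X, W₀)) (m : Γ(F, W₀)) :
    ∃ σ : Γ(F, X.basicOpen f), ∀ (y : X) (hy : y ∈ X.basicOpen f),
      X.presheaf.germ W₀ y (X.basicOpen_le f hy) f • F.presheaf.germ (X.basicOpen f) y hy σ =
        F.presheaf.germ W₀ y (X.basicOpen_le f hy) m := by
  haveI := SD.isLocalizedModule_res F hW₀ f
  refine ⟨IsLocalizedModule.mk' (SD.resₗ F f) m ⟨f, Submonoid.mem_powers f⟩, ?_⟩
  intro y hy
  have h1 := IsLocalizedModule.mk'_cancel' (SD.resₗ F f) m ⟨f, Submonoid.mem_powers f⟩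
  have h2 := congrArg (fun z => F.presheaf.germ (X.basicOpen f) y hy z) h1
  simp only at h2
  rw [Submonoid.smul_def, SD.smul_basicOpen_def, SD.germ_smul, SD.resₗ_apply,
    TopCat.Presheaf.germ_res_apply, TopCat.Presheaf.germ_res_apply] at h2
  exact h2

theorem germ_basicOpen_isUnit (f : Γ(X, W₀)) (y : X) (hy : y ∈ X.basicOpen f) :
    IsUnit (X.presheaf.germ W₀ y (X.basicOpen_le f hy) f) :=
  (Scheme.mem_basicOpen X f y (X.basicOpen_le f hy)).1 hy

include hW₀ in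
/-- the section `u / a` over the union of the `D(g b)`, `b ∈ I` -/
theorem exists_glued_section (I : Ideal Γ(X, W₀)) (a g : Γ(X, W₀)) (u : Γ(F, W₀))
    (hI : ∀ b ∈ I, ∃ n : Γ(F, W₀), b • u = a • n)
    (hker : ∀ k : Γ(F, W₀), a • k = 0 → g • k = 0) :
    ∃ (hle : (⨆ b : I, X.basicOpen (g * b.1)) ≤ W₀) (t : Γ(F, ⨆ b : I, X.basicOpen (g * b.1))),
      ∀ (y : X) (hy : y ∈ ⨆ b : I, X.basicOpen (g * b.1)),
        X.presheaf.germ W₀ y (hle hy) a • F.presheaf.germ _ y hy t =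
          F.presheaf.germ W₀ y (hle hy) u := by
  have hle : (⨆ b : I, X.basicOpen (g * b.1)) ≤ W₀ := iSup_le (fun b => X.basicOpen_le _)
  have hI' : ∀ b : I, ∃ n : Γ(F, W₀), b.1 • u = a • n := fun b => hI b.1 b.2
  choose n hn using hI'
  have hσ : ∀ b : I, ∃ σ : Γ(F, X.basicOpen (g * b.1)), ∀ (y : X) (hy : y ∈ X.basicOpen (g * b.1)),
      X.presheaf.germ W₀ y (X.basicOpen_le _ hy) (g * b.1) • F.presheaf.germ _ y hy σ =
        F.presheaf.germ W₀ y (X.basicOpen_le _ hy) (g • n b) :=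
    fun b => exists_div_basicOpen F hW₀ (g * b.1) (g • n b)
  choose σ hσ' using hσ
  -- the basic relation
  have hrel : ∀ b b' : I, (g * b'.1) • (g • n b) = (g * b.1) • (g • n b') := by
    intro b b'
    have h0 : a • (b'.1 • n b - b.1 • n b') = 0 := by
      rw [smul_sub, smul_comm a b'.1, ← hn b, smul_comm a b.1, ← hn b', smul_comm, sub_self]
    have h1 := hker _ h0
    rw [smul_sub, sub_eq_zero] at h1
    rw [mul_smul, mul_smul, smul_comm b'.1 g, smul_comm b.1 g, h1]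
  have hcompat : TopCat.Presheaf.IsCompatible F.presheaf (fun b : I => X.basicOpen (g * b.1)) σ := by
    intro b b'
    apply TopCat.Presheaf.section_ext ⟨F.presheaf, F.isSheaf⟩
    intro y hy
    rw [TopCat.Presheaf.germ_res_apply, TopCat.Presheaf.germ_res_apply]
    have hyb : y ∈ X.basicOpen (g * b.1) := hy.1
    have hyb' : y ∈ X.basicOpen (g * b'.1) := hy.2
    change F.presheaf.germ (X.basicOpen (g * b.1)) y hyb (σ b) =
      F.presheaf.germ (X.basicOpen (g * b'.1)) y hyb' (σ b')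
    have hu := germ_basicOpen_isUnit (g * b.1) y hyb
    have hu' := germ_basicOpen_isUnit (g * b'.1) y hyb'
    rw [← hu.smul_left_cancel, ← hu'.smul_left_cancel]
    have e1 := hσ' b y hyb
    have e2 := hσ' b' y hyb'
    rw [e1, smul_comm, e2, ← SD.germ_smul, ← SD.germ_smul, hrel b b']
  obtain ⟨t, ht, -⟩ := TopCat.Sheaf.existsUnique_gluing ⟨F.presheaf, F.isSheaf⟩
    (fun b : I => X.basicOpen (g * b.1)) σ hcompat
  refine ⟨hle, t, ?_⟩
  intro y hy
  obtain ⟨b, hyb⟩ := Opens.mem_iSup.1 hy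
  have hu := germ_basicOpen_isUnit (g * b.1) y hyb
  have ht' := ht b
  have e1 := hσ' b y hyb
  have e3 : F.presheaf.germ _ y hy t = F.presheaf.germ _ y hyb (σ b) := by
    rw [← ht', TopCat.Presheaf.germ_res_apply]
  rw [e3, ← hu.smul_left_cancel, smul_comm, e1, ← SD.germ_smul, ← SD.germ_smul,
    smul_comm a g, ← hn b, mul_smul]

end Glue


section aff2
variable (M : X.Modules) [M.IsQuasicoherent] {V : X.Opens} (hV : IsAffineOpen V)

include hV in
/-- variant of `affine_bij_of_depth` with the depth hypothesis only at the points of `V` -/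
theorem affine_bij_of_depth' [IsLocallyNoetherian X] (hft : M.IsFiniteType) (U : X.Opens)
    (h : ∀ x : X, x ∈ V → x ∉ U →
      (2 : ℕ∞) ≤ LocCoh.depth (X.presheaf.stalk x) (M.presheaf.stalk x)) :
    Function.Bijective (M.presheaf.map (homOfLE (inf_le_left : V ⊓ U ≤ V)).op) := by
  haveI : IsNoetherianRing Γ(X, V) := IsLocallyNoetherian.component_noetherian ⟨V, hV⟩
  haveI : Module.Finite Γ(X, V) (NN Γ(X, V) (M.restrict hV.fromSpec)) :=
    Groth.Agent.Helper1.AffFin.finite_restrict M inferInstance hft hV.fromSpec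
  obtain ⟨Z, hZ⟩ : ∃ Z : Set (PrimeSpectrum Γ(X, V)), Z = {p | hV.fromSpec p ∉ U} := ⟨_, rfl⟩
  have hZc : IsClosed Z := by
    rw [hZ]
    exact (U.isOpen.preimage hV.fromSpec.continuous).isClosed_compl
  have hJ : PrimeSpectrum.zeroLocus (PrimeSpectrum.vanishingIdeal Z : Set Γ(X, V)) = Z := by
    rw [PrimeSpectrum.zeroLocus_vanishingIdeal_eq_closure, hZc.closure_eq]
  have hdep : ∀ p : PrimeSpectrum Γ(X, V), p ∈ Z → (2 : ℕ∞) ≤
      LocCoh.depth (Localization.AtPrime p.asIdeal)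
        (LocalizedModule p.asIdeal.primeCompl (NN Γ(X, V) (M.restrict hV.fromSpec))) := by
    intro p hp
    rw [← depth_NN M hV p]
    apply h _ (SD.fromSpec_mem hV p)
    rw [hZ] at hp
    exact hp
  have hcl := closed_of_depth (A := Γ(X, V)) (M := NN Γ(X, V) (M.restrict hV.fromSpec)) Z hdep
  have hb := hcl (PrimeSpectrum.vanishingIdeal Z) hJ.le
  have hb2 := (tilde_restr_iff Γ(X, V) (M.restrict hV.fromSpec) (PrimeSpectrum.vanishingIdeal Z)).2 hb
  have hb3 := (conj_bij Γ(X, V) (M.restrict hV.fromSpec) (homOfLE (le_top : EGA4.openCompl Γ(X, V) (PrimeSpectrum.vanishingIdeal Z) ≤ ⊤))).2 hb2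
  have h₁ := Groth.Agent.Helper1.QcLoc.image_top hV
  have h₂ := image_openCompl hV U (PrimeSpectrum.vanishingIdeal Z) (hJ.trans hZ)
  have hb4 : Function.Bijective (M.presheaf.map (homOfLE (hV.fromSpec.image_mono
      (le_top : EGA4.openCompl Γ(X, V) (PrimeSpectrum.vanishingIdeal Z) ≤ ⊤))).op) := hb3
  exact (bij_transport M.presheaf h₁ h₂ _ inf_le_left).1 hb4

end aff2


section Main

variable [IsLocallyNoetherian X] (Z : Set X) (hZ : StableUnderSpecialization Z)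
  (F : X.Modules) (hF : Coh.IsCoh F)

attribute [local instance] SD.stalkModule

theorem depth_stalk_eq (hF : Coh.IsCoh F) {V : X.Opens} (hV : IsAffineOpen V) (y : V) :
    LocCoh.depth (X.presheaf.stalk y.1) (F.presheaf.stalk y.1) =
      LocCoh.depth (Localization.AtPrime (hV.primeIdealOf y).asIdeal)
        (LocalizedModule (hV.primeIdealOf y).asIdeal.primeCompl Γ(F, V)) := by
  haveI : F.IsQuasicoherent := hF.1
  haveI := SD.isLocalizedModule_germ F hV y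
  exact CohHartogs1.depth_stalk_eq_of_isLocalizedModule F hV y (SD.germₗ F y)

include hF hZ in
theorem surjective_of_depth (x : X)
    (h : ∀ x' : X, x' ⤳ x → x' ∈ Z →
      (2 : ℕ∞) ≤ LocCoh.depth (X.presheaf.stalk x') (F.presheaf.stalk x')) :
    Function.Surjective (rhoStalk Z F x) := by
  haveI : F.IsQuasicoherent := hF.1
  rw [rhoStalk_surjective_iff]
  intro T V hx t
  obtain ⟨W₀, hW₀, hxW₀, hW₀V⟩ : ∃ W₀ : X.Opens, IsAffineOpen W₀ ∧ x ∈ W₀ ∧ W₀ ≤ V := by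
    obtain ⟨_, ⟨W₀, hW₀, rfl⟩, h1, h2⟩ := X.isBasis_affineOpens.exists_subset_of_mem_open hx V.2
    exact ⟨W₀, hW₀, h1, h2⟩
  haveI : IsNoetherianRing Γ(X, W₀) := IsLocallyNoetherian.component_noetherian ⟨W₀, hW₀⟩
  haveI : Module.Finite Γ(X, W₀) Γ(F, W₀) := Groth.Agent.Helper1.FinPush.finite_sections F hF hW₀
  obtain ⟨ZT, hZT⟩ : ∃ ZT : Set (PrimeSpectrum Γ(X, W₀)), ZT = {q | hW₀.fromSpec q ∉ T.U} := ⟨_, rfl⟩
  have hZTc : IsClosed ZT := by
    rw [hZT]
    exact (T.U.isOpen.preimage hW₀.fromSpec.continuous).isClosed_compl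
  have hJ : PrimeSpectrum.zeroLocus (PrimeSpectrum.vanishingIdeal ZT : Set Γ(X, W₀)) = ZT := by
    rw [PrimeSpectrum.zeroLocus_vanishingIdeal_eq_closure, hZTc.closure_eq]
  -- points of `W₀` in `T` correspond to primes containing `J`
  have hmemJ : ∀ y : W₀, PrimeSpectrum.vanishingIdeal ZT ≤ (hW₀.primeIdealOf y).asIdeal ↔ y.1 ∉ T.U := by
    intro y
    have h1 : PrimeSpectrum.vanishingIdeal ZT ≤ (hW₀.primeIdealOf y).asIdeal ↔
        hW₀.primeIdealOf y ∈ PrimeSpectrum.zeroLocus (PrimeSpectrum.vanishingIdeal ZT : Set Γ(X, W₀)) := by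
      rw [PrimeSpectrum.mem_zeroLocus]
      exact SetLike.coe_subset_coe.symm
    rw [h1, hJ, hZT]
    change hW₀.fromSpec (hW₀.primeIdealOf y) ∉ T.U ↔ _
    rw [hW₀.fromSpec_primeIdealOf]
  obtain ⟨g, hg, hgdep⟩ := ZClosAlg2.exists_basicOpen_depth_two (M := Γ(F, W₀))
    (PrimeSpectrum.vanishingIdeal ZT) (hW₀.primeIdealOf ⟨x, hxW₀⟩).asIdeal (by
      intro q hq hJq hqp
      obtain ⟨x', hx'⟩ : ∃ x' : X, x' = hW₀.fromSpec ⟨q, hq⟩ := ⟨_, rfl⟩
      have hx'W₀ : x' ∈ W₀ := by rw [hx']; exact SD.fromSpec_mem hW₀ _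
      have hqx' : hW₀.primeIdealOf ⟨x', hx'W₀⟩ = ⟨q, hq⟩ := by
        have := SD.primeIdealOf_fromSpec hW₀ ⟨q, hq⟩
        convert this
      have hsp : x' ⤳ x := by
        rw [ZClosDepth1.specializes_iff_le hW₀ ⟨x', hx'W₀⟩ ⟨x, hxW₀⟩, hqx']
        exact hqp
      have hx'T : x' ∉ T.U := by
        rw [← hmemJ ⟨x', hx'W₀⟩, hqx']
        exact hJq
      have hx'Z : x' ∈ Z := T.2 (by
        by_contra hn
        exact hx'T hn)
      have hd := h x' hsp hx'Z
      rw [depth_stalk_eq F hF hW₀ ⟨x', hx'W₀⟩] at hd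
      have key : ∀ q' : PrimeSpectrum Γ(X, W₀), q' = ⟨q, hq⟩ →
          (2 : ℕ∞) ≤ LocCoh.depth (Localization.AtPrime q'.asIdeal)
            (LocalizedModule q'.asIdeal.primeCompl Γ(F, W₀)) →
          (2 : ℕ∞) ≤ LocCoh.depth (Localization.AtPrime q)
            (LocalizedModule q.primeCompl Γ(F, W₀)) := by
        rintro q' rfl h'; exact h'
      exact key _ hqx' hd)
  have hWle : X.basicOpen g ≤ W₀ := X.basicOpen_le g
  have hxW : x ∈ X.basicOpen g := (SD.mem_basicOpen_iff hW₀ ⟨x, hxW₀⟩ g).2 hg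
  have hWaff : IsAffineOpen (X.basicOpen g) := hW₀.basicOpen g
  have hbij := affine_bij_of_depth' F hWaff hF.2 T.U (by
    intro y hyW hyT
    have hyW₀ : y ∈ W₀ := hWle hyW
    rw [depth_stalk_eq F hF hW₀ ⟨y, hyW₀⟩]
    apply hgdep
    · exact (hmemJ ⟨y, hyW₀⟩).2 hyT
    · exact (SD.mem_basicOpen_iff hW₀ ⟨y, hyW₀⟩ g).1 hyW)
  have hbij' : Function.Bijective (F.presheaf.map
      (homOfLE (T.U.ι.image_preimage_le (X.basicOpen g))).op) := by
    refine (bij_transport F.presheaf rfl ?_ _ inf_le_left).2 hbij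
    rw [ι_image_preimage, inf_comm]
  obtain ⟨s, hs⟩ := hbij'.2 (F.presheaf.map (homOfLE (le_aux (le_refl T) (hWle.trans hW₀V))).op t)
  exact ⟨T, le_rfl, X.basicOpen g, hWle.trans hW₀V, hxW, s, hs⟩

include hF hZ in
theorem closed_of_depth' (x : X)
    (h : ∀ x' : X, x' ⤳ x → x' ∈ Z →
      (2 : ℕ∞) ≤ LocCoh.depth (X.presheaf.stalk x') (F.presheaf.stalk x')) :
    IsZClosedAt Z F x :=
  ⟨ZClosDepth1.pure_of_depth Z hZ F hF x (fun x' hsp hx' => le_trans (by norm_num) (h x' hsp hx')),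
    surjective_of_depth Z hZ F hF x h⟩

include hF hZ in
theorem depth_of_closed' (x : X) (hcl : IsZClosedAt Z F x) (x' : X) (hsp : x' ⤳ x) (hx'Z : x' ∈ Z) :
    (2 : ℕ∞) ≤ LocCoh.depth (X.presheaf.stalk x') (F.presheaf.stalk x') := by
  haveI : F.IsQuasicoherent := hF.1
  obtain ⟨W₀, hW₀, hxW₀⟩ : ∃ W₀ : X.Opens, IsAffineOpen W₀ ∧ x ∈ W₀ := by
    obtain ⟨_, ⟨W₀, hW₀, rfl⟩, h1, -⟩ :=
      X.isBasis_affineOpens.exists_subset_of_mem_open (Set.mem_univ x) isOpen_univ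
    exact ⟨W₀, hW₀, h1⟩
  have hx'W₀ : x' ∈ W₀ := hsp.mem_open W₀.2 hxW₀
  haveI : IsNoetherianRing Γ(X, W₀) := IsLocallyNoetherian.component_noetherian ⟨W₀, hW₀⟩
  haveI : Module.Finite Γ(X, W₀) Γ(F, W₀) := Groth.Agent.Helper1.FinPush.finite_sections F hF hW₀
  rw [depth_stalk_eq F hF hW₀ ⟨x', hx'W₀⟩]
  obtain ⟨p, hp⟩ : ∃ p, p = hW₀.primeIdealOf ⟨x, hxW₀⟩ := ⟨_, rfl⟩
  obtain ⟨q, hq⟩ : ∃ q, q = hW₀.primeIdealOf ⟨x', hx'W₀⟩ := ⟨_, rfl⟩
  rw [← hq]
  have hqp : q.asIdeal ≤ p.asIdeal := by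
    rw [hp, hq]; exact (ZClosDepth1.specializes_iff_le hW₀ ⟨x', hx'W₀⟩ ⟨x, hxW₀⟩).1 hsp
  -- purity: associated primes below p do not contain q
  have hass : ∀ P ∈ associatedPrimes Γ(X, W₀) Γ(F, W₀), P ≤ p.asIdeal → ¬ q.asIdeal ≤ P := by
    intro P hP hPp hqP
    haveI hPprime : P.IsPrime := IsAssociatedPrime.isPrime hP
    obtain ⟨y, hy⟩ : ∃ y : X, y = hW₀.fromSpec ⟨P, hPprime⟩ := ⟨_, rfl⟩
    have hyW₀ : y ∈ W₀ := by rw [hy]; exact SD.fromSpec_mem hW₀ _
    have hPy : hW₀.primeIdealOf ⟨y, hyW₀⟩ = ⟨P, hPprime⟩ := by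
      have := SD.primeIdealOf_fromSpec hW₀ ⟨P, hPprime⟩
      convert this
    have hyx : y ⤳ x := by
      rw [ZClosDepth1.specializes_iff_le hW₀ ⟨y, hyW₀⟩ ⟨x, hxW₀⟩, hPy, ← hp]
      exact hPp
    have hx'y : x' ⤳ y := by
      rw [ZClosDepth1.specializes_iff_le hW₀ ⟨x', hx'W₀⟩ ⟨y, hyW₀⟩, hPy, ← hq]
      exact hqP
    have hyZ : y ∈ Z := hZ hx'y hx'Z
    have h1 := ZClosDepth1.depth_of_pure Z hZ F hF x hcl.1 y hyx hyZ
    rw [ZClosDepth1.one_le_depth_stalk_iff F hW₀ hF ⟨y, hyW₀⟩, hPy] at h1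
    exact h1 hP
  obtain ⟨a, haq, hreg⟩ := exists_mem_avoid (M := Γ(F, W₀)) p.asIdeal q.asIdeal hass
  obtain ⟨g, hg, hker⟩ := exists_kill_ker (M := Γ(F, W₀)) p.asIdeal a hreg
  apply two_le_depth_of_extension p.asIdeal q.asIdeal hqp a haq hreg
  intro u hu
  obtain ⟨hle, t, ht⟩ := exists_glued_section F hW₀ q.asIdeal a g u hu hker
  obtain ⟨T, hT⟩ : ∃ T : Cl Z, T = ZClosDepth1.clPt Z hZ x' hx'Z := ⟨_, rfl⟩
  have hxV : x ∈ X.basicOpen g :=
    (SD.mem_basicOpen_iff hW₀ ⟨x, hxW₀⟩ g).2 (by rw [← hp]; exact hg)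
  -- the domain of `t` contains `D(g) ∖ T`
  have hdom : T.U.ι ''ᵁ T.U.ι ⁻¹ᵁ (X.basicOpen g) ≤ ⨆ b : q.asIdeal, X.basicOpen (g * b.1) := by
    rw [ι_image_preimage]
    rintro y ⟨hyT, hyg⟩
    have hyW₀ : y ∈ W₀ := X.basicOpen_le g hyg
    have hnsp : ¬ x' ⤳ y := by
      rw [hT] at hyT
      exact (ZClosDepth1.mem_clPt_U Z hZ hx'Z y).1 hyT
    rw [ZClosDepth1.specializes_iff_le hW₀ ⟨x', hx'W₀⟩ ⟨y, hyW₀⟩, ← hq,
      SetLike.not_le_iff_exists] at hnsp
    obtain ⟨b, hbq, hby⟩ := hnsp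
    refine Opens.mem_iSup.2 ⟨⟨b, hbq⟩, ?_⟩
    rw [Scheme.basicOpen_mul]
    exact ⟨hyg, (SD.mem_basicOpen_iff hW₀ ⟨y, hyW₀⟩ b).2 hby⟩
  obtain ⟨T', hTT', W, hWV, hxW, s, hs⟩ := (rhoStalk_surjective_iff Z F x).1 hcl.2 T
    (X.basicOpen g) hxV (F.presheaf.map (homOfLE hdom).op t)
  obtain ⟨h, hhW, hxh⟩ := hW₀.exists_basicOpen_le (V := W) ⟨x, hxW⟩ hxW₀
  have hhp : h ∉ p.asIdeal := by
    rw [hp]; exact (SD.mem_basicOpen_iff hW₀ ⟨x, hxW₀⟩ h).1 hxh
  obtain ⟨s₁, hs₁⟩ : ∃ s₁ : Γ(F, X.basicOpen h), s₁ = F.presheaf.map (homOfLE hhW).op s :=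
    ⟨_, rfl⟩
  obtain ⟨k, m, hm⟩ := Groth.Agent.Helper1.QcLoc.exists_extend hW₀ F h s₁
  obtain ⟨m', hm'⟩ : ∃ m' : Γ(F, W₀), m' = a • m - h ^ k • u := ⟨_, rfl⟩
  -- the germ of `m'` at `x` vanishes, by purity
  have hgerm : F.presheaf.germ W₀ x hxW₀ m' = 0 := by
    apply (isZPureAt_iff Z F x).1 hcl.1 W₀ hxW₀ m'
    refine ⟨T', X.basicOpen h, X.basicOpen_le h, hxh, ?_⟩
    apply TopCat.Presheaf.section_ext ⟨F.presheaf, F.isSheaf⟩
    intro y hy
    rw [map_zero, TopCat.Presheaf.germ_res_apply]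
    have hy' : y ∈ T'.U ⊓ X.basicOpen h := by rwa [ι_image_preimage] at hy
    have hyh := hy'.2
    have hyW : y ∈ W := hhW hyh
    have hyW₀ : y ∈ W₀ := X.basicOpen_le h hyh
    have hyt : y ∈ ⨆ b : q.asIdeal, X.basicOpen (g * b.1) := hdom (by
      rw [ι_image_preimage]; exact ⟨Cl.U_anti hTT' hy'.1, hWV hyW⟩)
    have e1 : F.presheaf.germ W y hyW s = F.presheaf.germ _ y hyt t := by
      have hyim : y ∈ T'.U.ι ''ᵁ T'.U.ι ⁻¹ᵁ W := by rw [ι_image_preimage]; exact ⟨hy'.1, hyW⟩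
      have := congrArg (fun z => F.presheaf.germ _ y hyim z) hs
      simp only at this
      rw [TopCat.Presheaf.germ_res_apply, TopCat.Presheaf.germ_res_apply,
        TopCat.Presheaf.germ_res_apply] at this
      exact this
    have e2 : F.presheaf.germ W₀ y hyW₀ m =
        X.presheaf.germ W₀ y hyW₀ h ^ k • F.presheaf.germ W y hyW s := by
      have := congrArg (fun z => F.presheaf.germ (X.basicOpen h) y hyh z) hm
      simp only at this
      rw [TopCat.Presheaf.germ_res_apply, SD.germ_smul, map_pow,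
        TopCat.Presheaf.germ_res_apply, hs₁, TopCat.Presheaf.germ_res_apply] at this
      exact this
    rw [hm', map_sub, SD.germ_smul, SD.germ_smul, e2, e1, smul_comm, ht y hyt, map_pow, sub_self]
  obtain ⟨c, hc, hcm⟩ := (ZClosDepth1.germ_eq_zero_iff F hW₀ ⟨x, hxW₀⟩ m').1 hgerm
  refine ⟨c * h ^ k, ?_, c • m, ?_⟩
  · intro hmem
    rcases p.2.mem_or_mem hmem with h1 | h1
    · exact hc (hp ▸ h1)
    · exact hhp (p.2.mem_of_pow_mem k h1)
  · rw [hm', smul_sub, sub_eq_zero] at hcm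
    rw [mul_smul, ← hcm, smul_comm]

include hF hZ in
theorem main (x : X) :
    IsZClosedAt Z F x ↔
      ∀ x' : X, x' ⤳ x → x' ∈ Z →
        (2 : ℕ∞) ≤ LocCoh.depth (X.presheaf.stalk x') (F.presheaf.stalk x') :=
  ⟨fun h x' hsp hx' => depth_of_closed' Z hZ F hF x h x' hsp hx', closed_of_depth' Z hZ F hF x⟩

end Main

end Groth.Agent.Lib.Helper4.ZClosDepth2
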