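import Mathlib
import Groth.Prelude.Def_ZClos
import Groth.Agent.Lib.Helper4.ZClosDepth2
import Groth.Agent.S5850

/-!
# depth of the stalks of a coherent Z-closure at points of Z is >= 2 (helper4) (helper4)
-/

set_option backward.isDefEq.respectTransparency.types false
set_option synthInstance.maxHeartbeats 400000
set_option autoImplicit false
set_option linter.unusedSectionVars false
set_option linter.style.haveILetI false
set_option linter.unusedSimpArgs false
universe u v w
open CategoryTheory CategoryTheory.Limits AlgebraicGeometry TopologicalSpace Topology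

namespace Groth.Agent.Lib.Helper4.ZClosH0Depth

open Opposite ZClos Groth.Agent.Lib.Helper4

variable {X : Scheme.{u}}

/-- a globally Z-closed module is Z-closed at every point -/
theorem isZClosedAt_of_isZClosed (Z : Set X) (F : X.Modules) (h : IsZClosed Z F) (x : X) :
    IsZClosedAt Z F x := by
  unfold IsZClosedAt rhoStalk
  haveI : IsIso (rhoApp Z F) := h
  haveI : IsIso ((Scheme.Modules.toPresheaf X).map (rhoApp Z F)) := inferInstance
  have h2 : IsIso ((TopCat.Presheaf.stalkFunctor (C := Ab.{u}) x).map
      ((Scheme.Modules.toPresheaf X).map (rhoApp Z F))) := inferInstance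
  exact (ConcreteCategory.isIso_iff_bijective _).1 h2

theorem main [IsLocallyNoetherian X] (Z : Set X)
    (hZ : StableUnderSpecialization Z) (F : X.Modules) (hF : Coh.IsCoh F)
    (hH : Coh.IsCoh ((ZClos.H0 Z).obj F)) (x : X) (hx : x ∈ Z) :
    (2 : ℕ∞) ≤ LocCoh.depth (X.presheaf.stalk x) (((ZClos.H0 Z).obj F).presheaf.stalk x) := by
  have hcl : IsZClosed Z ((ZClos.H0 Z).obj F) := Groth.Agent.S5850.result X Z hZ F
  have hclx := isZClosedAt_of_isZClosed Z _ hcl x
  exact (ZClosDepth2.main Z hZ _ hH x).1 hclx x specializes_rfl hx

end Groth.Agent.Lib.Helper4.ZClosH0Depth
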