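import Mathlib
import Groth.Prelude.Def_ZClos
import Groth.Agent.Lib.Helper4.ZClosStalk
import Groth.Agent.Lib.Helper4.ZClosDepth1
import Groth.Agent.Lib.Helper4.ZClosDepth2
import Groth.Agent.Lib.Helper4.ZClosH0Depth
import Groth.Agent.Lib.Helper4.CohIso1
import Groth.Agent.Lib.Helper4.CohHartogs1
import Groth.Agent.Lib.Helper1.FinPush
import Groth.Agent.Lib.Helper1.CohRestr
import Groth.Agent.S5849

/-!
# the Z-closed locus of a coherent module with coherent Z-closure is open; depth under open restriction; bijective-stalk locus (EGA IV 5.10.11-12; helper4) (helper4)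
-/

set_option backward.isDefEq.respectTransparency.types false
set_option synthInstance.maxHeartbeats 400000
set_option autoImplicit false
set_option linter.unusedSectionVars false
set_option linter.style.haveILetI false
set_option linter.unusedSimpArgs false
universe u v w
open CategoryTheory CategoryTheory.Limits AlgebraicGeometry TopologicalSpace Topology

namespace Groth.Agent.Lib.Helper4.ZClosOpenLocus

open Opposite ZClos Groth.Agent.Lead Groth.Agent.Lib.Helper4 Groth.Agent.Lib.Helper4.ZClosStalk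
open Groth.Agent.Lib.Helper4.Hartogs1

variable {X : Scheme.{u}}

section DepthRestrict

attribute [local instance] SD.stalkModule

variable (U : X.Opens) (F : X.Modules)

/-- the sections of the restriction, as a module over the sections of `X` -/
@[reducible] noncomputable def resMod (W' : U.toScheme.Opens) :
    Module Γ(X, U.ι ''ᵁ W') Γ((Scheme.Modules.restrictFunctor U.ι).obj F, W') :=
  inferInstanceAs (Module Γ(U.toScheme, W') Γ((Scheme.Modules.restrictFunctor U.ι).obj F, W'))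

attribute [local instance] resMod

/-- the identity, as a linear equivalence -/
noncomputable def resSecEquiv (W' : U.toScheme.Opens) :
    Γ((Scheme.Modules.restrictFunctor U.ι).obj F, W') ≃ₗ[Γ(X, U.ι ''ᵁ W')] Γ(F, U.ι ''ᵁ W') :=
  { toFun := fun s => s
    invFun := fun s => s
    map_add' := fun _ _ => rfl
    map_smul' := by
      intro r s
      simp only [RingHom.id_apply]
      change (show Γ(F, U.ι ''ᵁ W') from
        ((U.ι.appIso W').inv.hom r : Γ(X, U.ι ''ᵁ W')) • (show Γ(F, U.ι ''ᵁ W') from s)) = _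
      rw [Scheme.Opens.ι_appIso]
      rfl
    left_inv := fun _ => rfl
    right_inv := fun _ => rfl }

/-- the depth of the stalks of the restriction to an open subscheme -/
theorem depth_restrict (hF : Coh.IsCoh F) (x : U.toScheme) :
    LocCoh.depth (U.toScheme.presheaf.stalk x)
        (((Scheme.Modules.restrictFunctor U.ι).obj F).presheaf.stalk x) =
      LocCoh.depth (X.presheaf.stalk x.1) (F.presheaf.stalk x.1) := by
  haveI : F.IsQuasicoherent := hF.1
  haveI : ((Scheme.Modules.restrictFunctor U.ι).obj F).IsQuasicoherent :=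
    (Groth.Agent.Helper1.FinPush.isCoh_restrict U.ι F hF).1
  obtain ⟨W', hW', hxW'⟩ : ∃ W' : U.toScheme.Opens, IsAffineOpen W' ∧ x ∈ W' := by
    obtain ⟨_, ⟨W', hW', rfl⟩, h1, -⟩ :=
      U.toScheme.isBasis_affineOpens.exists_subset_of_mem_open (Set.mem_univ x) isOpen_univ
    exact ⟨W', hW', h1⟩
  have hW : IsAffineOpen (U.ι ''ᵁ W') := hW'.image_of_isOpenImmersion U.ι
  have hxW : x.1 ∈ U.ι ''ᵁ W' := (Scheme.Opens.mem_ι_image_iff U).2 hxW'
  haveI := SD.isLocalizedModule_germ F hW ⟨x.1, hxW⟩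
  haveI : IsLocalizedModule (hW.primeIdealOf ⟨x.1, hxW⟩).asIdeal.primeCompl
      ((SD.germₗ F ⟨x.1, hxW⟩).comp (resSecEquiv U F W').toLinearMap) :=
    IsLocalizedModule.of_linearEquiv_right _ _ _
  rw [CohHartogs1.depth_stalk_eq_of_isLocalizedModule F hW ⟨x.1, hxW⟩
    ((SD.germₗ F ⟨x.1, hxW⟩).comp (resSecEquiv U F W').toLinearMap)]
  haveI := SD.isLocalizedModule_germ ((Scheme.Modules.restrictFunctor U.ι).obj F) hW' ⟨x, hxW'⟩
  rw [CohHartogs1.depth_stalk_eq_of_isLocalizedModule ((Scheme.Modules.restrictFunctor U.ι).obj F)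
    hW' ⟨x, hxW'⟩ (SD.germₗ ((Scheme.Modules.restrictFunctor U.ι).obj F) ⟨x, hxW'⟩)]
  have hpp : (hW'.primeIdealOf ⟨x, hxW'⟩ : PrimeSpectrum Γ(X, U.ι ''ᵁ W')) =
      hW.primeIdealOf ⟨x.1, hxW⟩ := by
    apply PrimeSpectrum.ext
    ext r
    have h1 := SD.mem_basicOpen_iff hW' ⟨x, hxW'⟩ r
    have h2 := SD.mem_basicOpen_iff hW ⟨x.1, hxW⟩ r
    have h3 : x ∈ U.toScheme.basicOpen r ↔ x.1 ∈ X.basicOpen r :=
      Scheme.Opens.mem_basicOpen_toScheme
    rw [Ideal.mem_primeCompl_iff] at h1 h2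
    have h4 := (h1.symm.trans h3).trans h2
    exact not_iff_not.1 h4
  obtain ⟨G, hG⟩ : ∃ G : PrimeSpectrum Γ(X, U.ι ''ᵁ W') → ℕ∞, G = fun P =>
      LocCoh.depth (Localization.AtPrime P.asIdeal)
        (LocalizedModule P.asIdeal.primeCompl
          Γ((Scheme.Modules.restrictFunctor U.ι).obj F, W')) := ⟨_, rfl⟩
  have := congrArg G hpp
  rw [hG] at this
  exact this

end DepthRestrict


section IsoStalk

/-- a morphism of modules which is bijective on all stalks is an isomorphism -/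
theorem isIso_of_stalk_bijective {M N : X.Modules} (φ : M ⟶ N)
    (h : ∀ x : X, Function.Bijective
      ((TopCat.Presheaf.stalkFunctor (C := Ab.{u}) x).map φ.mapPresheaf)) : IsIso φ := by
  let ψ : (⟨M.presheaf, M.isSheaf⟩ : TopCat.Sheaf Ab.{u} X) ⟶ ⟨N.presheaf, N.isSheaf⟩ :=
    ⟨φ.mapPresheaf⟩
  haveI : ∀ x : X, IsIso ((TopCat.Presheaf.stalkFunctor Ab.{u} x).map ψ.1) := fun x =>
    (ConcreteCategory.isIso_iff_bijective _).2 (h x)
  haveI : IsIso ψ := TopCat.Presheaf.isIso_of_stalkFunctor_map_iso ψ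
  haveI h2 : IsIso ((TopCat.Sheaf.forget Ab.{u} X).map ψ) := Functor.map_isIso _ ψ
  haveI : IsIso ((Scheme.Modules.toPresheaf X).map φ) := h2
  exact isIso_of_reflects_iso _ (Scheme.Modules.toPresheaf X)

end IsoStalk

section Transfer

variable [IsLocallyNoetherian X] (Z : Set X) (hZ : StableUnderSpecialization Z)
  (F : X.Modules) (hF : Coh.IsCoh F) (U : X.Opens)

include hZ in
theorem stable_preimage : StableUnderSpecialization (U.ι.base ⁻¹' Z) := by
  intro a b hab ha
  exact hZ (hab.map U.ι.continuous) ha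

include hZ hF in
theorem isZClosedAt_restrict_iff (x : U.toScheme) :
    IsZClosedAt (U.ι.base ⁻¹' Z) ((Scheme.Modules.restrictFunctor U.ι).obj F) x ↔
      IsZClosedAt Z F x.1 := by
  rw [ZClosDepth2.main (U.ι.base ⁻¹' Z) (stable_preimage Z hZ U) _
    (Groth.Agent.Helper1.FinPush.isCoh_restrict U.ι F hF) x, ZClosDepth2.main Z hZ F hF x.1]
  constructor
  · intro h x' hsp hx'Z
    have hx'U : x' ∈ U := hsp.mem_open U.2 x.2
    have hsp' : (⟨x', hx'U⟩ : U.toScheme) ⤳ x :=
      (U.ι.isOpenEmbedding.isInducing.specializes_iff).1 hsp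
    have := h ⟨x', hx'U⟩ hsp' hx'Z
    rwa [depth_restrict U F hF ⟨x', hx'U⟩] at this
  · intro h x' hsp hx'Z
    rw [depth_restrict U F hF x']
    exact h x'.1 (hsp.map U.ι.continuous) hx'Z

end Transfer


section CA

variable {A : Type*} [CommRing A] (p : Ideal A) [p.IsPrime]
  {Ap : Type*} [CommRing Ap] [Algebra A Ap] [IsLocalization.AtPrime Ap p]
  {N N' : Type*} [AddCommGroup N] [Module A N] [AddCommGroup N'] [Module A N']
  {L L' : Type*} [AddCommGroup L] [Module A L] [Module Ap L] [IsScalarTower A Ap L]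
  [AddCommGroup L'] [Module A L'] [Module Ap L'] [IsScalarTower A Ap L']
  (g : N →ₗ[A] L) (g' : N' →ₗ[A] L') [IsLocalizedModule p.primeCompl g]
  [IsLocalizedModule p.primeCompl g']
  (ψ : N →ₗ[A] N') (φp : L →ₗ[Ap] L') (hcomm : ∀ n, φp (g n) = g' (ψ n))

include hcomm in
theorem loc_injective_iff :
    Function.Injective φp ↔ ∀ k : N, ψ k = 0 → ∃ c : A, c ∉ p ∧ c • k = 0 := by
  constructor
  · intro hinj k hk
    have h1 : g k = 0 := by
      apply hinj
      rw [hcomm, hk, map_zero, map_zero]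
    rw [IsLocalizedModule.eq_zero_iff p.primeCompl] at h1
    obtain ⟨c, hc⟩ := h1
    exact ⟨c.1, c.2, hc⟩
  · intro h
    rw [injective_iff_map_eq_zero]
    intro l hl
    obtain ⟨⟨n, s⟩, hns⟩ := IsLocalizedModule.surj p.primeCompl g l
    simp only at hns
    have h1 : g' (ψ n) = 0 := by
      rw [← hcomm, ← hns, LinearMap.map_smul_of_tower, hl, smul_zero]
    rw [IsLocalizedModule.eq_zero_iff p.primeCompl] at h1
    obtain ⟨t, ht⟩ := h1
    have h2 : ψ ((t : A) • n) = 0 := by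
      rw [map_smul]; exact ht
    obtain ⟨c, hc, hcn⟩ := h _ h2
    have h3 : g n = 0 := by
      rw [IsLocalizedModule.eq_zero_iff p.primeCompl]
      refine ⟨⟨c, hc⟩ * t, ?_⟩
      rw [Submonoid.smul_def, Submonoid.coe_mul, mul_smul]
      exact hcn
    rw [h3] at hns
    have := IsLocalizedModule.smul_injective g s (a₁ := l) (a₂ := 0)
    apply this
    simp only [smul_zero]
    exact hns

include hcomm in
theorem loc_surjective_iff :
    Function.Surjective φp ↔ ∀ n' : N', ∃ c : A, c ∉ p ∧ ∃ n : N, ψ n = c • n' := by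
  constructor
  · intro hsurj n'
    obtain ⟨l, hl⟩ := hsurj (g' n')
    obtain ⟨⟨n, s⟩, hns⟩ := IsLocalizedModule.surj p.primeCompl g l
    simp only at hns
    rw [Submonoid.smul_def] at hns
    have h1 : g' ((s : A) • n' - ψ n) = 0 := by
      rw [map_sub, map_smul, ← hl, ← hcomm, ← hns, LinearMap.map_smul_of_tower, sub_self]
    rw [IsLocalizedModule.eq_zero_iff p.primeCompl] at h1
    obtain ⟨t, ht⟩ := h1
    refine ⟨t.1 * s.1, (p.primeCompl.mul_mem t.2 s.2), t.1 • n, ?_⟩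
    rw [Submonoid.smul_def, smul_sub, sub_eq_zero] at ht
    rw [map_smul, ← ht, mul_smul]
  · intro h l'
    obtain ⟨⟨n', s⟩, hns⟩ := IsLocalizedModule.surj p.primeCompl g' l'
    simp only at hns
    rw [Submonoid.smul_def] at hns
    obtain ⟨c, hc, n, hn⟩ := h n'
    obtain ⟨u, hu⟩ := IsLocalization.map_units Ap (⟨c, hc⟩ * s : p.primeCompl)
    refine ⟨(↑u⁻¹ : Ap) • g n, ?_⟩
    rw [map_smul, hcomm, hn, map_smul, ← hns]
    have : ((c : A) • ((s : A) • l') : L') =
        (algebraMap A Ap ((⟨c, hc⟩ * s : p.primeCompl) : A)) • l' := by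
      rw [algebraMap_smul, Submonoid.coe_mul, mul_smul]
    rw [this, ← hu, smul_smul, Units.inv_mul, one_smul]

end CA


section OpenLocus

open Groth.Agent.Lib.Helper4.CohIso1

variable [IsLocallyNoetherian X] {M N : X.Modules}

attribute [local instance] SD.stalkModule

theorem stalk_bijective_iff (hM : Coh.IsCoh M) (hN : Coh.IsCoh N) (φ : M ⟶ N)
    {V : X.Opens} (hV : IsAffineOpen V) (y : V) :
    Function.Bijective (stalkMapAb φ y.1) ↔
      hV.primeIdealOf y ∉ Module.support Γ(X, V) (LinearMap.ker (appₗ φ V)) ∪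
        Module.support Γ(X, V) (Γ(N, V) ⧸ LinearMap.range (appₗ φ V)) := by
  haveI : M.IsQuasicoherent := hM.1
  haveI : N.IsQuasicoherent := hN.1
  haveI := SD.isLocalizedModule_germ M hV y
  haveI := SD.isLocalizedModule_germ N hV y
  haveI := hV.isLocalization_stalk y
  have hi := loc_injective_iff (hV.primeIdealOf y).asIdeal (Ap := X.presheaf.stalk y.1)
    (SD.germₗ M y) (SD.germₗ N y) (appₗ φ V) (stalkMapₗ φ y.1) (hcomm φ y)
  have hs := loc_surjective_iff (hV.primeIdealOf y).asIdeal (Ap := X.presheaf.stalk y.1)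
    (SD.germₗ M y) (SD.germₗ N y) (appₗ φ V) (stalkMapₗ φ y.1) (hcomm φ y)
  rw [Set.mem_union, not_or, Module.notMem_support_iff', Module.notMem_support_iff']
  have e1 : Function.Injective (stalkMapAb φ y.1) ↔ Function.Injective (stalkMapₗ φ y.1) := Iff.rfl
  have e2 : Function.Surjective (stalkMapAb φ y.1) ↔ Function.Surjective (stalkMapₗ φ y.1) :=
    Iff.rfl
  unfold Function.Bijective
  rw [e1, e2, hi, hs]
  constructor
  · rintro ⟨h1, h2⟩
    refine ⟨fun k => ?_, fun n' => ?_⟩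
    · obtain ⟨c, hc, hck⟩ := h1 k.1 k.2
      exact ⟨c, hc, Subtype.ext hck⟩
    · obtain ⟨n, rfl⟩ := Submodule.Quotient.mk_surjective _ n'
      obtain ⟨c, hc, m, hm⟩ := h2 n
      refine ⟨c, hc, ?_⟩
      rw [← Submodule.Quotient.mk_smul, Submodule.Quotient.mk_eq_zero, ← hm]
      exact LinearMap.mem_range_self _ m
  · rintro ⟨h1, h2⟩
    refine ⟨fun k hk => ?_, fun n' => ?_⟩
    · obtain ⟨c, hc, hck⟩ := h1 ⟨k, hk⟩
      exact ⟨c, hc, congrArg Subtype.val hck⟩
    · obtain ⟨c, hc, hcn⟩ := h2 (Submodule.Quotient.mk n')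
      rw [← Submodule.Quotient.mk_smul, Submodule.Quotient.mk_eq_zero] at hcn
      obtain ⟨m, hm⟩ := hcn
      exact ⟨c, hc, m, hm⟩

theorem isOpen_bijective_locus (hM : Coh.IsCoh M) (hN : Coh.IsCoh N) (φ : M ⟶ N) :
    IsOpen {x : X | Function.Bijective (stalkMapAb φ x)} := by
  rw [isOpen_iff_forall_mem_open]
  intro x hx
  obtain ⟨V, hV, hxV⟩ : ∃ V : X.Opens, IsAffineOpen V ∧ x ∈ V := by
    obtain ⟨_, ⟨V, hV, rfl⟩, h1, -⟩ :=
      X.isBasis_affineOpens.exists_subset_of_mem_open (Set.mem_univ x) isOpen_univ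
    exact ⟨V, hV, h1⟩
  haveI : IsNoetherianRing Γ(X, V) := IsLocallyNoetherian.component_noetherian ⟨V, hV⟩
  haveI : Module.Finite Γ(X, V) Γ(M, V) := Groth.Agent.Helper1.FinPush.finite_sections M hM hV
  haveI : Module.Finite Γ(X, V) Γ(N, V) := Groth.Agent.Helper1.FinPush.finite_sections N hN hV
  obtain ⟨S, hS⟩ : ∃ S : Set (PrimeSpectrum Γ(X, V)), S =
      Module.support Γ(X, V) (LinearMap.ker (appₗ φ V)) ∪
        Module.support Γ(X, V) (Γ(N, V) ⧸ LinearMap.range (appₗ φ V)) := ⟨_, rfl⟩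
  have hcl : IsClosed S := by
    rw [hS]
    exact Module.isClosed_support.union Module.isClosed_support
  have key : ∀ y : V, Function.Bijective (stalkMapAb φ y.1) ↔ hV.primeIdealOf y ∉ S := by
    intro y
    rw [hS]
    exact stalk_bijective_iff hM hN φ hV y
  refine ⟨hV.fromSpec '' Sᶜ, ?_, hV.fromSpec.isOpenEmbedding.isOpenMap _ hcl.isOpen_compl, ?_⟩
  · rintro _ ⟨P, hP, rfl⟩
    have hmem : hV.fromSpec P ∈ V := SD.fromSpec_mem hV P
    refine (key ⟨hV.fromSpec P, hmem⟩).2 ?_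
    rw [SD.primeIdealOf_fromSpec hV P]
    exact hP
  · exact ⟨hV.primeIdealOf ⟨x, hxV⟩, (key ⟨x, hxV⟩).1 hx, hV.fromSpec_primeIdealOf ⟨x, hxV⟩⟩

end OpenLocus


section Main

variable [IsLocallyNoetherian X] (Z : Set X) (hZ : StableUnderSpecialization Z)
  (F : X.Modules) (hF : Coh.IsCoh F)

include hF in
theorem isOpen_closedAt (hH : Coh.IsCoh ((ZClos.H0 Z).obj F)) :
    IsOpen {x : X | IsZClosedAt Z F x} :=
  isOpen_bijective_locus hF hH (rhoApp Z F)

include hZ hF in
theorem main (hH : Coh.IsCoh ((ZClos.H0 Z).obj F)) :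
    ∃ U : X.Opens, (U : Set X) = {x | ∀ x' : X, x' ⤳ x → x' ∈ Z →
        (2 : ℕ∞) ≤ LocCoh.depth (X.presheaf.stalk x') (F.presheaf.stalk x')} ∧
      (U : Set X)ᶜ ⊆ Z ∧
      ZClos.IsZClosed (U.ι.base ⁻¹' Z) ((Scheme.Modules.restrictFunctor U.ι).obj F) ∧
      ∀ V : X.Opens, ZClos.IsZClosed (V.ι.base ⁻¹' Z)
        ((Scheme.Modules.restrictFunctor V.ι).obj F) → V ≤ U := by
  obtain ⟨U, hU⟩ : ∃ U : X.Opens, U = ⟨{x : X | IsZClosedAt Z F x}, isOpen_closedAt Z F hF hH⟩ :=
    ⟨_, rfl⟩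
  have hmem : ∀ x : X, x ∈ U ↔ IsZClosedAt Z F x := by
    intro x; rw [hU]; rfl
  refine ⟨U, ?_, ?_, ?_, ?_⟩
  · ext x
    exact (hmem x).trans (ZClosDepth2.main Z hZ F hF x)
  · intro x hx
    by_contra hxZ
    exact hx ((hmem x).2 (Groth.Agent.S5849.result X Z hZ F x hxZ))
  · apply isIso_of_stalk_bijective
    intro x
    exact (isZClosedAt_restrict_iff Z hZ F hF U x).2 ((hmem x.1).1 x.2)
  · intro V hV x hxV
    have h1 := ZClosH0Depth.isZClosedAt_of_isZClosed (V.ι.base ⁻¹' Z) _ hV ⟨x, hxV⟩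
    exact (hmem x).2 ((isZClosedAt_restrict_iff Z hZ F hF V ⟨x, hxV⟩).1 h1)

end Main

end Groth.Agent.Lib.Helper4.ZClosOpenLocus
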