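import Mathlib
import Groth.Prelude.Def_LocCohZ
import Groth.Prelude.Def_Coh
import Groth.Agent.Lib.Helper4.KLCAff
import Groth.Agent.Lib.Helper4.LCZAlg
import Groth.Agent.Lib.Helper4.LCZ3
import Groth.Agent.Lib.Helper4.ZClosOpenLocus
import Groth.Agent.Lib.Helper4.CohHartogs1
import Groth.Agent.Lib.Helper1.FinPush
import Groth.Agent.Lib.Helper1.CohRestr

/-!
# cohomology with supports of a coherent module over an affine open and the depths of the stalks (helper4) (helper4)
-/

set_option backward.isDefEq.respectTransparency.types false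
set_option synthInstance.maxHeartbeats 400000
set_option autoImplicit false
set_option linter.unusedSectionVars false
set_option linter.style.haveILetI false
set_option linter.unusedSimpArgs false
universe u v w
open CategoryTheory CategoryTheory.Limits AlgebraicGeometry TopologicalSpace Topology

namespace Groth.Agent.Lib.Helper4.LCZGeo
open Opposite Groth.Agent.Lead Groth.Agent.Lib.Helper4

section Affine

variable (Y : Scheme.{u}) [IsAffine Y]

theorem mem_UU (fs : List Γ(Y, ⊤)) (y : Y) :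
    y ∈ KLC4.UU fs ↔ ∃ f ∈ fs, y ∈ Y.basicOpen f := by
  rw [Opens.mem_iSup]
  constructor
  · rintro ⟨i, hi⟩
    exact ⟨fs.get i, List.get_mem fs i, hi⟩
  · rintro ⟨f, hf, hy⟩
    obtain ⟨i, rfl⟩ := List.mem_iff_get.1 hf
    exact ⟨i, hy⟩

/-- a quasi-compact open of an affine scheme is a finite union of basic opens -/
theorem exists_eq_UU (W : Y.Opens) (hW : IsCompact (W : Set Y)) :
    ∃ fs : List Γ(Y, ⊤), W = KLC4.UU fs := by
  classical
  obtain ⟨Us, hsub, hfin, hsup⟩ := (isBasis_basicOpen Y).exists_finite_of_isCompact hW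
  refine ⟨hfin.toFinset.toList.map (Function.invFun (Y.basicOpen : Γ(Y, ⊤) → Y.Opens)), ?_⟩
  ext y
  change y ∈ W ↔ y ∈ KLC4.UU _
  rw [mem_UU, hsup]
  simp only [List.mem_map, Finset.mem_toList, Set.Finite.mem_toFinset]
  constructor
  · intro hy
    obtain ⟨O, hO, hyO⟩ : ∃ O ∈ Us, y ∈ O := by
      have : y ∈ (sSup Us : Y.Opens) := hy
      rw [Opens.mem_sSup] at this
      exact this
    refine ⟨_, ⟨O, hO, rfl⟩, ?_⟩
    rw [Function.invFun_eq (hsub hO)]
    exact hyO
  · rintro ⟨f, ⟨O, hO, rfl⟩, hy⟩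
    rw [Function.invFun_eq (hsub hO)] at hy
    have : y ∈ (sSup Us : Y.Opens) := Opens.mem_sSup.2 ⟨O, hO, hy⟩
    exact this

end Affine


section AffineDepth

attribute [local instance] SD.stalkModule

variable (Y : Scheme.{u}) [IsAffine Y] [IsLocallyNoetherian Y] (F : Y.Modules) (hF : Coh.IsCoh F)

include hF in
/-- on an affine Noetherian scheme, the cohomology with supports in a closed subset of a coherent
module vanishes below `n` exactly when the depths of the stalks along the subset are at least `n` -/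
theorem affine_vanishing_iff (W : Y.Opens) (n : ℕ) :
    (∀ i : ℕ, i < n → Subsingleton (LocCohZ.HZM Y F i W)) ↔
      ∀ y : Y, y ∉ W → (n : ℕ∞) ≤ LocCoh.depth (Y.presheaf.stalk y) (F.presheaf.stalk y) := by
  haveI : F.IsQuasicoherent := hF.1
  have hT : IsAffineOpen (⊤ : Y.Opens) := isAffineOpen_top Y
  haveI : IsNoetherianRing Γ(Y, ⊤) := IsLocallyNoetherian.component_noetherian ⟨⊤, hT⟩
  haveI hfin : Module.Finite Γ(Y, ⊤) ↑(F.val.obj (op ⊤)) :=
    Groth.Agent.Helper1.FinPush.finite_sections F hF hT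
  haveI : NoetherianSpace Y := noetherianSpace_of_isAffine
  obtain ⟨fs, rfl⟩ := exists_eq_UU Y W (NoetherianSpace.isCompact _)
  have h1 : (∀ i : ℕ, i < n → Subsingleton (LocCohZ.HZM Y F i (KLC4.UU fs))) ↔
      ∀ i : ℕ, i < n → Subsingleton (CohIII.koszulHLim fs
        (ModuleCat.of Γ(Y, ⊤) (F.val.obj (op ⊤))) i) := by
    refine forall_congr' fun i => forall_congr' fun _ => ?_
    obtain ⟨e⟩ := KLCAff.main Y F fs i
    exact ⟨fun h => e.symm.toEquiv.subsingleton, fun h => e.toEquiv.subsingleton⟩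
  rw [h1, LCZAlg.koszul_vanishing_iff]
  have hdepth : ∀ y : Y, LocCoh.depth (Y.presheaf.stalk y) (F.presheaf.stalk y) =
      LocCoh.depth (Localization.AtPrime (hT.primeIdealOf ⟨y, trivial⟩).asIdeal)
        (LocalizedModule (hT.primeIdealOf ⟨y, trivial⟩).asIdeal.primeCompl
          ↑(F.val.obj (op ⊤))) := by
    intro y
    haveI := SD.isLocalizedModule_germ F hT (⟨y, trivial⟩ : ((⊤ : Y.Opens) : Type u))
    have h0 := CohHartogs1.depth_stalk_eq_of_isLocalizedModule F hT ⟨y, trivial⟩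
      (SD.germₗ F (⟨y, trivial⟩ : ((⊤ : Y.Opens) : Type u)))
    exact h0
  have hmem : ∀ y : Y, y ∉ KLC4.UU fs ↔
      Ideal.span {a | a ∈ fs} ≤ (hT.primeIdealOf ⟨y, trivial⟩).asIdeal := by
    intro y
    rw [mem_UU, Ideal.span_le]
    constructor
    · intro h f hf
      by_contra hfp
      exact h ⟨f, hf, (SD.mem_basicOpen_iff hT ⟨y, trivial⟩ f).2 hfp⟩
    · rintro h ⟨f, hf, hy⟩
      exact (SD.mem_basicOpen_iff hT ⟨y, trivial⟩ f).1 hy (h hf)
  constructor
  · intro h y hy
    rw [hdepth y]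
    exact h _ ((hmem y).1 hy)
  · intro h p hp
    have hy : hT.primeIdealOf ⟨hT.fromSpec p, trivial⟩ = p := SD.primeIdealOf_fromSpec hT p
    have h2 := h (hT.fromSpec p) ((hmem _).2 (by rw [hy]; exact hp))
    rw [hdepth] at h2
    obtain ⟨G, hG⟩ : ∃ G : PrimeSpectrum Γ(Y, ⊤) → ℕ∞, G = fun P =>
        LocCoh.depth (Localization.AtPrime P.asIdeal)
          (LocalizedModule P.asIdeal.primeCompl ↑(F.val.obj (op ⊤))) := ⟨_, rfl⟩
    have h3 := congrArg G hy
    rw [hG] at h3
    have h4 : (n : ℕ∞) ≤ G (hT.primeIdealOf ⟨hT.fromSpec p, trivial⟩) := by rw [hG]; exact h2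
    rw [congrArg G hy, hG] at h4
    exact h4
end AffineDepth


section Open

variable (X : Scheme.{u}) [IsLocallyNoetherian X] (U : X.Opens) (M : X.Modules) (hM : Coh.IsCoh M)

include hM in
/-- over an affine open of a locally Noetherian scheme, the cohomology with supports of a coherent
module vanishes below `n` exactly when the depths of the stalks along the closed subset are at
least `n` -/
theorem affineOpen_vanishing_iff (V : X.Opens) (hV : IsAffineOpen V) (n : ℕ) :
    (∀ i : ℕ, i < n → Subsingleton (LocCohZ.HZ (X := X.carrier) (Coh.toAb M) i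
        (inf_le_left : V ⊓ U ≤ V))) ↔
      ∀ x : X, x ∈ V → x ∉ U →
        (n : ℕ∞) ≤ LocCoh.depth (X.presheaf.stalk x) (M.presheaf.stalk x) := by
  haveI : IsAffine V.toScheme := hV
  have hF' := Groth.Agent.Helper1.FinPush.isCoh_restrict V.ι M hM
  obtain ⟨W', hW'⟩ : ∃ W' : V.toScheme.Opens,
      W' = (Opens.map (CohCx.incl (X := X.carrier) V)).obj (V ⊓ U) := ⟨_, rfl⟩
  have h1 : (∀ i : ℕ, i < n → Subsingleton (LocCohZ.HZ (X := X.carrier) (Coh.toAb M) i
        (inf_le_left : V ⊓ U ≤ V))) ↔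
      ∀ i : ℕ, i < n → Subsingleton (LocCohZ.HZM V.toScheme
        ((Scheme.Modules.restrictFunctor V.ι).obj M) i W') := by
    refine forall_congr' fun i => forall_congr' fun _ => ?_
    have e := LCZ3.eF (X := X.carrier) (inf_le_left : V ⊓ U ≤ V) i (Coh.toAb M)
    rw [hW']
    exact ⟨fun h => @Equiv.subsingleton _ _ e.symm.toEquiv h,
      fun h => @Equiv.subsingleton _ _ e.toEquiv h⟩
  rw [h1, affine_vanishing_iff V.toScheme _ hF' W' n]
  have hmem : ∀ y : V.toScheme, y ∈ W' ↔ y.1 ∈ U := by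
    intro y
    rw [hW']
    change y.1 ∈ V ⊓ U ↔ _
    exact ⟨fun h => h.2, fun h => ⟨y.2, h⟩⟩
  constructor
  · intro h x hxV hxU
    have := h ⟨x, hxV⟩ (fun hy => hxU ((hmem _).1 hy))
    rwa [ZClosOpenLocus.depth_restrict V M hM ⟨x, hxV⟩] at this
  · intro h y hy
    rw [ZClosOpenLocus.depth_restrict V M hM y]
    exact h y.1 y.2 (fun hU => hy ((hmem y).2 hU))

end Open

end Groth.Agent.Lib.Helper4.LCZGeo
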