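import Mathlib
import Groth.Prelude.Def_LocCohZ
import Groth.Prelude.Def_Coh
import Groth.Agent.Lib.Helper4.LCZGeo
import Groth.Agent.Lib.Helper4.LCZBasis
import Groth.Agent.S6022

/-!
# local cohomology sheaves of a coherent module vanish below n iff the depths along the closed subset are at least n (helper4) (helper4)
-/

set_option backward.isDefEq.respectTransparency.types false
set_option synthInstance.maxHeartbeats 400000
set_option autoImplicit false
set_option linter.unusedSectionVars false
set_option linter.style.haveILetI false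
set_option linter.unusedSimpArgs false
universe u v w
open CategoryTheory CategoryTheory.Limits AlgebraicGeometry TopologicalSpace Topology

namespace Groth.Agent.Lib.Helper4.LCZDepth
open Opposite Groth.Agent.Lib.Helper4

theorem main (X : Scheme.{u}) [IsLocallyNoetherian X] (U : X.Opens)
    (M : X.Modules) (hM : Coh.IsCoh M) (n : ℕ) :
    (∀ i : ℕ, i < n → IsZero ((LocCohZ.HZsh (X := X.carrier) U i).obj (Coh.toAb M))) ↔
      ∀ x : X, x ∉ (U : Set X) →
        (n : ℕ∞) ≤ LocCoh.depth (X.presheaf.stalk x) (M.presheaf.stalk x) := by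
  constructor
  · intro h x hx
    have h2 := (Groth.Agent.S6022.result (X := X.carrier) (Coh.toAb M) U n).1 h
    obtain ⟨V, hV, hxV⟩ : ∃ V : X.Opens, IsAffineOpen V ∧ x ∈ V := by
      obtain ⟨_, ⟨V, hV, rfl⟩, h1, -⟩ :=
        X.isBasis_affineOpens.exists_subset_of_mem_open (Set.mem_univ x) isOpen_univ
      exact ⟨V, hV, h1⟩
    exact (LCZGeo.affineOpen_vanishing_iff X U M hM V hV n).1 (fun i hi => h2 V i hi) x hxV hx
  · intro h i hi
    apply LCZBasis.isZero_HZsh_of_basis (X := X.carrier) X.affineOpens X.isBasis_affineOpens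
    intro V hV
    exact (LCZGeo.affineOpen_vanishing_iff X U M hM V hV n).2 (fun x _ hxU => h x hxU) i hi

end Groth.Agent.Lib.Helper4.LCZDepth
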