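import Mathlib
import Groth.Prelude.Def_ega3
import Groth.Prelude.Def_Wider
import Groth.Prelude.Def_CAlg
import Groth.Agent.Lib.Helper8.LC11
import Groth.Agent.Lib.Helper8.Depth26
import Groth.Agent.S0325
import Groth.Agent.S0380

/-!
# Grothendieck vanishing of local cohomology above the dimensions of the localizations along the support (helper4) (helper4)
-/

set_option backward.isDefEq.respectTransparency.types false
set_option synthInstance.maxHeartbeats 400000
set_option autoImplicit false
set_option linter.unusedSectionVars false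
set_option linter.style.haveILetI false
set_option linter.unusedSimpArgs false
universe u v w
open CategoryTheory CategoryTheory.Limits AlgebraicGeometry TopologicalSpace Topology

namespace Groth.Agent.Lib.Helper4.LCZDim
open Groth.Agent.Helper8 Groth.Agent.Helper8.LC LocCoh

variable {R : Type u} [CommRing R]

/-- local cohomology with support in the unit ideal vanishes -/
theorem subsingleton_H_top (M : Type u) [AddCommGroup M] [Module R M] (i : ℕ) :
    Subsingleton (LocCoh.H (⊤ : Ideal R) i M) := by
  refine ⟨fun x y => ?_⟩
  obtain ⟨n, e, rfl⟩ := ι_rep (⊤ : Ideal R) i (ModuleCat.of R M) x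
  obtain ⟨m, e', rfl⟩ := ι_rep (⊤ : Ideal R) i (ModuleCat.of R M) y
  have key : ∀ (k : ℕ) (z : Abelian.Ext (Q (⊤ : Ideal R) k) (ModuleCat.of R M) i), z = 0 := by
    intro k z
    have h1 : (1 : R) ∈ Module.annihilator R (Q (⊤ : Ideal R) k) := by
      change (1 : R) ∈ Module.annihilator R (R ⧸ (⊤ : Ideal R) ^ k)
      rw [Ideal.annihilator_quotient, Ideal.top_pow]
      trivial
    have := Depth.ext_smul_eq_zero_of_mem_annihilator_left h1 i z
    rwa [one_smul] at this
  rw [key n e, key m e', map_zero, map_zero]

theorem lt_succ_cast (x : WithBot ℕ∞) (d : ℕ) (hx : x < ((d + 1 : ℕ) : WithBot ℕ∞)) :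
    x ≤ (d : WithBot ℕ∞) := by
  induction x using WithBot.recBotCoe with
  | bot => exact bot_le
  | coe a =>
    have h1 : a < ((d + 1 : ℕ) : ℕ∞) := by exact_mod_cast hx
    lift a to ℕ using (ne_top_of_lt h1)
    have h2 : a < d + 1 := by exact_mod_cast h1
    have h3 : a ≤ d := Nat.lt_succ_iff.1 h2
    exact_mod_cast h3

variable [IsNoetherianRing R]

/-- Grothendieck vanishing, localized along the support -/
theorem subsingleton_H_of_dim_lt (I : Ideal R) (M : Type u) [AddCommGroup M] [Module R M] (i : ℕ)
    (h : ∀ p : PrimeSpectrum R, I ≤ p.asIdeal →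
      ringKrullDim (Localization.AtPrime p.asIdeal) < (i : WithBot ℕ∞)) :
    Subsingleton (LocCoh.H I i M) := by
  cases i with
  | zero =>
    have hI : I = ⊤ := by
      by_contra hI
      obtain ⟨m, hm, hIm⟩ := Ideal.exists_le_maximal I hI
      have h1 := h ⟨m, hm.isPrime⟩ hIm
      have h2 : (0 : WithBot ℕ∞) ≤ ringKrullDim (Localization.AtPrime m) :=
        ringKrullDim_nonneg_of_nontrivial
      exact absurd (lt_of_le_of_lt h2 h1) (by simp)
    rw [hI]
    exact subsingleton_H_top M 0
  | succ d =>
    have hcd : LocCoh.CdLE R I d := by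
      rw [Groth.Agent.S0380.result]
      intro p hp
      by_cases hIp : I ≤ p
      · apply Groth.Agent.S0325.result
        have h1 := h ⟨p, hp⟩ hIp
        exact lt_succ_cast _ d h1
      · have htop : I.map (algebraMap R (Localization.AtPrime p)) = ⊤ := by
          obtain ⟨a, haI, hap⟩ := SetLike.not_le_iff_exists.1 hIp
          rw [Ideal.eq_top_iff_one]
          have hu : IsUnit (algebraMap R (Localization.AtPrime p) a) :=
            IsLocalization.map_units (Localization.AtPrime p) (⟨a, hap⟩ : p.primeCompl)
          have hm : algebraMap R (Localization.AtPrime p) a ∈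
              I.map (algebraMap R (Localization.AtPrime p)) := Ideal.mem_map_of_mem _ haI
          exact (Ideal.eq_top_of_isUnit_mem _ hm hu) ▸ Submodule.mem_top
        rw [htop]
        intro N _ _ j _
        exact subsingleton_H_top N j
    exact hcd M (d + 1) (Nat.lt_succ_self d)

end Groth.Agent.Lib.Helper4.LCZDim
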