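import Mathlib
import Groth.Prelude.Def_LocCohZ
import Groth.Prelude.Def_Coh
import Groth.Agent.Lib.Helper4.KLCAff
import Groth.Agent.Lib.Helper4.LCZDim
import Groth.Agent.Lib.Helper4.LCZGeo
import Groth.Agent.Lib.Helper4.LCZBasis
import Groth.Agent.Lib.Helper4.LCZ3
import Groth.Agent.S5173

/-!
# local cohomology sheaves of a quasi-coherent module vanish above the dimensions of the local rings along the closed subset (helper4) (helper4)
-/

set_option backward.isDefEq.respectTransparency.types false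
set_option synthInstance.maxHeartbeats 400000
set_option autoImplicit false
set_option linter.unusedSectionVars false
set_option linter.style.haveILetI false
set_option linter.unusedSimpArgs false
universe u v w
open CategoryTheory CategoryTheory.Limits AlgebraicGeometry TopologicalSpace Topology

namespace Groth.Agent.Lib.Helper4.LCZDimGeo
open Opposite Groth.Agent.Lead Groth.Agent.Lib.Helper4

section Affine

variable (Y : Scheme.{u}) [IsAffine Y] [IsLocallyNoetherian Y] (F : Y.Modules) [F.IsQuasicoherent]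

/-- on an affine Noetherian scheme, cohomology with supports in a closed subset vanishes in degrees
above the dimensions of the local rings along the subset -/
theorem affine_subsingleton_of_dim_lt (W : Y.Opens) (i : ℕ)
    (h : ∀ y : Y, y ∉ W → ringKrullDim (Y.presheaf.stalk y) < (i : WithBot ℕ∞)) :
    Subsingleton (LocCohZ.HZM Y F i W) := by
  have hT : IsAffineOpen (⊤ : Y.Opens) := isAffineOpen_top Y
  haveI : IsNoetherianRing Γ(Y, ⊤) := IsLocallyNoetherian.component_noetherian ⟨⊤, hT⟩
  haveI : NoetherianSpace Y := noetherianSpace_of_isAffine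
  obtain ⟨fs, rfl⟩ := LCZGeo.exists_eq_UU Y W (NoetherianSpace.isCompact _)
  obtain ⟨e⟩ := KLCAff.main Y F fs i
  obtain ⟨e2⟩ := Groth.Agent.S5173.result Γ(Y, ⊤) fs ↑(F.val.obj (op ⊤)) i
  have h3 : Subsingleton (LocCoh.H (Ideal.span {a | a ∈ fs}) i ↑(F.val.obj (op ⊤))) := by
    apply LCZDim.subsingleton_H_of_dim_lt
    intro p hp
    obtain ⟨y, rfl⟩ : ∃ y : ((⊤ : Y.Opens) : Type u), hT.primeIdealOf y = p :=
      ⟨⟨hT.fromSpec p, trivial⟩, SD.primeIdealOf_fromSpec hT p⟩
    have hnot : y.1 ∉ KLC4.UU fs := by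
      rw [LCZGeo.mem_UU]
      rintro ⟨f, hf, hyf⟩
      have h1 := (SD.mem_basicOpen_iff hT y f).1 hyf
      exact h1 (hp (Ideal.subset_span hf))
    have h4 := h _ hnot
    haveI := hT.isLocalization_stalk y
    have h5 := ringKrullDim_eq_of_ringEquiv
      (IsLocalization.algEquiv (hT.primeIdealOf y).asIdeal.primeCompl
        (Localization.AtPrime (hT.primeIdealOf y).asIdeal)
        (Y.presheaf.stalk y.1)).toRingEquiv
    rw [h5]
    exact h4
  exact @Equiv.subsingleton _ _ (e.toEquiv.trans e2.symm.toEquiv) h3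

end Affine


section Open

variable (X : Scheme.{u}) [IsLocallyNoetherian X] (U : X.Opens) (M : X.Modules) [M.IsQuasicoherent]

/-- the dimension of the local ring of an open subscheme -/
theorem ringKrullDim_stalk_restrict (V : X.Opens) (y : V.toScheme) :
    ringKrullDim (V.toScheme.presheaf.stalk y) = ringKrullDim (X.presheaf.stalk y.1) := by
  have e : X.presheaf.stalk (V.ι y) ≅ V.toScheme.presheaf.stalk y := asIso (V.ι.stalkMap y)
  exact (ringKrullDim_eq_of_ringEquiv e.commRingCatIsoToRingEquiv).symm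

theorem affineOpen_subsingleton_of_dim_lt (V : X.Opens) (hV : IsAffineOpen V) (i : ℕ)
    (h : ∀ x : X, x ∈ V → x ∉ U → ringKrullDim (X.presheaf.stalk x) < (i : WithBot ℕ∞)) :
    Subsingleton (LocCohZ.HZ (X := X.carrier) (Coh.toAb M) i (inf_le_left : V ⊓ U ≤ V)) := by
  haveI : IsAffine V.toScheme := hV
  haveI : ((Scheme.Modules.restrictFunctor V.ι).obj M).IsQuasicoherent :=
    Scheme.Modules.isQuasicoherent_restrictFunctor V.ι M
  obtain ⟨W', hW'⟩ : ∃ W' : V.toScheme.Opens,
      W' = (Opens.map (CohCx.incl (X := X.carrier) V)).obj (V ⊓ U) := ⟨_, rfl⟩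
  have e := LCZ3.eF (X := X.carrier) (inf_le_left : V ⊓ U ≤ V) i (Coh.toAb M)
  have hmem : ∀ y : V.toScheme, y ∈ W' ↔ y.1 ∈ U := by
    intro y
    rw [hW']
    change y.1 ∈ V ⊓ U ↔ _
    exact ⟨fun h => h.2, fun h => ⟨y.2, h⟩⟩
  have h1 : Subsingleton (LocCohZ.HZM V.toScheme
      ((Scheme.Modules.restrictFunctor V.ι).obj M) i W') := by
    apply affine_subsingleton_of_dim_lt
    intro y hy
    rw [ringKrullDim_stalk_restrict]
    exact h y.1 y.2 (fun hU => hy ((hmem y).2 hU))
  rw [hW'] at h1
  exact @Equiv.subsingleton _ _ e.toEquiv h1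

theorem main (i : ℕ)
    (hi : ∀ x : X, x ∉ (U : Set X) → ringKrullDim (X.presheaf.stalk x) < (i : WithBot ℕ∞)) :
    IsZero ((LocCohZ.HZsh (X := X.carrier) U i).obj (Coh.toAb M)) := by
  apply LCZBasis.isZero_HZsh_of_basis (X := X.carrier) X.affineOpens X.isBasis_affineOpens
  intro V hV
  exact affineOpen_subsingleton_of_dim_lt X U M V hV i (fun x _ hxU => hi x hxU)

end Open

end Groth.Agent.Lib.Helper4.LCZDimGeo
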