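import Mathlib
import Groth.Prelude.Def_CAlg
import Groth.Agent.Lib.Helper8.Depth26

/-!
# the depth of a finite free module is at least the depth of the ring (helper4) (helper4)
-/

set_option backward.isDefEq.respectTransparency.types false
set_option synthInstance.maxHeartbeats 400000
set_option autoImplicit false
set_option linter.unusedSectionVars false
set_option linter.style.haveILetI false
set_option linter.unusedSimpArgs false
universe u v w
open CategoryTheory CategoryTheory.Limits AlgebraicGeometry TopologicalSpace Topology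

namespace Groth.Agent.Lib.Helper4.LCZFree
open Groth.Agent.Helper8 LocCoh Abelian

variable {R : Type u} [CommRing R]

/-- `Ext` into a finite free module vanishes when `Ext` into the ring does -/
theorem ext_subsingleton_of_free (N : ModuleCat.{u} R) (M : Type u) [AddCommGroup M] [Module R M]
    [Module.Free R M] [Module.Finite R M] (i : ℕ)
    (h : Subsingleton (Abelian.Ext N (ModuleCat.of R R) i)) :
    Subsingleton (Abelian.Ext N (ModuleCat.of R M) i) := by
  classical
  let b := Module.Free.chooseBasis R M
  haveI : Fintype (Module.Free.ChooseBasisIndex R M) := Module.Free.ChooseBasisIndex.fintype R M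
  let π : ∀ j, ModuleCat.of R M ⟶ ModuleCat.of R R := fun j => ModuleCat.ofHom (b.coord j)
  let ι : ∀ j, ModuleCat.of R R ⟶ ModuleCat.of R M := fun j =>
    ModuleCat.ofHom (LinearMap.toSpanSingleton R M (b j))
  have hid : ∑ j, π j ≫ ι j = 𝟙 (ModuleCat.of R M) := by
    ext m
    simp only [ModuleCat.hom_sum, ModuleCat.hom_comp, ModuleCat.hom_id, LinearMap.id_coe, id_eq]
    rw [LinearMap.sum_apply]
    simp only [LinearMap.coe_comp, Function.comp_apply, π, ι, ModuleCat.hom_ofHom,
      LinearMap.toSpanSingleton_apply, Module.Basis.coord_apply]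
    exact b.sum_repr m
  have key : ∀ x : Abelian.Ext N (ModuleCat.of R M) i, x = 0 := by
    intro x
    let φ : (ModuleCat.of R M ⟶ ModuleCat.of R M) →+ Abelian.Ext N (ModuleCat.of R M) i :=
      { toFun := fun f => x.comp (Ext.mk₀ f) (add_zero i)
        map_zero' := by rw [Ext.mk₀_zero, Ext.comp_zero]
        map_add' := fun f g => by rw [Ext.mk₀_add, Ext.comp_add] }
    have h1 : φ (𝟙 _) = x := by
      change x.comp (Ext.mk₀ (𝟙 _)) (add_zero i) = x
      rw [Ext.comp_mk₀_id]
    rw [← h1, ← hid, map_sum]
    apply Finset.sum_eq_zero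
    intro j _
    change x.comp (Ext.mk₀ (π j ≫ ι j)) (add_zero i) = 0
    rw [← Ext.mk₀_comp_mk₀, ← Ext.comp_assoc_of_third_deg_zero,
      Subsingleton.elim (x.comp (Ext.mk₀ (π j)) (add_zero i)) 0, Ext.zero_comp]
  exact ⟨fun x y => by rw [key x, key y]⟩

/-- the depth of a finite free module is at least the depth of the ring -/
theorem le_idealDepth_of_free [IsNoetherianRing R] (I : Ideal R) (M : Type u) [AddCommGroup M]
    [Module R M] [Module.Free R M] [Module.Finite R M] (d : ℕ)
    (h : (d : ℕ∞) ≤ idealDepth I R) : (d : ℕ∞) ≤ idealDepth I M := by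
  rw [Depth.le_idealDepth_iff_ext'] at h ⊢
  intro i hi
  exact ext_subsingleton_of_free _ M i (h i hi)

theorem le_depth_of_free [IsNoetherianRing R] [IsLocalRing R] (M : Type u) [AddCommGroup M]
    [Module R M] [Module.Free R M] [Module.Finite R M] (d : ℕ)
    (h : (d : ℕ∞) ≤ LocCoh.depth R R) : (d : ℕ∞) ≤ LocCoh.depth R M :=
  le_idealDepth_of_free _ M d h

end Groth.Agent.Lib.Helper4.LCZFree
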