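import Mathlib
import Groth.Prelude.Def_LocCohZ
import Groth.Prelude.Def_Coh
import Groth.Prelude.Def_SpSeq
import Groth.Agent.Lib.Helper4.LCZDepth
import Groth.Agent.Lib.Helper4.LCZFree
import Groth.Agent.Lib.Helper5.Perf.StalkFree
import Groth.Agent.Lib.Helper5.Perf.LocalCoh
import Groth.Agent.Lib.Helper3.SpVan
import Groth.Agent.Lib.Helper3.H0Iso
import Groth.Agent.S6029

/-!
# global sections of the local cohomology sheaf in the lowest nonvanishing degree are cohomology with supports (helper4) (helper4)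
-/

set_option backward.isDefEq.respectTransparency.types false
set_option synthInstance.maxHeartbeats 400000
set_option autoImplicit false
set_option linter.unusedSectionVars false
set_option linter.style.haveILetI false
set_option linter.unusedSimpArgs false
universe u v w
open CategoryTheory CategoryTheory.Limits AlgebraicGeometry TopologicalSpace Topology

namespace Groth.Agent.Lib.Helper4.LCZEdge
open Opposite Groth.Agent.Lib.Helper4 Groth.Agent.Helper3

section Top
variable {X : TopCat.{u}} (F : CohTop.Ab X) (U : Opens X) (d : ℕ)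

/-- the edge isomorphism of the local-to-global spectral sequence when the local cohomology sheaves
vanish below `d` -/
theorem nonempty_sections_HZsh_equiv
    (hvan : ∀ q : ℕ, q < d → IsZero ((LocCohZ.HZsh U q).obj F)) :
    Nonempty (↑(((LocCohZ.HZsh U d).obj F).obj.obj (op ⊤)) ≃+ LocCohZ.HZc F d U) := by
  obtain ⟨E, a, hfin, -, hE⟩ := Groth.Agent.S6029.result F U
  have hzero : ∀ p q : ℤ, (p < 0 ∨ q < d) → IsZero ((E.page 2 le_rfl).X (p, q)) := by
    intro p q hpq
    obtain ⟨e⟩ := hE p q
    refine IsZero.of_iso ?_ e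
    by_cases h : 0 ≤ p ∧ 0 ≤ q
    · rw [if_pos h]
      have hq : q.toNat < d := by omega
      have h0 := hvan _ hq
      exact (Abelian.extFunctorObj (CohCx.freeSheaf (Opens.grothendieckTopology X) ⊤) p.toNat).map_isZero h0
    · rw [if_neg h]
      exact AddCommGrpCat.isZero_of_subsingleton _
  have hst : SpSeq.StationaryAt E ((0 : ℤ), (d : ℤ) - 0) 2 := by
    apply SpVan.stationaryAt_of_isZero E 2 le_rfl
    · intro r' hr'
      apply hzero
      left
      change (0 : ℤ) - r' < 0
      omega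
    · intro r' hr'
      apply hzero
      right
      change ((d : ℤ) - 0) + (1 - r') < d
      omega
  obtain ⟨e1⟩ := SpVan.iso_single E a 2 le_rfl (d : ℤ) 0 (hfin _) (fun p' hp' => by
    apply hzero
    by_cases h : p' < 0
    · exact Or.inl h
    · right
      omega) hst
  obtain ⟨e2⟩ := hE 0 ((d : ℤ) - 0)
  rw [if_pos (by omega : (0 : ℤ) ≤ (d : ℤ))] at e1
  rw [if_pos (by constructor <;> omega : (0 : ℤ) ≤ 0 ∧ (0 : ℤ) ≤ (d : ℤ) - 0)] at e2
  have h2 : ((d : ℤ)).toNat = d := by simp
  have h3 : ((d : ℤ) - 0).toNat = d := by simp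
  have h4 : (0 : ℤ).toNat = 0 := rfl
  rw [h2] at e1
  rw [h3, h4] at e2
  let e3 := H0Iso.compEquiv (Opens.grothendieckTopology X) ((LocCohZ.HZsh U d).obj F) ⊤
  exact ⟨e3.symm.trans ((e1 ≪≫ e2).addCommGroupIsoToAddEquiv).symm⟩

end Top


theorem main (X : Scheme.{u}) [IsLocallyNoetherian X]
    (U : X.Opens) (d : ℕ)
    (hdepth : ∀ x : ↥X, x ∉ (U : Set ↥X) →
      (d : ℕ∞) ≤ LocCoh.depth ↑(X.presheaf.stalk x) ↑(X.presheaf.stalk x))
    (M : X.Modules) (hM : FlatMod.IsFinLocFree M) :
    Nonempty (↑(((LocCohZ.HZsh (X := X.carrier) U d).obj (Coh.toAb M)).obj.obj (op ⊤)) ≃+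
      LocCohZ.HZM X M d U) := by
  have hcoh : Coh.IsCoh M := Groth.Agent.Lib.Helper5.LocalCoh.isCoh_of_isFinLocFree M hM
  apply nonempty_sections_HZsh_equiv (X := X.carrier)
  apply (LCZDepth.main X U M hcoh d).2
  intro x hx
  obtain ⟨h1, h2⟩ := Groth.Agent.Lib.Helper5.StalkFree.free_finite_stalk_of_isFinLocFree M hM x
  haveI : Module.Free (X.presheaf.stalk x) (M.presheaf.stalk x) := h1
  haveI : Module.Finite (X.presheaf.stalk x) (M.presheaf.stalk x) := h2
  exact LCZFree.le_depth_of_free (M.presheaf.stalk x) d (hdepth x hx)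

end Groth.Agent.Lib.Helper4.LCZEdge
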