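import Mathlib
import Groth.Prelude.Def_W4c4lgringredgrpLG

/-!
# LG-rings: points of quasi-compact opens of vector bundles (helper4)
-/

set_option backward.isDefEq.respectTransparency.types false
set_option synthInstance.maxHeartbeats 400000
set_option autoImplicit false
set_option linter.unusedSectionVars false
set_option linter.style.haveILetI false
set_option linter.unusedSimpArgs false
universe u v w

namespace Groth.Agent.Lib.Helper4.LGRing2
open LGRing AlgebraicGeometry CategoryTheory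

/-- LG property for arbitrary finite variable types -/
lemma lg_fintype {R : Type u} [CommRing R] (hR : IsLGRing R) {σ : Type} [Finite σ]
    (f : MvPolynomial σ R)
    (h : ∀ (m : Ideal R) [m.IsMaximal], ∃ s : σ → R ⧸ m, IsUnit (MvPolynomial.aeval s f)) :
    ∃ s : σ → R, IsUnit (MvPolynomial.aeval s f) := by
  obtain ⟨n, ⟨e⟩⟩ := Finite.exists_equiv_fin σ
  have key := hR n (MvPolynomial.rename e f) (fun m _ => by
    obtain ⟨s, hs⟩ := h m
    refine ⟨s ∘ e.symm, ?_⟩
    rw [MvPolynomial.aeval_rename]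
    have : (s ∘ e.symm) ∘ e = s := by ext x; simp
    rw [this]
    exact hs)
  obtain ⟨s, hs⟩ := key
  exact ⟨s ∘ e, by rwa [MvPolynomial.aeval_rename] at hs⟩

lemma range_subset_iff_span {A S : Type u} [CommRing A] [CommRing S] (φ : A →+* S) (t : Finset A) :
    (∀ q : PrimeSpectrum S, PrimeSpectrum.comap φ q ∈ (PrimeSpectrum.zeroLocus (t : Set A))ᶜ) ↔
      Ideal.span (φ '' (t : Set A)) = ⊤ := by
  constructor
  · intro h
    by_contra hne
    obtain ⟨q, hq, hle⟩ := Ideal.exists_le_maximal _ hne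
    apply h ⟨q, hq.isPrime⟩
    intro g hg
    exact hle (Ideal.subset_span ⟨g, hg, rfl⟩)
  · intro h q hq
    apply q.isPrime.ne_top
    rw [eq_top_iff, ← h, Ideal.span_le]
    rintro _ ⟨g, hg, rfl⟩
    exact hq hg

/-- S16599 -/
theorem S16599_main {R : Type u} [CommRing R] (hR : LGRing.IsLGRing R)
    (n : ℕ) (U : (Spec (CommRingCat.of (MvPolynomial (Fin n) R))).Opens)
    (hU : IsCompact (U : Set ↥(Spec (CommRingCat.of (MvPolynomial (Fin n) R)))))
    (h : ∀ (m : Ideal R) [m.IsMaximal], ∃ x : Fin n → R ⧸ m,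
      Set.range (Spec.map (CommRingCat.ofHom (MvPolynomial.eval₂Hom (Ideal.Quotient.mk m) x))).base ⊆
        (U : Set ↥(Spec (CommRingCat.of (MvPolynomial (Fin n) R))))) :
    ∃ x : Fin n → R, Set.range (Spec.map (CommRingCat.ofHom (MvPolynomial.eval x))).base ⊆
      (U : Set ↥(Spec (CommRingCat.of (MvPolynomial (Fin n) R)))) := by
  classical
  let U' : Set (PrimeSpectrum (MvPolynomial (Fin n) R)) :=
    (U : Set ↥(Spec (CommRingCat.of (MvPolynomial (Fin n) R))))
  obtain ⟨t, ht⟩ : ∃ t : Finset (MvPolynomial (Fin n) R),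
      (PrimeSpectrum.zeroLocus (t : Set (MvPolynomial (Fin n) R)))ᶜ = U' :=
    (PrimeSpectrum.isCompact_isOpen_iff (s := U')).mp ⟨hU, U.isOpen⟩
  -- reformulate the range condition
  have hrange : ∀ {S : Type u} [CommRing S] (φ : MvPolynomial (Fin n) R →+* S),
      Set.range (Spec.map (CommRingCat.ofHom φ)).base ⊆
        (U : Set ↥(Spec (CommRingCat.of (MvPolynomial (Fin n) R)))) ↔
      Ideal.span (φ '' (t : Set (MvPolynomial (Fin n) R))) = ⊤ := by
    intro S _ φ
    rw [← range_subset_iff_span, Set.range_subset_iff]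
    refine forall_congr' fun q => ?_
    show PrimeSpectrum.comap φ q ∈ U' ↔ _
    rw [← ht]
  let r := t.card
  let f : Fin r → MvPolynomial (Fin n) R := fun i => (t.equivFin.symm i : MvPolynomial (Fin n) R)
  have hf : ∀ g ∈ t, ∃ i, f i = g := by
    intro g hg
    exact ⟨t.equivFin ⟨g, hg⟩, by simp [f]⟩
  have hft : ∀ i, f i ∈ t := fun i => (t.equivFin.symm i).2
  let F : MvPolynomial (Fin n ⊕ Fin r) R :=
    ∑ i, MvPolynomial.X (Sum.inr i) * MvPolynomial.rename Sum.inl (f i)
  have hF : ∀ {S : Type u} [CommRing S] [Algebra R S] (s : Fin n ⊕ Fin r → S),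
      MvPolynomial.aeval s F = ∑ i, s (Sum.inr i) * MvPolynomial.aeval (s ∘ Sum.inl) (f i) := by
    intro S _ _ s
    simp only [F, map_sum, map_mul, MvPolynomial.aeval_X, MvPolynomial.aeval_rename]
  obtain ⟨s, hs⟩ := lg_fintype hR F (fun m _ => by
    obtain ⟨x, hx⟩ := h m
    rw [hrange] at hx
    letI : Field (R ⧸ m) := Ideal.Quotient.field m
    -- some generator has nonzero value
    have hex : ∃ g ∈ t, MvPolynomial.eval₂Hom (Ideal.Quotient.mk m) x g ≠ 0 := by
      by_contra hcon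
      push Not at hcon
      have : Ideal.span ((MvPolynomial.eval₂Hom (Ideal.Quotient.mk m) x) ''
          (t : Set (MvPolynomial (Fin n) R))) = ⊥ := by
        rw [Ideal.span_eq_bot]
        rintro _ ⟨g, hg, rfl⟩
        exact hcon g hg
      rw [this] at hx
      exact bot_ne_top hx
    obtain ⟨g, hg, hgne⟩ := hex
    obtain ⟨i, rfl⟩ := hf g hg
    refine ⟨Sum.elim x (Pi.single i 1), ?_⟩
    rw [hF]
    have h1 : ∀ i', MvPolynomial.aeval ((Sum.elim x (Pi.single i (1 : R ⧸ m))) ∘ Sum.inl) (f i') =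
        MvPolynomial.eval₂Hom (Ideal.Quotient.mk m) x (f i') := by
      intro i'
      rfl
    simp only [h1, Sum.elim_inr, Pi.single_apply, ite_mul, one_mul, zero_mul,
      Finset.sum_ite_eq', Finset.mem_univ, if_true]
    exact IsUnit.mk0 _ hgne)
  refine ⟨s ∘ Sum.inl, ?_⟩
  rw [hrange, Ideal.eq_top_iff_one]
  rw [hF] at hs
  obtain ⟨u, hu⟩ := hs
  have h2 : (u : R) ∈ Ideal.span ((MvPolynomial.eval (s ∘ Sum.inl)) ''
      (t : Set (MvPolynomial (Fin n) R))) := by
    rw [hu]
    refine Ideal.sum_mem _ fun i _ => Ideal.mul_mem_left _ _ (Ideal.subset_span ⟨f i, hft i, ?_⟩)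
    rfl
  have := Ideal.mul_mem_left _ (↑u⁻¹ : R) h2
  rwa [Units.inv_mul] at this


/-- general LG principle for "polynomially parametrised" points -/
lemma lg_points {R : Type u} [CommRing R] (hR : LGRing.IsLGRing R) {A : Type u} [CommRing A]
    [Algebra R A] (t : Finset A) (n : ℕ) (Θ : A →ₐ[R] MvPolynomial (Fin n) R)
    (h : ∀ (m : Ideal R) [m.IsMaximal], ∃ s : Fin n → R ⧸ m,
      Ideal.span ((fun g => MvPolynomial.aeval s (Θ g)) '' (t : Set A)) = ⊤) :
    ∃ s : Fin n → R, Ideal.span ((fun g => MvPolynomial.aeval s (Θ g)) '' (t : Set A)) = ⊤ := by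
  classical
  let r := t.card
  let f : Fin r → A := fun i => (t.equivFin.symm i : A)
  have hf : ∀ g ∈ t, ∃ i, f i = g := by
    intro g hg
    exact ⟨t.equivFin ⟨g, hg⟩, by simp [f]⟩
  have hft : ∀ i, f i ∈ t := fun i => (t.equivFin.symm i).2
  let F : MvPolynomial (Fin n ⊕ Fin r) R :=
    ∑ i, MvPolynomial.X (Sum.inr i) * MvPolynomial.rename Sum.inl (Θ (f i))
  have hF : ∀ {S : Type u} [CommRing S] [Algebra R S] (s : Fin n ⊕ Fin r → S),
      MvPolynomial.aeval s F = ∑ i, s (Sum.inr i) * MvPolynomial.aeval (s ∘ Sum.inl) (Θ (f i)) := by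
    intro S _ _ s
    simp only [F, map_sum, map_mul, MvPolynomial.aeval_X, MvPolynomial.aeval_rename]
  obtain ⟨s, hs⟩ := lg_fintype hR F (fun m _ => by
    obtain ⟨x, hx⟩ := h m
    letI : Field (R ⧸ m) := Ideal.Quotient.field m
    have hex : ∃ g ∈ t, MvPolynomial.aeval x (Θ g) ≠ 0 := by
      by_contra hcon
      push Not at hcon
      have : Ideal.span ((fun g => MvPolynomial.aeval x (Θ g)) '' (t : Set A)) = ⊥ := by
        rw [Ideal.span_eq_bot]
        rintro _ ⟨g, hg, rfl⟩
        exact hcon g hg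
      rw [this] at hx
      exact bot_ne_top hx
    obtain ⟨g, hg, hgne⟩ := hex
    obtain ⟨i, rfl⟩ := hf g hg
    refine ⟨Sum.elim x (Pi.single i 1), ?_⟩
    rw [hF]
    have h1 : (Sum.elim x (Pi.single i (1 : R ⧸ m))) ∘ Sum.inl = x := by
      funext j; rfl
    simp only [h1, Sum.elim_inr, Pi.single_apply, ite_mul, one_mul, zero_mul,
      Finset.sum_ite_eq', Finset.mem_univ, if_true]
    exact IsUnit.mk0 _ hgne)
  refine ⟨s ∘ Sum.inl, ?_⟩
  rw [Ideal.eq_top_iff_one]
  rw [hF] at hs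
  obtain ⟨u, hu⟩ := hs
  have h2 : (u : R) ∈ Ideal.span ((fun g => MvPolynomial.aeval (s ∘ Sum.inl) (Θ g)) ''
      (t : Set A)) := by
    rw [hu]
    exact Ideal.sum_mem _ fun i _ => Ideal.mul_mem_left _ _
      (Ideal.subset_span ⟨f i, hft i, rfl⟩)
  have := Ideal.mul_mem_left _ (↑u⁻¹ : R) h2
  rwa [Units.inv_mul] at this

/-- compact opens of `Spec A` and ring-valued points -/
lemma compact_open_points {A : Type u} [CommRing A] (U : (Spec (CommRingCat.of A)).Opens)
    (hU : IsCompact (U : Set ↥(Spec (CommRingCat.of A)))) :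
    ∃ t : Finset A, (PrimeSpectrum.zeroLocus (t : Set A))ᶜ =
        ((U : Set ↥(Spec (CommRingCat.of A))) : Set (PrimeSpectrum A)) ∧
      ∀ {S : Type u} [CommRing S] (φ : A →+* S),
        Set.range (Spec.map (CommRingCat.ofHom φ)).base ⊆ (U : Set ↥(Spec (CommRingCat.of A))) ↔
          Ideal.span (φ '' (t : Set A)) = ⊤ := by
  let U' : Set (PrimeSpectrum A) := (U : Set ↥(Spec (CommRingCat.of A)))
  obtain ⟨t, ht⟩ : ∃ t : Finset A, (PrimeSpectrum.zeroLocus (t : Set A))ᶜ = U' :=
    (PrimeSpectrum.isCompact_isOpen_iff (s := U')).mp ⟨hU, U.isOpen⟩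
  refine ⟨t, ht, ?_⟩
  intro S _ φ
  rw [← range_subset_iff_span, Set.range_subset_iff]
  refine forall_congr' fun q => ?_
  show PrimeSpectrum.comap φ q ∈ U' ↔ _
  rw [← ht]

/-- polynomial parametrisation of the points of the vector bundle of a projective module -/
lemma exists_param {R : Type u} [CommRing R] (N : Type u) [AddCommGroup N] [Module R N]
    [Module.Finite R N] [Module.Projective R N] :
    ∃ (n : ℕ) (Θ : SymmetricAlgebra R N →ₐ[R] MvPolynomial (Fin n) R)
      (Ξ : MvPolynomial (Fin n) R →ₐ[R] SymmetricAlgebra R N),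
      Ξ.comp Θ = AlgHom.id R _ ∧
      (∀ {S : Type u} [CommRing S] [Algebra R S] (s : Fin n → S), ∃ φ : N →ₗ[R] S,
        ∀ g, MvPolynomial.aeval s (Θ g) = SymmetricAlgebra.lift φ g) ∧
      (∀ {S : Type u} [CommRing S] [Algebra R S] (φ : N →ₗ[R] S), ∃ s : Fin n → S,
        ∀ g, MvPolynomial.aeval s (Θ g) = SymmetricAlgebra.lift φ g) := by
  classical
  obtain ⟨n, π, i, -, -, hπi⟩ := Module.Finite.exists_comp_eq_id_of_projective R N
  have hπi' : ∀ x, π (i x) = x := fun x => LinearMap.congr_fun hπi x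
  let θ : N →ₗ[R] MvPolynomial (Fin n) R :=
    ∑ j, (LinearMap.toSpanSingleton R (MvPolynomial (Fin n) R) (MvPolynomial.X j)) ∘ₗ
      (LinearMap.proj (R := R) (φ := fun _ : Fin n => R) j) ∘ₗ i
  let Θ : SymmetricAlgebra R N →ₐ[R] MvPolynomial (Fin n) R := SymmetricAlgebra.lift θ
  let Ξ : MvPolynomial (Fin n) R →ₐ[R] SymmetricAlgebra R N :=
    MvPolynomial.aeval fun j => SymmetricAlgebra.ι R N (π (Pi.single j 1))
  let φs : ∀ {S : Type u} [CommRing S] [Algebra R S], (Fin n → S) → (N →ₗ[R] S) :=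
    fun {S} _ _ s => ∑ j, (LinearMap.toSpanSingleton R S (s j)) ∘ₗ
      (LinearMap.proj (R := R) (φ := fun _ : Fin n => R) j) ∘ₗ i
  have hexp : ∀ x : N, x = ∑ j, i x j • π (Pi.single j 1) := by
    intro x
    conv_lhs => rw [← hπi' x]
    have hv : i x = ∑ j, i x j • (Pi.single j (1 : R) : Fin n → R) := by
      funext k
      simp [Finset.sum_apply, Pi.single_apply]
    conv_lhs => rw [hv]
    simp only [map_sum, map_smul]
  have hΘ : ∀ {S : Type u} [CommRing S] [Algebra R S] (s : Fin n → S) (g : SymmetricAlgebra R N),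
      MvPolynomial.aeval s (Θ g) = SymmetricAlgebra.lift (φs s) g := by
    intro S _ _ s g
    have : (MvPolynomial.aeval s).comp Θ = SymmetricAlgebra.lift (φs s) := by
      apply SymmetricAlgebra.algHom_ext
      ext x
      simp [Θ, θ, φs, LinearMap.toSpanSingleton_apply, map_sum]
    rw [← this]; rfl
  refine ⟨n, Θ, Ξ, ?_, fun s => ⟨φs s, hΘ s⟩, fun {S} _ _ φ => ⟨fun j => φ (π (Pi.single j 1)), ?_⟩⟩
  · have h : ∀ x : N, Ξ (Θ (SymmetricAlgebra.ι R N x)) = SymmetricAlgebra.ι R N x := by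
      intro x
      simp only [Θ, SymmetricAlgebra.lift_ι_apply, θ, LinearMap.sum_apply, LinearMap.comp_apply,
        LinearMap.proj_apply, LinearMap.toSpanSingleton_apply, map_sum, map_smul, Ξ,
        MvPolynomial.aeval_X]
      conv_rhs => rw [hexp x]
      simp only [map_sum, map_smul]
    apply SymmetricAlgebra.algHom_ext
    ext x
    exact h x
  · have hφs : φs (fun j => φ (π (Pi.single j 1))) = φ := by
      ext x
      simp only [φs, LinearMap.sum_apply, LinearMap.comp_apply, LinearMap.proj_apply,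
        LinearMap.toSpanSingleton_apply]
      conv_rhs => rw [hexp x]
      simp only [map_sum, map_smul]
    intro g
    rw [hΘ, hφs]

/-- S16600 -/
theorem S16600_main {R : Type u} [CommRing R]
    (hR : LGRing.IsLGRing R) (M : Type u) [AddCommGroup M] [Module R M] [Module.Finite R M] [Module.Projective R M]
    (U : (Spec (CommRingCat.of (SymmetricAlgebra R (Module.Dual R M)))).Opens)
    (hU : IsCompact (U : Set ↥(Spec (CommRingCat.of (SymmetricAlgebra R (Module.Dual R M)))))) :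
    (∃ φ : Module.Dual R M →ₗ[R] R,
      Set.range (Spec.map (CommRingCat.ofHom (SymmetricAlgebra.lift φ).toRingHom)).base ⊆
        (U : Set ↥(Spec (CommRingCat.of (SymmetricAlgebra R (Module.Dual R M)))))) ↔
    ∀ (m : Ideal R) [m.IsMaximal], ∃ φ : Module.Dual R M →ₗ[R] (R ⧸ m),
      Set.range (Spec.map (CommRingCat.ofHom (SymmetricAlgebra.lift φ).toRingHom)).base ⊆
        (U : Set ↥(Spec (CommRingCat.of (SymmetricAlgebra R (Module.Dual R M))))) := by
  classical
  let A := SymmetricAlgebra R (Module.Dual R M)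
  obtain ⟨t, -, hrange⟩ := compact_open_points U hU
  constructor
  · rintro ⟨φ, hφ⟩ m hm
    refine ⟨(Ideal.Quotient.mkₐ R m).toLinearMap ∘ₗ φ, ?_⟩
    rw [hrange] at hφ ⊢
    have hcomp : (SymmetricAlgebra.lift ((Ideal.Quotient.mkₐ R m).toLinearMap ∘ₗ φ)) =
        (Ideal.Quotient.mkₐ R m).comp (SymmetricAlgebra.lift φ) := by
      apply SymmetricAlgebra.algHom_ext
      ext x
      simp
    rw [hcomp]
    have h3 : Ideal.map (Ideal.Quotient.mk m)
        (Ideal.span ((SymmetricAlgebra.lift φ).toRingHom '' (t : Set A))) = ⊤ := by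
      rw [hφ, Ideal.map_top]
    rw [Ideal.map_span, Set.image_image] at h3
    exact h3
  · intro h
    obtain ⟨n, Θ, Ξ, -, hpar1, hpar2⟩ := exists_param (R := R) (Module.Dual R M)
    obtain ⟨s, hs⟩ := lg_points hR t n Θ (fun m hm => by
      obtain ⟨φ, hφ⟩ := h m
      rw [hrange] at hφ
      obtain ⟨s, hs⟩ := hpar2 φ
      refine ⟨s, ?_⟩
      simp only [hs]
      exact hφ)
    obtain ⟨φ, hφ⟩ := hpar1 s
    refine ⟨φ, ?_⟩
    rw [hrange]
    simp only [hφ] at hs
    exact hs

/-- S16601 -/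
theorem S16601_main {R : Type u} [CommRing R]
    (hR : LGRing.IsLGRing R) (hinf : ∀ (m : Ideal R) [m.IsMaximal], Infinite (R ⧸ m))
    (M : Type u) [AddCommGroup M] [Module R M] [Module.Finite R M] [Module.Projective R M]
    (U : (Spec (CommRingCat.of (SymmetricAlgebra R (Module.Dual R M)))).Opens)
    (hU : IsCompact (U : Set ↥(Spec (CommRingCat.of (SymmetricAlgebra R (Module.Dual R M))))))
    (hdense : ∀ (m : Ideal R) [m.IsMaximal],
      Dense ((Spec.map (CommRingCat.ofHom (Ideal.Quotient.mk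
        (Ideal.map (algebraMap R (SymmetricAlgebra R (Module.Dual R M))) m)))).base ⁻¹'
          (U : Set ↥(Spec (CommRingCat.of (SymmetricAlgebra R (Module.Dual R M))))))) :
    ∃ φ : Module.Dual R M →ₗ[R] R,
      Set.range (Spec.map (CommRingCat.ofHom (SymmetricAlgebra.lift φ).toRingHom)).base ⊆
        (U : Set ↥(Spec (CommRingCat.of (SymmetricAlgebra R (Module.Dual R M))))) := by
  classical
  rw [S16600_main hR M U hU]
  intro m hm
  let A := SymmetricAlgebra R (Module.Dual R M)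
  obtain ⟨t, ht, hrange⟩ := compact_open_points U hU
  obtain ⟨n, Θ, Ξ, hΞΘ, hpar1, -⟩ := exists_param (R := R) (Module.Dual R M)
  letI : Field (R ⧸ m) := Ideal.Quotient.field m
  haveI : Infinite (R ⧸ m) := hinf m
  set mA : Ideal A := Ideal.map (algebraMap R A) m with hmA
  -- `mA` is proper
  have hmAne : mA ≠ ⊤ := by
    intro htop
    have h1 : (1 : A) ∈ mA := by rw [htop]; trivial
    let ε : A →+* R ⧸ m := (Ideal.Quotient.mk m).comp
      (SymmetricAlgebra.algebraMapInv (R := R) (M := Module.Dual R M)).toRingHom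
    have h2 : mA ≤ RingHom.ker ε := by
      rw [hmA, Ideal.map_le_iff_le_comap]
      intro a ha
      rw [Ideal.mem_comap, RingHom.mem_ker]
      simp only [ε, RingHom.comp_apply, AlgHom.toRingHom_eq_coe, RingHom.coe_coe, AlgHom.commutes,
        Algebra.algebraMap_self, RingHom.id_apply]
      exact Ideal.Quotient.eq_zero_iff_mem.mpr ha
    have h3 := h2 h1
    rw [RingHom.mem_ker, map_one] at h3
    exact one_ne_zero h3
  -- a generator of `U` outside `mA`
  have hex : ∃ g ∈ t, g ∉ mA := by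
    haveI : Nontrivial (A ⧸ mA) := Ideal.Quotient.nontrivial_iff.mpr hmAne
    obtain ⟨q⟩ : Nonempty (PrimeSpectrum (A ⧸ mA)) := inferInstance
    obtain ⟨q', hq'⟩ := (hdense m).exists_mem_open isOpen_univ ⟨q, trivial⟩
    have h1 : PrimeSpectrum.comap (Ideal.Quotient.mk mA) q' ∈
        ((U : Set ↥(Spec (CommRingCat.of A))) : Set (PrimeSpectrum A)) := hq'.1
    rw [← ht] at h1
    have h2 : ¬ ((t : Set A) ⊆ (PrimeSpectrum.comap (Ideal.Quotient.mk mA) q').asIdeal) := h1
    rw [Set.not_subset] at h2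
    obtain ⟨g, hg, hgq⟩ := h2
    refine ⟨g, hg, fun hgm => hgq ?_⟩
    show Ideal.Quotient.mk mA g ∈ q'.asIdeal
    rw [Ideal.Quotient.eq_zero_iff_mem.mpr hgm]
    exact zero_mem _
  obtain ⟨g, hg, hgm⟩ := hex
  -- `Θ g` is nonzero modulo `m`
  have hΘg : MvPolynomial.map (Ideal.Quotient.mk m) (Θ g) ≠ 0 := by
    intro h0
    have h1 : Θ g ∈ RingHom.ker (MvPolynomial.map (σ := Fin n) (Ideal.Quotient.mk m)) := h0
    rw [MvPolynomial.ker_map, Ideal.mk_ker] at h1
    apply hgm
    have h2 : g = Ξ (Θ g) := by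
      have := AlgHom.congr_fun hΞΘ g
      simpa using this.symm
    rw [h2]
    have h3 : Ideal.map (MvPolynomial.C : R →+* MvPolynomial (Fin n) R) m ≤
        Ideal.comap Ξ.toRingHom mA := by
      rw [Ideal.map_le_iff_le_comap]
      intro a ha
      rw [Ideal.mem_comap, Ideal.mem_comap]
      have : Ξ.toRingHom (MvPolynomial.C a) = algebraMap R A a := by
        simp
        rfl
      rw [this]
      exact Ideal.mem_map_of_mem _ ha
    exact h3 h1
  obtain ⟨s, hs⟩ : ∃ s : Fin n → R ⧸ m,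
      MvPolynomial.eval s (MvPolynomial.map (Ideal.Quotient.mk m) (Θ g)) ≠ 0 := by
    by_contra hcon
    push Not at hcon
    exact hΘg (MvPolynomial.funext (fun x => by rw [hcon x, map_zero]))
  obtain ⟨φ, hφ⟩ := hpar1 s
  refine ⟨φ, ?_⟩
  rw [hrange, Ideal.eq_top_iff_one]
  have h1 : (SymmetricAlgebra.lift φ).toRingHom g ∈
      Ideal.span ((SymmetricAlgebra.lift φ).toRingHom '' (t : Set A)) :=
    Ideal.subset_span ⟨g, hg, rfl⟩
  have h2 : (SymmetricAlgebra.lift φ).toRingHom g ≠ 0 := by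
    show SymmetricAlgebra.lift φ g ≠ 0
    rw [← hφ g]
    rw [MvPolynomial.eval_map] at hs
    exact hs
  have := Ideal.mul_mem_left _ ((SymmetricAlgebra.lift φ).toRingHom g)⁻¹ h1
  rwa [inv_mul_cancel₀ h2] at this

end Groth.Agent.Lib.Helper4.LGRing2
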