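import Mathlib
set_option autoImplicit false
namespace Groth.Agent.Helper4.LRank

section
variable (k : Type*) {A : Type*} [Field k] [CommRing A] [Algebra k A]

/-- linear dependence of two vectors -/
def Dep (x y : A) : Prop := ∃ a b : k, (a ≠ 0 ∨ b ≠ 0) ∧ a • x = b • y

variable {k}

theorem Dep.symm {x y : A} (h : Dep k x y) : Dep k y x := by
  obtain ⟨a, b, hab, e⟩ := h
  exact ⟨b, a, hab.symm, e.symm⟩

theorem Dep.mul_left {x y : A} (g : A) (h : Dep k x y) : Dep k (g * x) (g * y) := by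
  obtain ⟨a, b, hab, e⟩ := h
  exact ⟨a, b, hab, by rw [← mul_smul_comm, ← mul_smul_comm, e]⟩

theorem dep_of_left_zero {x y : A} (h : x = 0) : Dep k x y :=
  ⟨1, 0, Or.inl one_ne_zero, by rw [h, smul_zero, zero_smul]⟩

theorem dep_of_right_zero {x y : A} (h : y = 0) : Dep k x y :=
  ⟨0, 1, Or.inr one_ne_zero, by rw [h, smul_zero, zero_smul]⟩

theorem dep_of_eq_smul {x y : A} (t : k) (h : y = t • x) : Dep k x y :=
  ⟨t, 1, Or.inr one_ne_zero, by rw [h, one_smul]⟩

theorem dep_of_eq {x y : A} (h : x = y) : Dep k x y :=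
  ⟨1, 1, Or.inl one_ne_zero, by rw [h]⟩

theorem Dep.mem_of_ne_zero {x y : A} (h : Dep k x y) (hx : x ≠ 0) : ∃ t : k, y = t • x := by
  obtain ⟨a, b, hab, e⟩ := h
  by_cases hb : b = 0
  · exfalso
    rw [hb, zero_smul] at e
    have ha : a ≠ 0 := hab.resolve_right (not_not.2 hb)
    apply hx
    have := congrArg (fun z => a⁻¹ • z) e
    simpa [smul_smul, inv_mul_cancel₀ ha] using this
  · refine ⟨b⁻¹ * a, ?_⟩
    rw [mul_smul, e, smul_smul, inv_mul_cancel₀ hb, one_smul]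

structure Hyp (k : Type*) {A : Type*} [Field k] [CommRing A] [Algebra k A]
    (x₀ x₁ x₂ : A) (p q m : ℕ) (s : k) (N' N E L : ℕ) : Prop where
  hp : 0 < p
  hpq : p < q
  hm : 0 < m
  R1 : x₀ ^ N' = 0
  R2 : x₁ ^ E * x₂ ^ L = s • x₀ ^ N
  R3 : ∀ a u v : ℕ, ¬ (a = 0 ∧ u = 0 ∧ v = 0) → (a : ℤ) - p * u + q * v = 0 →
    (m : ℤ) ∣ (u : ℤ) - v → x₀ ^ a * x₁ ^ u * x₂ ^ v = 0
  NF1 : N' ≤ q - p
  NF2 : ∀ u v : ℕ, (m : ℤ) ∣ (u : ℤ) - v → 0 < (q : ℤ) * v - p * u → (q : ℤ) * v - p * u < N' →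
    E ≤ u ∧ L ≤ v
  NF3 : (q : ℤ) * L - p * E = N
  NF4 : (m : ℤ) ∣ (E : ℤ) - L
  NF5 : 1 ≤ E + L

variable {x₀ x₁ x₂ : A} {p q m : ℕ} {s : k} {N' N E L : ℕ}

theorem claimC (H : Hyp k x₀ x₁ x₂ p q m s N' N E L) : ∀ n u v : ℕ, u + v = n →
    (m : ℤ) ∣ (u : ℤ) - v → ∀ a : ℕ, (a : ℤ) = (q : ℤ) * v - p * u → 0 < a → a < N' →
    ∃ t : k, x₁ ^ u * x₂ ^ v = t • x₀ ^ a := by
  intro n
  induction n using Nat.strong_induction_on with
  | _ n ih =>
    intro u v huv hdvd a ha ha0 haN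
    obtain ⟨hE, hL⟩ := H.NF2 u v hdvd (by rw [← ha]; exact_mod_cast ha0)
      (by rw [← ha]; exact_mod_cast haN)
    obtain ⟨u', rfl⟩ := Nat.exists_eq_add_of_le hE
    obtain ⟨v', rfl⟩ := Nat.exists_eq_add_of_le hL
    have hsplit : x₁ ^ (E + u') * x₂ ^ (L + v') = s • (x₀ ^ N * (x₁ ^ u' * x₂ ^ v')) := by
      rw [pow_add, pow_add, ← smul_mul_assoc, ← H.R2]; ring
    have hdvd' : (m : ℤ) ∣ (u' : ℤ) - v' := by
      have := dvd_sub hdvd H.NF4
      push_cast at this
      have e : (u' : ℤ) - v' = (E : ℤ) + u' - ((L : ℤ) + v') - ((E : ℤ) - L) := by ring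
      rw [e]; exact this
    have ha' : (q : ℤ) * v' - p * u' = (a : ℤ) - N := by
      push_cast at ha
      have := H.NF3
      linarith
    rcases lt_trichotomy a N with hlt | heq | hgt
    · -- a < N
      refine ⟨0, ?_⟩
      rw [hsplit, zero_smul]
      obtain ⟨r, rfl⟩ := Nat.exists_eq_add_of_lt hlt
      have h0 : x₀ ^ (r + 1) * x₁ ^ u' * x₂ ^ v' = 0 := by
        apply H.R3 (r + 1) u' v' (by omega) _ hdvd'
        push_cast at ha' ⊢
        linarith
      have : x₀ ^ (a + r + 1) * (x₁ ^ u' * x₂ ^ v') = x₀ ^ a * (x₀ ^ (r + 1) * x₁ ^ u' * x₂ ^ v') := by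
        rw [show a + r + 1 = a + (r + 1) by ring, pow_add]; ring
      rw [this, h0, mul_zero, smul_zero]
    · -- a = N
      subst heq
      by_cases h0 : u' = 0 ∧ v' = 0
      · obtain ⟨rfl, rfl⟩ := h0
        exact ⟨s, by rw [hsplit]; simp⟩
      · refine ⟨0, ?_⟩
        rw [hsplit, zero_smul]
        have h0' : x₀ ^ 0 * x₁ ^ u' * x₂ ^ v' = 0 := by
          apply H.R3 0 u' v' (by omega) _ hdvd'
          push_cast
          linarith
        rw [pow_zero, one_mul] at h0'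
        rw [h0', mul_zero, smul_zero]
    · -- a > N
      obtain ⟨r, hr⟩ := Nat.exists_eq_add_of_lt hgt
      have hpos : 0 < E + L := H.NF5
      obtain ⟨t', ht'⟩ := ih (u' + v') (by omega) u' v' rfl hdvd' (r + 1)
        (by rw [ha', hr]; push_cast; ring) (by omega) (by omega)
      refine ⟨s * t', ?_⟩
      rw [hsplit, ht', mul_smul_comm, smul_smul, ← pow_add, hr]
      congr 2

/-- coprime case -/
theorem lemD (H : Hyp k x₀ x₁ x₂ p q m s N' N E L) (a u v u' v' : ℕ)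
    (hn : (a : ℤ) - p * u + q * v = - p * u' + q * v')
    (hc : (m : ℤ) ∣ ((u : ℤ) - v) - ((u' : ℤ) - v'))
    (hu : u = 0 ∨ u' = 0) (hv : v = 0 ∨ v' = 0) :
    Dep k (x₀ ^ a * x₁ ^ u * x₂ ^ v) (x₁ ^ u' * x₂ ^ v') := by
  have hpz : (0 : ℤ) < p := by exact_mod_cast H.hp
  have hqz : (0 : ℤ) < q := by exact_mod_cast lt_trans H.hp H.hpq
  rcases hu with rfl | rfl
  · rcases hv with rfl | rfl
    · -- (C): N = x₀^a
      simp only [pow_zero, mul_one]
      simp only [Nat.cast_zero, mul_zero, sub_zero, add_zero, zero_sub] at hn hc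
      have hc' : (m : ℤ) ∣ (u' : ℤ) - v' := (dvd_neg).1 hc
      rcases Nat.eq_zero_or_pos a with rfl | ha0
      · by_cases h0 : u' = 0 ∧ v' = 0
        · obtain ⟨rfl, rfl⟩ := h0
          exact dep_of_eq (by simp)
        · apply dep_of_right_zero
          have := H.R3 0 u' v' (by omega) (by push_cast at hn ⊢; linarith) hc'
          rwa [pow_zero, one_mul] at this
      · rcases Nat.lt_or_ge a N' with hlt | hge
        · obtain ⟨t, ht⟩ := claimC H (u' + v') u' v' rfl hc' a (by linarith) ha0 hlt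
          exact dep_of_eq_smul t ht
        · apply dep_of_left_zero
          obtain ⟨r, rfl⟩ := Nat.exists_eq_add_of_le hge
          rw [pow_add, H.R1, zero_mul]
    · -- (D): all zero
      simp only [pow_zero, mul_one, one_mul]
      simp only [Nat.cast_zero, mul_zero, sub_zero, add_zero] at hn
      have h1 : (0 : ℤ) ≤ (a : ℤ) := Int.natCast_nonneg _
      have h2 : (0 : ℤ) ≤ (q : ℤ) * v := by positivity
      have h3 : (0 : ℤ) ≤ (p : ℤ) * u' := by positivity
      have ha : a = 0 := by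
        have : (a : ℤ) = 0 := by linarith
        exact_mod_cast this
      have hv : v = 0 := by
        have : (q : ℤ) * v = 0 := by linarith
        rcases mul_eq_zero.1 this with h | h
        · omega
        · exact_mod_cast h
      have hu' : u' = 0 := by
        have : (p : ℤ) * u' = 0 := by linarith
        rcases mul_eq_zero.1 this with h | h
        · omega
        · exact_mod_cast h
      subst ha hv hu'
      exact dep_of_eq (by simp)
  · rcases hv with rfl | rfl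
    · -- (B): N = x₀^a x₁^u, N' = x₂^v'
      simp only [pow_zero, mul_one, one_mul]
      simp only [Nat.cast_zero, mul_zero, sub_zero, add_zero, zero_add, neg_zero, zero_sub,
        sub_neg_eq_add] at hn hc
      rcases Nat.eq_zero_or_pos v' with rfl | hv0
      · -- N' = 1
        simp only [pow_zero]
        by_cases h0 : a = 0 ∧ u = 0
        · obtain ⟨rfl, rfl⟩ := h0
          exact dep_of_eq (by simp)
        · apply dep_of_left_zero
          have := H.R3 a u 0 (by omega) (by push_cast at hn ⊢; linarith) (by simpa using hc)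
          rwa [pow_zero, mul_one] at this
      · apply dep_of_left_zero
        have hq' : (q : ℤ) * 1 ≤ (q : ℤ) * v' := by
          apply mul_le_mul_of_nonneg_left _ hqz.le
          exact_mod_cast hv0
        have h3 : (0 : ℤ) ≤ (p : ℤ) * u := by positivity
        have hqa : q ≤ a := by
          have : (q : ℤ) ≤ a := by linarith
          exact_mod_cast this
        have hge : N' ≤ a := le_trans H.NF1 (le_trans (Nat.sub_le _ _) hqa)
        obtain ⟨r, rfl⟩ := Nat.exists_eq_add_of_le hge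
        rw [pow_add, H.R1, zero_mul, zero_mul]
    · -- (A): N' = 1
      simp only [pow_zero, mul_one]
      simp only [Nat.cast_zero, mul_zero, sub_zero, add_zero, neg_zero] at hn hc
      by_cases h0 : a = 0 ∧ u = 0 ∧ v = 0
      · obtain ⟨rfl, rfl, rfl⟩ := h0
        exact dep_of_eq (by simp)
      · apply dep_of_left_zero
        exact H.R3 a u v h0 (by linarith) hc

/-- one-sided main lemma: `a' ≤ a` -/
theorem main_aux (H : Hyp k x₀ x₁ x₂ p q m s N' N E L) (a u v a' u' v' : ℕ)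
    (hn : (a : ℤ) - p * u + q * v = a' - p * u' + q * v')
    (hc : (m : ℤ) ∣ ((u : ℤ) - v) - ((u' : ℤ) - v')) (haa : a' ≤ a) :
    Dep k (x₀ ^ a * x₁ ^ u * x₂ ^ v) (x₀ ^ a' * x₁ ^ u' * x₂ ^ v') := by
  obtain ⟨a₁, rfl⟩ := Nat.exists_eq_add_of_le haa
  set gu := min u u' with hgu
  set gv := min v v' with hgv
  obtain ⟨u₁, hu₁⟩ := Nat.exists_eq_add_of_le (min_le_left u u')
  obtain ⟨u₁', hu₁'⟩ := Nat.exists_eq_add_of_le (min_le_right u u')
  obtain ⟨v₁, hv₁⟩ := Nat.exists_eq_add_of_le (min_le_left v v')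
  obtain ⟨v₁', hv₁'⟩ := Nat.exists_eq_add_of_le (min_le_right v v')
  rw [← hgu] at hu₁ hu₁'
  rw [← hgv] at hv₁ hv₁'
  have hu0 : u₁ = 0 ∨ u₁' = 0 := by
    rcases le_total u u' with h | h
    · left; have : gu = u := min_eq_left h; omega
    · right; have : gu = u' := min_eq_right h; omega
  have hv0 : v₁ = 0 ∨ v₁' = 0 := by
    rcases le_total v v' with h | h
    · left; have : gv = v := min_eq_left h; omega
    · right; have : gv = v' := min_eq_right h; omega
  have hD := lemD H a₁ u₁ v₁ u₁' v₁' ?_ ?_ hu0 hv0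
  · have := hD.mul_left (x₀ ^ a' * x₁ ^ gu * x₂ ^ gv)
    have e1 : x₀ ^ (a' + a₁) * x₁ ^ u * x₂ ^ v = x₀ ^ a' * x₁ ^ gu * x₂ ^ gv * (x₀ ^ a₁ * x₁ ^ u₁ * x₂ ^ v₁) := by
      rw [hu₁, hv₁, pow_add, pow_add, pow_add]; ring
    have e2 : x₀ ^ a' * x₁ ^ u' * x₂ ^ v' = x₀ ^ a' * x₁ ^ gu * x₂ ^ gv * (x₁ ^ u₁' * x₂ ^ v₁') := by
      rw [hu₁', hv₁', pow_add, pow_add]; ring
    rw [e1, e2]
    exact this
  · rw [hu₁, hu₁', hv₁, hv₁'] at hn
    push_cast at hn
    linarith
  · rw [hu₁, hu₁', hv₁, hv₁'] at hc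
    push_cast at hc
    have e : ((u₁ : ℤ) - v₁) - ((u₁' : ℤ) - v₁') = (gu : ℤ) + u₁ - ((gv : ℤ) + v₁) - ((gu : ℤ) + u₁' - ((gv : ℤ) + v₁')) := by ring
    rw [e]; exact hc

theorem main (H : Hyp k x₀ x₁ x₂ p q m s N' N E L) (a u v a' u' v' : ℕ)
    (hn : (a : ℤ) - p * u + q * v = a' - p * u' + q * v')
    (hc : (m : ℤ) ∣ ((u : ℤ) - v) - ((u' : ℤ) - v')) :
    Dep k (x₀ ^ a * x₁ ^ u * x₂ ^ v) (x₀ ^ a' * x₁ ^ u' * x₂ ^ v') := by
  rcases le_total a' a with h | h
  · exact main_aux H a u v a' u' v' hn hc h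
  · refine (main_aux H a' u' v' a u v hn.symm ?_ h).symm
    have := (dvd_neg).2 hc
    have e : ((u' : ℤ) - v') - ((u : ℤ) - v) = -(((u : ℤ) - v) - ((u' : ℤ) - v')) := by ring
    rw [e]; exact this

end
end Groth.Agent.Helper4.LRank
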