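import Mathlib
import Groth.Prelude.Def_W4c2invhilbsl2HJ
set_option autoImplicit false
namespace Groth.Agent.Helper4.WtGen
open MvPolynomial

theorem gen2 {σ : Type*} {k : Type*} [CommSemiring k] {M : Type*} [AddCommGroup M]
    (w : σ → M) (ν : M) (g₁ g₂ : σ →₀ ℕ)
    (h₁ : Finsupp.weight w g₁ = ν) (h₂ : Finsupp.weight w g₂ = ν)
    (H : ∀ d : σ →₀ ℕ, Finsupp.weight w d = ν → g₁ ≤ d ∨ g₂ ≤ d)
    (f : MvPolynomial σ k) (hf : f ∈ weightedHomogeneousSubmodule k w ν) :
    ∃ a b : MvPolynomial σ k, a ∈ weightedHomogeneousSubmodule k w 0 ∧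
      b ∈ weightedHomogeneousSubmodule k w 0 ∧
      f = a * monomial g₁ 1 + b * monomial g₂ 1 := by
  classical
  rw [mem_weightedHomogeneousSubmodule] at hf
  have hsub : ∀ (g d : σ →₀ ℕ), Finsupp.weight w g = ν → Finsupp.weight w d = ν → g ≤ d →
      Finsupp.weight w (d - g) = 0 := by
    intro g d hg hd hle
    have : Finsupp.weight w (d - g) + Finsupp.weight w g = Finsupp.weight w d := by
      rw [← map_add, tsub_add_cancel_of_le hle]
    rw [hg, hd] at this
    exact add_eq_right.mp this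
  refine ⟨∑ d ∈ f.support.filter (fun d => g₁ ≤ d), monomial (d - g₁) (coeff d f),
    ∑ d ∈ f.support.filter (fun d => ¬ g₁ ≤ d), monomial (d - g₂) (coeff d f), ?_, ?_, ?_⟩
  · refine Submodule.sum_mem _ (fun d hd => ?_)
    rw [Finset.mem_filter] at hd
    rw [mem_weightedHomogeneousSubmodule]
    refine isWeightedHomogeneous_monomial w _ _ (hsub g₁ d h₁ (hf (mem_support_iff.1 hd.1)) hd.2)
  · refine Submodule.sum_mem _ (fun d hd => ?_)
    rw [Finset.mem_filter] at hd
    rw [mem_weightedHomogeneousSubmodule]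
    have hwd := hf (mem_support_iff.1 hd.1)
    have h2 : g₂ ≤ d := (H d hwd).resolve_left hd.2
    refine isWeightedHomogeneous_monomial w _ _ (hsub g₂ d h₂ hwd h2)
  · conv_lhs => rw [← support_sum_monomial_coeff f]
    rw [← Finset.sum_filter_add_sum_filter_not f.support (fun d => g₁ ≤ d), Finset.sum_mul,
      Finset.sum_mul]
    congr 1
    · refine Finset.sum_congr rfl (fun d hd => ?_)
      rw [Finset.mem_filter] at hd
      rw [monomial_mul, mul_one, tsub_add_cancel_of_le hd.2]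
    · refine Finset.sum_congr rfl (fun d hd => ?_)
      rw [Finset.mem_filter] at hd
      have hwd := hf (mem_support_iff.1 hd.1)
      have h2 : g₂ ≤ d := (H d hwd).resolve_left hd.2
      rw [monomial_mul, mul_one, tsub_add_cancel_of_le h2]

open W4c2invhilbsl2

theorem weight_wt3 (p q m : ℕ) (d : Fin 3 →₀ ℕ) :
    Finsupp.weight (wt3 p q m) d =
      ((d 0 : ℤ) - p * d 1 + q * d 2, (((d 2 : ℤ) - d 1 : ℤ) : ZMod m)) := by
  rw [Finsupp.weight_apply, Finsupp.sum_fintype _ _ (fun i => by simp), Fin.sum_univ_three]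
  simp only [wt3, Matrix.cons_val_zero, Matrix.cons_val_one, Matrix.cons_val]
  ext
  · simp; ring
  · simp; ring

theorem single_le_iff3 (j : Fin 3) (n : ℕ) (d : Fin 3 →₀ ℕ) : Finsupp.single j n ≤ d ↔ n ≤ d j := by
  constructor
  · intro h; simpa using h j
  · intro h i
    by_cases hij : i = j
    · subst hij; simpa using h
    · rw [Finsupp.single_apply, if_neg (Ne.symm hij)]; exact Nat.zero_le _

theorem pair_le_iff3 (e l : ℕ) (d : Fin 3 →₀ ℕ) :
    Finsupp.single (1 : Fin 3) e + Finsupp.single (2 : Fin 3) l ≤ d ↔ e ≤ d 1 ∧ l ≤ d 2 := by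
  constructor
  · intro h
    have h1 := h 1
    have h2 := h 2
    simp at h1 h2
    exact ⟨h1, h2⟩
  · rintro ⟨h1, h2⟩ i
    fin_cases i <;> simp [h1, h2]

theorem monomial_pair3 {k : Type*} [CommSemiring k] (e l : ℕ) :
    (monomial (Finsupp.single (1 : Fin 3) e + Finsupp.single (2 : Fin 3) l) (1 : k)) =
      X (1 : Fin 3) ^ e * X (2 : Fin 3) ^ l := by
  rw [X_pow_eq_monomial, X_pow_eq_monomial, monomial_mul, mul_one]

end Groth.Agent.Helper4.WtGen
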