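import Mathlib
import Groth.Agent.Lib.Helper4.WtGen
set_option autoImplicit false
namespace Groth.Agent.Helper4.WtGen
open MvPolynomial W4c2invhilbsl2

theorem weight_sub {σ : Type*} {M : Type*} [AddCommGroup M] (w : σ → M) (ν : M)
    (g d : σ →₀ ℕ) (hg : Finsupp.weight w g = ν) (hd : Finsupp.weight w d = ν) (hle : g ≤ d) :
    Finsupp.weight w (d - g) = 0 := by
  have : Finsupp.weight w (d - g) + Finsupp.weight w g = Finsupp.weight w d := by
    rw [← map_add, tsub_add_cancel_of_le hle]
  rw [hg, hd] at this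
  exact add_eq_right.mp this

/-- the set of polynomials that are combinations of the `g j` with weight-zero coefficients,
modulo an ideal `I` -/
def combSub {σ : Type*} (k : Type*) [CommRing k] {M : Type*} [AddCommGroup M]
    (w : σ → M) {ι : Type*} (s : Finset ι) (g : ι → σ →₀ ℕ) (I : Ideal (MvPolynomial σ k)) :
    Submodule k (MvPolynomial σ k) where
  carrier := {f | ∃ a : ι → MvPolynomial σ k, (∀ j, a j ∈ weightedHomogeneousSubmodule k w 0) ∧
    f - ∑ j ∈ s, a j * monomial (g j) 1 ∈ I}
  add_mem' := by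
    rintro f f' ⟨a, ha, h⟩ ⟨a', ha', h'⟩
    refine ⟨a + a', fun j => add_mem (ha j) (ha' j), ?_⟩
    have := I.add_mem h h'
    convert this using 1
    simp only [Pi.add_apply, add_mul, Finset.sum_add_distrib]
    ring
  zero_mem' := ⟨0, fun j => Submodule.zero_mem _, by simp⟩
  smul_mem' := by
    rintro c f ⟨a, ha, h⟩
    refine ⟨c • a, fun j => Submodule.smul_mem _ c (ha j), ?_⟩
    have := I.mul_mem_left (C c) h
    convert this using 1
    simp only [Pi.smul_apply, smul_eq_C_mul, mul_sub, Finset.mul_sum, mul_assoc]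

theorem mem_combSub {σ : Type*} {k : Type*} [CommRing k] {M : Type*} [AddCommGroup M]
    {w : σ → M} {ι : Type*} {s : Finset ι} {g : ι → σ →₀ ℕ} {I : Ideal (MvPolynomial σ k)}
    {f : MvPolynomial σ k} : f ∈ combSub k w s g I ↔
      ∃ a : ι → MvPolynomial σ k, (∀ j, a j ∈ weightedHomogeneousSubmodule k w 0) ∧
        f - ∑ j ∈ s, a j * monomial (g j) 1 ∈ I := Iff.rfl

theorem ideal_le_combSub {σ : Type*} {k : Type*} [CommRing k] {M : Type*} [AddCommGroup M]
    (w : σ → M) {ι : Type*} (s : Finset ι) (g : ι → σ →₀ ℕ) (I : Ideal (MvPolynomial σ k))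
    (f : MvPolynomial σ k) (hf : f ∈ I) : f ∈ combSub k w s g I :=
  ⟨0, fun j => Submodule.zero_mem _, by simpa using hf⟩

theorem monomial_mem_combSub {σ : Type*} {k : Type*} [CommRing k] {M : Type*} [AddCommGroup M]
    (w : σ → M) (ν : M) {ι : Type*} (s : Finset ι) (g : ι → σ →₀ ℕ) (I : Ideal (MvPolynomial σ k))
    (hg : ∀ j ∈ s, Finsupp.weight w (g j) = ν)
    (d : σ →₀ ℕ) (hd : Finsupp.weight w d = ν) (j : ι) (hj : j ∈ s) (hle : g j ≤ d) (c : k) :
    monomial d c ∈ combSub k w s g I := by
  classical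
  refine ⟨Pi.single j (monomial (d - g j) c), ?_, ?_⟩
  · intro j'
    by_cases h : j' = j
    · subst h
      rw [Pi.single_eq_same, mem_weightedHomogeneousSubmodule]
      exact isWeightedHomogeneous_monomial w _ _ (weight_sub w ν _ _ (hg _ hj) hd hle)
    · rw [Pi.single_eq_of_ne h]; exact Submodule.zero_mem _
  · rw [Finset.sum_eq_single j]
    · rw [Pi.single_eq_same, monomial_mul, mul_one, tsub_add_cancel_of_le hle, sub_self]
      exact I.zero_mem
    · intro j' _ hne
      rw [Pi.single_eq_of_ne hne, zero_mul]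
    · intro h; exact absurd hj h

/-- generation of a weight piece by finitely many monomials (no ideal) -/
theorem genFam {σ : Type*} {k : Type*} [CommRing k] {M : Type*} [AddCommGroup M]
    (w : σ → M) (ν : M) {ι : Type*} (s : Finset ι) (g : ι → σ →₀ ℕ)
    (hg : ∀ j ∈ s, Finsupp.weight w (g j) = ν)
    (H : ∀ d : σ →₀ ℕ, Finsupp.weight w d = ν → ∃ j ∈ s, g j ≤ d)
    (f : MvPolynomial σ k) (hf : f ∈ weightedHomogeneousSubmodule k w ν) :
    ∃ a : ι → MvPolynomial σ k, (∀ j, a j ∈ weightedHomogeneousSubmodule k w 0) ∧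
      f = ∑ j ∈ s, a j * monomial (g j) 1 := by
  rw [mem_weightedHomogeneousSubmodule] at hf
  have : f ∈ combSub k w s g ⊥ := by
    rw [← support_sum_monomial_coeff f]
    refine Submodule.sum_mem _ (fun d hd => ?_)
    have hwd := hf (mem_support_iff.1 hd)
    obtain ⟨j, hj, hle⟩ := H d hwd
    exact monomial_mem_combSub w ν s g ⊥ hg d hwd j hj hle _
  obtain ⟨a, ha, h⟩ := this
  exact ⟨a, ha, sub_eq_zero.1 ((Submodule.mem_bot _).1 h)⟩

theorem weight_wt5 (p q m : ℕ) (d : Fin 5 →₀ ℕ) :
    Finsupp.weight (wt5 p q m) d =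
      ((d 0 : ℤ) - p * ((d 1 : ℤ) + d 2) + q * ((d 3 : ℤ) + d 4),
        ((((d 3 : ℤ) + d 4) - ((d 1 : ℤ) + d 2) : ℤ) : ZMod m)) := by
  rw [Finsupp.weight_apply, Finsupp.sum_fintype _ _ (fun i => by simp), Fin.sum_univ_five]
  simp only [wt5, Matrix.cons_val_zero, Matrix.cons_val_one, Matrix.cons_val]
  ext
  · simp; ring
  · simp; ring

/-- the hypersurface equation -/
noncomputable def hyp (k : Type*) [CommRing k] (p q : ℕ) : MvPolynomial (Fin 5) k :=
  X (0 : Fin 5) ^ (q - p) - X 1 * X 4 + X 2 * X 3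

/-- generation of a weight piece modulo the hypersurface -/
theorem genFamMod {k : Type*} [CommRing k] (p q m : ℕ) (hpq : p < q) (ν : ℤ × ZMod m)
    {ι : Type*} (s : Finset ι) (g : ι → Fin 5 →₀ ℕ)
    (hg : ∀ j ∈ s, Finsupp.weight (wt5 p q m) (g j) = ν)
    (H : ∀ d : Fin 5 →₀ ℕ, Finsupp.weight (wt5 p q m) d = ν → (∃ j ∈ s, g j ≤ d) ∨ q - p ≤ d 0)
    (f : MvPolynomial (Fin 5) k) (hf : f ∈ weightedHomogeneousSubmodule k (wt5 p q m) ν) :
    ∃ a : ι → MvPolynomial (Fin 5) k, (∀ j, a j ∈ weightedHomogeneousSubmodule k (wt5 p q m) 0) ∧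
      f - ∑ j ∈ s, a j * monomial (g j) 1 ∈ Ideal.span {hyp k p q} := by
  rw [mem_weightedHomogeneousSubmodule] at hf
  have key : ∀ n : ℕ, ∀ d : Fin 5 →₀ ℕ, d 0 = n → Finsupp.weight (wt5 p q m) d = ν → ∀ c : k,
      monomial d c ∈ combSub k (wt5 p q m) s g (Ideal.span {hyp k p q}) := by
    intro n
    induction n using Nat.strong_induction_on with
    | _ n ih =>
      intro d hdn hwd c
      rcases H d hwd with ⟨j, hj, hle⟩ | hbig
      · exact monomial_mem_combSub _ ν s g _ hg d hwd j hj hle c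
      · -- reduce using the hypersurface
        set d₀ : Fin 5 →₀ ℕ := d - Finsupp.single 0 (q - p) with hd₀
        have hle : Finsupp.single (0 : Fin 5) (q - p) ≤ d := by
          intro i
          by_cases hi : i = 0
          · subst hi; simpa using hbig
          · rw [Finsupp.single_apply, if_neg (Ne.symm hi)]; exact Nat.zero_le _
        have hd : d = d₀ + Finsupp.single 0 (q - p) := (tsub_add_cancel_of_le hle).symm
        have hd₀0 : d₀ 0 = d 0 - (q - p) := by simp [hd₀]
        have hqp : 0 < q - p := Nat.sub_pos_of_lt hpq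
        have e : monomial d c = monomial d₀ c * hyp k p q
            + monomial (d₀ + (Finsupp.single 1 1 + Finsupp.single 4 1)) c
            - monomial (d₀ + (Finsupp.single 2 1 + Finsupp.single 3 1)) c := by
          have h14 : (X (1 : Fin 5) * X 4 : MvPolynomial (Fin 5) k)
              = monomial (Finsupp.single 1 1 + Finsupp.single 4 1) 1 := by
            rw [X, X, monomial_mul, mul_one]
          have h23 : (X (2 : Fin 5) * X 3 : MvPolynomial (Fin 5) k)
              = monomial (Finsupp.single 2 1 + Finsupp.single 3 1) 1 := by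
            rw [X, X, monomial_mul, mul_one]
          have h0 : monomial d c = monomial d₀ c * (X (0 : Fin 5) ^ (q - p) : MvPolynomial (Fin 5) k) := by
            rw [X_pow_eq_monomial, monomial_mul, mul_one, ← hd]
          have e1 : monomial (d₀ + (Finsupp.single 1 1 + Finsupp.single 4 1)) c
              = monomial d₀ c * (X (1 : Fin 5) * X 4 : MvPolynomial (Fin 5) k) := by
            rw [h14, monomial_mul, mul_one]
          have e2 : monomial (d₀ + (Finsupp.single 2 1 + Finsupp.single 3 1)) c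
              = monomial d₀ c * (X (2 : Fin 5) * X 3 : MvPolynomial (Fin 5) k) := by
            rw [h23, monomial_mul, mul_one]
          rw [h0, e1, e2, hyp]; ring
        rw [e]
        have hw14 : Finsupp.weight (wt5 p q m) (d₀ + (Finsupp.single 1 1 + Finsupp.single 4 1)) = ν := by
          rw [← hwd, weight_wt5, weight_wt5]
          have h1 : d 1 = d₀ 1 := by simp [hd₀]
          have h2 : d 2 = d₀ 2 := by simp [hd₀]
          have h3 : d 3 = d₀ 3 := by simp [hd₀]
          have h4 : d 4 = d₀ 4 := by simp [hd₀]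
          have h0 : (d 0 : ℤ) = d₀ 0 + ((q : ℤ) - p) := by
            rw [hd₀0, Nat.cast_sub hbig, Nat.cast_sub hpq.le]; ring
          ext
          · simp [h1, h2, h3, h4, h0]; ring
          · simp [h1, h2, h3, h4]; ring
        have hw23 : Finsupp.weight (wt5 p q m) (d₀ + (Finsupp.single 2 1 + Finsupp.single 3 1)) = ν := by
          rw [← hwd, weight_wt5, weight_wt5]
          have h1 : d 1 = d₀ 1 := by simp [hd₀]
          have h2 : d 2 = d₀ 2 := by simp [hd₀]
          have h3 : d 3 = d₀ 3 := by simp [hd₀]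
          have h4 : d 4 = d₀ 4 := by simp [hd₀]
          have h0 : (d 0 : ℤ) = d₀ 0 + ((q : ℤ) - p) := by
            rw [hd₀0, Nat.cast_sub hbig, Nat.cast_sub hpq.le]; ring
          ext
          · simp [h1, h2, h3, h4, h0]; ring
          · simp [h1, h2, h3, h4]; ring
        refine Submodule.sub_mem _ (Submodule.add_mem _ ?_ ?_) ?_
        · exact ideal_le_combSub _ s g _ _
            (Ideal.mul_mem_left _ _ (Ideal.subset_span (Set.mem_singleton _)))
        · exact ih (d 0 - (q - p)) (by omega) _ (by simp [hd₀]) hw14 c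
        · exact ih (d 0 - (q - p)) (by omega) _ (by simp [hd₀]) hw23 c
  have : f ∈ combSub k (wt5 p q m) s g (Ideal.span {hyp k p q}) := by
    rw [← support_sum_monomial_coeff f]
    refine Submodule.sum_mem _ (fun d hd => ?_)
    exact key (d 0) d rfl (hf (mem_support_iff.1 hd)) _
  exact this

end Groth.Agent.Helper4.WtGen
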