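import Mathlib
import Groth.Agent.Lib.Helper4.WtGen2
set_option autoImplicit false
namespace Groth.Agent.Helper4.MonoRel
open MvPolynomial W4c2invhilbsl2

section ring
variable {R : Type*} [CommRing R] (x₀ x₁ x₂ : R) (p q : ℕ) (hpq : p < q)

include hpq in
/-- same `n`, same `c`, `u ≤ u'` -/
theorem lemI_aux (h1 : x₁ * x₂ = x₀ ^ (q - p)) (a u v a' u' v' : ℕ)
    (hn : (a : ℤ) - p * u + q * v = a' - p * u' + q * v') (hc : (u : ℤ) - v = u' - v') (hle : u ≤ u') :
    x₀ ^ a * x₁ ^ u * x₂ ^ v = x₀ ^ a' * x₁ ^ u' * x₂ ^ v' := by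
  obtain ⟨e, rfl⟩ := Nat.exists_eq_add_of_le hle
  have hv : v' = v + e := by push_cast at hc; omega
  subst hv
  have ha : a = a' + (q - p) * e := by
    have : (a : ℤ) = a' + ((q : ℤ) - p) * e := by push_cast at hn; linarith
    zify [hpq.le]
    exact this
  subst ha
  rw [pow_add x₀, pow_mul, ← h1, pow_add, pow_add, mul_pow]
  ring

include hpq in
theorem lemI (h1 : x₁ * x₂ = x₀ ^ (q - p)) (a u v a' u' v' : ℕ)
    (hn : (a : ℤ) - p * u + q * v = a' - p * u' + q * v') (hc : (u : ℤ) - v = u' - v') :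
    x₀ ^ a * x₁ ^ u * x₂ ^ v = x₀ ^ a' * x₁ ^ u' * x₂ ^ v' := by
  rcases le_total u u' with h | h
  · exact lemI_aux x₀ x₁ x₂ p q hpq h1 a u v a' u' v' hn hc h
  · exact (lemI_aux x₀ x₁ x₂ p q hpq h1 a' u' v' a u v hn.symm hc.symm h).symm

include hpq in
theorem lemA (m : ℕ) (s : R) (h1 : x₁ * x₂ = x₀ ^ (q - p)) (h2 : x₀ ^ (m * p) * x₁ ^ m = s)
    (a u v a' u' v' j : ℕ)
    (hn : (a : ℤ) - p * u + q * v = a' - p * u' + q * v') (hc : (u : ℤ) - v = u' - v' + m * j) :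
    x₀ ^ a * x₁ ^ u * x₂ ^ v = s ^ j * (x₀ ^ a' * x₁ ^ u' * x₂ ^ v') := by
  have e : s ^ j * (x₀ ^ a' * x₁ ^ u' * x₂ ^ v') = x₀ ^ (a' + m * p * j) * x₁ ^ (u' + m * j) * x₂ ^ v' := by
    rw [← h2, mul_pow, ← pow_mul, ← pow_mul, pow_add, pow_add]; ring
  rw [e]
  apply lemI x₀ x₁ x₂ p q hpq h1
  · push_cast; linarith
  · push_cast; linarith

end ring


section ideal
variable {A : Type*} [CommRing A] (I : Ideal A) (y₀ y₁ y₂ : A) (p q : ℕ) (hpq : p < q)

include hpq in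
theorem lemI_ideal (h1 : y₀ ^ (q - p) - y₁ * y₂ ∈ I) (a u v a' u' v' : ℕ)
    (hn : (a : ℤ) - p * u + q * v = a' - p * u' + q * v') (hc : (u : ℤ) - v = u' - v') :
    y₀ ^ a * y₁ ^ u * y₂ ^ v - y₀ ^ a' * y₁ ^ u' * y₂ ^ v' ∈ I := by
  rw [← Ideal.Quotient.eq]
  simp only [map_mul, map_pow]
  apply lemI _ _ _ p q hpq _ a u v a' u' v' hn hc
  rw [← map_mul, ← map_pow]
  exact (Ideal.Quotient.eq.2 h1).symm

include hpq in
theorem lemA_ideal (m : ℕ) (σ : A) (h1 : y₀ ^ (q - p) - y₁ * y₂ ∈ I)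
    (h2 : σ - y₀ ^ (m * p) * y₁ ^ m ∈ I) (a u v a' u' v' j : ℕ)
    (hn : (a : ℤ) - p * u + q * v = a' - p * u' + q * v') (hc : (u : ℤ) - v = u' - v' + m * j) :
    y₀ ^ a * y₁ ^ u * y₂ ^ v - σ ^ j * (y₀ ^ a' * y₁ ^ u' * y₂ ^ v') ∈ I := by
  rw [← Ideal.Quotient.eq]
  simp only [map_mul, map_pow]
  apply lemA _ _ _ p q hpq m _ _ _ a u v a' u' v' j hn hc
  · rw [← map_mul, ← map_pow]
    exact (Ideal.Quotient.eq.2 h1).symm
  · rw [← map_pow, ← map_pow, ← map_mul]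
    exact (Ideal.Quotient.eq.2 h2).symm

end ideal

/-- frame: if all monomials of weight `ν` map to multiples of one element, the piece has rank ≤ 1 -/
theorem piece_rank_le_one {σ : Type*} {k : Type*} [Field k] {M : Type*} [AddCommMonoid M] (w : σ → M)
    (I : Ideal (MvPolynomial σ k)) (ν : M) (v : MvPolynomial σ k ⧸ I)
    (H : ∀ d : σ →₀ ℕ, Finsupp.weight w d = ν →
      ∃ t : k, Ideal.Quotient.mk I (monomial d 1) = t • v) :
    Module.rank k (piece k w I ν) ≤ 1 := by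
  have hle : piece k w I ν ≤ Submodule.span k {v} := by
    rintro _ ⟨f, hf, rfl⟩
    rw [SetLike.mem_coe, mem_weightedHomogeneousSubmodule] at hf
    show Ideal.Quotient.mk I f ∈ _
    rw [← support_sum_monomial_coeff f, map_sum]
    refine Submodule.sum_mem _ (fun d hd => ?_)
    obtain ⟨t, ht⟩ := H d (hf (mem_support_iff.1 hd))
    have : monomial d (coeff d f) = C (coeff d f) * monomial d 1 := by
      rw [C_mul_monomial, mul_one]
    rw [this, map_mul, ht]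
    have e : (Ideal.Quotient.mk I) (C (coeff d f)) * t • v = (coeff d f * t) • v := by
      rw [mul_smul]
      exact (Algebra.smul_def (coeff d f) (t • v)).symm
    rw [e]
    exact Submodule.smul_mem _ _ (Submodule.mem_span_singleton_self v)
  calc Module.rank k (piece k w I ν) ≤ Module.rank k (Submodule.span k {v}) := Submodule.rank_mono hle
    _ ≤ 1 := by
      have := rank_span_le (R := k) ({v} : Set (MvPolynomial σ k ⧸ I))
      simpa using this

end Groth.Agent.Helper4.MonoRel
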