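import Mathlib
import Groth.Agent.Lib.Helper4.MonoRel
import Groth.Agent.Lib.Helper4.LRank
import Groth.Agent.Lib.Helper4.HJ2
namespace Groth.Agent.Helper4.LRankMain
open W4c2invhilbsl2 Groth.Agent.Helper4.MonoRel Groth.Agent.Helper4.WtGen Groth.Agent.Helper4.HJ2
  Groth.Agent.Helper4.LRank MvPolynomial

theorem monomial3 {k : Type*} [CommSemiring k] (d : Fin 3 →₀ ℕ) :
    (monomial d (1 : k)) = X 0 ^ d 0 * X 1 ^ d 1 * X 2 ^ d 2 := by
  rw [monomial_eq, C_1, one_mul, Finsupp.prod_fintype _ _ (fun i => by simp), Fin.prod_univ_three]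

/-- the exponent vector `(a,u,v)` -/
noncomputable def tri (a u v : ℕ) : Fin 3 →₀ ℕ :=
  Finsupp.single 0 a + Finsupp.single 1 u + Finsupp.single 2 v

theorem tri_apply (a u v : ℕ) : tri a u v 0 = a ∧ tri a u v 1 = u ∧ tri a u v 2 = v := by
  refine ⟨?_, ?_, ?_⟩ <;> simp [tri, Finsupp.single_apply]

theorem main (k : Type*) [Field k] (p q m : ℕ) (hp : 0 < p) (hpq : p < q) (hcop : Nat.Coprime p q) (hm : 0 < m) (hnt : ¬ (q - p ∣ m)) (c : List ℤ) (hc : W4c2invhilbsl2.IsHJDigits p q m c) (i : ℕ) (hi : 1 ≤ i) (hir : i ≤ c.length)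
    (s : k) (ν : ℤ × ZMod m) :
    Module.rank k (W4c2invhilbsl2.piece k (W4c2invhilbsl2.wt3 p q m) (W4c2invhilbsl2.idealL k p q m c i s) ν) ≤ 1 := by
  classical
  have F := facts p q m hp hpq hcop hm hnt c hc
  have hn0 := nN_nonneg F i (by omega)
  have hn0' := nN_nonneg F (i - 1) (by omega)
  have he0 := eE_pos F i (by omega)
  have hl0 := lL_pos F i (by omega)
  have hnN : ((nN p q m c i).toNat : ℤ) = nN p q m c i := Int.toNat_of_nonneg hn0
  have hnN' : ((nN p q m c (i - 1)).toNat : ℤ) = nN p q m c (i - 1) := Int.toNat_of_nonneg hn0'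
  have heE : ((eE p q m c i).toNat : ℤ) = eE p q m c i := Int.toNat_of_nonneg (by linarith)
  have hlL : ((lL p q m c i).toNat : ℤ) = lL p q m c i := Int.toNat_of_nonneg (by linarith)
  set I := idealL k p q m c i s with hI
  set N := (nN p q m c i).toNat with hN
  set N' := (nN p q m c (i - 1)).toNat with hN'
  set E := (eE p q m c i).toNat with hE
  set L := (lL p q m c i).toNat with hL
  have hI1 : (X 0 ^ N' : MvPolynomial (Fin 3) k) ∈ I :=
    Ideal.mem_sup_left (Ideal.subset_span (Set.mem_insert _ _))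
  have hI2 : (C s * X 0 ^ N - X 1 ^ E * X 2 ^ L : MvPolynomial (Fin 3) k) ∈ I :=
    Ideal.mem_sup_left (Ideal.subset_span (Set.mem_insert_of_mem _ (Set.mem_singleton _)))
  have hI3 : ∀ d : Fin 3 →₀ ℕ, d ≠ 0 → Finsupp.weight (wt3 p q m) d = 0 →
      (monomial d 1 : MvPolynomial (Fin 3) k) ∈ I := fun d hd hw =>
    Ideal.mem_sup_right (Ideal.subset_span ⟨d, hd, hw, rfl⟩)
  have H : Hyp k (Ideal.Quotient.mk I (X 0)) (Ideal.Quotient.mk I (X 1)) (Ideal.Quotient.mk I (X 2))
      p q m s N' N E L := by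
    refine ⟨hp, hpq, hm, ?_, ?_, ?_, ?_, ?_, ?_, ?_, ?_⟩
    · rw [← map_pow]; exact Ideal.Quotient.eq_zero_iff_mem.2 hI1
    · have e4 : s • (Ideal.Quotient.mk I (X 0)) ^ N = Ideal.Quotient.mk I (C s * X 0 ^ N) := by
        rw [← smul_eq_C_mul, ← map_pow]; rfl
      rw [e4, ← map_pow, ← map_pow, ← map_mul]
      exact (Ideal.Quotient.eq.2 hI2).symm
    · intro a u v hne hw hdvd
      rw [← map_pow, ← map_pow, ← map_pow, ← map_mul, ← map_mul]
      apply Ideal.Quotient.eq_zero_iff_mem.2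
      obtain ⟨t0, t1, t2⟩ := tri_apply a u v
      have := hI3 (tri a u v) ?_ ?_
      · rwa [monomial3, t0, t1, t2] at this
      · intro h0
        apply hne
        have e0 := congrArg (fun d => d 0) h0
        have e1 := congrArg (fun d => d 1) h0
        have e2 := congrArg (fun d => d 2) h0
        simp only [t0, t1, t2, Finsupp.coe_zero, Pi.zero_apply] at e0 e1 e2
        exact ⟨e0, e1, e2⟩
      · rw [weight_wt3, t0, t1, t2]
        ext
        · simpa using hw
        · simp only [Prod.snd_zero]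
          rw [ZMod.intCast_zmod_eq_zero_iff_dvd]
          have := (dvd_neg).2 hdvd
          rwa [neg_sub] at this
    · have := nN_le F (i - 1) (by omega)
      have h2 : ((q - p : ℕ) : ℤ) = (q : ℤ) - p := Nat.cast_sub hpq.le
      have : (N' : ℤ) ≤ ((q - p : ℕ) : ℤ) := by rw [hnN', h2]; exact this
      exact_mod_cast this
    · intro u v hdvd h0 h1
      rw [hnN'] at h1
      obtain ⟨h3, h4⟩ := NT2 F hp hm i hi hir u v hdvd h0 h1
      constructor
      · have : (E : ℤ) ≤ u := by rw [heE]; exact h3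
        exact_mod_cast this
      · have : (L : ℤ) ≤ v := by rw [hlL]; exact h4
        exact_mod_cast this
    · rw [hlL, heE, hnN]; unfold nN; ring
    · rw [heE, hlL, eE_eq]
      exact ⟨hjP c i, by ring⟩
    · have : (1 : ℤ) ≤ (E : ℤ) + L := by rw [heE, hlL]; linarith
      exact_mod_cast this
  have hDep : ∀ d d' : Fin 3 →₀ ℕ, Finsupp.weight (wt3 p q m) d = ν → Finsupp.weight (wt3 p q m) d' = ν →
      Dep k (Ideal.Quotient.mk I (monomial d 1)) (Ideal.Quotient.mk I (monomial d' 1)) := by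
    intro d d' hd hd'
    rw [weight_wt3, Prod.ext_iff] at hd hd'
    obtain ⟨h1, h2⟩ := hd
    obtain ⟨h1', h2'⟩ := hd'
    simp only at h1 h2 h1' h2'
    rw [monomial3, monomial3]
    simp only [map_mul, map_pow]
    apply Groth.Agent.Helper4.LRank.main H
    · rw [h1, h1']
    · have h22 : (((d 2 : ℤ) - d 1 : ℤ) : ZMod m) = (((d' 2 : ℤ) - d' 1 : ℤ) : ZMod m) := by
        rw [h2, h2']
      rw [ZMod.intCast_eq_intCast_iff_dvd_sub] at h22
      have e : ((d 1 : ℤ) - d 2) - ((d' 1 : ℤ) - d' 2) = ((d' 2 : ℤ) - d' 1) - ((d 2 : ℤ) - d 1) := by ring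
      rw [e]; exact h22
  by_cases hall : ∀ d : Fin 3 →₀ ℕ, Finsupp.weight (wt3 p q m) d = ν → Ideal.Quotient.mk I (monomial d 1) = 0
  · apply piece_rank_le_one (wt3 p q m) I ν 0
    intro d hd
    exact ⟨0, by rw [zero_smul]; exact hall d hd⟩
  · push_neg at hall
    obtain ⟨d₁, hd₁, hne⟩ := hall
    apply piece_rank_le_one (wt3 p q m) I ν (Ideal.Quotient.mk I (monomial d₁ 1))
    intro d hd
    exact (hDep d₁ d hd₁ hd).mem_of_ne_zero hne
end Groth.Agent.Helper4.LRankMain
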