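import Mathlib
import Groth.Prelude.Def_LieHopf
import Groth.Prelude.Def_HopfRep
import Groth.Agent.Lib.Helper9.Unipotent
import Groth.Agent.Lib.Helper9.Comod4

/-!
# Lie algebra of a unipotent group in char p is p-nilpotent (S2968): convolution ring, Frobenius on eps-derivations, trivial flags (helper4)
-/

set_option backward.isDefEq.respectTransparency.types false
set_option synthInstance.maxHeartbeats 400000
set_option autoImplicit false
set_option linter.unusedSectionVars false
set_option linter.style.haveILetI false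
set_option linter.unusedSimpArgs false
universe u v w
open TensorProduct WithConv

namespace Groth.Agent.Lib.Helper4.LieUnip1

section Conv

variable {k : Type u} [Field k] {A : Type u} [CommRing A] [HopfAlgebra k A]

lemma convPow_eq (D : A →ₗ[k] k) (n : ℕ) :
    LieHopf.convPow D n = ((toConv D : WithConv (A →ₗ[k] k)) ^ n).ofConv := by
  induction n with
  | zero =>
    rw [pow_zero]
    show (Bialgebra.counitAlgHom k A).toLinearMap = _
    ext a
    simp [LinearMap.convOne_def]
  | succ n ih =>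
    rw [pow_succ]
    show LieHopf.conv (LieHopf.convPow D n) D = _
    rw [ih]
    rfl

/-- pull back along multiplication -/
noncomputable def Phi (f : WithConv (A →ₗ[k] k)) : WithConv (A ⊗[k] A →ₗ[k] k) :=
  toConv (f.ofConv ∘ₗ LinearMap.mul' k A)

lemma Phi_mul (f g : WithConv (A →ₗ[k] k)) : Phi (f * g) = Phi f * Phi g := by
  have h := LinearMap.convMul_comp_coalgHom_distrib f g (Bialgebra.mulCoalgHom k A)
  apply WithConv.ofConv_injective
  exact h

lemma Phi_one : Phi (1 : WithConv (A →ₗ[k] k)) = 1 := by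
  apply WithConv.ofConv_injective
  ext a b
  simp [Phi, LinearMap.convOne_def, mul_comm]

lemma Phi_pow (f : WithConv (A →ₗ[k] k)) (n : ℕ) : Phi (f ^ n) = Phi f ^ n := by
  induction n with
  | zero => simp [Phi_one]
  | succ n ih => rw [pow_succ, pow_succ, Phi_mul, ih]

/-- external product of functionals -/
noncomputable def Psi (f g : WithConv (A →ₗ[k] k)) : WithConv (A ⊗[k] A →ₗ[k] k) :=
  toConv (LinearMap.mul' k k ∘ₗ TensorProduct.map f.ofConv g.ofConv)

lemma Psi_apply (f g : WithConv (A →ₗ[k] k)) (a b : A) :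
    (Psi f g) (a ⊗ₜ[k] b) = f a * g b := by
  simp [Psi]

lemma Psi_mul (f g f' g' : WithConv (A →ₗ[k] k)) :
    Psi f g * Psi f' g' = Psi (f * f') (g * g') := by
  have h1 := TensorProduct.map_convMul_map (R := k) (f := f) (h := f') (g := g) (k := g')
  have h2 := LinearMap.algHom_comp_convMul_distrib (R := k) (Algebra.TensorProduct.lmul' k (S := k))
    (toConv (TensorProduct.map f.ofConv g.ofConv)) (toConv (TensorProduct.map f'.ofConv g'.ofConv))
  apply WithConv.ofConv_injective
  rw [h1] at h2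
  exact h2.symm

lemma Psi_one : Psi (1 : WithConv (A →ₗ[k] k)) 1 = 1 := by
  apply WithConv.ofConv_injective
  ext a b
  simp [Psi, LinearMap.convOne_def, mul_comm]

lemma Psi_pow_left (f : WithConv (A →ₗ[k] k)) (n : ℕ) : Psi f 1 ^ n = Psi (f ^ n) 1 := by
  induction n with
  | zero => simp [Psi_one]
  | succ n ih => rw [pow_succ, pow_succ, ih, Psi_mul, one_mul]

lemma Psi_pow_right (f : WithConv (A →ₗ[k] k)) (n : ℕ) : Psi 1 f ^ n = Psi 1 (f ^ n) := by
  induction n with
  | zero => simp [Psi_one]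
  | succ n ih => rw [pow_succ, pow_succ, ih, Psi_mul, one_mul]

lemma commute_Psi (f : WithConv (A →ₗ[k] k)) : Commute (Psi f 1) (Psi 1 f) := by
  show Psi f 1 * Psi 1 f = Psi 1 f * Psi f 1
  rw [Psi_mul, Psi_mul, one_mul, mul_one]

instance : Nontrivial (WithConv (A ⊗[k] A →ₗ[k] k)) := by
  refine ⟨⟨1, 0, ?_⟩⟩
  intro h
  have h2 := congrArg (fun f : WithConv (A ⊗[k] A →ₗ[k] k) => f ((1 : A) ⊗ₜ[k] (1 : A))) h
  simp [LinearMap.convOne_def] at h2

/-- `ε`-derivation property for a functional. -/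
def IsEpsDer (f : A →ₗ[k] k) : Prop :=
  ∀ a b : A, f (a * b) = f a * Coalgebra.counit (R := k) b + Coalgebra.counit (R := k) a * f b

lemma Phi_eq_of_isEpsDer (f : A →ₗ[k] k) (hf : IsEpsDer f) :
    Phi (toConv f) = Psi (toConv f) 1 + Psi 1 (toConv f) := by
  apply WithConv.ofConv_injective
  ext a b
  have := hf a b
  simp [Phi, Psi, LinearMap.convOne_def, this]

theorem isEpsDer_pow (p : ℕ) [Fact p.Prime] [CharP k p] (D : A →ₗ[k] k) (hD : IsEpsDer D) (n : ℕ) :
    IsEpsDer ((toConv D : WithConv (A →ₗ[k] k)) ^ (p ^ n)).ofConv := by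
  haveI : CharP (WithConv (A ⊗[k] A →ₗ[k] k)) p :=
    charP_of_injective_algebraMap (algebraMap k (WithConv (A ⊗[k] A →ₗ[k] k))).injective p
  have h1 : Phi ((toConv D : WithConv (A →ₗ[k] k)) ^ (p ^ n)) =
      Psi ((toConv D : WithConv (A →ₗ[k] k)) ^ (p ^ n)) 1 + Psi 1 ((toConv D) ^ (p ^ n)) := by
    rw [Phi_pow, Phi_eq_of_isEpsDer D hD, add_pow_char_pow_of_commute _ _ (commute_Psi _),
      Psi_pow_left, Psi_pow_right]
  intro a b
  have h2 := congrArg (fun f : WithConv (A ⊗[k] A →ₗ[k] k) => f (a ⊗ₜ[k] b)) h1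
  simpa [Phi, Psi, LinearMap.convOne_def] using h2

end Conv

section Flag

variable {k : Type u} [Field k] {A : Type u} [CommRing A] [HopfAlgebra k A]
variable {V : Type u} [AddCommGroup V] [Module k V] [HopfRep.Comod k A V]

lemma conv_apply_comodHom (ι : V →ₗ[k] A) (hι : Hoch.IsComodHom A ι)
    (f D : WithConv (A →ₗ[k] k)) (v : V) :
    (f * D) (ι v) = LinearMap.mul' k k (TensorProduct.map (f.ofConv ∘ₗ ι) D.ofConv
      (HopfRep.Comod.coact (k := k) (A := A) v)) := by
  have h1 : Coalgebra.comul (R := k) (ι v) = ι.rTensor A (HopfRep.Comod.coact (k := k) (A := A) v) :=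
    LinearMap.congr_fun hι v
  rw [LinearMap.convMul_apply, h1]
  congr 1
  generalize HopfRep.Comod.coact (k := k) (A := A) v = y
  induction y using TensorProduct.induction_on with
  | zero => simp
  | tmul x c => simp
  | add x y hx hy => simp [hx, hy]

lemma vanish_step (ι : V →ₗ[k] A) (hι : Hoch.IsComodHom A ι) (F : Submodule k V) (v : V)
    (hv : HopfRep.Comod.coact (k := k) (A := A) v - v ⊗ₜ[k] (1 : A) ∈
      LinearMap.range (F.subtype.rTensor A))
    (f D : WithConv (A →ₗ[k] k)) (hD1 : D 1 = 0) (hf : ∀ w ∈ F, f (ι w) = 0) :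
    (f * D) (ι v) = 0 := by
  rw [conv_apply_comodHom ι hι]
  have h2 : ∀ y : F ⊗[k] A,
      (TensorProduct.map (f.ofConv ∘ₗ ι) D.ofConv) (F.subtype.rTensor A y) = 0 := by
    intro y
    induction y using TensorProduct.induction_on with
    | zero => simp
    | tmul x c =>
      have := hf x x.2
      simp only [LinearMap.rTensor_tmul, Submodule.subtype_apply, TensorProduct.map_tmul,
        LinearMap.comp_apply]
      have h3 : f.ofConv (ι (x : V)) = 0 := this
      rw [h3, TensorProduct.zero_tmul]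
    | add x y hx hy => simp [hx, hy]
  obtain ⟨y, hy⟩ := hv
  have h1 : HopfRep.Comod.coact (k := k) (A := A) v = v ⊗ₜ[k] (1 : A) + F.subtype.rTensor A y := by
    rw [hy]; abel
  rw [h1, map_add, map_add]
  rw [h2, map_zero, add_zero]
  have h4 : D.ofConv 1 = 0 := hD1
  simp [h4]

lemma vanish_flag (ι : V →ₗ[k] A) (hι : Hoch.IsComodHom A ι)
    (h : Groth.Agent.Helper9.HasTrivFlag k A V) (D : WithConv (A →ₗ[k] k)) (hD1 : D 1 = 0) :
    ∃ m : ℕ, ∀ M : ℕ, m ≤ M → ∀ v : V, (D ^ M) (ι v) = 0 := by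
  obtain ⟨m, F, hmono, h0, hm, _, htriv⟩ := h
  have key : ∀ i : ℕ, ∀ v ∈ F i, (D ^ i) (ι v) = 0 := by
    intro i
    induction i with
    | zero =>
      intro v hv
      rw [h0, Submodule.mem_bot] at hv
      rw [hv, map_zero]
      exact map_zero _
    | succ i ih =>
      intro v hv
      rw [pow_succ]
      exact vanish_step ι hι (F i) v (htriv i v hv) (D ^ i) D hD1 ih
  refine ⟨m, fun M hM v => key M v ?_⟩
  have : F m ≤ F M := hmono hM
  rw [hm] at this
  exact this Submodule.mem_top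

theorem exists_vanish (hU : HopfRep.IsUnipotent k A) (D : WithConv (A →ₗ[k] k)) (hD1 : D 1 = 0)
    (a : A) : ∃ m : ℕ, ∀ M : ℕ, m ≤ M → (D ^ M) a = 0 := by
  obtain ⟨W, hfin, haW, hW⟩ := Groth.Agent.Helper9.exists_finite_subcomod_mem (k := k) (C := A) (V := A) a
  letI := Groth.Agent.Helper9.subComod W hW
  have hflag := Groth.Agent.Helper9.hasTrivFlag_of_isUnipotent hU W hfin
  obtain ⟨m, hm⟩ := vanish_flag W.subtype (Groth.Agent.Helper9.isComodHom_subtype W hW) hflag D hD1
  exact ⟨m, fun M hM => hm M hM ⟨a, haW⟩⟩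

end Flag

section Main

variable {k : Type u} [Field k] {A : Type u} [CommRing A] [HopfAlgebra k A]

lemma isEpsDer_dlin (D : LieHopf.Lie k A) : IsEpsDer (LieHopf.dlin D) := by
  intro a b
  rw [LieHopf.dlin_mul]
  simp only [Bialgebra.counitAlgHom_apply]
  ring

lemma isEpsDer_one_eq_zero (f : A →ₗ[k] k) (hf : IsEpsDer f) : f 1 = 0 := by
  have := hf 1 1
  simp only [mul_one, Bialgebra.counit_one, one_mul] at this
  linear_combination -this

lemma isEpsDer_eq_zero_of_adjoin (f : A →ₗ[k] k) (hf : IsEpsDer f) (s : Set A)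
    (hs : Algebra.adjoin k s = ⊤) (h0 : ∀ x ∈ s, f x = 0) : f = 0 := by
  have h1 := isEpsDer_one_eq_zero f hf
  ext x
  have hx : x ∈ Algebra.adjoin k s := by rw [hs]; exact Algebra.mem_top
  simp only [LinearMap.zero_apply]
  induction hx using Algebra.adjoin_induction with
  | mem x hx => exact h0 x hx
  | algebraMap r => rw [Algebra.algebraMap_eq_smul_one, map_smul, h1, smul_zero]
  | add x y _ _ hx hy => rw [map_add, hx, hy, add_zero]
  | mul x y _ _ hx hy => rw [hf, hx, hy, zero_mul, mul_zero, add_zero]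

theorem main (p : ℕ) [Fact p.Prime] [CharP k p] [Algebra.FiniteType k A]
    (hU : HopfRep.IsUnipotent k A) (D : LieHopf.Lie k A) :
    ∃ n : ℕ, 0 < n ∧ LieHopf.convPow (D.toLinearMap.restrictScalars k ∘ₗ LinearMap.id) (p ^ n) = 0 := by
  classical
  obtain ⟨s, hs⟩ := (Algebra.FiniteType.out : (⊤ : Subalgebra k A).FG)
  have hD1 : (toConv (LieHopf.dlin D) : WithConv (A →ₗ[k] k)) 1 = 0 := LieHopf.dlin_one D
  choose m hm using fun a : A => exists_vanish hU (toConv (LieHopf.dlin D)) hD1 a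
  refine ⟨s.sup m + 1, Nat.succ_pos _, ?_⟩
  show LieHopf.convPow (LieHopf.dlin D) (p ^ (s.sup m + 1)) = 0
  rw [convPow_eq]
  apply isEpsDer_eq_zero_of_adjoin _ (isEpsDer_pow p _ (isEpsDer_dlin D) _) (s : Set A) hs
  intro x hx
  apply hm x
  have h1 : m x ≤ s.sup m := Finset.le_sup (f := m) hx
  have h2 : s.sup m + 1 < p ^ (s.sup m + 1) := Nat.lt_pow_self (Fact.out : p.Prime).one_lt
  omega

end Main

end Groth.Agent.Lib.Helper4.LieUnip1
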