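import Mathlib
import Groth.Agent.Lib.Helper4.LimTRegD
import Groth.Agent.Lib.Lead.FLF4
import Groth.Agent.Lib.Helper5.Perf.Pull
import Groth.Agent.Lib.Helper5.Stalk.FlatFree

/-!
# Finite locally free pullbacks in cofiltered limits via descent of flatness (S4791) (helper4) (helper4)
-/

set_option backward.isDefEq.respectTransparency.types false
set_option synthInstance.maxHeartbeats 400000
set_option autoImplicit false
set_option linter.unusedSectionVars false
set_option linter.style.haveILetI false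
set_option linter.unusedSimpArgs false
universe u v w
open CategoryTheory CategoryTheory.Limits AlgebraicGeometry TopologicalSpace Topology

namespace Groth.Agent.Lib.Helper4.LimFlfA

theorem flat_compHom_of_eq_id {A M : Type u} [CommRing A] [AddCommGroup M] [Module A M]
    (φ : A →+* A) (hφ : φ = RingHom.id A) :
    @Module.Flat A M _ _ (Module.compHom M φ) ↔ Module.Flat A M := by
  subst hφ
  exact Iff.rfl

theorem isFlatOverAt_id_iff {X : Scheme.{u}} (M : X.Modules) (x : X) :
    FlatMod.IsFlatOverAt (𝟙 X) M x ↔ FlatMod.IsFlatAt M x := by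
  unfold FlatMod.IsFlatOverAt FlatMod.IsFlatAt
  exact flat_compHom_of_eq_id (A := X.presheaf.stalk x) (M := M.presheaf.stalk x)
    ((𝟙 X : X ⟶ X).stalkMap x).hom (by rw [Scheme.Hom.stalkMap_id]; rfl)


/-- a quasi-coherent module of finite presentation with flat stalks is finite locally free -/
theorem isFinLocFree_of_isFP_of_isFlat {X : Scheme.{u}} (M : X.Modules) [M.IsQuasicoherent]
    (hM : CohB1.IsFP M) (hfl : ∀ x : X, FlatMod.IsFlatAt M x) : FlatMod.IsFinLocFree M := by
  rw [Groth.Agent.Lead.FLF.isFinLocFree_iff_affineOpens]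
  intro U hU
  haveI : Module.FinitePresentation Γ(X, U) Γ(M, U) :=
    Groth.Agent.Lead.FP.fp_sections_of_isFP M hM hU
  haveI : Module.Flat Γ(X, U) Γ(M, U) :=
    Groth.Agent.Lead.SD.flat_sections_of_flat_stalks M hU (fun z => hfl z.1)
  exact ⟨inferInstance, Module.Flat.projective_of_finitePresentation⟩

set_option maxHeartbeats 1600000 in
theorem S4791_main {I : Type u} [SmallCategory I] [IsCofiltered I]
    (D : I ⥤ Scheme.{u}) (c : Limits.Cone D) (hc : Limits.IsLimit c)
    [∀ (i j : I) (f : i ⟶ j), IsAffineHom (D.map f)] (i₀ : I) [CompactSpace (D.obj i₀)]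
    (F₀ : (D.obj i₀).Modules) [Coh.IsQCoh F₀] (hF₀fp : CohB1.IsFP F₀) :
    FlatMod.IsFinLocFree ((Scheme.Modules.pullback (c.π.app i₀)).obj F₀) ↔
      ∃ (j : I) (φ : j ⟶ i₀), FlatMod.IsFinLocFree ((Scheme.Modules.pullback (D.map φ)).obj F₀) := by
  haveI hD : ∀ {i j : I} (φ : i ⟶ j), IsAffineHom (D.map φ) := fun φ => inferInstance
  haveI : F₀.IsQuasicoherent := ‹Coh.IsQCoh F₀›
  constructor
  · intro H
    have Hfl : ∀ x : c.pt, FlatMod.IsFlatOverAt (𝟙 c.pt)
        ((Scheme.Modules.pullback (c.π.app i₀)).obj F₀) x := fun x =>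
      (isFlatOverAt_id_iff _ x).2
        (Groth.Agent.Lib.Helper5.StalkAdj.flatMod_of_isFinLocFree _ H x)
    obtain ⟨a, hadef⟩ : ∃ a : ∀ k : Over i₀, (Over.forget i₀ ⋙ D).obj k ⟶ D.obj i₀,
        a = fun k : Over i₀ => D.map k.hom := ⟨_, rfl⟩
    haveI haff : ∀ k : Over i₀, IsAffineHom (a k) := fun k => by
      rw [hadef]
      show IsAffineHom (D.map k.hom)
      infer_instance
    haveI hEaff : ∀ {i j : Over i₀} (φ : i ⟶ j), IsAffineHom ((Over.forget i₀ ⋙ D).map φ) :=
      fun φ => by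
        show IsAffineHom (D.map φ.left)
        infer_instance
    have hcE : IsLimit (c.whisker (Over.forget i₀)) :=
      (Functor.Initial.isLimitWhiskerEquiv (Over.forget i₀) c).symm hc
    obtain ⟨k₂, hk₂⟩ := Groth.Agent.Lib.Helper4.LimTRegD.exists_stage_flat
      (Over.forget i₀ ⋙ D) (c.whisker (Over.forget i₀)) hcE a
      (fun {i j} φ => by
        rw [hadef]
        show D.map φ.left ≫ D.map j.hom = D.map i.hom
        rw [← D.map_comp, Over.w])
      (c.π.app i₀)
      (fun k => by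
        rw [hadef]
        show c.π.app k.left ≫ D.map k.hom = c.π.app i₀
        exact c.w k.hom)
      (𝟙 (D.obj i₀)) (c.π.app i₀) (𝟙 c.pt) (IsPullback.id_vert (c.π.app i₀)) F₀ hF₀fp Hfl
    refine ⟨k₂.left, k₂.hom, ?_⟩
    haveI : ((Scheme.Modules.pullback (D.map k₂.hom)).obj F₀).IsQuasicoherent :=
      Groth.Agent.Lead.PB.isQuasicoherent_pullback _ F₀
    refine isFinLocFree_of_isFP_of_isFlat _ (Groth.Agent.Lead.LimZ.isFP_pullback _ F₀ hF₀fp) ?_
    intro z
    have := hk₂ k₂ (𝟙 _) (D.obj k₂.left) (D.map k₂.hom) (𝟙 _)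
      (by rw [hadef]; exact IsPullback.id_vert (D.map k₂.hom)) z
    exact (isFlatOverAt_id_iff _ z).1 this
  · rintro ⟨j, φ, H⟩
    have h1 := Groth.Agent.Lib.Helper5.PerfPull.isFinLocFree_pullback (c.π.app j) _ H
    exact Groth.Agent.Lead.FLF.isFinLocFree_of_iso
      ((Scheme.Modules.pullbackComp (c.π.app j) (D.map φ) ≪≫
        Scheme.Modules.pullbackCongr (c.w φ)).app F₀) h1

end Groth.Agent.Lib.Helper4.LimFlfA
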