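import Mathlib
import Groth.Agent.Lib.Helper4.LimHomF
import Groth.Agent.Lib.Lead.LimZ5

/-!
# isomorphism of pullbacks to the limit iff at a stage (helper4)
-/

set_option backward.isDefEq.respectTransparency.types false
set_option synthInstance.maxHeartbeats 400000
set_option autoImplicit false
set_option linter.unusedSectionVars false
set_option linter.style.haveILetI false
set_option linter.unusedSimpArgs false
universe u v w
open CategoryTheory CategoryTheory.Limits AlgebraicGeometry TopologicalSpace Topology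

namespace Groth.Agent.Lib.Helper4.LimHomG

open Groth.Agent.Lead.LimZ Groth.Agent.Lib.Helper4.LimHomF

variable {I : Type u} [SmallCategory I] [IsCofiltered I] (D : I ⥤ Scheme.{u}) (c : Cone D)
  (hc : IsLimit c) [∀ (i j : I) (f : i ⟶ j), IsAffineHom (D.map f)] (i₀ : I)
  (F₀ G₀ : (D.obj i₀).Modules) [F₀.IsQuasicoherent] [G₀.IsQuasicoherent]

include hc in
theorem S4790_main [CompactSpace (D.obj i₀)] [QuasiSeparatedSpace (D.obj i₀)]
    (hF₀ : CohB1.IsFP F₀) (hG₀ : CohB1.IsFP G₀) :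
    Nonempty ((Scheme.Modules.pullback (c.π.app i₀)).obj F₀ ≅
        (Scheme.Modules.pullback (c.π.app i₀)).obj G₀) ↔
      ∃ (j : I) (φ : j ⟶ i₀),
        Nonempty ((Scheme.Modules.pullback (D.map φ)).obj F₀ ≅
          (Scheme.Modules.pullback (D.map φ)).obj G₀) := by
  haveI : ∀ {i j : I} (f : i ⟶ j), IsAffineHom (D.map f) := fun f => inferInstance
  constructor
  · rintro ⟨θ⟩
    obtain ⟨j₁, φ₁, a, ha⟩ := S4811_main D c hc i₀ F₀ G₀ hF₀ θ.hom
    haveI : CompactSpace (D.obj j₁) := QuasiCompact.compactSpace_of_compactSpace (D.map φ₁)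
    haveI : ((Scheme.Modules.pullback (D.map φ₁)).obj F₀).IsQuasicoherent :=
      Groth.Agent.Lead.PB.isQuasicoherent_pullback _ _
    haveI : ((Scheme.Modules.pullback (D.map φ₁)).obj G₀).IsQuasicoherent :=
      Groth.Agent.Lead.PB.isQuasicoherent_pullback _ _
    have hF₁fp : CohB1.IsFP ((Scheme.Modules.pullback (D.map φ₁)).obj F₀) := isFP_pullback _ _ hF₀
    have hF₁ : CohB1.IsFT ((Scheme.Modules.pullback (D.map φ₁)).obj F₀) := by
      haveI : SheafOfModules.IsFinitePresentation (R := (D.obj j₁).ringCatSheaf)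
        ((Scheme.Modules.pullback (D.map φ₁)).obj F₀) := hF₁fp
      exact (inferInstance : SheafOfModules.IsFiniteType (R := (D.obj j₁).ringCatSheaf)
        ((Scheme.Modules.pullback (D.map φ₁)).obj F₀))
    have hG₁ : CohB1.IsFP ((Scheme.Modules.pullback (D.map φ₁)).obj G₀) := isFP_pullback _ _ hG₀
    have hiso : IsIso ((Scheme.Modules.pullback (c.π.app j₁)).map a) := by
      have e1 : (Scheme.Modules.pullback (c.π.app j₁)).map a =
          ((compIso (c.π.app j₁) (D.map φ₁) (c.π.app i₀) (c.w φ₁)).app F₀).hom ≫ θ.hom ≫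
            ((compIso (c.π.app j₁) (D.map φ₁) (c.π.app i₀) (c.w φ₁)).app G₀).inv := by
        rw [← ha]
        simp only [compIso, Category.assoc, Iso.hom_inv_id, Category.comp_id,
          Iso.hom_inv_id_assoc]
      rw [e1]
      infer_instance
    obtain ⟨j, φ, hj⟩ := exists_isIso D c hc j₁ hF₁ hG₁ a hiso
    haveI := hj
    exact ⟨j, φ ≫ φ₁,
      ⟨((compIso (D.map φ) (D.map φ₁) (D.map (φ ≫ φ₁)) (D.map_comp φ φ₁).symm).app F₀).symm ≪≫
        asIso ((Scheme.Modules.pullback (D.map φ)).map a) ≪≫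
        (compIso (D.map φ) (D.map φ₁) (D.map (φ ≫ φ₁)) (D.map_comp φ φ₁).symm).app G₀⟩⟩
  · rintro ⟨j, φ, ⟨θ⟩⟩
    exact ⟨((compIso (c.π.app j) (D.map φ) (c.π.app i₀) (c.w φ)).app F₀).symm ≪≫
      (Scheme.Modules.pullback (c.π.app j)).mapIso θ ≪≫
      (compIso (c.π.app j) (D.map φ) (c.π.app i₀) (c.w φ)).app G₀⟩

end Groth.Agent.Lib.Helper4.LimHomG
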