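import Mathlib

/-!
# A filtered colimit of flat algebras is flat (category-indexed form) (helper4)
-/

set_option backward.isDefEq.respectTransparency.types false
set_option synthInstance.maxHeartbeats 400000
set_option autoImplicit false
set_option linter.unusedSectionVars false
set_option linter.style.haveILetI false
set_option linter.unusedSimpArgs false
universe u v w
open CategoryTheory CategoryTheory.Limits AlgebraicGeometry TopologicalSpace Topology

namespace Groth.Agent.Lib.Helper4.LimSchDenseA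

section Ring

variable {J : Type u} [SmallCategory J] [IsFiltered J]
    (R : J → Type u) [∀ j, CommRing (R j)] (ρ : ∀ {j j' : J}, (j ⟶ j') → R j →+* R j')
    (hρ2 : ∀ {j j' j'' : J} (f : j ⟶ j') (g : j' ⟶ j''), ρ (f ≫ g) = (ρ g).comp (ρ f))
    {A₀ A : Type u} [CommRing A₀] [CommRing A] [Algebra A₀ A]
    (τ : ∀ j, A₀ →+* R j) (hτ : ∀ {j j' : J} (f : j ⟶ j'), (ρ f).comp (τ j) = τ j')
    (ν : ∀ j, R j →+* A) (hν : ∀ {j j' : J} (f : j ⟶ j'), (ν j').comp (ρ f) = ν j)
    (hντ : ∀ j, (ν j).comp (τ j) = algebraMap A₀ A)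
    (hsurj : ∀ a : A, ∃ (j : J) (x : R j), ν j x = a)
    (hker : ∀ (j : J) (x : R j), ν j x = 0 → ∃ (j' : J) (f : j ⟶ j'), ρ f x = 0)

include hν hsurj in
/-- finitely many elements of the colimit come from a common stage -/
theorem exists_lift_fin : ∀ (n : ℕ) (y : Fin n → A),
    ∃ (j : J) (x : Fin n → R j), ∀ κ, ν j (x κ) = y κ := by
  intro n
  induction n with
  | zero =>
    intro y
    exact ⟨IsFiltered.nonempty.some, fun κ => κ.elim0, fun κ => κ.elim0⟩
  | succ n ih =>
    intro y
    obtain ⟨j, x, hx⟩ := ih (fun κ => y κ.castSucc)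
    obtain ⟨j', x', hx'⟩ := hsurj (y (Fin.last n))
    refine ⟨IsFiltered.max j j', Fin.lastCases (ρ (IsFiltered.rightToMax j j') x')
      (fun κ => ρ (IsFiltered.leftToMax j j') (x κ)), ?_⟩
    intro κ
    refine Fin.lastCases ?_ (fun κ => ?_) κ
    · simp only [Fin.lastCases_last]
      have := congrArg (fun φ : R j' →+* A => φ x') (hν (IsFiltered.rightToMax j j'))
      exact this.trans hx'
    · simp only [Fin.lastCases_castSucc]
      have := congrArg (fun φ : R j →+* A => φ (x κ)) (hν (IsFiltered.leftToMax j j'))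
      exact this.trans (hx κ)

set_option maxHeartbeats 1600000 in
include hρ2 hτ hν hντ hsurj hker in
/-- a filtered colimit of flat algebras is flat -/
theorem flat_of_filtered_colimit (hflat : ∀ j, (τ j).Flat) : Module.Flat A₀ A := by
  rw [Module.Flat.iff_forall_isTrivialRelation]
  intro l f x hx
  obtain ⟨j, b, hb⟩ := exists_lift_fin R ρ ν hν hsurj l x
  have hτν : ∀ (j : J) (r : A₀) (s : R j), ν j (τ j r * s) = r • ν j s := by
    intro j r s
    rw [map_mul, Algebra.smul_def]
    congr 1
    exact congrArg (fun φ : A₀ →+* A => φ r) (hντ j)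
  have h0 : ν j (∑ i, τ j (f i) * b i) = 0 := by
    rw [map_sum, ← hx]
    refine Finset.sum_congr rfl fun i _ => ?_
    rw [hτν, hb]
  obtain ⟨j', g, hg⟩ := hker j _ h0
  letI : Algebra A₀ (R j') := (τ j').toAlgebra
  haveI : Module.Flat A₀ (R j') := hflat j'
  have hrel : ∑ i, f i • ρ g (b i) = 0 := by
    rw [← hg, map_sum]
    refine Finset.sum_congr rfl fun i _ => ?_
    rw [map_mul, Algebra.smul_def]
    congr 1
    exact (congrArg (fun φ : A₀ →+* R j' => φ (f i)) (hτ g)).symm
  obtain ⟨k, a, y, hy1, hy2⟩ := (Module.Flat.iff_forall_isTrivialRelation (R := A₀) (M := R j')).1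
    inferInstance (l := l) (f := f) (x := fun i => ρ g (b i)) hrel
  refine ⟨k, a, fun κ => ν j' (y κ), fun i => ?_, hy2⟩
  have e1 : x i = ν j' (ρ g (b i)) := by
    rw [← hb i]
    exact (congrArg (fun φ : R j →+* A => φ (b i)) (hν g)).symm
  have hy1' : ρ g (b i) = ∑ j, a i j • y j := hy1 i
  rw [e1, hy1', map_sum]
  refine Finset.sum_congr rfl fun κ _ => ?_
  show ν j' (a i κ • y κ) = a i κ • ν j' (y κ)
  rw [Algebra.smul_def, map_mul, Algebra.smul_def]
  congr 1
  exact congrArg (fun φ : A₀ →+* A => φ (a i κ)) (hντ j')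

end Ring

end Groth.Agent.Lib.Helper4.LimSchDenseA
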