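import Mathlib
import Groth.Agent.Lib.Helper4.LimSchDenseA
import Groth.Agent.Lib.Helper4.LimFlatD

/-!
# The limit of a cofiltered system of flat schemes over a base is flat over the base (helper4)
-/

set_option backward.isDefEq.respectTransparency.types false
set_option synthInstance.maxHeartbeats 400000
set_option autoImplicit false
set_option linter.unusedSectionVars false
set_option linter.style.haveILetI false
set_option linter.unusedSimpArgs false
universe u v w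
open CategoryTheory CategoryTheory.Limits AlgebraicGeometry TopologicalSpace Topology

namespace Groth.Agent.Lib.Helper4.LimSchDenseB

open TensorProduct Opposite Groth.Agent.Lib.Helper4.LimFlatC

variable {K : Type u} [SmallCategory K] [IsCofiltered K] (E : K ⥤ Scheme.{u}) (cE : Cone E)
  (hcE : IsLimit cE) [∀ {i j : K} (φ : i ⟶ j), IsAffineHom (E.map φ)]
  {Y₀ : Scheme.{u}} (a : ∀ k, E.obj k ⟶ Y₀)
  (ha : ∀ {i j : K} (φ : i ⟶ j), E.map φ ≫ a j = a i) [∀ k, IsAffineHom (a k)]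
  (b : cE.pt ⟶ Y₀) (hb : ∀ k, cE.π.app k ≫ a k = b)

set_option maxHeartbeats 1600000 in
include hcE ha hb in
/-- the sections of the limit over the preimage of an affine open are flat over the sections
below, when all the stages are flat -/
theorem flat_appLE_of_flat_stages [∀ k, Flat (a k)] {V₀ : Y₀.Opens} (hV₀ : IsAffineOpen V₀) :
    (b.appLE V₀ (b ⁻¹ᵁ V₀) le_rfl).hom.Flat := by
  letI : Algebra Γ(Y₀, V₀) Γ(cE.pt, b ⁻¹ᵁ V₀) := (b.appLE V₀ (b ⁻¹ᵁ V₀) le_rfl).hom.toAlgebra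
  have haff : ∀ k, IsAffineOpen (a k ⁻¹ᵁ V₀) := fun k => hV₀.preimage (a k)
  have key := Groth.Agent.Lib.Helper4.LimSchDenseA.flat_of_filtered_colimit (J := Kᵒᵖ)
    (fun k => Γ(E.obj k.unop, a k.unop ⁻¹ᵁ V₀))
    (fun {k k'} f => ((E.map f.unop).appLE (a k.unop ⁻¹ᵁ V₀) (a k'.unop ⁻¹ᵁ V₀)
      (stage_le E a ha f.unop V₀)).hom)
    ?_ (A₀ := Γ(Y₀, V₀)) (A := Γ(cE.pt, b ⁻¹ᵁ V₀))
    (fun k => ((a k.unop).appLE V₀ (a k.unop ⁻¹ᵁ V₀) le_rfl).hom) ?_
    (fun k => ((cE.π.app k.unop).appLE (a k.unop ⁻¹ᵁ V₀) (b ⁻¹ᵁ V₀) (lim_le E cE a b hb k.unop V₀)).hom)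
    ?_ ?_ ?_ ?_ ?_
  · exact key
  · -- composition
    intro k k' k'' f g
    rw [← CommRingCat.hom_comp, Scheme.Hom.appLE_comp_appLE]
    congr 1
    exact Groth.Agent.Helper7.LimSec.appLE_congr_hom (by rw [unop_comp, E.map_comp]) _ _ _
  · -- structure maps
    intro k k' f
    rw [← CommRingCat.hom_comp, Scheme.Hom.appLE_comp_appLE]
    congr 1
    exact Groth.Agent.Helper7.LimSec.appLE_congr_hom (ha f.unop) _ _ _
  · -- cocone
    intro k k' f
    rw [← CommRingCat.hom_comp, Scheme.Hom.appLE_comp_appLE]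
    congr 1
    exact Groth.Agent.Helper7.LimSec.appLE_congr_hom (cE.w f.unop) _ _ _
  · -- cocone on the base
    intro k
    rw [← CommRingCat.hom_comp, Scheme.Hom.appLE_comp_appLE]
    show _ = (b.appLE V₀ (b ⁻¹ᵁ V₀) le_rfl).hom
    congr 1
    exact Groth.Agent.Helper7.LimSec.appLE_congr_hom (hb k.unop) _ _ _
  · -- surjectivity
    intro s
    obtain ⟨k₀⟩ : Nonempty K := IsCofiltered.nonempty
    obtain ⟨j, φ, hj⟩ := exists_appLE_eq' E cE hcE k₀ (a k₀ ⁻¹ᵁ V₀) (haff k₀) (b ⁻¹ᵁ V₀)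
      (by rw [← Scheme.Hom.comp_preimage, hb k₀]) s
    obtain ⟨s', hs'⟩ := hj (a j ⁻¹ᵁ V₀) (by rw [← Scheme.Hom.comp_preimage, ha φ])
      (lim_le E cE a b hb j V₀)
    exact ⟨op j, s', hs'⟩
  · -- kernel
    intro k x hx
    obtain ⟨j, φ, hj⟩ := exists_appLE_eq_zero' E cE hcE k.unop (a k.unop ⁻¹ᵁ V₀)
      (haff k.unop).isCompact (b ⁻¹ᵁ V₀) (by rw [← Scheme.Hom.comp_preimage, hb k.unop])
      (lim_le E cE a b hb k.unop V₀) x hx
    exact ⟨op j, φ.op, hj (a j ⁻¹ᵁ V₀) (by rw [← Scheme.Hom.comp_preimage, ha φ])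
      (stage_le E a ha φ V₀)⟩
  · -- flatness of the stages
    intro k
    exact HasRingHomProperty.appLE (P := @Flat) (a k.unop) inferInstance ⟨V₀, hV₀⟩
      ⟨a k.unop ⁻¹ᵁ V₀, haff k.unop⟩ le_rfl

include hcE ha hb in
/-- the limit is flat over the base when all the stages are -/
theorem flat_of_flat_stages [∀ k, Flat (a k)] : Flat b := by
  rw [HasRingHomProperty.iff_exists_appLE (P := @Flat)
    (fun R S T _ _ _ _ r _ f hf => RingHom.Flat.comp (RingHom.Flat.holdsForLocalizationAway S r) hf)]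
  haveI := Groth.Agent.Lib.Helper4.LimFlatD.isAffineHom_b E cE hcE a b hb
  intro x
  obtain ⟨_, ⟨V₀, hV₀, rfl⟩, hxV₀, -⟩ :=
    Y₀.isBasis_affineOpens.exists_subset_of_mem_open (Set.mem_univ (b x)) isOpen_univ
  exact ⟨⟨V₀, hV₀⟩, ⟨b ⁻¹ᵁ V₀, hV₀.preimage b⟩, hxV₀, le_rfl,
    flat_appLE_of_flat_stages E cE hcE a ha b hb hV₀⟩

end Groth.Agent.Lib.Helper4.LimSchDenseB
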