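import Mathlib
import Groth.Agent.Lib.Helper4.LimSchDenseB
import Groth.Agent.Lib.Helper2.Sch.SchDenseFlat
import Groth.Agent.Lib.Lead.LimZ3

/-!
# Schematically dense opens in limits of Noetherian schemes with flat affine transition maps (helper4)
-/

set_option backward.isDefEq.respectTransparency.types false
set_option synthInstance.maxHeartbeats 400000
set_option autoImplicit false
set_option linter.unusedSectionVars false
set_option linter.style.haveILetI false
set_option linter.unusedSimpArgs false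
universe u v w
open CategoryTheory CategoryTheory.Limits AlgebraicGeometry TopologicalSpace Topology

namespace Groth.Agent.Lib.Helper4.LimSchDenseC

open Groth.Agent.Helper2.KerFlat Groth.Agent.Helper2.SchDenseFlat

set_option backward.isDefEq.respectTransparency false in
/-- Flat local statement with kernels: if the kernel of the restriction to `O ⊓ U` dies in the
sections over `O'`, then the restriction to the preimage of `U` is injective on `O'`. -/
theorem injective_res_of_flat_of_kill {X' X : Scheme.{u}} (p : X' ⟶ X) [Flat p] (U : X.Opens)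
    (O : X.affineOpens) (O' : X'.affineOpens)
    (hOO' : O'.1 ≤ p ⁻¹ᵁ O.1) (hc : IsCompact ((O.1 ⊓ U : X.Opens) : Set X))
    (hkill : ∀ g : Γ(X, O.1), X.presheaf.map (homOfLE (inf_le_left : O.1 ⊓ U ≤ O.1)).op g = 0 →
      p.appLE O.1 O'.1 hOO' g = 0)
    (N : X'.Opens) (hN : N = p ⁻¹ᵁ (O.1 ⊓ U) ⊓ O'.1) (hNO' : N ≤ O'.1) :
    Function.Injective (X'.presheaf.map (homOfLE hNO').op) := by
  have H : IsPullback p (𝟙 X') (𝟙 X) p := IsPullback.id_vert p
  have hUST : O'.1 ≤ p ⁻¹ᵁ O.1 := hOO'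
  have hUSX : O.1 ⊓ U ≤ (𝟙 X) ⁻¹ᵁ O.1 := inf_le_left
  have hUY : N = p ⁻¹ᵁ (O.1 ⊓ U) ⊓ (𝟙 X') ⁻¹ᵁ O'.1 := hN
  have hmono := mono_pushoutSection_of_isCompact_of_flat_right H hUST hUSX hUY O.2 O'.2 hc
  have hinj : Function.Injective (pushoutSection H hUST hUSX hUY).hom :=
    (ConcreteCategory.mono_iff_injective_of_preservesPullback _).mp hmono
  have hpo := IsPushout.of_hasPushout ((𝟙 X : X ⟶ X).appLE O.1 (O.1 ⊓ U) hUSX)
    (p.appLE O.1 O'.1 hUST)
  have hk := ker_of_isPushout_cat _ _ _ _ hpo (p.flat_appLE O.2 O'.2 hUST)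
  have h0 : (RingHom.ker ((𝟙 X : X ⟶ X).appLE O.1 (O.1 ⊓ U) hUSX).hom).map
      (p.appLE O.1 O'.1 hUST).hom = ⊥ := by
    rw [eq_bot_iff, Ideal.map_le_iff_le_comap]
    intro g hg
    rw [RingHom.mem_ker, id_appLE_eq] at hg
    rw [Ideal.mem_comap, Ideal.mem_bot]
    exact hkill g hg
  rw [h0, ← RingHom.injective_iff_ker_eq_bot] at hk
  have h1 : pushout.inr ((𝟙 X : X ⟶ X).appLE O.1 (O.1 ⊓ U) hUSX) (p.appLE O.1 O'.1 hUST) ≫
      pushoutSection H hUST hUSX hUY = (𝟙 X' : X' ⟶ X').appLE O'.1 N (by simp [hUY]) :=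
    pushout.inr_desc _ _ _
  replace h1 := h1.trans (id_appLE_eq O'.1 N _)
  have h2 : (X'.presheaf.map (homOfLE hNO').op).hom =
      (pushoutSection H hUST hUSX hUY).hom.comp
        (pushout.inr ((𝟙 X : X ⟶ X).appLE O.1 (O.1 ⊓ U) hUSX) (p.appLE O.1 O'.1 hUST)).hom := by
    rw [← CommRingCat.hom_comp, h1]
  show Function.Injective (X'.presheaf.map (homOfLE hNO').op).hom
  rw [h2]
  exact hinj.comp hk


set_option backward.isDefEq.respectTransparency false in
/-- The preimage of an open under a flat morphism is schematically dense as soon as the kernels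
of the restrictions to the open, over the members of an affine cover of the target, die on the
source. -/
theorem isSchematicallyDense_preimage_of_flat_of_kill {X' X : Scheme.{u}} (p : X' ⟶ X) [Flat p]
    (U : X.Opens) (hUc : ∀ O : X.affineOpens, IsCompact ((O.1 ⊓ U : X.Opens) : Set X))
    (𝒲 : Set X.affineOpens) (hcov : ∀ x : X, ∃ O ∈ 𝒲, x ∈ O.1)
    (hkill : ∀ O ∈ 𝒲, ∀ g : Γ(X, O.1),
      X.presheaf.map (homOfLE (inf_le_left : O.1 ⊓ U ≤ O.1)).op g = 0 →
        p.appLE O.1 (p ⁻¹ᵁ O.1) le_rfl g = 0) :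
    CInt.IsSchematicallyDense (p ⁻¹ᵁ U) := by
  intro V'
  rw [injective_iff_map_eq_zero]
  intro s hs
  have hloc : ∀ x : ↥V', ∃ (N : X'.Opens) (hN : N ≤ V'), x.1 ∈ N ∧
      X'.presheaf.map (homOfLE hN).op s = 0 := by
    intro x
    obtain ⟨O, hO𝒲, hxO⟩ := hcov (p x.1)
    have hx' : x.1 ∈ V' ⊓ p ⁻¹ᵁ O.1 := ⟨x.2, hxO⟩
    obtain ⟨O', hxO', hO'le⟩ := exists_affineOpens_mem_le' x.1 (V' ⊓ p ⁻¹ᵁ O.1) hx'
    have hO'V' : O'.1 ≤ V' := hO'le.trans inf_le_left
    have hOO' : O'.1 ≤ p ⁻¹ᵁ O.1 := hO'le.trans inf_le_right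
    refine ⟨O'.1, hO'V', hxO', ?_⟩
    have hNO' : p ⁻¹ᵁ (O.1 ⊓ U) ⊓ O'.1 ≤ O'.1 := inf_le_right
    have hkill' : ∀ g : Γ(X, O.1),
        X.presheaf.map (homOfLE (inf_le_left : O.1 ⊓ U ≤ O.1)).op g = 0 →
          p.appLE O.1 O'.1 hOO' g = 0 := by
      intro g hg
      have h1 := hkill O hO𝒲 g hg
      have h2 : p.appLE O.1 (p ⁻¹ᵁ O.1) le_rfl ≫ X'.presheaf.map (homOfLE hOO').op =
          p.appLE O.1 O'.1 hOO' := Scheme.Hom.appLE_map p le_rfl (homOfLE hOO').op
      rw [← h2]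
      show X'.presheaf.map (homOfLE hOO').op (p.appLE O.1 (p ⁻¹ᵁ O.1) le_rfl g) = 0
      rw [h1, map_zero]
    apply injective_res_of_flat_of_kill p U O O' hOO' (hUc O) hkill' _ rfl hNO'
    rw [map_zero]
    have hle : p ⁻¹ᵁ (O.1 ⊓ U) ⊓ O'.1 ≤ V' ⊓ p ⁻¹ᵁ U :=
      le_inf (inf_le_right.trans hO'V') (inf_le_left.trans (fun y hy => hy.2))
    have h1 : X'.presheaf.map (homOfLE hNO').op (X'.presheaf.map (homOfLE hO'V').op s) =
        X'.presheaf.map (homOfLE hle).op
          (X'.presheaf.map (homOfLE (inf_le_left : V' ⊓ p ⁻¹ᵁ U ≤ V')).op s) := by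
      show (X'.presheaf.map _ ≫ X'.presheaf.map _) s = (X'.presheaf.map _ ≫ X'.presheaf.map _) s
      rw [← X'.presheaf.map_comp, ← X'.presheaf.map_comp]
      rfl
    rw [h1, hs, map_zero]
  choose N hN hxN h0 using hloc
  apply X'.sheaf.eq_of_locally_eq' N V' (fun x => homOfLE (hN x)) (fun x hx => by
    rw [Opens.mem_iSup]
    exact ⟨⟨x, hx⟩, hxN ⟨x, hx⟩⟩)
  intro x
  exact (h0 x).trans (map_zero (X'.presheaf.map (homOfLE (hN x)).op).hom).symm


section Main

variable {I : Type u} [SmallCategory I] [IsCofiltered I] (D : I ⥤ Scheme.{u}) (c : Limits.Cone D)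
  (hc : Limits.IsLimit c) [∀ {i j : I} (g : i ⟶ j), IsAffineHom (D.map g)]

include hc in
/-- the projections from the limit of a system with flat affine transition maps are flat -/
theorem flat_π_app [∀ {i j : I} (g : i ⟶ j), Flat (D.map g)] (i : I) : Flat (c.π.app i) := by
  have hcE : IsLimit (c.whisker (Over.forget i)) :=
    (Functor.Initial.isLimitWhiskerEquiv (Over.forget i) c).symm hc
  haveI : ∀ {k k' : Over i} (φ : k ⟶ k'), IsAffineHom ((Over.forget i ⋙ D).map φ) := fun φ =>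
    (inferInstance : IsAffineHom (D.map φ.left))
  obtain ⟨a, hadef⟩ : ∃ a : ∀ k : Over i, (Over.forget i ⋙ D).obj k ⟶ D.obj i,
      a = fun k : Over i => D.map k.hom := ⟨_, rfl⟩
  haveI : ∀ k : Over i, IsAffineHom (a k) := fun k => by
    rw [hadef]; exact (inferInstance : IsAffineHom (D.map k.hom))
  haveI : ∀ k : Over i, Flat (a k) := fun k => by
    rw [hadef]; exact (inferInstance : Flat (D.map k.hom))
  exact Groth.Agent.Lib.Helper4.LimSchDenseB.flat_of_flat_stages (Over.forget i ⋙ D)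
    (c.whisker (Over.forget i)) hcE a (fun {k k'} φ => by
      rw [hadef]
      show D.map φ.left ≫ D.map k'.hom = D.map k.hom
      rw [← D.map_comp, Over.w φ])
    (c.π.app i) (fun k => by
      rw [hadef]
      exact c.w k.hom)


omit [IsCofiltered I] [∀ {i j : I} (g : i ⟶ j), IsAffineHom (D.map g)] in
/-- the kill condition passes to later stages -/
theorem kill_mono (i₀ : I) (W : (D.obj i₀).Opens) (g : Γ(D.obj i₀, W)) {j k : Over i₀} (f : k ⟶ j)
    (h : (D.map j.hom).appLE W (D.map j.hom ⁻¹ᵁ W) le_rfl g = 0) :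
    (D.map k.hom).appLE W (D.map k.hom ⁻¹ᵁ W) le_rfl g = 0 := by
  have e1 : D.map f.left ≫ D.map j.hom = D.map k.hom := by rw [← D.map_comp, Over.w f]
  rw [← Groth.Agent.Lead.LimZ.appLE_comp_eq (D.map f.left) (D.map j.hom) (D.map k.hom) e1 le_rfl
    (by rw [← Scheme.Hom.comp_preimage, e1]) le_rfl g, h, map_zero]

set_option maxHeartbeats 1600000 in
include hc in
/-- forward direction: schematic density on the limit gives schematic density at a stage -/
theorem exists_stage_dense [∀ {i j : I} (g : i ⟶ j), Flat (D.map g)]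
    [∀ i : I, IsNoetherian (D.obj i)] (i₀ : I) (U₀ : (D.obj i₀).Opens)
    (hU : CInt.IsSchematicallyDense ((c.π.app i₀) ⁻¹ᵁ U₀)) :
    ∃ (i : I) (g : i ⟶ i₀), CInt.IsSchematicallyDense ((D.map g) ⁻¹ᵁ U₀) := by
  classical
  obtain ⟨S, hSfin, hScov⟩ := (isCompact_iff_finite_and_eq_biUnion_affineOpens
    (X := D.obj i₀) (U := ⊤)).1 isCompact_univ
  -- each element of the kernel dies on the limit
  have hlim : ∀ (W : (D.obj i₀).affineOpens) (g : Γ(D.obj i₀, W.1)),
      (D.obj i₀).presheaf.map (homOfLE (inf_le_left : W.1 ⊓ U₀ ≤ W.1)).op g = 0 →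
        (c.π.app i₀).app W.1 g = 0 := by
    intro W g hg
    apply hU (c.π.app i₀ ⁻¹ᵁ W.1)
    rw [map_zero]
    have hnat := (c.π.app i₀).naturality (homOfLE (inf_le_left : W.1 ⊓ U₀ ≤ W.1)).op
    have h1 := congrArg (fun φ => φ g) hnat
    simp only [CommRingCat.comp_apply] at h1
    rw [hg, map_zero] at h1
    exact h1.symm
  -- each kernel dies at a stage
  have hstage : ∀ W : (D.obj i₀).affineOpens, ∃ k : Over i₀, ∀ g : Γ(D.obj i₀, W.1),
      (D.obj i₀).presheaf.map (homOfLE (inf_le_left : W.1 ⊓ U₀ ≤ W.1)).op g = 0 →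
        (D.map k.hom).appLE W.1 (D.map k.hom ⁻¹ᵁ W.1) le_rfl g = 0 := by
    intro W
    haveI : IsNoetherianRing Γ(D.obj i₀, W.1) := IsLocallyNoetherian.component_noetherian W
    obtain ⟨T, hT⟩ := (isNoetherianRing_iff_ideal_fg _).1 inferInstance
      (RingHom.ker ((D.obj i₀).presheaf.map (homOfLE (inf_le_left : W.1 ⊓ U₀ ≤ W.1)).op).hom)
    have h1 : ∀ g ∈ T, ∃ k : Over i₀,
        (D.map k.hom).appLE W.1 (D.map k.hom ⁻¹ᵁ W.1) le_rfl g = 0 := by
      intro g hg
      have hg' : g ∈ RingHom.ker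
          ((D.obj i₀).presheaf.map (homOfLE (inf_le_left : W.1 ⊓ U₀ ≤ W.1)).op).hom := by
        rw [← hT]; exact Ideal.subset_span hg
      obtain ⟨j, f, hf⟩ := exists_app_map_eq_zero_of_isLimit D c hc W.2.isCompact g
        (hlim W g hg')
      refine ⟨Over.mk f, ?_⟩
      rw [← Scheme.Hom.app_eq_appLE]
      exact hf
    obtain ⟨k, hk⟩ := Groth.Agent.Lead.LimZ.exists_common
      (fun (k : Over i₀) (g : Γ(D.obj i₀, W.1)) =>
        (D.map k.hom).appLE W.1 (D.map k.hom ⁻¹ᵁ W.1) le_rfl g = 0)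
      (fun {j k} f g hg => kill_mono D i₀ W.1 g f hg) T h1
    refine ⟨k, fun g hg => ?_⟩
    have hle : Ideal.span (T : Set Γ(D.obj i₀, W.1)) ≤
        RingHom.ker ((D.map k.hom).appLE W.1 (D.map k.hom ⁻¹ᵁ W.1) le_rfl).hom := by
      rw [Ideal.span_le]
      intro x hx
      exact hk x hx
    rw [hT] at hle
    exact hle hg
  obtain ⟨k, hk⟩ := Groth.Agent.Lead.LimZ.exists_common
    (fun (k : Over i₀) (W : (D.obj i₀).affineOpens) => ∀ g : Γ(D.obj i₀, W.1),
      (D.obj i₀).presheaf.map (homOfLE (inf_le_left : W.1 ⊓ U₀ ≤ W.1)).op g = 0 →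
        (D.map k.hom).appLE W.1 (D.map k.hom ⁻¹ᵁ W.1) le_rfl g = 0)
    (fun {j k} f W h g hg => kill_mono D i₀ W.1 g f (h g hg)) hSfin.toFinset
    (fun W _ => hstage W)
  refine ⟨k.left, k.hom, ?_⟩
  refine isSchematicallyDense_preimage_of_flat_of_kill (D.map k.hom) U₀
    (fun O => TopologicalSpace.NoetherianSpace.isCompact _) S ?_
    (fun O hO g hg => hk O (hSfin.mem_toFinset.2 hO) g hg)
  intro x
  have hx : x ∈ (⊤ : (D.obj i₀).Opens) := trivial
  rw [hScov] at hx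
  simp only [TopologicalSpace.Opens.mem_iSup] at hx
  obtain ⟨O, hO, hxO⟩ := hx
  exact ⟨O, hO, hxO⟩


end Main

theorem S5107_main {I : Type u} [SmallCategory I]
    [IsCofiltered I] (D : I ⥤ Scheme.{u}) (c : Limits.Cone D) (hc : Limits.IsLimit c)
    [∀ (i j : I) (g : i ⟶ j), IsAffineHom (D.map g)] [∀ (i j : I) (g : i ⟶ j), Flat (D.map g)]
    [∀ i : I, IsNoetherian (D.obj i)] [IsNoetherian c.pt] (i₀ : I) (U₀ : (D.obj i₀).Opens) :
    CInt.IsSchematicallyDense ((c.π.app i₀) ⁻¹ᵁ U₀) ↔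
      ∃ (i : I) (g : i ⟶ i₀), CInt.IsSchematicallyDense ((D.map g) ⁻¹ᵁ U₀) := by
  haveI : ∀ {i j : I} (g : i ⟶ j), IsAffineHom (D.map g) := fun g => inferInstance
  haveI : ∀ {i j : I} (g : i ⟶ j), Flat (D.map g) := fun g => inferInstance
  constructor
  · exact exists_stage_dense D c hc i₀ U₀
  · rintro ⟨i, g, hU⟩
    haveI : Flat (c.π.app i) := flat_π_app D c hc i
    have key := isSchematicallyDense_preimage_of_flat (c.π.app i) ((D.map g) ⁻¹ᵁ U₀)
      (fun O => TopologicalSpace.NoetherianSpace.isCompact _) hU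
    have e : (c.π.app i) ⁻¹ᵁ ((D.map g) ⁻¹ᵁ U₀) = (c.π.app i₀) ⁻¹ᵁ U₀ := by
      rw [← Scheme.Hom.comp_preimage, c.w g]
    rw [e] at key
    exact key

end Groth.Agent.Lib.Helper4.LimSchDenseC
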