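import Mathlib
import Groth.Agent.Lib.Helper4.LimTRegD

/-!
# Transversally regular sequences of global functions in a cofiltered limit of schemes (EGA IV 19.8.1-type, S5990) (helper4) (helper4)
-/

set_option backward.isDefEq.respectTransparency.types false
set_option synthInstance.maxHeartbeats 400000
set_option autoImplicit false
set_option linter.unusedSectionVars false
set_option linter.style.haveILetI false
set_option linter.unusedSimpArgs false
universe u v w
open CategoryTheory CategoryTheory.Limits AlgebraicGeometry TopologicalSpace Topology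

namespace Groth.Agent.Lib.Helper4.LimTRegE

open Scheme.Modules Groth.Agent.Lead.FO Groth.Agent.Lead.SD
  Groth.Agent.Lib.Helper4 Groth.Agent.Lib.Helper4.LimInjA Groth.Agent.Lib.Helper4.LimInjC
  Groth.Agent.Lib.Helper4.LimTRegA Groth.Agent.Lib.Helper4.LimTRegB
  Groth.Agent.Lib.Helper4.LimTRegC Groth.Agent.Lib.Helper4.LimTRegD

/-- the affine-chart form of transversal regularity of a sequence of global functions is the
sheaf-level pointwise form -/
theorem trSeq_iff_trAt {X₀ X' S' : Scheme.{u}} (q : X' ⟶ X₀) (p : X' ⟶ S')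
    (fs : List Γ(X₀, ⊤)) :
    (∀ (U : X'.affineOpens) (V : S'.affineOpens) (e : U.1 ≤ p ⁻¹ᵁ V.1),
        @RegImm.IsTransRegularSeq Γ(S', V.1) Γ(X', U.1) _ _ (p.appLE V.1 U.1 e).hom.toAlgebra
          (fs.map (fun f => (X'.presheaf.map (homOfLE (le_top : U.1 ≤ ⊤)).op).hom
            (q.appTop.hom f)))) ↔
      ∀ x : X', TRAt q p fs (Coh.structureModule X₀) x := by
  constructor
  · intro H x
    obtain ⟨V₀, U₀, hV₀, hU₀, hxU₀, hUV₀⟩ := Groth.Agent.Lead.PB.exists_affine_pair p x
    exact (trAt_unit_sections_iff q p fs hU₀ hV₀ hUV₀).2 (H ⟨U₀, hU₀⟩ ⟨V₀, hV₀⟩ hUV₀) x hxU₀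
  · intro H U V e
    exact (trAt_unit_sections_iff q p fs U.2 V.2 e).1 (fun x _ => H x)


set_option maxHeartbeats 1600000 in
theorem S5990_main {I : Type u} [SmallCategory I]
    [IsCofiltered I] (D : I ⥤ Scheme.{u}) (c : Limits.Cone D) (hc : Limits.IsLimit c)
    [∀ (i j : I) (f : i ⟶ j), IsAffineHom (D.map f)]
    (i₀ : I) {X₀ : Scheme.{u}} (g₀ : X₀ ⟶ D.obj i₀) [CompactSpace X₀]
    [LocallyOfFinitePresentation g₀] (fs : List Γ(X₀, ⊤)) :
    (∀ (U : (Limits.pullback g₀ (c.π.app i₀)).affineOpens) (V : c.pt.affineOpens)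
        (e : U.1 ≤ Limits.pullback.snd g₀ (c.π.app i₀) ⁻¹ᵁ V.1),
        @RegImm.IsTransRegularSeq Γ(c.pt, V.1) Γ(Limits.pullback g₀ (c.π.app i₀), U.1) _ _
          ((Limits.pullback.snd g₀ (c.π.app i₀)).appLE V.1 U.1 e).hom.toAlgebra
          (fs.map (fun f => ((Limits.pullback g₀ (c.π.app i₀)).presheaf.map
            (homOfLE (le_top : U.1 ≤ ⊤)).op).hom
              ((Limits.pullback.fst g₀ (c.π.app i₀)).appTop.hom f)))) ↔
      ∃ (j : I) (φ : j ⟶ i₀),
        ∀ (U : (Limits.pullback g₀ (D.map φ)).affineOpens) (V : (D.obj j).affineOpens)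
          (e : U.1 ≤ Limits.pullback.snd g₀ (D.map φ) ⁻¹ᵁ V.1),
          @RegImm.IsTransRegularSeq Γ(D.obj j, V.1) Γ(Limits.pullback g₀ (D.map φ), U.1) _ _
            ((Limits.pullback.snd g₀ (D.map φ)).appLE V.1 U.1 e).hom.toAlgebra
            (fs.map (fun f => ((Limits.pullback g₀ (D.map φ)).presheaf.map
              (homOfLE (le_top : U.1 ≤ ⊤)).op).hom
                ((Limits.pullback.fst g₀ (D.map φ)).appTop.hom f))) := by
  haveI hD : ∀ {i j : I} (φ : i ⟶ j), IsAffineHom (D.map φ) := fun φ => inferInstance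
  haveI hqc : (Coh.structureModule X₀).IsQuasicoherent :=
    Groth.Agent.Helper1.IdealModL.isQuasicoherent_structureModule
  have hfp : CohB1.IsFP (Coh.structureModule X₀) := Groth.Agent.Helper1.FPA.isFP_unit X₀
  rw [trSeq_iff_trAt]
  have hR : ∀ (j : I) (φ : j ⟶ i₀),
      (∀ (U : (Limits.pullback g₀ (D.map φ)).affineOpens) (V : (D.obj j).affineOpens)
          (e : U.1 ≤ Limits.pullback.snd g₀ (D.map φ) ⁻¹ᵁ V.1),
          @RegImm.IsTransRegularSeq Γ(D.obj j, V.1) Γ(Limits.pullback g₀ (D.map φ), U.1) _ _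
            ((Limits.pullback.snd g₀ (D.map φ)).appLE V.1 U.1 e).hom.toAlgebra
            (fs.map (fun f => ((Limits.pullback g₀ (D.map φ)).presheaf.map
              (homOfLE (le_top : U.1 ≤ ⊤)).op).hom
                ((Limits.pullback.fst g₀ (D.map φ)).appTop.hom f)))) ↔
        ∀ z : ↥(Limits.pullback g₀ (D.map φ)), TRAt (Limits.pullback.fst g₀ (D.map φ))
          (Limits.pullback.snd g₀ (D.map φ)) fs (Coh.structureModule X₀) z :=
    fun j φ => trSeq_iff_trAt _ _ fs
  simp only [hR]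
  constructor
  · intro H
    -- the limit over `Over i₀`
    obtain ⟨a, hadef⟩ : ∃ a : ∀ k : Over i₀, (Over.forget i₀ ⋙ D).obj k ⟶ D.obj i₀,
        a = fun k : Over i₀ => D.map k.hom := ⟨_, rfl⟩
    haveI haff : ∀ k : Over i₀, IsAffineHom (a k) := fun k => by
      rw [hadef]
      show IsAffineHom (D.map k.hom)
      infer_instance
    haveI hEaff : ∀ {i j : Over i₀} (φ : i ⟶ j), IsAffineHom ((Over.forget i₀ ⋙ D).map φ) :=
      fun φ => by
        show IsAffineHom (D.map φ.left)
        infer_instance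
    have hcE : IsLimit (c.whisker (Over.forget i₀)) :=
      (Functor.Initial.isLimitWhiskerEquiv (Over.forget i₀) c).symm hc
    obtain ⟨k₂, hk₂⟩ := exists_stage_trAt (Over.forget i₀ ⋙ D) (c.whisker (Over.forget i₀)) hcE a
      (fun {i j} φ => by
        rw [hadef]
        show D.map φ.left ≫ D.map j.hom = D.map i.hom
        rw [← D.map_comp, Over.w])
      (c.π.app i₀)
      (fun k => by
        rw [hadef]
        show c.π.app k.left ≫ D.map k.hom = c.π.app i₀
        exact c.w k.hom)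
      g₀ (Limits.pullback.fst g₀ (c.π.app i₀)) (Limits.pullback.snd g₀ (c.π.app i₀))
      (IsPullback.of_hasPullback g₀ (c.π.app i₀)) fs (Coh.structureModule X₀) hfp H
    refine ⟨k₂.left, k₂.hom, fun z => ?_⟩
    exact hk₂ k₂ (𝟙 _) _ _ _ (by rw [hadef]; exact IsPullback.of_hasPullback g₀ (D.map k₂.hom)) z
  · rintro ⟨j, φ, H⟩ x
    have hw : Limits.pullback.fst g₀ (c.π.app i₀) ≫ g₀ =
        (Limits.pullback.snd g₀ (c.π.app i₀) ≫ c.π.app j) ≫ D.map φ := by
      rw [pullback.condition, Category.assoc, c.w]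
    have hsq : IsPullback (pullback.lift _ _ hw) (Limits.pullback.snd g₀ (c.π.app i₀))
        (Limits.pullback.snd g₀ (D.map φ)) (c.π.app j) := by
      refine IsPullback.of_right ?_ (pullback.lift_snd _ _ hw)
        (IsPullback.of_hasPullback g₀ (D.map φ))
      rw [pullback.lift_fst, c.w]
      exact IsPullback.of_hasPullback g₀ (c.π.app i₀)
    exact trAt_baseChange hsq (Limits.pullback.fst g₀ (D.map φ)) _ (pullback.lift_fst _ _ hw) fs
      (Coh.structureModule X₀) hfp x (H _)

end Groth.Agent.Lib.Helper4.LimTRegE
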