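import Mathlib
import Groth.Agent.Lib.Helper4.LimTRegC
import Groth.Agent.Lib.Helper1.TwistSec
import Groth.Agent.Lib.Helper3.SepFam1
import Groth.Agent.Lib.Helper5.Stalk.FlatPull
import Groth.Agent.Lib.Lead.FpqcSh
import Groth.Agent.Lib.Lead.LimZ4
import Groth.Agent.Lib.Helper3.LimMono1
import Groth.Agent.Lib.Helper1.CohAbel
import Groth.Agent.S4758
import Groth.Agent.S4764

/-!
# sheaf-level weak regularity of sequences of global functions in cofiltered limits (helper4)
-/

set_option backward.isDefEq.respectTransparency.types false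
set_option synthInstance.maxHeartbeats 400000
set_option autoImplicit false
set_option linter.unusedSectionVars false
set_option linter.style.haveILetI false
set_option linter.unusedSimpArgs false
universe u v w
open CategoryTheory CategoryTheory.Limits AlgebraicGeometry TopologicalSpace Topology

namespace Groth.Agent.Lib.Helper4.LimWRegA

open Groth.Agent.Lib.Helper4 Groth.Agent.Lib.Helper4.LimTRegA Groth.Agent.Lib.Helper4.LimTRegC
  Groth.Agent.Helper3.RelFPS Groth.Agent.Lead.BCU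

section Inj

/-- a morphism of modules injective on the sections over affine opens is injective on all
sections -/
theorem app_injective_of_affine {X : Scheme.{u}} {M N : X.Modules} (φ : M ⟶ N)
    (h : ∀ U : X.Opens, IsAffineOpen U → Function.Injective (φ.app U)) (U : X.Opens) :
    Function.Injective (φ.app U) := by
  intro s t hst
  apply Groth.Agent.Helper1.TwistSec.eq_of_locally
  intro x hx
  obtain ⟨_, ⟨V, hV, rfl⟩, hxV, hVU⟩ :=
    X.isBasis_affineOpens.exists_subset_of_mem_open hx U.2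
  refine ⟨V, hVU, hxV, ?_⟩
  apply h V hV
  have h1 := app_res φ hVU s
  have h2 := app_res φ hVU t
  exact h1.trans ((congrArg _ hst).trans h2.symm)

theorem mono_iff_app_injective_affine {X : Scheme.{u}} {M N : X.Modules} (φ : M ⟶ N) :
    Mono φ ↔ ∀ U : X.Opens, IsAffineOpen U → Function.Injective (φ.app U) := by
  constructor
  · intro _ U _
    exact Groth.Agent.Helper3.SepFam.app_injective_of_mono φ U
  · intro h
    exact Groth.Agent.Helper3.SepFam.mono_of_app_injective φ (app_injective_of_affine φ h)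

end Inj

section WRP

variable {X' X₀ : Scheme.{u}} (q : X' ⟶ X₀)

/-- sheaf-level weak regularity of the pullback of a sequence of global functions on the pullback
of a module -/
noncomputable def WRP : List Γ(X₀, ⊤) → X₀.Modules → Prop
  | [], _ => True
  | f :: fs, F₀ => Mono ((Scheme.Modules.pullback q).map (smulΓ F₀ f)) ∧
      WRP fs (cokernel (smulΓ F₀ f))

theorem wrp_nil (F₀ : X₀.Modules) : WRP q [] F₀ ↔ True := Iff.rfl

theorem wrp_cons (f : Γ(X₀, ⊤)) (fs : List Γ(X₀, ⊤)) (F₀ : X₀.Modules) :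
    WRP q (f :: fs) F₀ ↔ Mono ((Scheme.Modules.pullback q).map (smulΓ F₀ f)) ∧
      WRP q fs (cokernel (smulΓ F₀ f)) := Iff.rfl

theorem wrp_sections_iff (fs : List Γ(X₀, ⊤)) (F₀ : X₀.Modules) [F₀.IsQuasicoherent] :
    WRP q fs F₀ ↔ ∀ U : X'.Opens, IsAffineOpen U →
      RingTheory.Sequence.IsWeaklyRegular Γ((Scheme.Modules.pullback q).obj F₀, U)
        (fs.map (resΓ q U)) := by
  induction fs generalizing F₀ with
  | nil =>
    simp only [wrp_nil, List.map_nil, true_iff]
    intro U _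
    exact RingTheory.Sequence.IsWeaklyRegular.nil _ _
  | cons f fs ih =>
    haveI : (cokernel (smulΓ F₀ f)).IsQuasicoherent :=
      Groth.Agent.Helper1.QcAbel.isQuasicoherent_cokernel _
    have hreg : ∀ U : X'.Opens,
        Function.Injective (((Scheme.Modules.pullback q).map (smulΓ F₀ f)).app U) ↔
        IsSMulRegular Γ((Scheme.Modules.pullback q).obj F₀, U) (resΓ q U f) := by
      intro U
      unfold IsSMulRegular
      have : ⇑(((Scheme.Modules.pullback q).map (smulΓ F₀ f)).app U) =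
          fun m => resΓ q U f • m := funext fun m => smulΓ_pullback_app q F₀ f U m
      rw [this]
    rw [wrp_cons, ih (cokernel (smulΓ F₀ f)), mono_iff_app_injective_affine]
    constructor
    · rintro ⟨H1, H2⟩ U hU
      rw [List.map_cons, RingTheory.Sequence.isWeaklyRegular_cons_iff]
      refine ⟨(hreg U).1 (H1 U hU), ?_⟩
      exact (LinearEquiv.isWeaklyRegular_congr (secQuotEquiv q F₀ f hU) _).2 (H2 U hU)
    · intro H
      refine ⟨fun U hU => ?_, fun U hU => ?_⟩
      · have := H U hU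
        rw [List.map_cons, RingTheory.Sequence.isWeaklyRegular_cons_iff] at this
        exact (hreg U).2 this.1
      · have := H U hU
        rw [List.map_cons, RingTheory.Sequence.isWeaklyRegular_cons_iff] at this
        exact (LinearEquiv.isWeaklyRegular_congr (secQuotEquiv q F₀ f hU) _).1 this.2

theorem wrp_unit_sections_iff (fs : List Γ(X₀, ⊤)) :
    WRP q fs (Coh.structureModule X₀) ↔ ∀ U : X'.Opens, IsAffineOpen U →
      RingTheory.Sequence.IsWeaklyRegular Γ(X', U) (fs.map (resΓ q U)) := by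
  haveI : (Coh.structureModule X₀).IsQuasicoherent :=
    Groth.Agent.Helper1.IdealModL.isQuasicoherent_structureModule
  rw [wrp_sections_iff]
  refine forall_congr' fun U => forall_congr' fun hU => ?_
  exact LinearEquiv.isWeaklyRegular_congr
    ((secEquiv (Groth.Agent.Helper1.QcPullGen.pullbackUnitIso q) U).trans (secUnitEquiv U)) _

/-- monomorphy of the image under naturally isomorphic functors -/
theorem mono_map_of_natIso {C₁ C₂ : Type*} [Category C₁] [Category C₂] {P Q : C₁ ⥤ C₂}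
    (α : P ≅ Q) {A B : C₁} (f : A ⟶ B) (h : Mono (P.map f)) : Mono (Q.map f) := by
  have e : Q.map f = α.inv.app A ≫ P.map f ≫ α.hom.app B := by
    rw [α.hom.naturality f, Iso.inv_hom_id_app_assoc]
  rw [e]
  infer_instance

theorem wrp_comp {X'' : Scheme.{u}} (g : X'' ⟶ X') [Flat g] (q' : X'' ⟶ X₀) (e : g ≫ q = q')
    (fs : List Γ(X₀, ⊤)) (F₀ : X₀.Modules) (h : WRP q fs F₀) : WRP q' fs F₀ := by
  induction fs generalizing F₀ with
  | nil => trivial
  | cons f fs ih =>
    obtain ⟨h1, h2⟩ := h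
    refine ⟨?_, ih _ h2⟩
    haveI := h1
    have h3 : Mono ((Scheme.Modules.pullback g).map
        ((Scheme.Modules.pullback q).map (smulΓ F₀ f))) :=
      Groth.Agent.Lib.Helper5.StalkAdj.mono_pullback_map_of_flat g _
    exact mono_map_of_natIso (Groth.Agent.Lead.LimZ.compIso g q q' e) (smulΓ F₀ f) h3

/-- weak regularity descends along a flat surjective morphism, and then pulls back along any flat
morphism -/
theorem wrp_descend [Flat q] [Surjective q] {X'' : Scheme.{u}} (q' : X'' ⟶ X₀) [Flat q']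
    (fs : List Γ(X₀, ⊤)) (F₀ : X₀.Modules) (h : WRP q fs F₀) : WRP q' fs F₀ := by
  induction fs generalizing F₀ with
  | nil => trivial
  | cons f fs ih =>
    obtain ⟨h1, h2⟩ := h
    refine ⟨?_, ih _ h2⟩
    haveI : Mono (smulΓ F₀ f) := by
      apply Groth.Agent.Lead.FpqcSh.mono_of_flatLocally
      intro y
      exact ⟨X', q, inferInstance, (‹Surjective q›).surj y, h1⟩
    exact Groth.Agent.Lib.Helper5.StalkAdj.mono_pullback_map_of_flat q' _

end WRP

section Lim

variable {I : Type u} [SmallCategory I] [IsCofiltered I] (D : I ⥤ Scheme.{u}) (c : Cone D)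
  (hc : IsLimit c) [∀ (i j : I) (f : i ⟶ j), IsAffineHom (D.map f)]
  (hflat : ∀ (i j : I) (f : i ⟶ j), Flat (D.map f)) (i₀ : I)

include hc hflat in
theorem wrp_limit_of_stage (fs : List Γ(D.obj i₀, ⊤)) (F₀ : (D.obj i₀).Modules) {j : I}
    (φ : j ⟶ i₀) (h : WRP (D.map φ) fs F₀) : WRP (c.π.app i₀) fs F₀ := by
  haveI : Flat (c.π.app j) := Groth.Agent.S4764.result D c hc j (fun k ψ => hflat k j ψ)
  exact wrp_comp (D.map φ) (c.π.app j) (c.π.app i₀) (c.w φ) fs F₀ h

include hc hflat in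
theorem exists_stage_wrp_noeth [CompactSpace (D.obj i₀)] [IsLocallyNoetherian (D.obj i₀)]
    (fs : List Γ(D.obj i₀, ⊤)) (F₀ : (D.obj i₀).Modules) (hF₀ : Coh.IsCoh F₀)
    (h : WRP (c.π.app i₀) fs F₀) : ∃ (j : I) (φ : j ⟶ i₀), WRP (D.map φ) fs F₀ := by
  induction fs generalizing F₀ with
  | nil => exact ⟨i₀, 𝟙 i₀, trivial⟩
  | cons f fs ih =>
    obtain ⟨h1, h2⟩ := h
    haveI : F₀.IsQuasicoherent := hF₀.1
    have hker : CohB1.IsFT (kernel (smulΓ F₀ f)) :=
      (Groth.Agent.Helper1.FtLocal.isCoh_kernel hF₀ hF₀ (smulΓ F₀ f)).2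
    obtain ⟨j₁, φ₁, hj₁⟩ := (Groth.Agent.Helper3.LimMono.S4794_main D c hc i₀ hflat
      (smulΓ F₀ f) hker).1 h1
    obtain ⟨j₂, φ₂, hj₂⟩ := ih (cokernel (smulΓ F₀ f))
      (Groth.Agent.Helper1.FtLocal.isCoh_cokernel hF₀ hF₀ (smulΓ F₀ f)) h2
    obtain ⟨j, ψ₁, ψ₂, hψ⟩ := IsCofiltered.cospan φ₁ φ₂
    refine ⟨j, ψ₁ ≫ φ₁, ?_, ?_⟩
    · haveI : Flat (D.map ψ₁) := hflat _ _ ψ₁
      haveI := hj₁
      have h3 : Mono ((Scheme.Modules.pullback (D.map ψ₁)).map
          ((Scheme.Modules.pullback (D.map φ₁)).map (smulΓ F₀ f))) :=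
        Groth.Agent.Lib.Helper5.StalkAdj.mono_pullback_map_of_flat (D.map ψ₁) _
      exact mono_map_of_natIso (Groth.Agent.Lead.LimZ.compIso (D.map ψ₁) (D.map φ₁)
        (D.map (ψ₁ ≫ φ₁)) (D.map_comp ψ₁ φ₁).symm) (smulΓ F₀ f) h3
    · rw [hψ]
      haveI : Flat (D.map ψ₂) := hflat _ _ ψ₂
      exact wrp_comp (D.map φ₂) (D.map ψ₂) (D.map (ψ₂ ≫ φ₂)) (D.map_comp ψ₂ φ₂).symm fs _ hj₂

include hc hflat in
theorem S5982_main [CompactSpace (D.obj i₀)]
    (hcase : (∀ i : I, IsLocallyNoetherian (D.obj i)) ∨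
      ∀ (i j : I) (f : i ⟶ j), Surjective (D.map f))
    (fs : List Γ(D.obj i₀, ⊤)) :
    (∀ U : c.pt.affineOpens, RingTheory.Sequence.IsWeaklyRegular Γ(c.pt, U.1)
        (fs.map (fun f => (c.pt.presheaf.map (homOfLE (le_top : U.1 ≤ ⊤)).op).hom
          ((c.π.app i₀).appTop.hom f)))) ↔
      ∃ (j : I) (φ : j ⟶ i₀), ∀ U : (D.obj j).affineOpens,
        RingTheory.Sequence.IsWeaklyRegular Γ(D.obj j, U.1)
          (fs.map (fun f => ((D.obj j).presheaf.map (homOfLE (le_top : U.1 ≤ ⊤)).op).hom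
            ((D.map φ).appTop.hom f))) := by
  have hL : (∀ U : c.pt.affineOpens, RingTheory.Sequence.IsWeaklyRegular Γ(c.pt, U.1)
        (fs.map (fun f => (c.pt.presheaf.map (homOfLE (le_top : U.1 ≤ ⊤)).op).hom
          ((c.π.app i₀).appTop.hom f)))) ↔ WRP (c.π.app i₀) fs (Coh.structureModule (D.obj i₀)) := by
    rw [wrp_unit_sections_iff]
    exact ⟨fun H U hU => H ⟨U, hU⟩, fun H U => H U.1 U.2⟩
  have hR : ∀ (j : I) (φ : j ⟶ i₀), (∀ U : (D.obj j).affineOpens,
        RingTheory.Sequence.IsWeaklyRegular Γ(D.obj j, U.1)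
          (fs.map (fun f => ((D.obj j).presheaf.map (homOfLE (le_top : U.1 ≤ ⊤)).op).hom
            ((D.map φ).appTop.hom f)))) ↔ WRP (D.map φ) fs (Coh.structureModule (D.obj i₀)) := by
    intro j φ
    rw [wrp_unit_sections_iff]
    exact ⟨fun H U hU => H ⟨U, hU⟩, fun H U => H U.1 U.2⟩
  rw [hL]
  constructor
  · intro h
    rcases hcase with hn | hs
    · haveI := hn i₀
      have hcoh : Coh.IsCoh (Coh.structureModule (D.obj i₀)) := by
        refine ⟨Groth.Agent.Helper1.IdealModL.isQuasicoherent_structureModule, ?_⟩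
        haveI : SheafOfModules.IsFinitePresentation (R := (D.obj i₀).ringCatSheaf)
          (Coh.structureModule (D.obj i₀)) := Groth.Agent.Helper1.FPA.isFP_unit (D.obj i₀)
        exact (inferInstance : SheafOfModules.IsFiniteType (R := (D.obj i₀).ringCatSheaf)
          (Coh.structureModule (D.obj i₀)))
      obtain ⟨j, φ, hj⟩ := exists_stage_wrp_noeth D c hc hflat i₀ fs _ hcoh h
      exact ⟨j, φ, (hR j φ).2 hj⟩
    · haveI : Flat (c.π.app i₀) := Groth.Agent.S4764.result D c hc i₀ (fun k ψ => hflat k i₀ ψ)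
      haveI : Surjective (c.π.app i₀) :=
        (Groth.Agent.S4758.result D c hc i₀).2 (fun j φ => hs j i₀ φ)
      haveI : Flat (D.map (𝟙 i₀)) := hflat _ _ _
      exact ⟨i₀, 𝟙 i₀, (hR i₀ (𝟙 i₀)).2 (wrp_descend (c.π.app i₀) (D.map (𝟙 i₀)) fs _ h)⟩
  · rintro ⟨j, φ, hj⟩
    exact wrp_limit_of_stage D c hc hflat i₀ fs _ φ ((hR j φ).1 hj)

end Lim

end Groth.Agent.Lib.Helper4.LimWRegA
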