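import Mathlib

/-!
# Universal openness of `Spec B → Spec A` for module-finite `B` via one linear form (helper4)
-/

set_option backward.isDefEq.respectTransparency.types false
set_option synthInstance.maxHeartbeats 400000
set_option autoImplicit false
set_option linter.unusedSectionVars false
set_option linter.style.haveILetI false
set_option linter.unusedSimpArgs false
universe u
open CategoryTheory CategoryTheory.Limits AlgebraicGeometry
open scoped TensorProduct
open PrimeSpectrum

namespace Groth.Agent.Lib.Helper4.LinForm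


attribute [local instance] MvPolynomial.algebraMvPolynomial

variable {A B : Type u} [CommRing A] [CommRing B] [Algebra A B] {d : ℕ} (b : Fin d → B)

/-- the linear form `h = Σ xᵢ bᵢ` -/
noncomputable def linForm : MvPolynomial (Fin d) B :=
  ∑ i : Fin d, MvPolynomial.X i * MvPolynomial.C (b i)

variable (C : Type u) [CommRing C] [Algebra A C] (r : Fin d → C)

/-- `B[x] → C ⊗ B`, `x_i ↦ r_i ⊗ 1` -/
noncomputable def Φ : MvPolynomial (Fin d) B →+* C ⊗[A] B :=
  MvPolynomial.eval₂Hom (Algebra.TensorProduct.includeRight : B →ₐ[A] C ⊗[A] B).toRingHom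
    (fun i => r i ⊗ₜ[A] (1 : B))

/-- `A[x] → C`, `x_i ↦ r_i` -/
noncomputable def χ : MvPolynomial (Fin d) A →+* C :=
  (MvPolynomial.aeval r : MvPolynomial (Fin d) A →ₐ[A] C).toRingHom

lemma Φ_linForm : Φ C r (linForm b) = ∑ i, r i ⊗ₜ[A] b i := by
  simp [Φ, linForm, Algebra.TensorProduct.tmul_mul_tmul]

lemma isPushout_right :
    IsPushout (CommRingCat.ofHom (χ (A := A) C r))
      (CommRingCat.ofHom (MvPolynomial.map (σ := Fin d) (algebraMap A B)))
      (CommRingCat.ofHom (Algebra.TensorProduct.includeLeftRingHom : C →+* C ⊗[A] B))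
      (CommRingCat.ofHom (Φ (A := A) (B := B) C r)) := by
  have hleft : IsPushout (CommRingCat.ofHom (algebraMap A (MvPolynomial (Fin d) A)))
      (CommRingCat.ofHom (algebraMap A B))
      (CommRingCat.ofHom (algebraMap (MvPolynomial (Fin d) A) (MvPolynomial (Fin d) B)))
      (CommRingCat.ofHom (algebraMap B (MvPolynomial (Fin d) B))) :=
    CommRingCat.isPushout_iff_isPushout.mpr inferInstance
  have houter := CommRingCat.isPushout_tensorProduct A C B
  have e1 : CommRingCat.ofHom (algebraMap A (MvPolynomial (Fin d) A)) ≫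
      CommRingCat.ofHom (χ (A := A) C r) = CommRingCat.ofHom (algebraMap A C) := by
    ext a
    simp [χ]
  have e2 : CommRingCat.ofHom (algebraMap B (MvPolynomial (Fin d) B)) ≫
      CommRingCat.ofHom (Φ (A := A) (B := B) C r) =
      CommRingCat.ofHom (Algebra.TensorProduct.includeRight : B →ₐ[A] C ⊗[A] B).toRingHom := by
    ext a
    simp [Φ]
  rw [← e1, ← e2] at houter
  refine houter.of_left ?_ hleft
  rw [← CommRingCat.ofHom_comp, ← CommRingCat.ofHom_comp]
  congr 1
  apply MvPolynomial.ringHom_ext
  · intro a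
    simp only [RingHom.comp_apply, MvPolynomial.algebraMap_def, MvPolynomial.map_C, χ, Φ,
      AlgHom.toRingHom_eq_coe, RingHom.coe_coe, MvPolynomial.aeval_C, MvPolynomial.coe_eval₂Hom,
      MvPolynomial.eval₂_C, Algebra.TensorProduct.includeLeftRingHom_apply,
      Algebra.TensorProduct.includeRight_apply]
    rw [Algebra.algebraMap_eq_smul_one, Algebra.algebraMap_eq_smul_one, TensorProduct.smul_tmul]
  · intro i
    simp [χ, Φ, MvPolynomial.algebraMap_def]
  

theorem isOpen_image_basicOpen_tensor
    (hopen : IsOpen (comap (MvPolynomial.map (σ := Fin d) (algebraMap A B)) ''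
      (basicOpen (linForm b) : Set (PrimeSpectrum (MvPolynomial (Fin d) B))))) :
    IsOpen (comap (algebraMap C (C ⊗[A] B)) ''
      (basicOpen (∑ i, r i ⊗ₜ[A] b i) : Set (PrimeSpectrum (C ⊗[A] B)))) := by
  have hpb := (isPullback_SpecMap_of_isPushout _ _ _ _ (isPushout_right (A := A) (B := B) C r)).flip
  have key := Scheme.image_preimage_eq_of_isPullback hpb
    (basicOpen (linForm b) : Set (PrimeSpectrum (MvPolynomial (Fin d) B)))
  have h1 : (comap (Φ (A := A) (B := B) C r)) ⁻¹'
      (basicOpen (linForm b) : Set (PrimeSpectrum (MvPolynomial (Fin d) B))) =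
      (basicOpen (∑ i, r i ⊗ₜ[A] b i) : Set (PrimeSpectrum (C ⊗[A] B))) := by
    rw [← Φ_linForm]
    ext q
    simp [PrimeSpectrum.mem_basicOpen]
  have key' : comap (Algebra.TensorProduct.includeLeftRingHom : C →+* C ⊗[A] B) ''
      ((comap (Φ (A := A) (B := B) C r)) ⁻¹'
        (basicOpen (linForm b) : Set (PrimeSpectrum (MvPolynomial (Fin d) B)))) =
      comap (χ (A := A) C r) ⁻¹' (comap (MvPolynomial.map (σ := Fin d) (algebraMap A B)) ''
        (basicOpen (linForm b) : Set (PrimeSpectrum (MvPolynomial (Fin d) B)))) := key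
  rw [h1] at key'
  change IsOpen (comap (Algebra.TensorProduct.includeLeftRingHom : C →+* C ⊗[A] B) '' _)
  rw [key']
  exact hopen.preimage (PrimeSpectrum.continuous_comap _)

lemma exists_eq_sum_tmul (hb : Submodule.span A (Set.range b) = ⊤) (g : C ⊗[A] B) :
    ∃ r : Fin d → C, g = ∑ i, r i ⊗ₜ[A] b i := by
  induction g using TensorProduct.induction_on with
  | zero => exact ⟨0, by simp⟩
  | tmul c x =>
    have hx : x ∈ Submodule.span A (Set.range b) := hb ▸ Submodule.mem_top
    obtain ⟨a, rfl⟩ := (Submodule.mem_span_range_iff_exists_fun A).mp hx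
    refine ⟨fun i => a i • c, ?_⟩
    rw [TensorProduct.tmul_sum]
    refine Finset.sum_congr rfl fun i _ => ?_
    rw [TensorProduct.tmul_smul, TensorProduct.smul_tmul']
  | add x y hx hy =>
    obtain ⟨r1, rfl⟩ := hx
    obtain ⟨r2, rfl⟩ := hy
    exact ⟨r1 + r2, by simp [TensorProduct.add_tmul, Finset.sum_add_distrib]⟩

theorem isOpenMap_comap_tensor (hb : Submodule.span A (Set.range b) = ⊤)
    (hopen : IsOpen (comap (MvPolynomial.map (σ := Fin d) (algebraMap A B)) ''
      (basicOpen (linForm b) : Set (PrimeSpectrum (MvPolynomial (Fin d) B))))) :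
    IsOpenMap (comap (algebraMap C (C ⊗[A] B))) := by
  rw [isBasis_basic_opens.isOpenMap_iff]
  rintro _ ⟨_, ⟨g, rfl⟩, rfl⟩
  obtain ⟨r, rfl⟩ := exists_eq_sum_tmul b C hb g
  exact isOpen_image_basicOpen_tensor b C r hopen

open MorphismProperty in
theorem S1372_main (hb : Submodule.span A (Set.range b) = ⊤) :
    UniversallyOpen (Spec.map (CommRingCat.ofHom (algebraMap A B))) ↔
      IsOpen (PrimeSpectrum.comap (MvPolynomial.map (σ := Fin d) (algebraMap A B)) ''
        (PrimeSpectrum.basicOpen (∑ i : Fin d, MvPolynomial.X i * MvPolynomial.C (b i)) :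
          Set (PrimeSpectrum (MvPolynomial (Fin d) B)))) := by
  constructor
  · intro h
    have hleft : IsPushout (CommRingCat.ofHom (algebraMap A (MvPolynomial (Fin d) A)))
        (CommRingCat.ofHom (algebraMap A B))
        (CommRingCat.ofHom (algebraMap (MvPolynomial (Fin d) A) (MvPolynomial (Fin d) B)))
        (CommRingCat.ofHom (algebraMap B (MvPolynomial (Fin d) B))) :=
      CommRingCat.isPushout_iff_isPushout.mpr inferInstance
    have hpb := isPullback_SpecMap_of_isPushout _ _ _ _ hleft
    have hU : UniversallyOpen (Spec.map (CommRingCat.ofHom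
        (algebraMap (MvPolynomial (Fin d) A) (MvPolynomial (Fin d) B)))) :=
      MorphismProperty.of_isPullback hpb.flip h
    exact (Spec.map (CommRingCat.ofHom
        (algebraMap (MvPolynomial (Fin d) A) (MvPolynomial (Fin d) B)))).isOpenMap _
      (basicOpen _).isOpen
  · intro hopen
    refine ⟨universally_mk' _ _ fun {T} g _ ↦ ?_⟩
    wlog hT : ∃ R, T = Spec R generalizing T
    · refine (IsZariskiLocalAtTarget.iff_of_openCover T.affineCover).mpr fun i ↦ ?_
      refine (MorphismProperty.cancel_left_of_respectsIso _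
        ((pullbackRightPullbackFstIso ..).inv ≫ (pullbackSymmetry ..).hom) _).mp ?_
      simpa [Scheme.Cover.pullbackHom] using! this _ _ ⟨_, rfl⟩
    obtain ⟨R, rfl⟩ := hT
    obtain ⟨ψ, rfl⟩ := Spec.map_surjective g
    algebraize [ψ.hom]
    refine (MorphismProperty.cancel_left_of_respectsIso _ (pullbackSpecIso A R B).inv _).mp ?_
    convert_to! topologically _ (Spec.map <| CommRingCat.ofHom (algebraMap R (TensorProduct A R B)))
    · exact pullbackSpecIso_inv_fst ..
    exact isOpenMap_comap_tensor b R hb hopen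
end Groth.Agent.Lib.Helper4.LinForm
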