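import Mathlib
import Groth.Agent.Lib.Helper9.LinRedIntegral
import Groth.Agent.Lib.Helper9.LinRedH1
import Groth.Agent.Lib.Helper4.CartExact1

/-!
# linear reductivity in exact sequences of affine groups (S17525): integrals + faithfully flat descent (helper4)
-/

set_option backward.isDefEq.respectTransparency.types false
set_option synthInstance.maxHeartbeats 400000
set_option autoImplicit false
set_option linter.unusedSectionVars false
set_option linter.style.haveILetI false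
set_option linter.unusedSimpArgs false
universe u v w
open TensorProduct
open Groth.Agent.Helper9
open Groth.Agent.Helper2.HopfLib

namespace Groth.Agent.Lib.Helper4.LinRedExact1

/-! ### slices -/
section Slice
variable {k : Type u} [Field k]

lemma slice_assoc' {U V W : Type*} [AddCommGroup U] [Module k U] [AddCommGroup V] [Module k V]
    [AddCommGroup W] [Module k W] (f : W →ₗ[k] k) (z : (U ⊗[k] V) ⊗[k] W) :
    slice f z = (slice f : V ⊗[k] W →ₗ[k] V).lTensor U (TensorProduct.assoc k U V W z) := by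
  induction z using TensorProduct.induction_on with
  | zero => simp
  | add x y hx hy => rw [map_add, map_add, map_add, hx, hy]
  | tmul y w =>
    induction y using TensorProduct.induction_on with
    | zero => simp
    | add x y hx hy => rw [TensorProduct.add_tmul, map_add, map_add, map_add, hx, hy]
    | tmul u v =>
      rw [slice_tmul, TensorProduct.assoc_tmul, LinearMap.lTensor_tmul, slice_tmul,
        TensorProduct.tmul_smul]

end Slice

/-! ### the quotient is linearly reductive -/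
section QPart
variable {k : Type u} [Field k] {G Q : Type u} [CommRing G] [HopfAlgebra k G] [CommRing Q]
  [HopfAlgebra k Q] (φ : Q →ₐc[k] G)

lemma phi_slice (c : G →ₗ[k] k) (y : Q ⊗[k] Q) :
    φ (slice (c ∘ₗ (φ : Q →ₗ[k] G)) y) =
      slice c (TensorProduct.map (φ : Q →ₗ[k] G) (φ : Q →ₗ[k] G) y) := by
  induction y using TensorProduct.induction_on with
  | zero => simp
  | add x y hx hy => rw [map_add, map_add, map_add, map_add, hx, hy]
  | tmul a b =>
    rw [slice_tmul, TensorProduct.map_tmul, slice_tmul, map_smul]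
    rfl

theorem linRed_Q (hφ : Function.Injective φ) (hG : HopfRep.IsLinearlyReductive k G) :
    HopfRep.IsLinearlyReductive k Q := by
  obtain ⟨c, hc1, hc⟩ := LinRedIntegral.exists_integral hG
  refine LinRedH1.isLinearlyReductive_of_integral (c ∘ₗ (φ : Q →ₗ[k] G)) ?_ ?_
  · show c (φ 1) = 1
    rw [map_one, hc1]
  · intro q
    apply hφ
    rw [phi_slice, CoalgHomClass.map_comp_comul_apply, hc, map_smul, map_one]
    rfl

end QPart


/-! ### the extension is linearly reductive -/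
section GPart
variable {k : Type u} [Field k] {G H Q : Type u} [CommRing G] [HopfAlgebra k G] [CommRing H]
  [HopfAlgebra k H] [CommRing Q] [HopfAlgebra k Q] [Algebra Q G] [IsScalarTower k Q G]
  (φ : Q →ₐc[k] G) (hφal : ∀ q, algebraMap Q G q = φ q) (ψ : G →ₐc[k] H)
  (hΔ : (Bialgebra.comulAlgHom k G).comp (IsScalarTower.toAlgHom k Q G) =
      (Algebra.TensorProduct.map (IsScalarTower.toAlgHom k Q G)
        (IsScalarTower.toAlgHom k Q G)).comp (Bialgebra.comulAlgHom k Q))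
  (hε : (Bialgebra.counitAlgHom k G).comp (IsScalarTower.toAlgHom k Q G) =
      Bialgebra.counitAlgHom k Q)
  (hkI : kerIdeal k G Q = RingHom.ker (ψ : G →ₐ[k] H))

include hΔ hε hkI in
/-- the coinvariants of the quotient map are the image of `Q` -/
theorem coinv [Module.FaithfullyFlat Q G] (a : G)
    (h : (ψ : G →ₗ[k] H).lTensor G (Coalgebra.comul (R := k) a) = a ⊗ₜ[k] (1 : H)) :
    ∃ q : Q, algebraMap Q G q = a := by
  let gbar : G ⧸ kerIdeal k G Q →ₐ[k] H :=
    Ideal.Quotient.liftₐ (kerIdeal k G Q) (ψ : G →ₐ[k] H)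
      (fun b hb => by rw [hkI] at hb; exact hb)
  have hgbar : ∀ b : G, gbar (Ideal.Quotient.mk _ b) = ψ b := fun _ => rfl
  have hgbar_inj : Function.Injective gbar := by
    rw [injective_iff_map_eq_zero]
    intro q hq
    obtain ⟨b, rfl⟩ := Ideal.Quotient.mk_surjective q
    rw [hgbar] at hq
    rw [Ideal.Quotient.eq_zero_iff_mem, hkI]
    exact hq
  have hproj : projT k G Q (Coalgebra.comul (R := k) a) =
      a ⊗ₜ[k] (1 : G ⧸ kerIdeal k G Q) := by
    have hinj : Function.Injective (LinearMap.lTensor G gbar.toLinearMap) :=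
      Module.Flat.lTensor_preserves_injective_linearMap _ hgbar_inj
    apply hinj
    have h1 : ∀ t : G ⊗[k] G, LinearMap.lTensor G gbar.toLinearMap (projT k G Q t) =
        (ψ : G →ₗ[k] H).lTensor G t := by
      intro t
      induction t using TensorProduct.induction_on with
      | zero => simp
      | tmul b c => rw [projT_tmul, LinearMap.lTensor_tmul, LinearMap.lTensor_tmul]; rfl
      | add t t' ht ht' => simp only [map_add, ht, ht']
    rw [h1, h, LinearMap.lTensor_tmul]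
    congr 1
    exact (map_one gbar).symm
  exact Groth.Agent.Lib.Helper4.CartExact1.mem_range_of_coinv hΔ hε a hproj

include hφal hΔ hε hkI in
theorem linRed_G [Module.FaithfullyFlat Q G] (hφinj : Function.Injective φ)
    (hK : HopfRep.IsLinearlyReductive k H) (hQ : HopfRep.IsLinearlyReductive k Q) :
    HopfRep.IsLinearlyReductive k G := by
  obtain ⟨cK, hcK1, hcK⟩ := LinRedIntegral.exists_integral hK
  obtain ⟨cQ, hcQ1, hcQ⟩ := LinRedIntegral.exists_integral hQ
  obtain ⟨r, hr⟩ := LinearMap.exists_leftInverse_of_injective (φ : Q →ₗ[k] G)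
    (LinearMap.ker_eq_bot.mpr hφinj)
  have hr' : ∀ q, r (φ q) = q := fun q => LinearMap.congr_fun hr q
  set f : G →ₗ[k] k := cK ∘ₗ (ψ : G →ₗ[k] H) with hf
  set E : G →ₗ[k] G := (slice f : G ⊗[k] G →ₗ[k] G) ∘ₗ Coalgebra.comul with hE
  have hEdef : ∀ a, E a = slice f (Coalgebra.comul (R := k) a) := fun _ => rfl
  have hE1 : ∀ a, Coalgebra.comul (R := k) (E a) = E.lTensor G (Coalgebra.comul (R := k) a) := by
    intro a
    rw [hEdef, ← slice_rTensor, slice_assoc', Coalgebra.coassoc_apply, ← LinearMap.comp_apply,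
      ← LinearMap.lTensor_comp]
  have hψE : ∀ b, ψ (E b) = f b • (1 : H) := by
    intro b
    rw [hEdef, hf, phi_slice ψ cK, CoalgHomClass.map_comp_comul_apply, hcK]
    rfl
  have hE2 : ∀ a, (ψ : G →ₗ[k] H).lTensor G (Coalgebra.comul (R := k) (E a)) =
      E a ⊗ₜ[k] (1 : H) := by
    intro a
    rw [hE1, ← LinearMap.comp_apply, ← LinearMap.lTensor_comp]
    have h1 : ∀ y : G ⊗[k] G, ((ψ : G →ₗ[k] H) ∘ₗ E).lTensor G y = slice f y ⊗ₜ[k] (1 : H) := by
      intro y
      induction y using TensorProduct.induction_on with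
      | zero => simp
      | add x y hx hy => rw [map_add, map_add, hx, hy, TensorProduct.add_tmul]
      | tmul a b =>
        rw [LinearMap.lTensor_tmul, slice_tmul, LinearMap.comp_apply]
        show a ⊗ₜ[k] ψ (E b) = _
        rw [hψE, TensorProduct.tmul_smul, TensorProduct.smul_tmul']
    rw [h1, hEdef]
  have hE3 : ∀ a, ∃ q : Q, φ q = E a := fun a => by
    obtain ⟨q, hq⟩ := coinv ψ hΔ hε hkI (E a) (hE2 a)
    exact ⟨q, by rw [← hφal, hq]⟩
  refine LinRedH1.isLinearlyReductive_of_integral (cQ ∘ₗ r ∘ₗ E) ?_ ?_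
  · show cQ (r (E 1)) = 1
    have h1 : E 1 = 1 := by
      rw [hEdef, Bialgebra.comul_one, Algebra.TensorProduct.one_def, slice_tmul]
      show cK (ψ 1) • (1 : G) = 1
      rw [map_one, hcK1, one_smul]
    rw [h1, ← map_one φ, hr', hcQ1]
  · intro a
    obtain ⟨q, hq⟩ := hE3 a
    have h1 : slice (cQ ∘ₗ r ∘ₗ E) (Coalgebra.comul (R := k) a) =
        slice (cQ ∘ₗ r) (E.lTensor G (Coalgebra.comul (R := k) a)) := by
      show slice ((cQ ∘ₗ r) ∘ₗ E) _ = _
      rw [slice_comp_eq]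
    rw [h1, ← hE1, ← hq, ← CoalgHomClass.map_comp_comul_apply φ q, ← phi_slice φ (cQ ∘ₗ r)]
    have h2 : (cQ ∘ₗ r) ∘ₗ (φ : Q →ₗ[k] G) = cQ := by
      apply LinearMap.ext
      intro q'
      show cQ (r (φ q')) = cQ q'
      rw [hr']
    rw [h2, hcQ, map_smul, map_one]
    show cQ q • (1 : G) = (cQ (r (E a))) • 1
    rw [← hq, hr']

end GPart


/-! ### an abstract faithfully flat descent lemma -/
theorem descent_lemma {R' S' : Type*} [CommRing R'] [CommRing S'] [Algebra R' S']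
    [Module.FaithfullyFlat R' S']
    {P P₂ Z : Type*} [AddCommGroup P] [Module R' P] [AddCommGroup P₂] [Module R' P₂]
    [AddCommGroup Z] [Module R' Z]
    (g : P →ₗ[R'] P₂) (q : P →ₗ[R'] Z) (z : Z) (T : S' ⊗[R'] P)
    (hT1 : g.lTensor S' T = 0) (hT2 : q.lTensor S' T = (1 : S') ⊗ₜ[R'] z) :
    ∃ t : P, g t = 0 ∧ q t = z := by
  have hex : Function.Exact (LinearMap.ker g).subtype g := LinearMap.exact_subtype_ker_map g
  have hex' : Function.Exact ((LinearMap.ker g).subtype.lTensor S') (g.lTensor S') :=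
    Module.Flat.lTensor_exact S' hex
  obtain ⟨m, hm⟩ := (hex' T).mp hT1
  let N : Submodule R' Z := LinearMap.range (q ∘ₗ (LinearMap.ker g).subtype)
  have h0 : N.mkQ ∘ₗ (q ∘ₗ (LinearMap.ker g).subtype) = 0 := by
    apply LinearMap.ext
    intro x
    exact (Submodule.Quotient.mk_eq_zero N).mpr ⟨x, rfl⟩
  have h1 : (1 : S') ⊗ₜ[R'] (N.mkQ z) = 0 := by
    have h2 : (N.mkQ.lTensor S') ((1 : S') ⊗ₜ[R'] z) =
        (N.mkQ.lTensor S') (q.lTensor S' ((LinearMap.ker g).subtype.lTensor S' m)) := by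
      rw [hm, hT2]
    rw [LinearMap.lTensor_tmul] at h2
    rw [h2, ← LinearMap.comp_apply, ← LinearMap.comp_apply, ← LinearMap.lTensor_comp,
      ← LinearMap.lTensor_comp, LinearMap.comp_assoc, h0, LinearMap.lTensor_zero,
      LinearMap.zero_apply]
  have h3 : N.mkQ z = 0 := by
    apply Module.FaithfullyFlat.tensorProduct_mk_injective (A := R') (B := S') (Z ⧸ N)
    rw [TensorProduct.mk_apply, h1, map_zero]
  obtain ⟨⟨t, ht⟩, hqt⟩ := (Submodule.Quotient.mk_eq_zero N).mp h3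
  exact ⟨t, ht, hqt⟩

/-! ### the kernel is linearly reductive -/
section KPart
variable {k : Type u} [Field k] {G H Q : Type u} [CommRing G] [HopfAlgebra k G] [CommRing H]
  [HopfAlgebra k H] [CommRing Q] [HopfAlgebra k Q] [Algebra Q G] [IsScalarTower k Q G]
  (ψ : G →ₐc[k] H)
  (hΔ : (Bialgebra.comulAlgHom k G).comp (IsScalarTower.toAlgHom k Q G) =
      (Algebra.TensorProduct.map (IsScalarTower.toAlgHom k Q G)
        (IsScalarTower.toAlgHom k Q G)).comp (Bialgebra.comulAlgHom k Q))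
  (hε : (Bialgebra.counitAlgHom k G).comp (IsScalarTower.toAlgHom k Q G) =
      Bialgebra.counitAlgHom k Q)
  (hkI : kerIdeal k G Q = RingHom.ker (ψ : G →ₐ[k] H))

variable (k G Q) in
/-- `b ⊗ c ↦ S c ⊗[Q] b` -/
noncomputable def sw : G ⊗[k] G →ₐ[k] G ⊗[Q] G :=
  ((canT k G Q).restrictScalars k).comp
    ((Algebra.TensorProduct.map (HopfAlgebra.antipodeAlgHom k G) (AlgHom.id k G)).comp
      (Algebra.TensorProduct.comm k G G).toAlgHom)

lemma sw_tmul (b c : G) :
    sw k G Q (b ⊗ₜ[k] c) = HopfAlgebra.antipode k c ⊗ₜ[Q] b := rfl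

include hΔ hε in
lemma sw_comul_algebraMap (q : Q) : sw k G Q (Coalgebra.comul (R := k) (algebraMap Q G q)) =
    algebraMap k (G ⊗[Q] G) (Coalgebra.counit (R := k) q) := by
  have h1 : ∀ y : Q ⊗[k] Q, sw k G Q (Algebra.TensorProduct.map (IsScalarTower.toAlgHom k Q G)
      (IsScalarTower.toAlgHom k Q G) y) =
      (LinearMap.mul' k G ((HopfAlgebra.antipode k).lTensor G
        (Algebra.TensorProduct.map (IsScalarTower.toAlgHom k Q G)
          (IsScalarTower.toAlgHom k Q G) y))) ⊗ₜ[Q] (1 : G) := by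
    intro y
    induction y using TensorProduct.induction_on with
    | zero => simp
    | add x y hx hy => simp only [map_add, hx, hy, TensorProduct.add_tmul]
    | tmul q₁ q₂ =>
      rw [Algebra.TensorProduct.map_tmul, sw_tmul, LinearMap.lTensor_tmul, LinearMap.mul'_apply]
      have h2 : (IsScalarTower.toAlgHom k Q G) q₁ = q₁ • (1 : G) := by
        rw [Algebra.smul_def, mul_one]; rfl
      conv_lhs => rw [h2, ← TensorProduct.smul_tmul, Algebra.smul_def]
      rfl
  rw [comul_algebraMap hΔ, h1, ← comul_algebraMap hΔ,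
    HopfAlgebra.mul_antipode_lTensor_comul_apply, counit_algebraMap hε,
    Algebra.TensorProduct.algebraMap_apply]


variable (k G Q) in
/-- `a ↦ Σ S a₂ ⊗[Q] a₁` -/
noncomputable def θ₀ : G →ₐ[k] G ⊗[Q] G := (sw k G Q).comp (Bialgebra.comulAlgHom k G)

lemma θ₀_apply (a : G) : θ₀ k G Q a = sw k G Q (Coalgebra.comul (R := k) a) := rfl

include hΔ hε hkI in
lemma ker_le_ker_θ₀ : RingHom.ker (ψ : G →ₐ[k] H) ≤ RingHom.ker (θ₀ k G Q) := by
  rw [← hkI]
  unfold kerIdeal
  rw [Ideal.map_le_iff_le_comap]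
  intro q hq
  rw [Ideal.mem_comap, RingHom.mem_ker, θ₀_apply, sw_comul_algebraMap hΔ hε]
  have h1 : Coalgebra.counit (R := k) q = 0 := hq
  rw [h1, map_zero]

include hΔ hε hkI in
theorem exists_θ' (hψ : Function.Surjective ψ) :
    ∃ θ' : H →ₗ[k] G ⊗[Q] G, ∀ a, θ' (ψ a) = θ₀ k G Q a := by
  obtain ⟨s, hs⟩ := (ψ : G →ₗ[k] H).exists_rightInverse_of_surjective
    (LinearMap.range_eq_top.mpr hψ)
  refine ⟨(θ₀ k G Q).toLinearMap ∘ₗ s, fun a => ?_⟩
  have h1 : ψ (s (ψ a)) = ψ a := LinearMap.congr_fun hs (ψ a)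
  have h2 : s (ψ a) - a ∈ RingHom.ker (ψ : G →ₐ[k] H) := by
    rw [RingHom.mem_ker, map_sub]
    exact sub_eq_zero.mpr h1
  have h3 := ker_le_ker_θ₀ ψ hΔ hε hkI h2
  rw [RingHom.mem_ker, map_sub, sub_eq_zero] at h3
  exact h3

section Maps
variable {V : Type*} [AddCommGroup V] [Module k V] {V' : Type*} [AddCommGroup V'] [Module k V']

variable (Q G) in
/-- `id_G ⊗ f`, `Q`-linear -/
noncomputable def idf (f : V →ₗ[k] V') : G ⊗[k] V →ₗ[Q] G ⊗[k] V' :=
  TensorProduct.AlgebraTensorModule.map (LinearMap.id : G →ₗ[Q] G) f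

lemma idf_tmul (f : V →ₗ[k] V') (a : G) (v : V) : idf G Q f (a ⊗ₜ[k] v) = a ⊗ₜ[k] f v := rfl

variable (V) in
/-- `v ⊗ h ↦ assoc (θ' h ⊗ v)` -/
noncomputable def Ups (θ' : H →ₗ[k] G ⊗[Q] G) : V ⊗[k] H →ₗ[k] G ⊗[Q] (G ⊗[k] V) :=
  ((TensorProduct.AlgebraTensorModule.assoc k Q Q G G V).toLinearMap.restrictScalars k) ∘ₗ
    (TensorProduct.map θ' (LinearMap.id : V →ₗ[k] V)) ∘ₗ (TensorProduct.comm k V H).toLinearMap

lemma Ups_tmul (θ' : H →ₗ[k] G ⊗[Q] G) (v : V) (h : H) :
    Ups V θ' (v ⊗ₜ[k] h) = TensorProduct.AlgebraTensorModule.assoc k Q Q G G V (θ' h ⊗ₜ[k] v) := rfl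

lemma lTensor_idf_assoc (f : V →ₗ[k] V') (w : G ⊗[Q] G) (v : V) :
    (idf G Q f).lTensor G (TensorProduct.AlgebraTensorModule.assoc k Q Q G G V (w ⊗ₜ[k] v)) =
      TensorProduct.AlgebraTensorModule.assoc k Q Q G G V' (w ⊗ₜ[k] f v) := by
  induction w using TensorProduct.induction_on with
  | zero => simp
  | add x y hx hy =>
    rw [TensorProduct.add_tmul, map_add, map_add, hx, hy, TensorProduct.add_tmul, map_add]
  | tmul u b => rfl

lemma Ups_natural (θ' : H →ₗ[k] G ⊗[Q] G) (f : V →ₗ[k] V') (z : V ⊗[k] H) :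
    (idf G Q f).lTensor G (Ups V θ' z) = Ups V' θ' (f.rTensor H z) := by
  induction z using TensorProduct.induction_on with
  | zero => simp
  | add x y hx hy => simp only [map_add, hx, hy]
  | tmul v h => rw [Ups_tmul, lTensor_idf_assoc, LinearMap.rTensor_tmul, Ups_tmul]

end Maps


/-- `b₁ ⊗ b₂ ↦ b₂ ⊗ ψ b₁` -/
noncomputable def δ2 : G ⊗[k] G →ₗ[k] G ⊗[k] H :=
  (LinearMap.lTensor G (ψ : G →ₗ[k] H)) ∘ₗ (TensorProduct.comm k G G).toLinearMap

lemma δ2_tmul (b₁ b₂ : G) : δ2 ψ (b₁ ⊗ₜ[k] b₂) = b₂ ⊗ₜ[k] ψ b₁ := rfl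

/-- `a ↦ Σ a₂ ⊗ ψ a₁` as an algebra map -/
noncomputable def δa : G →ₐ[k] G ⊗[k] H :=
  (Algebra.TensorProduct.map (AlgHom.id k G) (ψ : G →ₐ[k] H)).comp
    ((Algebra.TensorProduct.comm k G G).toAlgHom.comp (Bialgebra.comulAlgHom k G))

lemma δa_apply (a : G) : δa ψ a = δ2 ψ (Coalgebra.comul (R := k) a) := by
  show Algebra.TensorProduct.map (AlgHom.id k G) (ψ : G →ₐ[k] H)
    (Algebra.TensorProduct.comm k G G (Coalgebra.comul (R := k) a)) = _
  generalize Coalgebra.comul (R := k) a = y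
  induction y using TensorProduct.induction_on with
  | zero => simp
  | add x y hx hy => simp only [map_add, hx, hy]
  | tmul b c => rfl

include hkI in
lemma psi_algebraMap (q : Q) :
    ψ (algebraMap Q G q) = algebraMap k H (Coalgebra.counit (R := k) q) := by
  have h1 : q - algebraMap k Q (Coalgebra.counit (R := k) q) ∈
      RingHom.ker (Bialgebra.counitAlgHom k Q) := by
    rw [RingHom.mem_ker, map_sub, AlgHom.commutes, Bialgebra.counitAlgHom_apply,
      Algebra.algebraMap_self, RingHom.id_apply, sub_self]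
  have h2 : algebraMap Q G (q - algebraMap k Q (Coalgebra.counit (R := k) q)) ∈
      kerIdeal k G Q := Ideal.mem_map_of_mem _ h1
  rw [hkI, RingHom.mem_ker, map_sub, map_sub, sub_eq_zero,
    ← IsScalarTower.algebraMap_apply k Q G, AlgHom.commutes] at h2
  exact h2

include hΔ hkI in
lemma δa_algebraMap (q : Q) : δa ψ (algebraMap Q G q) = algebraMap Q G q ⊗ₜ[k] (1 : H) := by
  have h1 : ∀ y : Q ⊗[k] Q, δ2 ψ (Algebra.TensorProduct.map (IsScalarTower.toAlgHom k Q G)
      (IsScalarTower.toAlgHom k Q G) y) =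
      (IsScalarTower.toAlgHom k Q G) (TensorProduct.lid k Q
        ((Coalgebra.counit (R := k) (A := Q)).rTensor Q y)) ⊗ₜ[k] (1 : H) := by
    intro y
    induction y using TensorProduct.induction_on with
    | zero => simp
    | add x y hx hy => simp only [map_add, hx, hy, TensorProduct.add_tmul]
    | tmul q₁ q₂ =>
      rw [Algebra.TensorProduct.map_tmul, δ2_tmul, LinearMap.rTensor_tmul, TensorProduct.lid_tmul,
        map_smul]
      show (IsScalarTower.toAlgHom k Q G) q₂ ⊗ₜ[k] ψ (algebraMap Q G q₁) = _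
      rw [psi_algebraMap ψ hkI, Algebra.algebraMap_eq_smul_one, TensorProduct.tmul_smul,
        TensorProduct.smul_tmul']
  rw [δa_apply, comul_algebraMap hΔ, h1, Coalgebra.rTensor_counit_comul, TensorProduct.lid_tmul,
    one_smul]
  rfl

/-- `δ` as a `Q`-linear map -/
noncomputable def δQ : G →ₗ[Q] G ⊗[k] H where
  toFun := δa ψ
  map_add' := map_add _
  map_smul' q a := by
    rw [RingHom.id_apply, Algebra.smul_def, map_mul, δa_algebraMap ψ hΔ hkI, Algebra.smul_def,
      Algebra.TensorProduct.algebraMap_apply]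

lemma δQ_apply (a : G) : δQ ψ hΔ hkI a = δ2 ψ (Coalgebra.comul (R := k) a) := δa_apply ψ a

section Maps2
variable {V : Type*} [AddCommGroup V] [Module k V] {V' : Type*} [AddCommGroup V'] [Module k V']

variable (G H Q V) in
/-- `(b ⊗ h) ⊗ v ↦ b ⊗ (v ⊗ h)` -/
noncomputable def rr : (G ⊗[k] H) ⊗[k] V →ₗ[Q] G ⊗[k] (V ⊗[k] H) :=
  (idf G Q (TensorProduct.comm k H V).toLinearMap) ∘ₗ
    (TensorProduct.AlgebraTensorModule.assoc k k Q G H V).toLinearMap

lemma rr_tmul (b : G) (h : H) (v : V) :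
    rr G H Q V ((b ⊗ₜ[k] h) ⊗ₜ[k] v) = b ⊗ₜ[k] (v ⊗ₜ[k] h) := rfl

variable (V) in
/-- `a ⊗ v ↦ Σ a₂ ⊗ (v ⊗ ψ a₁)` -/
noncomputable def D₂ : G ⊗[k] V →ₗ[Q] G ⊗[k] (V ⊗[k] H) :=
  (rr G H Q V) ∘ₗ
    (TensorProduct.AlgebraTensorModule.map (δQ ψ hΔ hkI) (LinearMap.id : V →ₗ[k] V))

lemma D₂_tmul (a : G) (v : V) :
    D₂ ψ hΔ hkI V (a ⊗ₜ[k] v) = rr G H Q V (δ2 ψ (Coalgebra.comul (R := k) a) ⊗ₜ[k] v) := by
  rw [← δQ_apply ψ hΔ hkI]
  rfl

/-- the master map `a' ⊗ y ↦ assoc (sw y ⊗ (v ⊗ ψ a'))` -/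
noncomputable def Om (v : V) : G ⊗[k] (G ⊗[k] G) →ₗ[k] G ⊗[Q] (G ⊗[k] (V ⊗[k] H)) :=
  ((TensorProduct.AlgebraTensorModule.assoc k Q Q G G (V ⊗[k] H)).toLinearMap.restrictScalars k) ∘ₗ
    (TensorProduct.map (sw k G Q).toLinearMap
      ((TensorProduct.mk k V H v) ∘ₗ (ψ : G →ₗ[k] H))) ∘ₗ
    (TensorProduct.comm k G (G ⊗[k] G)).toLinearMap

lemma Om_tmul (v : V) (a' : G) (y : G ⊗[k] G) :
    Om (Q := Q) ψ v (a' ⊗ₜ[k] y) =
      TensorProduct.AlgebraTensorModule.assoc k Q Q G G (V ⊗[k] H)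
        (sw k G Q y ⊗ₜ[k] (v ⊗ₜ[k] ψ a')) := rfl

lemma key_R (θ' : H →ₗ[k] G ⊗[Q] G) (hθ' : ∀ a, θ' (ψ a) = θ₀ k G Q a) (v : V)
    (y : G ⊗[k] G) :
    Ups (V ⊗[k] H) θ' ((TensorProduct.assoc k V H H).symm
      (v ⊗ₜ[k] (TensorProduct.map (ψ : G →ₗ[k] H) (ψ : G →ₗ[k] H) y))) =
      Om ψ v ((Coalgebra.comul (R := k) (A := G)).lTensor G y) := by
  induction y using TensorProduct.induction_on with
  | zero => simp
  | add x y hx hy => simp only [map_add, TensorProduct.tmul_add, hx, hy]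
  | tmul a' d =>
    rw [TensorProduct.map_tmul, TensorProduct.assoc_symm_tmul, Ups_tmul, LinearMap.lTensor_tmul,
      Om_tmul]
    show TensorProduct.AlgebraTensorModule.assoc k Q Q G G (V ⊗[k] H)
      (θ' (ψ d) ⊗ₜ[k] (v ⊗ₜ[k] ψ a')) = _
    rw [hθ', θ₀_apply]

lemma key_L_aux (v : V) (c : G) (u : G ⊗[k] G) :
    HopfAlgebra.antipode k c ⊗ₜ[Q] rr G H Q V (δ2 ψ u ⊗ₜ[k] v) =
      Om ψ v (TensorProduct.assoc k G G G (u ⊗ₜ[k] c)) := by
  induction u using TensorProduct.induction_on with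
  | zero => simp
  | add x y hx hy =>
    simp only [map_add, TensorProduct.add_tmul, TensorProduct.tmul_add, hx, hy]
  | tmul b₁ b₂ => rfl

lemma key_L (v : V) (y : G ⊗[k] G) :
    (D₂ ψ hΔ hkI V).lTensor G
      (TensorProduct.AlgebraTensorModule.assoc k Q Q G G V (sw k G Q y ⊗ₜ[k] v)) =
      Om ψ v (TensorProduct.assoc k G G G ((Coalgebra.comul (R := k) (A := G)).rTensor G y)) := by
  induction y using TensorProduct.induction_on with
  | zero => simp
  | add x y hx hy => simp only [map_add, TensorProduct.add_tmul, hx, hy]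
  | tmul b c =>
    rw [sw_tmul, TensorProduct.AlgebraTensorModule.assoc_tmul, LinearMap.lTensor_tmul, D₂_tmul,
      LinearMap.rTensor_tmul]
    exact key_L_aux ψ v c _

include hΔ hkI in
lemma key (hψ : Function.Surjective ψ) (θ' : H →ₗ[k] G ⊗[Q] G)
    (hθ' : ∀ a, θ' (ψ a) = θ₀ k G Q a) (z : V ⊗[k] H) :
    (D₂ ψ hΔ hkI V).lTensor G (Ups V θ' z) =
      Ups (V ⊗[k] H) θ' ((TensorProduct.assoc k V H H).symm
        ((Coalgebra.comul (R := k) (A := H)).lTensor V z)) := by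
  induction z using TensorProduct.induction_on with
  | zero => simp
  | add x y hx hy => simp only [map_add, hx, hy]
  | tmul v h =>
    obtain ⟨a, rfl⟩ := hψ h
    rw [Ups_tmul, hθ', θ₀_apply, key_L, Coalgebra.coassoc_apply, LinearMap.lTensor_tmul,
      ← CoalgHomClass.map_comp_comul_apply ψ a, key_R ψ θ' hθ']

/-- `a ⊗ v ↦ c a • v` -/
noncomputable def sl (c : G →ₗ[k] k) : G ⊗[k] V →ₗ[k] V :=
  (TensorProduct.lid k V).toLinearMap ∘ₗ c.rTensor V

lemma sl_tmul (c : G →ₗ[k] k) (a : G) (v : V) : sl c (a ⊗ₜ[k] v) = c a • v := by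
  simp [sl]

lemma sl_idf (c : G →ₗ[k] k) (f : V →ₗ[k] V') (t : G ⊗[k] V) :
    sl c (idf G Q f t) = f (sl c t) := by
  induction t using TensorProduct.induction_on with
  | zero => simp
  | add x y hx hy => simp only [map_add, hx, hy]
  | tmul a v => rw [idf_tmul, sl_tmul, sl_tmul, map_smul]

lemma sl_D₂_aux (c : G →ₗ[k] k) (v : V) (u : G ⊗[k] G) :
    sl c (rr G H Q V (δ2 ψ u ⊗ₜ[k] v)) = v ⊗ₜ[k] ψ (slice c u) := by
  induction u using TensorProduct.induction_on with
  | zero => simp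
  | add x y hx hy => simp only [map_add, TensorProduct.add_tmul, TensorProduct.tmul_add, hx, hy]
  | tmul b₁ b₂ =>
    rw [δ2_tmul, rr_tmul, sl_tmul, slice_tmul, map_smul, TensorProduct.tmul_smul]

lemma sl_D₂ (c : G →ₗ[k] k)
    (hc : ∀ a, slice c (Coalgebra.comul (R := k) a) = c a • (1 : G)) (t : G ⊗[k] V) :
    sl c (D₂ ψ hΔ hkI V t) = sl c t ⊗ₜ[k] (1 : H) := by
  induction t using TensorProduct.induction_on with
  | zero => simp
  | add x y hx hy => simp only [map_add, TensorProduct.add_tmul, hx, hy]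
  | tmul a v =>
    rw [D₂_tmul, sl_D₂_aux, hc, map_smul, map_one, sl_tmul, TensorProduct.tmul_smul,
      TensorProduct.smul_tmul']

end Maps2

include hΔ hε hkI in
theorem linRed_K [Module.FaithfullyFlat Q G] (hψ : Function.Surjective ψ)
    (hG : HopfRep.IsLinearlyReductive k G) : HopfRep.IsLinearlyReductive k H := by
  obtain ⟨c, hc1, hc⟩ := LinRedIntegral.exists_integral hG
  obtain ⟨θ', hθ'⟩ := exists_θ' ψ hΔ hε hkI hψ
  apply LinRedLift.isLinearlyReductive_of_lifting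
  intro X Y _ _ _ _ _ _ φX _ _ hφX hsurj y hy
  obtain ⟨x, rfl⟩ := hsurj y
  set ρ : X →ₗ[k] X ⊗[k] H := HopfRep.Comod.coact (k := k) (A := H) with hρ
  have hT1 : (idf G Q ρ - D₂ ψ hΔ hkI X).lTensor G (Ups X θ' (ρ x)) = 0 := by
    rw [LinearMap.lTensor_sub, LinearMap.sub_apply, sub_eq_zero, Ups_natural,
      key ψ hΔ hkI hψ θ' hθ']
    congr 1
    rw [LinearEquiv.eq_symm_apply]
    exact LinearMap.congr_fun (HopfRep.Comod.coassoc (k := k) (A := H) (V := X)) x
  have hT2 : (idf G Q φX).lTensor G (Ups X θ' (ρ x)) =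
      (1 : G) ⊗ₜ[Q] ((1 : G) ⊗ₜ[k] φX x) := by
    rw [Ups_natural]
    have h1 : φX.rTensor H (ρ x) = φX x ⊗ₜ[k] (1 : H) := by
      have h3 := LinearMap.congr_fun hφX x
      rw [LinearMap.comp_apply, LinearMap.comp_apply] at h3
      rw [← h3]
      exact hy
    rw [h1, Ups_tmul]
    have h2 : θ' 1 = 1 := by rw [← map_one ψ, hθ', map_one]
    rw [h2, Algebra.TensorProduct.one_def]
    rfl
  obtain ⟨t, ht1, ht2⟩ := descent_lemma (idf G Q ρ - D₂ ψ hΔ hkI X) (idf G Q φX)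
    ((1 : G) ⊗ₜ[k] φX x) (Ups X θ' (ρ x)) hT1 hT2
  rw [LinearMap.sub_apply, sub_eq_zero] at ht1
  refine ⟨sl c t, ?_, ?_⟩
  · show ρ (sl c t) = sl c t ⊗ₜ[k] (1 : H)
    rw [← sl_idf (Q := Q), ← sl_D₂ ψ hΔ hkI c hc, ht1]
  · rw [← sl_idf (Q := Q) c φX t, ht2, sl_tmul, hc1, one_smul]

end KPart

/-! ### the main theorem -/
theorem main (k : Type u) [Field k]
    (AQ AG AK : Type u) [CommRing AQ] [HopfAlgebra k AQ] [Algebra.FiniteType k AQ]
    [CommRing AG] [HopfAlgebra k AG] [Algebra.FiniteType k AG]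
    [CommRing AK] [HopfAlgebra k AK] [Algebra.FiniteType k AK]
    (φ : AQ →ₐc[k] AG) (hφ : Function.Injective φ)
    (ψ : AG →ₐc[k] AK) (hψ : Function.Surjective ψ)
    (hker : RingHom.ker (ψ : AG →ₐ[k] AK) =
      Ideal.map (φ : AQ →ₐ[k] AG) (RingHom.ker (Bialgebra.counitAlgHom k AQ))) :
    HopfRep.IsLinearlyReductive k AG ↔
      HopfRep.IsLinearlyReductive k AK ∧ HopfRep.IsLinearlyReductive k AQ := by
  letI algf : Algebra AQ AG := (φ : AQ →+* AG).toAlgebra
  haveI towf : IsScalarTower k AQ AG := IsScalarTower.of_algebraMap_eq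
    (fun r => ((φ : AQ →ₐ[k] AG).commutes r).symm)
  haveI : IsNoetherianRing AQ := Algebra.FiniteType.isNoetherianRing k AQ
  haveI hff : Module.FaithfullyFlat AQ AG :=
    Groth.Agent.Helper2.FF.faithfullyFlat_of_injective_of_noetherian φ hφ
  have hΔ : (Bialgebra.comulAlgHom k AG).comp (IsScalarTower.toAlgHom k AQ AG) =
      (Algebra.TensorProduct.map (IsScalarTower.toAlgHom k AQ AG)
        (IsScalarTower.toAlgHom k AQ AG)).comp (Bialgebra.comulAlgHom k AQ) := by
    apply AlgHom.ext; intro c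
    show Coalgebra.comul (R := k) (φ c) = Algebra.TensorProduct.map
      (IsScalarTower.toAlgHom k AQ AG) (IsScalarTower.toAlgHom k AQ AG)
      (Coalgebra.comul (R := k) c)
    rw [← CoalgHomClass.map_comp_comul_apply φ c]
    rfl
  have hε : (Bialgebra.counitAlgHom k AG).comp (IsScalarTower.toAlgHom k AQ AG) =
      Bialgebra.counitAlgHom k AQ := by
    apply AlgHom.ext; intro c
    exact CoalgHomClass.counit_comp_apply φ c
  have hkI : kerIdeal k AG AQ = RingHom.ker (ψ : AG →ₐ[k] AK) := by rw [hker]; rfl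
  constructor
  · intro hG
    exact ⟨linRed_K ψ hΔ hε hkI hψ hG, linRed_Q φ hφ hG⟩
  · rintro ⟨hK, hQ⟩
    exact linRed_G φ (fun _ => rfl) ψ hΔ hε hkI hφ hK hQ

end Groth.Agent.Lib.Helper4.LinRedExact1
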