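import Mathlib
import Groth.Prelude.Def_HopfRep
import Groth.Prelude.Def_CoactBr
import Groth.Prelude.Def_RedSub
import Groth.Agent.Lib.Helper9.LinRedIntegral
import Groth.Agent.Lib.Helper9.LinRedH1
import Groth.Agent.Lib.Helper4.LinRedExact1

/-!
# H is linearly reductive when G is and G/H is affine (S17534): points of the quotient + faithfully flat descent of the induced module (helper4)
-/

set_option backward.isDefEq.respectTransparency.types false
set_option synthInstance.maxHeartbeats 400000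
set_option autoImplicit false
set_option linter.unusedSectionVars false
set_option linter.style.haveILetI false
set_option linter.unusedSimpArgs false
universe u v w
open TensorProduct
open Groth.Agent.Helper9
open CategoryTheory MonoidalCategory CartesianMonoidalCategory AlgebraicGeometry Opposite MonObj GrpObj

namespace Groth.Agent.Lib.Helper4.LinRedQuot1

/-! ### the algebraic core: linear reductivity descends to `H` along a faithfully flat `B → G`
with `G ⊗[B] G ≅ G ⊗ H` -/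
section KPart
variable {k : Type u} [Field k] {G H B : Type u} [CommRing G] [HopfAlgebra k G] [CommRing H]
  [HopfAlgebra k H] [CommRing B] [Algebra k B] [Algebra B G] [IsScalarTower k B G]
  (ψ : G →ₐc[k] H)

variable (k G B) in
/-- `b ⊗ c ↦ S c ⊗[B] b` -/
noncomputable def sw : G ⊗[k] G →ₐ[k] G ⊗[B] G :=
  ((Algebra.TensorProduct.mapOfCompatibleSMul B k G G G).restrictScalars k).comp
    ((Algebra.TensorProduct.map (HopfAlgebra.antipodeAlgHom k G) (AlgHom.id k G)).comp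
      (Algebra.TensorProduct.comm k G G).toAlgHom)

lemma sw_tmul (b c : G) :
    sw k G B (b ⊗ₜ[k] c) = HopfAlgebra.antipode k c ⊗ₜ[B] b := rfl

section Maps
variable {V : Type*} [AddCommGroup V] [Module k V] {V' : Type*} [AddCommGroup V'] [Module k V']

variable (B G) in
/-- `id_G ⊗ f`, `B`-linear -/
noncomputable def idf (f : V →ₗ[k] V') : G ⊗[k] V →ₗ[B] G ⊗[k] V' :=
  TensorProduct.AlgebraTensorModule.map (LinearMap.id : G →ₗ[B] G) f

lemma idf_tmul (f : V →ₗ[k] V') (a : G) (v : V) : idf G B f (a ⊗ₜ[k] v) = a ⊗ₜ[k] f v := rfl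

variable (V) in
/-- `v ⊗ h ↦ assoc (θ' h ⊗ v)` -/
noncomputable def Ups (θ' : H →ₗ[k] G ⊗[B] G) : V ⊗[k] H →ₗ[k] G ⊗[B] (G ⊗[k] V) :=
  ((TensorProduct.AlgebraTensorModule.assoc k B B G G V).toLinearMap.restrictScalars k) ∘ₗ
    (TensorProduct.map θ' (LinearMap.id : V →ₗ[k] V)) ∘ₗ (TensorProduct.comm k V H).toLinearMap

lemma Ups_tmul (θ' : H →ₗ[k] G ⊗[B] G) (v : V) (h : H) :
    Ups V θ' (v ⊗ₜ[k] h) = TensorProduct.AlgebraTensorModule.assoc k B B G G V (θ' h ⊗ₜ[k] v) := rfl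

lemma lTensor_idf_assoc (f : V →ₗ[k] V') (w : G ⊗[B] G) (v : V) :
    (idf G B f).lTensor G (TensorProduct.AlgebraTensorModule.assoc k B B G G V (w ⊗ₜ[k] v)) =
      TensorProduct.AlgebraTensorModule.assoc k B B G G V' (w ⊗ₜ[k] f v) := by
  induction w using TensorProduct.induction_on with
  | zero => simp
  | add x y hx hy =>
    rw [TensorProduct.add_tmul, map_add, map_add, hx, hy, TensorProduct.add_tmul, map_add]
  | tmul u b => rfl

lemma Ups_natural (θ' : H →ₗ[k] G ⊗[B] G) (f : V →ₗ[k] V') (z : V ⊗[k] H) :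
    (idf G B f).lTensor G (Ups V θ' z) = Ups V' θ' (f.rTensor H z) := by
  induction z using TensorProduct.induction_on with
  | zero => simp
  | add x y hx hy => simp only [map_add, hx, hy]
  | tmul v h => rw [Ups_tmul, lTensor_idf_assoc, LinearMap.rTensor_tmul, Ups_tmul]

end Maps

/-- `b₁ ⊗ b₂ ↦ b₂ ⊗ ψ b₁` -/
noncomputable def δ2 : G ⊗[k] G →ₗ[k] G ⊗[k] H :=
  (LinearMap.lTensor G (ψ : G →ₗ[k] H)) ∘ₗ (TensorProduct.comm k G G).toLinearMap

lemma δ2_tmul (b₁ b₂ : G) : δ2 ψ (b₁ ⊗ₜ[k] b₂) = b₂ ⊗ₜ[k] ψ b₁ := rfl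

/-- `a ↦ Σ a₂ ⊗ ψ a₁` as an algebra map -/
noncomputable def δa : G →ₐ[k] G ⊗[k] H :=
  (Algebra.TensorProduct.map (AlgHom.id k G) (ψ : G →ₐ[k] H)).comp
    ((Algebra.TensorProduct.comm k G G).toAlgHom.comp (Bialgebra.comulAlgHom k G))

lemma δa_apply (a : G) : δa ψ a = δ2 ψ (Coalgebra.comul (R := k) a) := by
  show Algebra.TensorProduct.map (AlgHom.id k G) (ψ : G →ₐ[k] H)
    (Algebra.TensorProduct.comm k G G (Coalgebra.comul (R := k) a)) = _
  generalize Coalgebra.comul (R := k) a = y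
  induction y using TensorProduct.induction_on with
  | zero => simp
  | add x y hx hy => simp only [map_add, hx, hy]
  | tmul b c => rfl

variable (hδ : ∀ b : B, δa ψ (algebraMap B G b) = algebraMap B G b ⊗ₜ[k] (1 : H))

/-- `δ` as a `B`-linear map -/
noncomputable def δQ : G →ₗ[B] G ⊗[k] H where
  toFun := δa ψ
  map_add' := map_add _
  map_smul' q a := by
    rw [RingHom.id_apply, Algebra.smul_def, map_mul, hδ, Algebra.smul_def,
      Algebra.TensorProduct.algebraMap_apply]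

lemma δQ_apply (a : G) : δQ ψ hδ a = δ2 ψ (Coalgebra.comul (R := k) a) := δa_apply ψ a

section Maps2
variable {V : Type*} [AddCommGroup V] [Module k V] {V' : Type*} [AddCommGroup V'] [Module k V']

variable (G H B V) in
/-- `(b ⊗ h) ⊗ v ↦ b ⊗ (v ⊗ h)` -/
noncomputable def rr : (G ⊗[k] H) ⊗[k] V →ₗ[B] G ⊗[k] (V ⊗[k] H) :=
  (idf G B (TensorProduct.comm k H V).toLinearMap) ∘ₗ
    (TensorProduct.AlgebraTensorModule.assoc k k B G H V).toLinearMap

lemma rr_tmul (b : G) (h : H) (v : V) :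
    rr G H B V ((b ⊗ₜ[k] h) ⊗ₜ[k] v) = b ⊗ₜ[k] (v ⊗ₜ[k] h) := rfl

variable (V) in
/-- `a ⊗ v ↦ Σ a₂ ⊗ (v ⊗ ψ a₁)` -/
noncomputable def D₂ : G ⊗[k] V →ₗ[B] G ⊗[k] (V ⊗[k] H) :=
  (rr G H B V) ∘ₗ
    (TensorProduct.AlgebraTensorModule.map (δQ ψ hδ) (LinearMap.id : V →ₗ[k] V))

lemma D₂_tmul (a : G) (v : V) :
    D₂ ψ hδ V (a ⊗ₜ[k] v) = rr G H B V (δ2 ψ (Coalgebra.comul (R := k) a) ⊗ₜ[k] v) := by
  rw [← δQ_apply ψ hδ]
  rfl

/-- the master map `a' ⊗ y ↦ assoc (sw y ⊗ (v ⊗ ψ a'))` -/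
noncomputable def Om (v : V) : G ⊗[k] (G ⊗[k] G) →ₗ[k] G ⊗[B] (G ⊗[k] (V ⊗[k] H)) :=
  ((TensorProduct.AlgebraTensorModule.assoc k B B G G (V ⊗[k] H)).toLinearMap.restrictScalars k) ∘ₗ
    (TensorProduct.map (sw k G B).toLinearMap
      ((TensorProduct.mk k V H v) ∘ₗ (ψ : G →ₗ[k] H))) ∘ₗ
    (TensorProduct.comm k G (G ⊗[k] G)).toLinearMap

lemma Om_tmul (v : V) (a' : G) (y : G ⊗[k] G) :
    Om (B := B) ψ v (a' ⊗ₜ[k] y) =
      TensorProduct.AlgebraTensorModule.assoc k B B G G (V ⊗[k] H)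
        (sw k G B y ⊗ₜ[k] (v ⊗ₜ[k] ψ a')) := rfl

lemma key_R (θ' : H →ₗ[k] G ⊗[B] G)
    (hθ' : ∀ a, θ' (ψ a) = sw k G B (Coalgebra.comul (R := k) a)) (v : V)
    (y : G ⊗[k] G) :
    Ups (V ⊗[k] H) θ' ((TensorProduct.assoc k V H H).symm
      (v ⊗ₜ[k] (TensorProduct.map (ψ : G →ₗ[k] H) (ψ : G →ₗ[k] H) y))) =
      Om ψ v ((Coalgebra.comul (R := k) (A := G)).lTensor G y) := by
  induction y using TensorProduct.induction_on with
  | zero => simp
  | add x y hx hy => simp only [map_add, TensorProduct.tmul_add, hx, hy]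
  | tmul a' d =>
    rw [TensorProduct.map_tmul, TensorProduct.assoc_symm_tmul, Ups_tmul, LinearMap.lTensor_tmul,
      Om_tmul]
    show TensorProduct.AlgebraTensorModule.assoc k B B G G (V ⊗[k] H)
      (θ' (ψ d) ⊗ₜ[k] (v ⊗ₜ[k] ψ a')) = _
    rw [hθ']

lemma key_L_aux (v : V) (c : G) (u : G ⊗[k] G) :
    HopfAlgebra.antipode k c ⊗ₜ[B] rr G H B V (δ2 ψ u ⊗ₜ[k] v) =
      Om ψ v (TensorProduct.assoc k G G G (u ⊗ₜ[k] c)) := by
  induction u using TensorProduct.induction_on with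
  | zero => simp
  | add x y hx hy =>
    simp only [map_add, TensorProduct.add_tmul, TensorProduct.tmul_add, hx, hy]
  | tmul b₁ b₂ => rfl

lemma key_L (v : V) (y : G ⊗[k] G) :
    (D₂ ψ hδ V).lTensor G
      (TensorProduct.AlgebraTensorModule.assoc k B B G G V (sw k G B y ⊗ₜ[k] v)) =
      Om ψ v (TensorProduct.assoc k G G G ((Coalgebra.comul (R := k) (A := G)).rTensor G y)) := by
  induction y using TensorProduct.induction_on with
  | zero => simp
  | add x y hx hy => simp only [map_add, TensorProduct.add_tmul, hx, hy]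
  | tmul b c =>
    rw [sw_tmul, TensorProduct.AlgebraTensorModule.assoc_tmul, LinearMap.lTensor_tmul, D₂_tmul,
      LinearMap.rTensor_tmul]
    exact key_L_aux ψ v c _

lemma key (hψ : Function.Surjective ψ) (θ' : H →ₗ[k] G ⊗[B] G)
    (hθ' : ∀ a, θ' (ψ a) = sw k G B (Coalgebra.comul (R := k) a)) (z : V ⊗[k] H) :
    (D₂ ψ hδ V).lTensor G (Ups V θ' z) =
      Ups (V ⊗[k] H) θ' ((TensorProduct.assoc k V H H).symm
        ((Coalgebra.comul (R := k) (A := H)).lTensor V z)) := by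
  induction z using TensorProduct.induction_on with
  | zero => simp
  | add x y hx hy => simp only [map_add, hx, hy]
  | tmul v h =>
    obtain ⟨a, rfl⟩ := hψ h
    rw [Ups_tmul, hθ', key_L, Coalgebra.coassoc_apply, LinearMap.lTensor_tmul,
      ← CoalgHomClass.map_comp_comul_apply ψ a, key_R ψ θ' hθ']

/-- `a ⊗ v ↦ c a • v` -/
noncomputable def sl (c : G →ₗ[k] k) : G ⊗[k] V →ₗ[k] V :=
  (TensorProduct.lid k V).toLinearMap ∘ₗ c.rTensor V

lemma sl_tmul (c : G →ₗ[k] k) (a : G) (v : V) : sl c (a ⊗ₜ[k] v) = c a • v := by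
  simp [sl]

lemma sl_idf (c : G →ₗ[k] k) (f : V →ₗ[k] V') (t : G ⊗[k] V) :
    sl c (idf G B f t) = f (sl c t) := by
  induction t using TensorProduct.induction_on with
  | zero => simp
  | add x y hx hy => simp only [map_add, hx, hy]
  | tmul a v => rw [idf_tmul, sl_tmul, sl_tmul, map_smul]

lemma sl_D₂_aux (c : G →ₗ[k] k) (v : V) (u : G ⊗[k] G) :
    sl c (rr G H B V (δ2 ψ u ⊗ₜ[k] v)) = v ⊗ₜ[k] ψ (slice c u) := by
  induction u using TensorProduct.induction_on with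
  | zero => simp
  | add x y hx hy => simp only [map_add, TensorProduct.add_tmul, TensorProduct.tmul_add, hx, hy]
  | tmul b₁ b₂ =>
    rw [δ2_tmul, rr_tmul, sl_tmul, slice_tmul, map_smul, TensorProduct.tmul_smul]

lemma sl_D₂ (c : G →ₗ[k] k)
    (hc : ∀ a, slice c (Coalgebra.comul (R := k) a) = c a • (1 : G)) (t : G ⊗[k] V) :
    sl c (D₂ ψ hδ V t) = sl c t ⊗ₜ[k] (1 : H) := by
  induction t using TensorProduct.induction_on with
  | zero => simp
  | add x y hx hy => simp only [map_add, TensorProduct.add_tmul, hx, hy]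
  | tmul a v =>
    rw [D₂_tmul, sl_D₂_aux, hc, map_smul, map_one, sl_tmul, TensorProduct.tmul_smul,
      TensorProduct.smul_tmul']

end Maps2

include hδ in
theorem linRed_K' [Module.FaithfullyFlat B G] (hψ : Function.Surjective ψ)
    (θ' : H →ₗ[k] G ⊗[B] G)
    (hθ' : ∀ a, θ' (ψ a) = sw k G B (Coalgebra.comul (R := k) a))
    (hG : HopfRep.IsLinearlyReductive k G) : HopfRep.IsLinearlyReductive k H := by
  obtain ⟨c, hc1, hc⟩ := LinRedIntegral.exists_integral hG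
  apply LinRedLift.isLinearlyReductive_of_lifting
  intro X Y _ _ _ _ _ _ φX _ _ hφX hsurj y hy
  obtain ⟨x, rfl⟩ := hsurj y
  set ρ : X →ₗ[k] X ⊗[k] H := HopfRep.Comod.coact (k := k) (A := H) with hρ
  have hT1 : (idf G B ρ - D₂ ψ hδ X).lTensor G (Ups X θ' (ρ x)) = 0 := by
    rw [LinearMap.lTensor_sub, LinearMap.sub_apply, sub_eq_zero, Ups_natural,
      key ψ hδ hψ θ' hθ']
    congr 1
    rw [LinearEquiv.eq_symm_apply]
    exact LinearMap.congr_fun (HopfRep.Comod.coassoc (k := k) (A := H) (V := X)) x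
  have hT2 : (idf G B φX).lTensor G (Ups X θ' (ρ x)) =
      (1 : G) ⊗ₜ[B] ((1 : G) ⊗ₜ[k] φX x) := by
    rw [Ups_natural]
    have h1 : φX.rTensor H (ρ x) = φX x ⊗ₜ[k] (1 : H) := by
      have h3 := LinearMap.congr_fun hφX x
      rw [LinearMap.comp_apply, LinearMap.comp_apply] at h3
      rw [← h3]
      exact hy
    rw [h1, Ups_tmul]
    have h2 : θ' 1 = 1 := by rw [← map_one ψ, hθ', Bialgebra.comul_one, map_one]
    rw [h2, Algebra.TensorProduct.one_def]
    rfl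
  obtain ⟨t, ht1, ht2⟩ := Groth.Agent.Lib.Helper4.LinRedExact1.descent_lemma
    (idf G B ρ - D₂ ψ hδ X) (idf G B φX)
    ((1 : G) ⊗ₜ[k] φX x) (Ups X θ' (ρ x)) hT1 hT2
  rw [LinearMap.sub_apply, sub_eq_zero] at ht1
  refine ⟨sl c t, ?_, ?_⟩
  · show ρ (sl c t) = sl c t ⊗ₜ[k] (1 : H)
    rw [← sl_idf (B := B), ← sl_D₂ ψ hδ c hc, ht1]
  · rw [← sl_idf (B := B) c φX t, ht2, sl_tmul, hc1, one_smul]

end KPart


/-! ### points of a quotient `G → G/H` -/
section Sch
variable {S : Scheme.{u}} {G H Q : Over S} [GrpObj G] [GrpObj H] (i : H ⟶ G) (q : G ⟶ Q)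
  (hsq : IsPullback (fst G H) ((G ◁ i) ≫ μ[G]) q q)

include hsq in
theorem q_inv {T : Over S} (g : T ⟶ G) (h : T ⟶ H) : (g * (h ≫ i)) ≫ q = g ≫ q := by
  have : lift g h ≫ fst G H ≫ q = lift g h ≫ ((G ◁ i) ≫ μ[G]) ≫ q := by rw [hsq.w]
  rw [lift_fst_assoc, Category.assoc, lift_whiskerLeft_assoc] at this
  rw [Hom.mul_def, Category.assoc]
  exact this.symm

include hsq in
theorem q_fib {T : Over S} (g₁ g₂ : T ⟶ G) (e : g₁ ≫ q = g₂ ≫ q) :
    ∃ h : T ⟶ H, g₂ = g₁ * (h ≫ i) := by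
  refine ⟨hsq.lift g₁ g₂ e ≫ snd G H, ?_⟩
  have e1 : lift g₁ (hsq.lift g₁ g₂ e ≫ snd G H) = hsq.lift g₁ g₂ e := by
    apply CartesianMonoidalCategory.hom_ext
    · rw [lift_fst, hsq.lift_fst]
    · rw [lift_snd]
  have e2 := hsq.lift_snd g₁ g₂ e
  rw [← e1, lift_whiskerLeft_assoc, ← Hom.mul_def] at e2
  exact e2.symm

end Sch

section Pts
open CoactBr
variable {k : Type u} [Field k] {AG AH B : Type u} [CommRing AG] [HopfAlgebra k AG] [CommRing AH]
  [HopfAlgebra k AH] [CommRing B] [Algebra k B]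
  (ψ : AG →ₐc[k] AH) (β : B →ₐ[k] AG)
  (hsq : IsPullback (fst (sp k AG) (sp k AH))
    ((sp k AG ◁ pt (ψ : AG →ₐ[k] AH)) ≫ μ[sp k AG]) (pt β) (pt β))

lemma δa_eq_lift : δa ψ = (Algebra.TensorProduct.lift
    ((Algebra.TensorProduct.includeRight : AH →ₐ[k] AG ⊗[k] AH).comp (ψ : AG →ₐ[k] AH))
    (Algebra.TensorProduct.includeLeft : AG →ₐ[k] AG ⊗[k] AH) (fun _ _ => .all _ _)).comp
    (Bialgebra.comulAlgHom k AG) := by
  unfold δa
  rw [← AlgHom.comp_assoc]
  congr 1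
  apply Algebra.TensorProduct.ext'
  intro x y
  simp

include hsq in
lemma δa_antipode_beta (b : B) :
    δa ψ (HopfAlgebra.antipode k (β b)) = HopfAlgebra.antipode k (β b) ⊗ₜ[k] (1 : AH) := by
  have e1 : pt (δa ψ) =
      (pt (Algebra.TensorProduct.includeRight : AH →ₐ[k] AG ⊗[k] AH) ≫ pt (ψ : AG →ₐ[k] AH)) *
      pt (Algebra.TensorProduct.includeLeft : AG →ₐ[k] AG ⊗[k] AH) := by
    rw [← pt_comp, pt_mul_pt, δa_eq_lift]
  have hgrp : (pt (δa ψ))⁻¹ *
      (pt (Algebra.TensorProduct.includeRight : AH →ₐ[k] AG ⊗[k] AH) ≫ pt (ψ : AG →ₐ[k] AH)) =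
      (pt (Algebra.TensorProduct.includeLeft : AG →ₐ[k] AG ⊗[k] AH))⁻¹ := by
    rw [e1]
    group
  have e2 : (pt (δa ψ))⁻¹ ≫ pt β =
      (pt (Algebra.TensorProduct.includeLeft : AG →ₐ[k] AG ⊗[k] AH))⁻¹ ≫ pt β := by
    have h := q_inv _ _ hsq ((pt (δa ψ))⁻¹)
      (pt (Algebra.TensorProduct.includeRight : AH →ₐ[k] AG ⊗[k] AH))
    rw [hgrp] at h
    exact h.symm
  rw [pt_inv, pt_inv, ← pt_comp, ← pt_comp] at e2
  exact AlgHom.congr_fun (pt_injective e2) b

variable [Algebra B AG] [IsScalarTower k B AG]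

variable (k AG B) in
/-- `a ↦ a ⊗[B] 1` -/
noncomputable def iL : AG →ₐ[k] AG ⊗[B] AG := Algebra.TensorProduct.includeLeft

variable (k AG B) in
/-- `a ↦ 1 ⊗[B] a` -/
noncomputable def iR : AG →ₐ[k] AG ⊗[B] AG :=
  (Algebra.TensorProduct.includeRight : AG →ₐ[B] AG ⊗[B] AG).restrictScalars k

lemma iL_apply (a : AG) : iL k AG B a = a ⊗ₜ[B] (1 : AG) := rfl
lemma iR_apply (a : AG) : iR k AG B a = (1 : AG) ⊗ₜ[B] a := rfl

lemma sw_eq_lift : sw k AG B = Algebra.TensorProduct.lift (iR k AG B)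
    ((iL k AG B).comp (HopfAlgebra.antipodeAlgHom k AG)) (fun _ _ => .all _ _) := by
  apply Algebra.TensorProduct.ext'
  intro x y
  rw [sw_tmul, Algebra.TensorProduct.lift_tmul, AlgHom.comp_apply, iR_apply, iL_apply,
    Algebra.TensorProduct.tmul_mul_tmul, _root_.one_mul, _root_.mul_one]
  rfl

variable (hal : ∀ b, algebraMap B AG b = HopfAlgebra.antipode k (β b))

include hsq hal in
lemma exists_theta : ∃ θ' : AH →ₗ[k] AG ⊗[B] AG,
    ∀ a, θ' (ψ a) = sw k AG B (Coalgebra.comul (R := k) a) := by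
  haveI : (algSpec (CommRingCat.of k)).Full := algSpec.instFull
  have hLR : ((iR k AG B).comp (HopfAlgebra.antipodeAlgHom k AG)).comp β =
      ((iL k AG B).comp (HopfAlgebra.antipodeAlgHom k AG)).comp β := by
    apply AlgHom.ext; intro b
    show (1 : AG) ⊗ₜ[B] HopfAlgebra.antipode k (β b) =
      HopfAlgebra.antipode k (β b) ⊗ₜ[B] (1 : AG)
    rw [← hal, Algebra.algebraMap_eq_smul_one, TensorProduct.tmul_smul, TensorProduct.smul_tmul']
  have e0 : pt ((iR k AG B).comp (HopfAlgebra.antipodeAlgHom k AG)) ≫ pt β =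
      pt ((iL k AG B).comp (HopfAlgebra.antipodeAlgHom k AG)) ≫ pt β := by
    rw [← pt_comp, ← pt_comp, hLR]
  obtain ⟨n, hn⟩ := q_fib _ _ hsq _ _ e0
  obtain ⟨f, hf⟩ := (algSpec (CommRingCat.of k)).map_surjective
    (X := op (CommAlgCat.of k (AG ⊗[B] AG))) (Y := op (CommAlgCat.of k AH)) n
  have hn' : n = pt f.unop.hom := hf.symm
  have e1 : pt (f.unop.hom.comp (ψ : AG →ₐ[k] AH)) = pt (iR k AG B) *
      pt ((iL k AG B).comp (HopfAlgebra.antipodeAlgHom k AG)) := by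
    rw [pt_comp, ← hn', eq_inv_mul_of_mul_eq hn.symm, ← pt_inv, _root_.inv_inv]
  rw [pt_mul_pt] at e1
  have e2 := pt_injective e1
  refine ⟨f.unop.hom.toLinearMap, fun a => ?_⟩
  have e3 := AlgHom.congr_fun e2 a
  rw [sw_eq_lift]
  exact e3

end Pts

section Main
open CoactBr
variable {k : Type u} [Field k] {AG AH B : Type u} [CommRing AG] [HopfAlgebra k AG] [CommRing AH]
  [HopfAlgebra k AH] [CommRing B] [Algebra k B]

theorem linRed_of_pullback (ψ : AG →ₐc[k] AH) (hψ : Function.Surjective ψ)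
    (hG : HopfRep.IsLinearlyReductive k AG) (β : B →ₐ[k] AG)
    (hff : β.toRingHom.FaithfullyFlat)
    (hsq : IsPullback (fst (sp k AG) (sp k AH))
      ((sp k AG ◁ pt (ψ : AG →ₐ[k] AH)) ≫ μ[sp k AG]) (pt β) (pt β)) :
    HopfRep.IsLinearlyReductive k AH := by
  letI : Algebra B AG :=
    ((HopfAlgebra.antipodeAlgHom k AG).toRingHom.comp β.toRingHom).toAlgebra
  have hal : ∀ b, algebraMap B AG b = HopfAlgebra.antipode k (β b) := fun b => rfl
  haveI : IsScalarTower k B AG := IsScalarTower.of_algebraMap_eq (fun r => by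
    rw [hal, β.commutes, ← HopfAlgebra.antipodeAlgHom_apply, AlgHom.commutes])
  have hSbij : Function.Bijective (HopfAlgebra.antipodeAlgHom k AG).toRingHom :=
    Function.bijective_iff_has_inverse.mpr ⟨HopfAlgebra.antipode k,
      fun a => LinRedIntegral.antipode_antipode a, fun a => LinRedIntegral.antipode_antipode a⟩
  haveI : Module.FaithfullyFlat B AG := by
    have h1 : ((HopfAlgebra.antipodeAlgHom k AG).toRingHom.comp β.toRingHom).FaithfullyFlat :=
      RingHom.FaithfullyFlat.stableUnderComposition _ _ hff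
        (RingHom.FaithfullyFlat.of_bijective hSbij)
    exact h1
  have hδ : ∀ b : B, δa ψ (algebraMap B AG b) = algebraMap B AG b ⊗ₜ[k] (1 : AH) := fun b => by
    rw [hal]
    exact δa_antipode_beta ψ β hsq b
  obtain ⟨θ', hθ'⟩ := exists_theta ψ β hsq hal
  exact linRed_K' ψ hδ hψ θ' hθ' hG

theorem main (k : Type u) [Field k] [IsAlgClosed k]
    (AG AH : Type u) [CommRing AG] [HopfAlgebra k AG] [Algebra.FiniteType k AG]
    [CommRing AH] [HopfAlgebra k AH] [Algebra.FiniteType k AH]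
    (hG : HopfRep.IsLinearlyReductive k AG)
    (ψ : AG →ₐc[k] AH) (hψ : Function.Surjective ψ)
    [IsMonHom (CoactBr.pt (ψ : AG →ₐ[k] AH))]
    (Q : Over (Spec (CommRingCat.of k))) (q : CoactBr.sp k AG ⟶ Q)
    (hq : RedSub.IsQuotient (CoactBr.pt (ψ : AG →ₐ[k] AH)) q) :
    IsAffine Q.left → HopfRep.IsLinearlyReductive k AH := by
  intro hAff
  obtain ⟨hsurj, hflat, -, hpb⟩ := hq
  haveI : (algSpec (CommRingCat.of k)).Full := algSpec.instFull
  obtain ⟨Bop, ⟨e⟩⟩ := (essImage_algSpec (R := CommRingCat.of k) (G := Q)).mpr hAff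
  obtain ⟨f, hf⟩ := (algSpec (CommRingCat.of k)).map_surjective
    (X := op (CommAlgCat.of k AG)) (Y := Bop) (q ≫ e.inv)
  have hqβ : q ≫ e.inv = pt (f.unop.hom) := hf.symm
  have hsq : IsPullback (fst (sp k AG) (sp k AH))
      ((sp k AG ◁ pt (ψ : AG →ₐ[k] AH)) ≫ μ[sp k AG]) (pt f.unop.hom) (pt f.unop.hom) := by
    rw [← hqβ]
    exact IsPullback.of_iso hpb (Iso.refl _) (Iso.refl _) (Iso.refl _) e.symm
      (by simp) (by simp) (Category.id_comp _).symm (Category.id_comp _).symm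
  have hff : (f.unop.hom).toRingHom.FaithfullyFlat := by
    have h1 : (q ≫ e.inv).left = Spec.map (CommRingCat.ofHom (f.unop.hom).toRingHom) := by
      rw [hqβ]; rfl
    have h2 : Flat (q ≫ e.inv).left := by
      rw [Over.comp_left]; infer_instance
    have h3 : Surjective (q ≫ e.inv).left := by
      rw [Over.comp_left]; infer_instance
    rw [h1] at h2 h3
    exact (flat_and_surjective_SpecMap_iff _).mp ⟨h2, h3⟩
  exact linRed_of_pullback ψ hψ hG f.unop.hom hff hsq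

end Main

end Groth.Agent.Lib.Helper4.LinRedQuot1
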