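import Mathlib
import Groth.Prelude.Def_W4bk4git07Quot
import Groth.Prelude.Def_NonAbH2
import Groth.Prelude.Def_ChGrp
import Groth.Agent.Lib.Helper4.AssocBundle1
import Groth.Agent.Lib.Helper4.AssocBundle2
import Groth.Agent.Lib.Helper2.Sch.QuotientDesc
import Groth.Agent.Lib.Helper2.Sch.OrbitFlat
import Groth.Agent.Lib.Helper2.Sch.GrpHomField
import Groth.Agent.Lib.Helper2.Sch.TorsorComp
import Groth.Agent.Lib.Helper6.Cartier.Main

/-!
# Extensions of special groups are special: torsor under G factors as N-torsor followed by Q-torsor (S20008) (helper4)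
-/

set_option backward.isDefEq.respectTransparency.types false
set_option synthInstance.maxHeartbeats 400000
set_option autoImplicit false
set_option linter.unusedSectionVars false
set_option linter.style.haveILetI false
set_option linter.unusedSimpArgs false
universe u v w
open CategoryTheory CategoryTheory.Limits AlgebraicGeometry TopologicalSpace Opposite
open MonoidalCategory CartesianMonoidalCategory MonObj GrpObj
open Groth.Agent.Lib.Helper4.AssocBundle1 Groth.Agent.Lib.Helper4.AssocBundle2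

namespace Groth.Agent.Lib.Helper4.SpecialExt1

section LocalLift
variable {S : Scheme.{u}} {P W : Over S} (p : P ⟶ W)

/-- an fpqc morphism over `S` -/
structure IsFpqc {A B : Over S} (e : A ⟶ B) : Prop where
  flat : Flat e.left
  surj : Surjective e.left
  qc : QuasiCompact e.left

theorem IsFpqc.epi {A B : Over S} {e : A ⟶ B} (h : IsFpqc e) : Epi e := by
  haveI := h.flat
  haveI := h.surj
  haveI := h.qc
  haveI : Epi e.left := inferInstance
  exact (Over.forget S).epi_of_epi_map (by exact ‹Epi e.left›)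

theorem IsFpqc.comp {A B C : Over S} {e : A ⟶ B} {e' : B ⟶ C} (h : IsFpqc e) (h' : IsFpqc e') :
    IsFpqc (e ≫ e') := by
  haveI := h.flat
  haveI := h.surj
  haveI := h.qc
  haveI := h'.flat
  haveI := h'.surj
  haveI := h'.qc
  exact ⟨by rw [Over.comp_left]; infer_instance, by rw [Over.comp_left]; infer_instance,
    by rw [Over.comp_left]; infer_instance⟩

theorem IsFpqc.of_isPullback {A B C D : Over S} {f : A ⟶ B} {g : A ⟶ C} {h : B ⟶ D} {i : C ⟶ D}
    (sq : IsPullback f g h i) (hi : IsFpqc i) : IsFpqc f := by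
  have sq' : IsPullback g.left f.left i.left h.left := (sq.map (Over.forget S)).flip
  exact ⟨MorphismProperty.of_isPullback sq' hi.flat, MorphismProperty.of_isPullback sq' hi.surj,
    MorphismProperty.of_isPullback sq' hi.qc⟩

theorem IsFpqc.exists_desc {A B C : Over S} {e : A ⟶ B} (h : IsFpqc e) (d' : A ⟶ C)
    (hd : ∀ {T : Over S} (u v : T ⟶ A), u ≫ e = v ≫ e → u ≫ d' = v ≫ d') :
    ∃ d : B ⟶ C, e ≫ d = d' := by
  haveI := h.flat
  haveI := h.surj
  haveI := h.qc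
  exact Groth.Agent.Helper2.QuotDesc.exists_desc_over e d' hd

theorem IsFpqc.whiskerLeft {A B : Over S} (Q : Over S) {e : A ⟶ B} (h : IsFpqc e) :
    IsFpqc (Q ◁ e) := by
  have sq := Groth.Agent.Helper2.Orbit.isPullback_whiskerLeft' (G := Q) e
  exact ⟨MorphismProperty.of_isPullback sq h.flat, MorphismProperty.of_isPullback sq h.surj,
    MorphismProperty.of_isPullback sq h.qc⟩

/-- local lifting of one point -/
theorem exists_lift₁ (hp : IsFpqc p) {T : Over S} (w : T ⟶ W) :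
    ∃ (T' : Over S) (e : T' ⟶ T) (z : T' ⟶ P), IsFpqc e ∧ e ≫ w = z ≫ p :=
  ⟨pullback w p, pullback.fst w p, pullback.snd w p,
    IsFpqc.of_isPullback (IsPullback.of_hasPullback w p) hp, pullback.condition⟩

/-- local lifting of two points -/
theorem exists_lift₂ (hp : IsFpqc p) {T : Over S} (w₁ w₂ : T ⟶ W) :
    ∃ (T' : Over S) (e : T' ⟶ T) (z₁ z₂ : T' ⟶ P), IsFpqc e ∧ e ≫ w₁ = z₁ ≫ p ∧
      e ≫ w₂ = z₂ ≫ p := by
  obtain ⟨T₁, e₁, z₁, he₁, h₁⟩ := exists_lift₁ p hp w₁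
  obtain ⟨T₂, e₂, z₂, he₂, h₂⟩ := exists_lift₁ p hp (e₁ ≫ w₂)
  exact ⟨T₂, e₂ ≫ e₁, e₂ ≫ z₁, z₂, he₂.comp he₁, by rw [Category.assoc, h₁, Category.assoc],
    by rw [Category.assoc, h₂]⟩

end LocalLift

section Setup
open AlgGrp.Action
variable {S : Scheme.{u}} {G Q X Y W : Over S} [GrpObj G] [GrpObj Q] (q : G ⟶ Q) [IsMonHom q]
  (a : AlgGrp.Action G X)

/-- `G` acting on `Q` by left translation through `q` -/
noncomputable abbrev bQ : AlgGrp.Action G Q := (NonAbH1.trivialAction Q).restrict q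

/-- the diagonal action of `G` on `X × Q` -/
noncomputable abbrev δ : AlgGrp.Action G (X ⊗ Q) := a.prod (bQ q)

/-- the right translation action of `Q` on `X × Q` -/
noncomputable abbrev ρ (X Q : Over S) [GrpObj Q] : AlgGrp.Action Q (X ⊗ Q) :=
  (AlgGrp.Action.trivial Q X).prod (AlgGrp.Action.invRight Q)

theorem δ_pt {T : Over S} (g : T ⟶ G) (x : T ⟶ X) (c : T ⟶ Q) :
    lift g (lift x c) ≫ (δ q a).act = lift (lift g x ≫ a.act) ((g ≫ q) * c) := by
  rw [lift_prod_act, lift_restrict_act]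
  congr 1

theorem ρ_pt {T : Over S} (d : T ⟶ Q) (x : T ⟶ X) (c : T ⟶ Q) :
    lift d (lift x c) ≫ (ρ X Q).act = lift x (c * d⁻¹) := by
  rw [lift_prod_act, lift_trivial_act, lift_invRight_act]

theorem pt_eta {T : Over S} (z : T ⟶ X ⊗ Q) : z = lift (z ≫ fst X Q) (z ≫ snd X Q) := by
  rw [← comp_lift, lift_fst_snd, Category.comp_id]

theorem δ_ρ_comm {T : Over S} (g : T ⟶ G) (d : T ⟶ Q) (z : T ⟶ X ⊗ Q) :
    lift g (lift d z ≫ (ρ X Q).act) ≫ (δ q a).act =
      lift d (lift g z ≫ (δ q a).act) ≫ (ρ X Q).act := by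
  rw [pt_eta z, ρ_pt, δ_pt, δ_pt, ρ_pt, _root_.mul_assoc]

end Setup

section ActW
open AlgGrp.Action
variable {S : Scheme.{u}} {G Q X Y W : Over S} [GrpObj G] [GrpObj Q] (q : G ⟶ Q) [IsMonHom q]
  (a : AlgGrp.Action G X)
  (p : X ⊗ Q ⟶ W) (hp : IsPullback (δ q a).act (snd G (X ⊗ Q)) p p) (hfp : IsFpqc p)

include hp in
theorem p_inv {T : Over S} (g : T ⟶ G) (z : T ⟶ X ⊗ Q) :
    (lift g z ≫ (δ q a).act) ≫ p = z ≫ p := by
  rw [Category.assoc, hp.w, lift_snd_assoc]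

include hp in
theorem p_fibre {T : Over S} (z₁ z₂ : T ⟶ X ⊗ Q) (h : z₁ ≫ p = z₂ ≫ p) :
    ∃ g : T ⟶ G, lift g z₂ ≫ (δ q a).act = z₁ := by
  refine ⟨hp.lift z₁ z₂ h ≫ fst G (X ⊗ Q), ?_⟩
  have e : lift (hp.lift z₁ z₂ h ≫ fst G (X ⊗ Q)) z₂ = hp.lift z₁ z₂ h := by
    apply CartesianMonoidalCategory.hom_ext
    · rw [lift_fst]
    · rw [lift_snd, hp.lift_snd]
  rw [e, hp.lift_fst]

include hp hfp in
theorem exists_cW : ∃ cW : Q ⊗ W ⟶ W, (Q ◁ p) ≫ cW = (ρ X Q).act ≫ p := by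
  refine (hfp.whiskerLeft Q).exists_desc ((ρ X Q).act ≫ p) ?_
  intro T u v huv
  have h1 : u ≫ fst Q (X ⊗ Q) = v ≫ fst Q (X ⊗ Q) := by
    have := congrArg (fun t => t ≫ fst Q W) huv
    simpa [Category.assoc, whiskerLeft_fst] using this
  have h2 : (u ≫ snd Q (X ⊗ Q)) ≫ p = (v ≫ snd Q (X ⊗ Q)) ≫ p := by
    have := congrArg (fun t => t ≫ snd Q W) huv
    simpa [Category.assoc, whiskerLeft_snd] using this
  obtain ⟨g, hg⟩ := p_fibre q a p hp _ _ h2
  have eu : u = lift (u ≫ fst Q (X ⊗ Q)) (u ≫ snd Q (X ⊗ Q)) := by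
    rw [← comp_lift, lift_fst_snd, Category.comp_id]
  have ev : v = lift (v ≫ fst Q (X ⊗ Q)) (v ≫ snd Q (X ⊗ Q)) := by
    rw [← comp_lift, lift_fst_snd, Category.comp_id]
  rw [eu, ev, ← h1, ← hg, ← Category.assoc, ← Category.assoc, ← δ_ρ_comm, p_inv q a p hp]

end ActW

section ActW2
open AlgGrp.Action
variable {S : Scheme.{u}} {G Q X Y W : Over S} [GrpObj G] [GrpObj Q] (q : G ⟶ Q) [IsMonHom q]
  (a : AlgGrp.Action G X)
  (p : X ⊗ Q ⟶ W) (hp : IsPullback (δ q a).act (snd G (X ⊗ Q)) p p) (hfp : IsFpqc p)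
  (cW : Q ⊗ W ⟶ W) (hcW : (Q ◁ p) ≫ cW = (ρ X Q).act ≫ p)

include hcW in
theorem smul_p {T : Over S} (d : T ⟶ Q) (z : T ⟶ X ⊗ Q) :
    lift d (z ≫ p) ≫ cW = (lift d z ≫ (ρ X Q).act) ≫ p := by
  rw [← lift_whiskerLeft_assoc, hcW, Category.assoc]

include hcW hfp in
theorem cW_one {T : Over S} (w : T ⟶ W) : lift (1 : T ⟶ Q) w ≫ cW = w := by
  obtain ⟨T', e, z, he, hz⟩ := exists_lift₁ p hfp w
  haveI := he.epi
  rw [← cancel_epi e, ← Category.assoc, comp_lift, hz, MonObj.comp_one, smul_p p cW hcW,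
    lift_one_act]

include hcW hfp in
theorem cW_mul {T : Over S} (d d' : T ⟶ Q) (w : T ⟶ W) :
    lift (d * d') w ≫ cW = lift d (lift d' w ≫ cW) ≫ cW := by
  obtain ⟨T', e, z, he, hz⟩ := exists_lift₁ p hfp w
  haveI := he.epi
  rw [← cancel_epi e, ← Category.assoc, ← Category.assoc, comp_lift, comp_lift, hz, MonObj.comp_mul,
    smul_p p cW hcW, ← Category.assoc, comp_lift, hz, smul_p p cW hcW, smul_p p cW hcW,
    lift_mul_act]

/-- the induced action of `Q` on the quotient -/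
noncomputable def actW : AlgGrp.Action Q W where
  act := cW
  one_act := by
    apply hom_ext_lift₂
    intro T u w
    have hu : u ≫ η[Q] = 1 := by rw [Hom.one_def, toUnit_unique (toUnit T) u]
    rw [lift_whiskerRight_assoc, hu, cW_one p hfp cW hcW, leftUnitor_hom, lift_snd]
  mul_act := by
    apply hom_ext_lift₃
    intro T d d' w
    rw [lift_whiskerRight_assoc, ← Hom.mul_def, cW_mul p hfp cW hcW,
      lift_lift_associator_hom_assoc, lift_whiskerLeft_assoc]

end ActW2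


section TorsorQ
open AlgGrp.Action
variable {S : Scheme.{u}} {G Q X Y W : Over S} [GrpObj G] [GrpObj Q] (q : G ⟶ Q) [IsMonHom q]
  (a : AlgGrp.Action G X) (φ : X ⟶ Y) (hcart : IsPullback a.act (snd G X) φ φ)
  (p : X ⊗ Q ⟶ W) (hp : IsPullback (δ q a).act (snd G (X ⊗ Q)) p p) (hfp : IsFpqc p)
  (cW : Q ⊗ W ⟶ W) (hcW : (Q ◁ p) ≫ cW = (ρ X Q).act ≫ p)
  (r : W ⟶ Y) (hpr : p ≫ r = fst X Q ≫ φ)

theorem ρ_fst : (ρ X Q).act ≫ fst X Q = snd Q (X ⊗ Q) ≫ fst X Q := by
  apply hom_ext_lift₂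
  intro T d z
  rw [pt_eta z, ← Category.assoc, ρ_pt, lift_fst, lift_snd_assoc, lift_fst]

include hcW hfp hpr in
theorem cW_r : cW ≫ r = snd Q W ≫ r := by
  haveI := (hfp.whiskerLeft Q).epi
  rw [← cancel_epi (Q ◁ p), ← Category.assoc, hcW, Category.assoc, hpr, ← Category.assoc, ρ_fst,
    whiskerLeft_snd_assoc, hpr, Category.assoc]

include hcart in
/-- the action `a` is free -/
theorem a_free {T : Over S} (g : T ⟶ G) (x : T ⟶ X) (h : lift g x ≫ a.act = x) : g = 1 := by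
  have hsq' : IsPullback a.act.left (snd G X).left φ.left φ.left := hcart.map (Over.forget S)
  rw [tr_unique a φ hsq' x x rfl g h, tr_self]

include hcart hp hfp hcW in
/-- uniqueness of the translating element -/
theorem cW_unique {T : Over S} (d d' : T ⟶ Q) (w : T ⟶ W)
    (h : lift d w ≫ cW = lift d' w ≫ cW) : d = d' := by
  obtain ⟨T', e, z, he, hz⟩ := exists_lift₁ p hfp w
  haveI := he.epi
  have h1 : (lift (e ≫ d) z ≫ (ρ X Q).act) ≫ p = (lift (e ≫ d') z ≫ (ρ X Q).act) ≫ p := by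
    rw [← smul_p p cW hcW, ← smul_p p cW hcW, ← hz, ← comp_lift, ← comp_lift, Category.assoc,
      Category.assoc, h]
  obtain ⟨g, hg⟩ := p_fibre q a p hp _ _ h1
  rw [pt_eta z, ρ_pt, ρ_pt, δ_pt] at hg
  have hg1 := congrArg (fun t => t ≫ fst X Q) hg
  have hg2 := congrArg (fun t => t ≫ snd X Q) hg
  simp only [lift_fst, lift_snd] at hg1 hg2
  have hg0 : g = 1 := a_free a φ hcart g _ hg1
  rw [hg0, MonObj.one_comp, _root_.one_mul] at hg2
  have h3 := mul_left_cancel hg2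
  have h4 := inv_injective h3
  rw [← cancel_epi e]
  exact h4.symm

end TorsorQ


section TorsorQ2
open AlgGrp.Action
variable {S : Scheme.{u}} {G Q X Y W : Over S} [GrpObj G] [GrpObj Q] (q : G ⟶ Q) [IsMonHom q]
  (a : AlgGrp.Action G X) (φ : X ⟶ Y) (hcart : IsPullback a.act (snd G X) φ φ)
  (p : X ⊗ Q ⟶ W) (hp : IsPullback (δ q a).act (snd G (X ⊗ Q)) p p) (hfp : IsFpqc p)
  (cW : Q ⊗ W ⟶ W) (hcW : (Q ◁ p) ≫ cW = (ρ X Q).act ≫ p)
  (r : W ⟶ Y) (hpr : p ≫ r = fst X Q ≫ φ)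

include hcart hp hfp hcW hpr in
/-- local existence of the translating element -/
theorem cW_exists_local {T : Over S} (z₁ z₂ : T ⟶ X ⊗ Q) (h : (z₁ ≫ p) ≫ r = (z₂ ≫ p) ≫ r) :
    ∃ d : T ⟶ Q, lift d (z₂ ≫ p) ≫ cW = z₁ ≫ p := by
  have hsq' : IsPullback a.act.left (snd G X).left φ.left φ.left := hcart.map (Over.forget S)
  have hx : (z₂ ≫ fst X Q) ≫ φ = (z₁ ≫ fst X Q) ≫ φ := by
    rw [Category.assoc, Category.assoc, ← hpr, ← Category.assoc, ← Category.assoc, h]
  obtain ⟨g, hg⟩ : ∃ g : T ⟶ G, lift g (z₂ ≫ fst X Q) ≫ a.act = z₁ ≫ fst X Q :=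
    ⟨tr a φ hsq' _ _ hx, tr_spec a φ hsq' _ _ hx⟩
  refine ⟨(z₁ ≫ snd X Q)⁻¹ * (g ≫ q) * (z₂ ≫ snd X Q), ?_⟩
  rw [smul_p p cW hcW, ← p_inv q a p hp g]
  congr 1
  rw [pt_eta z₂, ρ_pt, δ_pt, pt_eta z₁]
  simp only [lift_fst, lift_snd]
  rw [hg]
  congr 1
  group

include hcart hp hfp hcW hpr in
/-- existence of the translating element -/
theorem cW_exists {T : Over S} (w₁ w₂ : T ⟶ W) (h : w₁ ≫ r = w₂ ≫ r) :
    ∃ d : T ⟶ Q, lift d w₂ ≫ cW = w₁ := by
  obtain ⟨T', e, z₁, z₂, he, hz₁, hz₂⟩ := exists_lift₂ p hfp w₁ w₂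
  haveI := he.epi
  obtain ⟨d', hd'⟩ := cW_exists_local q a φ hcart p hp hfp cW hcW r hpr z₁ z₂ (by
    rw [← hz₁, ← hz₂, Category.assoc, Category.assoc, h])
  obtain ⟨d, hd⟩ := he.exists_desc d' (by
    intro T'' u v huv
    apply cW_unique q a φ hcart p hp hfp cW hcW _ _ (u ≫ z₂ ≫ p)
    rw [← comp_lift, Category.assoc, hd']
    have e2 : u ≫ z₂ ≫ p = v ≫ z₂ ≫ p := by
      rw [← hz₂, ← Category.assoc, huv, Category.assoc]
    rw [e2, ← comp_lift, Category.assoc, hd', ← hz₁, ← Category.assoc, huv, Category.assoc])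
  refine ⟨d, ?_⟩
  rw [← cancel_epi e, ← Category.assoc, comp_lift, hd, hz₂, hd', hz₁]

include hcart hp hfp hcW hpr in
/-- `W → Y` is a pseudo-torsor under `Q` -/
theorem isPullback_cW : IsPullback cW (snd Q W) r r := by
  refine Groth.Agent.Lib.Helper4.GrpKer2.isPullback_of_points _ _ _ _
    (cW_r φ p hfp cW hcW r hpr) ?_ ?_
  · intro T w₁ w₂ h
    obtain ⟨d, hd⟩ := cW_exists q a φ hcart p hp hfp cW hcW r hpr w₁ w₂ h
    exact ⟨lift d w₂, hd, lift_snd _ _⟩
  · intro T s t h1 h2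
    have es : s = lift (s ≫ fst Q W) (s ≫ snd Q W) := by
      rw [← comp_lift, lift_fst_snd, Category.comp_id]
    have et : t = lift (t ≫ fst Q W) (t ≫ snd Q W) := by
      rw [← comp_lift, lift_fst_snd, Category.comp_id]
    have h3 : s ≫ fst Q W = t ≫ fst Q W := by
      apply cW_unique q a φ hcart p hp hfp cW hcW _ _ (s ≫ snd Q W)
      rw [← es, h1, h2, ← et]
    rw [es, et, h3, h2]

end TorsorQ2


section TorsorN
open AlgGrp.Action Groth.Agent.Lib.Helper4.GrpKer1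
variable {S : Scheme.{u}} {G N Q X Y W : Over S} [GrpObj G] [GrpObj N] [GrpObj Q]
  (q : G ⟶ Q) [IsMonHom q] (iN : N ⟶ G) [IsMonHom iN] (hker : IsKer iN q)
  (a : AlgGrp.Action G X) (φ : X ⟶ Y) (hcart : IsPullback a.act (snd G X) φ φ)
  (p : X ⊗ Q ⟶ W) (hp : IsPullback (δ q a).act (snd G (X ⊗ Q)) p p)

/-- the map `x ↦ [x, 1]` -/
noncomputable def jW : X ⟶ W := lift (𝟙 X) (toUnit X ≫ η[Q]) ≫ p

theorem jW_pt {T : Over S} (x : T ⟶ X) : x ≫ jW p = lift x 1 ≫ p := by
  rw [jW, ← Category.assoc, comp_lift, Category.comp_id, ← Category.assoc,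
    toUnit_unique (x ≫ toUnit X) (toUnit T), ← Hom.one_def]

include hker hp in
theorem jW_inv : (a.restrict iN).act ≫ jW p = snd N X ≫ jW p := by
  apply hom_ext_lift₂
  intro T n x
  rw [← Category.assoc, ← Category.assoc, lift_snd, jW_pt, jW_pt, lift_restrict_act,
    ← p_inv q a p hp (n ≫ iN) (lift x 1), δ_pt, Category.assoc n, hker.comp_eq_one,
    MonObj.comp_one, _root_.one_mul]

include hcart in
theorem a_cancel {T : Over S} (g g' : T ⟶ G) (x : T ⟶ X)
    (h : lift g x ≫ a.act = lift g' x ≫ a.act) : g = g' := by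
  have hsq' : IsPullback a.act.left (snd G X).left φ.left φ.left := hcart.map (Over.forget S)
  have hx : x ≫ φ = (lift g x ≫ a.act) ≫ φ := by
    rw [Category.assoc, hcart.w, lift_snd_assoc]
  rw [tr_unique a φ hsq' x _ hx g rfl, tr_unique a φ hsq' x _ hx g' h.symm]

include hker hp hcart in
/-- `X → W` is a pseudo-torsor under `N` -/
theorem isPullback_jW : IsPullback (a.restrict iN).act (snd N X) (jW p) (jW p) := by
  haveI := hker.mono
  refine Groth.Agent.Lib.Helper4.GrpKer2.isPullback_of_points _ _ _ _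
    (jW_inv q iN hker a p hp) ?_ ?_
  · intro T x₁ x₂ h
    rw [jW_pt, jW_pt] at h
    obtain ⟨g, hg⟩ := p_fibre q a p hp _ _ h
    rw [δ_pt] at hg
    have hg1 := congrArg (fun t => t ≫ fst X Q) hg
    have hg2 := congrArg (fun t => t ≫ snd X Q) hg
    simp only [lift_fst, lift_snd] at hg1 hg2
    rw [_root_.mul_one] at hg2
    obtain ⟨n, hn⟩ := hker.exists_lift g hg2
    refine ⟨lift n x₂, ?_, lift_snd _ _⟩
    rw [lift_restrict_act, hn, hg1]
  · intro T s t h1 h2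
    have es : s = lift (s ≫ fst N X) (s ≫ snd N X) := by
      rw [← comp_lift, lift_fst_snd, Category.comp_id]
    have et : t = lift (t ≫ fst N X) (t ≫ snd N X) := by
      rw [← comp_lift, lift_fst_snd, Category.comp_id]
    have h3 : s ≫ fst N X = t ≫ fst N X := by
      rw [← cancel_mono iN]
      apply a_cancel a φ hcart _ _ (s ≫ snd N X)
      rw [← lift_restrict_act iN a (s ≫ fst N X), ← lift_restrict_act iN a (t ≫ fst N X), ← es, h1,
        h2, ← et]
    rw [es, et, h3, h2]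

include hp in
theorem jW_sec : (lift ((snd X G)⁻¹) (fst X G) ≫ a.act) ≫ jW p = (X ◁ q) ≫ p := by
  apply hom_ext_lift₂
  intro T x g
  have e1 : lift x g ≫ lift ((snd X G)⁻¹) (fst X G) = lift g⁻¹ x := by
    rw [comp_lift, GrpObj.comp_inv, lift_snd, lift_fst]
  have e2 : lift x g ≫ (lift ((snd X G)⁻¹) (fst X G) ≫ a.act) ≫ jW p =
      (lift g⁻¹ x ≫ a.act) ≫ jW p := by
    rw [← e1]; simp only [Category.assoc]
  rw [e2, jW_pt, lift_whiskerLeft_assoc, ← p_inv q a p hp g (lift (lift g⁻¹ x ≫ a.act) 1), δ_pt,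
    ← lift_mul_act, mul_inv_cancel, lift_one_act, _root_.mul_one]

include hp in
theorem jW_locTriv (hq : IsFpqc q) (hfp : IsFpqc p) :
    NonAbH1.IsLocallyTrivialFor Scheme.fpqcPrecoverage (Over.mk (jW p).left : Over W.left) := by
  have he : IsFpqc ((X ◁ q) ≫ p) := (hq.whiskerLeft X).comp hfp
  haveI := he.flat
  haveI := he.surj
  haveI := he.qc
  refine ⟨Presieve.singleton ((X ◁ q) ≫ p).left,
    Scheme.Hom.singleton_mem_fpqcPrecoverage _, ?_⟩
  rintro S' f ⟨⟩
  refine ⟨(lift ((snd X G)⁻¹) (fst X G) ≫ a.act).left, ?_⟩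
  change (lift ((snd X G)⁻¹) (fst X G) ≫ a.act).left ≫ (jW p).left = _
  rw [← Over.comp_left, jW_sec q a p hp]

end TorsorN


section Main
open AlgGrp.Action Groth.Agent.Lib.Helper4.GrpKer1

theorem main (k : Type u) [Field k] [IsAlgClosed k] [CharZero k]
    (G N Q : Over (Spec (CommRingCat.of k))) [GrpObj G] [GrpObj N] [GrpObj Q]
    [IsAffine G.left] [LocallyOfFiniteType G.hom]
    (iN : N ⟶ G) [IsMonHom iN] [IsClosedImmersion iN.left] (hnorm : AlgGrp.IsNormalHom iN)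
    (q : G ⟶ Q) [IsMonHom q] [Surjective q.left] [IsAffine Q.left] [LocallyOfFiniteType Q.hom]
    (hker : AlgGrp.IsKernel iN q)
    (hN : ∀ (X Y : Over (Spec (CommRingCat.of k))) (b : AlgGrp.Action N X) (ψ : X ⟶ Y),
      IsPullback b.act (snd N X) ψ ψ →
      NonAbH1.IsLocallyTrivialFor Scheme.fpqcPrecoverage (Over.mk ψ.left : Over Y.left) →
      NonAbH1.IsLocallyTrivialFor Scheme.zariskiPrecoverage (Over.mk ψ.left : Over Y.left))
    (hQ : ∀ (X Y : Over (Spec (CommRingCat.of k))) (b : AlgGrp.Action Q X) (ψ : X ⟶ Y),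
      IsPullback b.act (snd Q X) ψ ψ →
      NonAbH1.IsLocallyTrivialFor Scheme.fpqcPrecoverage (Over.mk ψ.left : Over Y.left) →
      NonAbH1.IsLocallyTrivialFor Scheme.zariskiPrecoverage (Over.mk ψ.left : Over Y.left))
    (X Y : Over (Spec (CommRingCat.of k))) (a : AlgGrp.Action G X) (φ : X ⟶ Y)
    (hcart : IsPullback a.act (snd G X) φ φ)
    (hloc : NonAbH1.IsLocallyTrivialFor Scheme.fpqcPrecoverage (Over.mk φ.left : Over Y.left)) :
    NonAbH1.IsLocallyTrivialFor Scheme.zariskiPrecoverage (Over.mk φ.left : Over Y.left) := by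
  have hker' : IsKer iN q := hker
  -- `q` is fpqc
  haveI : GrpObj (Over.mk Q.hom) := ‹GrpObj Q›
  haveI : IsReduced Q.left := Groth.Agent.Lib.Helper6.Cartier.isReduced_of_charZero Q.hom
  haveI : Flat q.left := Groth.Agent.Helper2.GrpHom.flat_of_surjective_of_isReduced q
  haveI : QuasiCompact q.left := inferInstance
  have hq : IsFpqc q := ⟨inferInstance, inferInstance, inferInstance⟩
  -- the associated bundle
  obtain ⟨W, p, r, hpr, hp, hlocp, haffp, -⟩ := main_S18976 k G X Y Q a φ hcart hloc (bQ q)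
  have hfp : IsFpqc p := by
    obtain ⟨Rc, hRc, hsec⟩ := hlocp
    have hpb : IsPullback (δ q a).act.left (snd G (X ⊗ Q)).left p.left p.left :=
      hp.map (Over.forget _)
    have hsec' : ∀ ⦃T : Scheme.{u}⦄ (f : T ⟶ W.left), Rc f → ∃ g : T ⟶ (X ⊗ Q).left,
        g ≫ p.left = f := by
      intro T f hf
      obtain ⟨s, hs⟩ := hsec f hf
      exact ⟨s, hs⟩
    haveI : Flat G.hom := inferInstance
    have hsnd : (snd G (X ⊗ Q)).left = pullback.snd G.hom (X ⊗ Q).hom := rfl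
    have hflsnd : Flat (snd G (X ⊗ Q)).left := by
      rw [hsnd]
      exact MorphismProperty.pullback_snd (P := @Flat) G.hom (X ⊗ Q).hom inferInstance
    exact ⟨prop_of_torsor @Flat p.left _ _ hpb hflsnd Rc hRc hsec',
      prop_of_torsor @Surjective p.left _ _ hpb (surjective_snd_left G (X ⊗ Q)) Rc hRc hsec',
      inferInstance⟩
  obtain ⟨cW, hcW⟩ := exists_cW q a p hp hfp
  have hQW : IsPullback cW (snd Q W) r r := isPullback_cW q a φ hcart p hp hfp cW hcW r hpr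
  have hjr : jW p ≫ r = φ := by
    rw [jW, Category.assoc, hpr, lift_fst_assoc, Category.id_comp]
  have hjr' : (jW p).left ≫ r.left = φ.left := by
    rw [← Over.comp_left, hjr]
  have hrloc : NonAbH1.IsLocallyTrivialFor Scheme.fpqcPrecoverage
      (Over.mk r.left : Over Y.left) := by
    obtain ⟨Rc, hRc, hsec⟩ := hloc
    refine ⟨Rc, hRc, fun T f hf => ?_⟩
    obtain ⟨s, hs⟩ := hsec f hf
    refine ⟨s ≫ (jW p).left, ?_⟩
    change (s ≫ (jW p).left) ≫ r.left = f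
    rw [Category.assoc, hjr']
    exact hs
  have hr := hQ W Y (actW p hfp cW hcW) r hQW hrloc
  have hj := hN X W (a.restrict iN) (jW p) (isPullback_jW q iN hker' a φ hcart p hp)
    (jW_locTriv q a p hp hq hfp)
  have := Groth.Agent.Helper2.TorsorComp.isLocallyTrivialFor_comp
    (K := Scheme.zariskiPrecoverage) (jW p).left r.left hj hr
  rw [hjr'] at this
  exact this

end Main

end Groth.Agent.Lib.Helper4.SpecialExt1
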