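import Mathlib
import Groth.Prelude.Def_RedSub
import Groth.Agent.Lib.Helper4.SpecialExt1
import Groth.Agent.Lib.Helper4.GrpKer2
import Groth.Agent.Lib.Helper3.FppfDesc3
import Groth.Agent.S0082

/-!
# G/G' is affine when G0/G0' and G1/G1' are: fibration G/G' -> G1/G1' with fibre G0/G0' + fpqc descent of affineness (S14545) (helper4)
-/

set_option backward.isDefEq.respectTransparency.types false
set_option synthInstance.maxHeartbeats 400000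
set_option autoImplicit false
set_option linter.unusedSectionVars false
set_option linter.style.haveILetI false
set_option linter.unusedSimpArgs false
universe u v w
open CategoryTheory CategoryTheory.Limits AlgebraicGeometry TopologicalSpace Opposite
open MonoidalCategory CartesianMonoidalCategory MonObj GrpObj
open Groth.Agent.Lib.Helper4.SpecialExt1

namespace Groth.Agent.Lib.Helper4.QuotAffFib1

section Quot
variable {S : Scheme.{u}} {G H Q : Over S} [GrpObj G] [GrpObj H] (i : H ⟶ G) (q : G ⟶ Q)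
  (hsq : IsPullback (fst G H) ((G ◁ i) ≫ μ[G]) q q)

theorem lift_whisker_mul {T : Over S} (g : T ⟶ G) (n : T ⟶ H) :
    lift g n ≫ ((G ◁ i) ≫ μ[G]) = g * (n ≫ i) := by
  rw [lift_whiskerLeft_assoc, ← Hom.mul_def]

include hsq in
theorem q_inv {T : Over S} (g : T ⟶ G) (h : T ⟶ H) : (g * (h ≫ i)) ≫ q = g ≫ q := by
  have : lift g h ≫ fst G H ≫ q = lift g h ≫ ((G ◁ i) ≫ μ[G]) ≫ q := by rw [hsq.w]
  rw [lift_fst_assoc, Category.assoc, lift_whiskerLeft_assoc] at this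
  rw [Hom.mul_def, Category.assoc]
  exact this.symm

include hsq in
theorem q_fib {T : Over S} (g₁ g₂ : T ⟶ G) (e : g₁ ≫ q = g₂ ≫ q) :
    ∃ h : T ⟶ H, g₂ = g₁ * (h ≫ i) := by
  refine ⟨hsq.lift g₁ g₂ e ≫ snd G H, ?_⟩
  have e1 : lift g₁ (hsq.lift g₁ g₂ e ≫ snd G H) = hsq.lift g₁ g₂ e := by
    apply CartesianMonoidalCategory.hom_ext
    · rw [lift_fst, hsq.lift_fst]
    · rw [lift_snd]
  have e2 := hsq.lift_snd g₁ g₂ e
  rw [← e1, lift_whiskerLeft_assoc, ← Hom.mul_def] at e2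
  exact e2.symm

end Quot

section Fib
variable {S : Scheme.{u}} {G G' G₀ G₁ G₀' G₁' Qa Qb Q : Over S} [GrpObj G] [GrpObj G'] [GrpObj G₀]
  [GrpObj G₁] [GrpObj G₀'] [GrpObj G₁']
  (i' : G' ⟶ G) [IsMonHom i'] (i₀ : G₀ ⟶ G) [IsMonHom i₀] (q₁ : G ⟶ G₁) [IsMonHom q₁]
  (hq₁ : IsPullback (fst G G₀) ((G ◁ i₀) ≫ μ[G]) q₁ q₁)
  (j : G₀' ⟶ G₀) [IsMonHom j] (j' : G₀' ⟶ G') (hj : IsPullback j j' i₀ i')
  (i₁' : G₁' ⟶ G₁) [IsMonHom i₁'] (p : G' ⟶ G₁') (hp : p ≫ i₁' = i' ≫ q₁) (hfp : IsFpqc p)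
  (qa : G₀ ⟶ Qa) (hqa : IsPullback (fst G₀ G₀') ((G₀ ◁ j) ≫ μ[G₀]) qa qa) (hfqa : IsFpqc qa)
  (qb : G₁ ⟶ Qb) (hqb : IsPullback (fst G₁ G₁') ((G₁ ◁ i₁') ≫ μ[G₁]) qb qb)
  (q : G ⟶ Q) (hq : IsPullback (fst G G') ((G ◁ i') ≫ μ[G]) q q) (hfq : IsFpqc q)

include hp hqb hq hfq in
theorem exists_r : ∃ r : Q ⟶ Qb, q ≫ r = q₁ ≫ qb := by
  refine hfq.exists_desc (q₁ ≫ qb) ?_
  intro T u v huv
  obtain ⟨h, hh⟩ := q_fib i' q hq u v huv
  have e1 : (u * (h ≫ i')) ≫ q₁ = (u ≫ q₁) * ((h ≫ p) ≫ i₁') := by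
    rw [MonObj.mul_comp, Category.assoc, ← hp, Category.assoc]
  rw [hh, ← Category.assoc, ← Category.assoc, e1, q_inv i₁' qb hqb]

include hj hqa hfqa hq in
theorem exists_m : ∃ m : G ⊗ Qa ⟶ Q, (G ◁ qa) ≫ m = ((G ◁ i₀) ≫ μ[G]) ≫ q := by
  refine (hfqa.whiskerLeft G).exists_desc (((G ◁ i₀) ≫ μ[G]) ≫ q) ?_
  intro T u v huv
  have h1 : u ≫ fst G G₀ = v ≫ fst G G₀ := by
    have := congrArg (fun t => t ≫ fst G Qa) huv
    simpa [Category.assoc, whiskerLeft_fst] using this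
  have h2 : (u ≫ snd G G₀) ≫ qa = (v ≫ snd G G₀) ≫ qa := by
    have := congrArg (fun t => t ≫ snd G Qa) huv
    simpa [Category.assoc, whiskerLeft_snd] using this
  obtain ⟨c, hc⟩ := q_fib j qa hqa _ _ h2
  have eu : u = lift (u ≫ fst G G₀) (u ≫ snd G G₀) := by
    rw [← comp_lift, lift_fst_snd, Category.comp_id]
  have ev : v = lift (v ≫ fst G G₀) (v ≫ snd G G₀) := by
    rw [← comp_lift, lift_fst_snd, Category.comp_id]
  have e1 : (u ≫ snd G G₀ * c ≫ j) ≫ i₀ = ((u ≫ snd G G₀) ≫ i₀) * ((c ≫ j') ≫ i') := by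
    rw [MonObj.mul_comp, Category.assoc c, hj.w, Category.assoc c]
  have key : ∀ (g : T ⟶ G) (n : T ⟶ G₀),
      lift g n ≫ ((G ◁ i₀) ≫ μ[G]) ≫ q = (g * (n ≫ i₀)) ≫ q := fun g n => by
    rw [← Category.assoc, lift_whisker_mul]
  rw [eu, ev, ← h1, hc, key, key, e1, ← _root_.mul_assoc, q_inv i' q hq]

end Fib


section Fib2
open AlgGrp.Action
variable {S : Scheme.{u}} {G G' G₀ G₁ G₀' G₁' Qa Qb Q : Over S} [GrpObj G] [GrpObj G'] [GrpObj G₀]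
  [GrpObj G₁] [GrpObj G₀'] [GrpObj G₁']
  (i' : G' ⟶ G) [IsMonHom i'] (i₀ : G₀ ⟶ G) [IsMonHom i₀] (q₁ : G ⟶ G₁) [IsMonHom q₁]
  (hq₁ : IsPullback (fst G G₀) ((G ◁ i₀) ≫ μ[G]) q₁ q₁)
  (j : G₀' ⟶ G₀) [IsMonHom j] (j' : G₀' ⟶ G') (hj : IsPullback j j' i₀ i')
  (i₁' : G₁' ⟶ G₁) [IsMonHom i₁'] (p : G' ⟶ G₁') (hp : p ≫ i₁' = i' ≫ q₁) (hfp : IsFpqc p)
  (qa : G₀ ⟶ Qa) (hqa : IsPullback (fst G₀ G₀') ((G₀ ◁ j) ≫ μ[G₀]) qa qa) (hfqa : IsFpqc qa)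
  (qb : G₁ ⟶ Qb) (hqb : IsPullback (fst G₁ G₁') ((G₁ ◁ i₁') ≫ μ[G₁]) qb qb)
  (q : G ⟶ Q) (hq : IsPullback (fst G G') ((G ◁ i') ≫ μ[G]) q q) (hfq : IsFpqc q)
  (r : Q ⟶ Qb) (hr : q ≫ r = q₁ ≫ qb)
  (m : G ⊗ Qa ⟶ Q) (hm : (G ◁ qa) ≫ m = ((G ◁ i₀) ≫ μ[G]) ≫ q)

include hm in
theorem m_pt {T : Over S} (g : T ⟶ G) (n : T ⟶ G₀) :
    lift g (n ≫ qa) ≫ m = (g * (n ≫ i₀)) ≫ q := by
  rw [← lift_whiskerLeft_assoc, hm, ← Category.assoc, lift_whisker_mul]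

include hm hr hq₁ hfqa in
theorem m_r : m ≫ r = fst G Qa ≫ q₁ ≫ qb := by
  haveI := (hfqa.whiskerLeft G).epi
  rw [← cancel_epi (G ◁ qa)]
  apply hom_ext_lift₂
  intro T g n
  rw [lift_whiskerLeft_assoc, ← Category.assoc, m_pt i₀ qa q m hm, Category.assoc, hr,
    ← Category.assoc, q_inv i₀ q₁ hq₁, lift_whiskerLeft_assoc, lift_fst_assoc, Category.assoc]

include hm hj hqa hfqa hq in
theorem m_unique {T : Over S} (g : T ⟶ G) (y₁ y₂ : T ⟶ Qa)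
    (h : lift g y₁ ≫ m = lift g y₂ ≫ m) : y₁ = y₂ := by
  obtain ⟨T', e, n₁, n₂, he, hn₁, hn₂⟩ := exists_lift₂ qa hfqa y₁ y₂
  haveI := he.epi
  rw [← cancel_epi e, hn₁, hn₂]
  have h1 : ((e ≫ g) * (n₁ ≫ i₀)) ≫ q = ((e ≫ g) * (n₂ ≫ i₀)) ≫ q := by
    rw [← m_pt i₀ qa q m hm, ← m_pt i₀ qa q m hm, ← hn₁, ← hn₂, ← comp_lift, ← comp_lift,
      Category.assoc, Category.assoc, h]
  obtain ⟨g', hg'⟩ := q_fib i' q hq _ _ h1
  have h2 : (n₁⁻¹ * n₂) ≫ i₀ = g' ≫ i' := by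
    rw [MonObj.mul_comp, GrpObj.inv_comp]
    rw [_root_.mul_assoc] at hg'
    have := mul_left_cancel hg'
    rw [this, inv_mul_cancel_left]
  have e3 : n₂ = n₁ * (hj.lift _ _ h2 ≫ j) := by
    rw [hj.lift_fst, mul_inv_cancel_left]
  rw [e3, q_inv j qa hqa]

include hm hr hq₁ hqb hq hp hfp in
theorem m_exists_local {T : Over S} (g h : T ⟶ G) (hgh : (h ≫ q) ≫ r = g ≫ q₁ ≫ qb) :
    ∃ (T' : Over S) (e : T' ⟶ T) (y : T' ⟶ Qa), IsFpqc e ∧
      lift (e ≫ g) y ≫ m = e ≫ h ≫ q := by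
  have h1 : (g ≫ q₁) ≫ qb = (h ≫ q₁) ≫ qb := by
    rw [Category.assoc, ← hgh, Category.assoc, hr, Category.assoc]
  obtain ⟨c, hc⟩ := q_fib i₁' qb hqb _ _ h1
  obtain ⟨T', e, g', he, hg'⟩ := exists_lift₁ p hfp c
  have h2 : (e ≫ g) ≫ q₁ = ((e ≫ h) * (g' ≫ i')⁻¹) ≫ q₁ := by
    rw [MonObj.mul_comp, GrpObj.inv_comp, Category.assoc e h, hc, MonObj.comp_mul,
      Category.assoc g', ← hp, ← Category.assoc g', ← hg', Category.assoc e c,
      mul_inv_cancel_right, Category.assoc]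
  obtain ⟨n, hn⟩ := q_fib i₀ q₁ hq₁ _ _ h2
  refine ⟨T', e, n ≫ qa, he, ?_⟩
  rw [m_pt i₀ qa q m hm, ← hn, ← GrpObj.inv_comp, q_inv i' q hq, Category.assoc]

include hm hr hq₁ hqb hq hp hfp hfq hj hqa hfqa in
theorem m_exists {T : Over S} (g : T ⟶ G) (x : T ⟶ Q) (hx : x ≫ r = g ≫ q₁ ≫ qb) :
    ∃ y : T ⟶ Qa, lift g y ≫ m = x := by
  obtain ⟨T₁, e₁, h, he₁, hh⟩ := exists_lift₁ q hfq x
  obtain ⟨T₂, e₂, y', he₂, hy'⟩ := m_exists_local i' i₀ q₁ hq₁ i₁' p hp hfp qa qb hqb q hq r hr m hm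
    (e₁ ≫ g) h (by rw [← hh, Category.assoc, hx, Category.assoc])
  have he := he₂.comp he₁
  haveI := he.epi
  obtain ⟨y, hy⟩ := he.exists_desc y' (by
    intro T'' u v huv
    apply m_unique i' i₀ j j' hj qa hqa hfqa q hq m hm (u ≫ e₂ ≫ e₁ ≫ g)
    have e2 : u ≫ e₂ ≫ e₁ ≫ g = v ≫ e₂ ≫ e₁ ≫ g := by
      rw [← Category.assoc e₂, ← Category.assoc u, huv, Category.assoc, Category.assoc]
    have hu : lift (u ≫ e₂ ≫ e₁ ≫ g) (u ≫ y') ≫ m = u ≫ (e₂ ≫ e₁) ≫ x := by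
      rw [← comp_lift, Category.assoc, hy', ← hh, Category.assoc]
    have hv : lift (v ≫ e₂ ≫ e₁ ≫ g) (v ≫ y') ≫ m = v ≫ (e₂ ≫ e₁) ≫ x := by
      rw [← comp_lift, Category.assoc, hy', ← hh, Category.assoc]
    calc lift (u ≫ e₂ ≫ e₁ ≫ g) (u ≫ y') ≫ m = u ≫ (e₂ ≫ e₁) ≫ x := hu
      _ = v ≫ (e₂ ≫ e₁) ≫ x := by rw [← Category.assoc, huv, Category.assoc]
      _ = lift (v ≫ e₂ ≫ e₁ ≫ g) (v ≫ y') ≫ m := hv.symm
      _ = lift (u ≫ e₂ ≫ e₁ ≫ g) (v ≫ y') ≫ m := by rw [e2])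
  refine ⟨y, ?_⟩
  rw [← cancel_epi (e₂ ≫ e₁), ← Category.assoc, comp_lift, hy, Category.assoc e₂ e₁ g, hy', ← hh,
    Category.assoc]

include hm hr hq₁ hqb hq hp hfp hfq hj hqa hfqa in
theorem isPullback_m : IsPullback m (fst G Qa) r (q₁ ≫ qb) := by
  refine Groth.Agent.Lib.Helper4.GrpKer2.isPullback_of_points _ _ _ _
    (m_r i₀ q₁ hq₁ qa hfqa qb q r hr m hm) ?_ ?_
  · intro T x g h
    obtain ⟨y, hy⟩ := m_exists i' i₀ q₁ hq₁ j j' hj i₁' p hp hfp qa hqa hfqa qb hqb q hq hfq r hr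
      m hm g x h
    exact ⟨lift g y, hy, lift_fst _ _⟩
  · intro T s t h1 h2
    have es : s = lift (s ≫ fst G Qa) (s ≫ snd G Qa) := by
      rw [← comp_lift, lift_fst_snd, Category.comp_id]
    have et : t = lift (t ≫ fst G Qa) (t ≫ snd G Qa) := by
      rw [← comp_lift, lift_fst_snd, Category.comp_id]
    have h3 : s ≫ snd G Qa = t ≫ snd G Qa := by
      apply m_unique i' i₀ j j' hj qa hqa hfqa q hq m hm (s ≫ fst G Qa)
      rw [← es, h1, h2, ← et]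
    rw [es, et, h3, h2]

end Fib2


section Main

theorem isMonHom_of_comp_mono {S : Scheme.{u}} {A B C : Over S} [GrpObj A] [GrpObj B] [GrpObj C]
    (p : A ⟶ B) (i : B ⟶ C) [IsMonHom i] [Mono i] (h : IsMonHom (p ≫ i)) : IsMonHom p where
  one_hom := by
    rw [← cancel_mono i, Category.assoc, h.one_hom, IsMonHom.one_hom]
  mul_hom := by
    rw [← cancel_mono i, Category.assoc, h.mul_hom, Category.assoc, IsMonHom.mul_hom,
      ← Category.assoc, ← tensorHom_comp_tensorHom]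

theorem main (k : Type u) [Field k] [CharZero k]
    (G : Over (Spec (CommRingCat.of k))) [GrpObj G] [IsAffine G.left] [LocallyOfFiniteType G.hom]
    (G' : Over (Spec (CommRingCat.of k))) [GrpObj G'] (i' : G' ⟶ G) [IsMonHom i'] (hi' : IsClosedImmersion i'.left)
    (G₀ : Over (Spec (CommRingCat.of k))) [GrpObj G₀] (i₀ : G₀ ⟶ G) [IsMonHom i₀] (hi₀ : IsClosedImmersion i₀.left)
    (hn : AlgGrp.IsNormalHom i₀)
    (G₁ : Over (Spec (CommRingCat.of k))) [GrpObj G₁] (q₁ : G ⟶ G₁) [IsMonHom q₁] (hq₁ : RedSub.IsQuotient i₀ q₁)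
    (G₀' : Over (Spec (CommRingCat.of k))) [GrpObj G₀'] (j : G₀' ⟶ G₀) [IsMonHom j] (j' : G₀' ⟶ G')
    (hj : IsPullback j j' i₀ i')
    (G₁' : Over (Spec (CommRingCat.of k))) [GrpObj G₁'] (i₁' : G₁' ⟶ G₁) [IsMonHom i₁'] (hi₁' : IsClosedImmersion i₁'.left)
    (p : G' ⟶ G₁') (hp : p ≫ i₁' = i' ≫ q₁) (hps : Surjective p.left)
    (Qa : Over (Spec (CommRingCat.of k))) (qa : G₀ ⟶ Qa) (hqa : RedSub.IsQuotient j qa) (ha : IsAffine Qa.left)
    (Qb : Over (Spec (CommRingCat.of k))) (qb : G₁ ⟶ Qb) (hqb : RedSub.IsQuotient i₁' qb) (hb : IsAffine Qb.left)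
    (Q : Over (Spec (CommRingCat.of k))) (q : G ⟶ Q) (hq : RedSub.IsQuotient i' q) :
    IsAffine Q.left := by
  obtain ⟨hq₁s, hq₁f, hq₁p, hq₁c⟩ := hq₁
  obtain ⟨hqas, hqaf, hqap, hqac⟩ := hqa
  obtain ⟨hqbs, hqbf, hqbp, hqbc⟩ := hqb
  obtain ⟨hqs, hqf, hqp, hqc⟩ := hq
  -- finiteness
  haveI : LocallyOfFiniteType G'.hom := by rw [← Over.w i']; infer_instance
  haveI : LocallyOfFiniteType G₀.hom := by rw [← Over.w i₀]; infer_instance
  haveI : IsAffine G'.left := isAffine_of_isAffineHom i'.left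
  haveI : IsAffine G₀.left := isAffine_of_isAffineHom i₀.left
  haveI : IsLocallyNoetherian G.left :=
    LocallyOfFiniteType.isLocallyNoetherian (Y := Spec (CommRingCat.of k)) G.hom
  haveI : IsLocallyNoetherian G'.left :=
    LocallyOfFiniteType.isLocallyNoetherian (Y := Spec (CommRingCat.of k)) G'.hom
  haveI : IsLocallyNoetherian G₀.left :=
    LocallyOfFiniteType.isLocallyNoetherian (Y := Spec (CommRingCat.of k)) G₀.hom
  haveI : IsNoetherian G.left := {}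
  haveI : IsNoetherian G'.left := {}
  haveI : IsNoetherian G₀.left := {}
  -- `p` is flat
  haveI : Mono i₁' := by
    haveI : Mono ((Over.forget _).map i₁') := by
      change Mono i₁'.left
      infer_instance
    exact (Over.forget _).mono_of_mono_map ‹_›
  haveI : IsMonHom p := isMonHom_of_comp_mono p i₁' (by rw [hp]; infer_instance)
  haveI : LocallyOfFiniteType (q₁.left ≫ G₁.hom) := by rw [Over.w q₁]; infer_instance
  haveI : LocallyOfFiniteType G₁.hom :=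
    Groth.Agent.Helper3.FppfDesc.locallyOfFiniteType_of_fppf_cover q₁.left G₁.hom
  haveI : LocallyOfFiniteType G₁'.hom := by rw [← Over.w i₁']; infer_instance
  haveI : GrpObj (Over.mk G₁'.hom) := ‹GrpObj G₁'›
  haveI : IsReduced G₁'.left := Groth.Agent.Lib.Helper6.Cartier.isReduced_of_charZero G₁'.hom
  haveI : Flat p.left := Groth.Agent.Helper2.GrpHom.flat_of_surjective_of_isReduced p
  have hfp : IsFpqc p := ⟨inferInstance, hps, inferInstance⟩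
  have hfqa : IsFpqc qa := ⟨hqaf, hqas, inferInstance⟩
  have hfq : IsFpqc q := ⟨hqf, hqs, inferInstance⟩
  obtain ⟨r, hr⟩ := exists_r i' q₁ i₁' p hp qb hqbc q hqc hfq
  obtain ⟨m, hm⟩ := exists_m i' i₀ j j' hj qa hqac hfqa q hqc
  have hpb := isPullback_m i' i₀ q₁ hq₁c j j' hj i₁' p hp hfp qa hqac hfqa qb hqbc q hqc hfq r hr
    m hm
  have hpb' : IsPullback (fst G Qa).left m.left (q₁ ≫ qb).left r.left :=
    (hpb.map (Over.forget _)).flip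
  have hfpqc : (@Surjective ⊓ @Flat ⊓ @QuasiCompact : MorphismProperty Scheme.{u})
      (q₁ ≫ qb).left :=
    ⟨⟨by rw [Over.comp_left]; infer_instance, by rw [Over.comp_left]; infer_instance⟩,
      inferInstance⟩
  haveI : IsAffineHom Qa.hom := inferInstance
  haveI : IsAffineHom (fst G Qa).left := by
    show IsAffineHom (pullback.fst G.hom Qa.hom)
    exact MorphismProperty.pullback_fst (P := @IsAffineHom) G.hom Qa.hom inferInstance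
  haveI hdesc : MorphismProperty.DescendsAlong (@IsAffineHom : MorphismProperty Scheme.{u})
      (@Surjective ⊓ @Flat ⊓ @QuasiCompact : MorphismProperty Scheme.{u}) :=
    Groth.Agent.S0082.result.{u}
  haveI : IsAffineHom r.left :=
    MorphismProperty.of_isPullback_of_descendsAlong (P := @IsAffineHom) hpb' hfpqc inferInstance
  exact isAffine_of_isAffineHom r.left

end Main

end Groth.Agent.Lib.Helper4.QuotAffFib1
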