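import Mathlib
import Groth.Prelude.Def_HopfRep
import Groth.Prelude.Def_CoactBr
import Groth.Prelude.Def_RedSub
import Groth.Agent.Lib.Helper9.LinRedIntegral
import Groth.Agent.Lib.Helper4.LinRedExact1
import Groth.Agent.Lib.Helper4.LinRedQuot1
import Groth.Agent.Lib.Helper2.Sch.QuotientDesc
import Groth.Agent.Lib.Helper4.QuotAffFib1

/-!
# G/H is affine for a linearly reductive closed subgroup H of an affine group G (S17533): Reynolds operator, invariant functions separate invariant closed sets, basic-open affineness criterion (helper4)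
-/

set_option backward.isDefEq.respectTransparency.types false
set_option synthInstance.maxHeartbeats 400000
set_option autoImplicit false
set_option linter.unusedSectionVars false
set_option linter.style.haveILetI false
set_option linter.unusedSimpArgs false
universe u v w
open TensorProduct
open Groth.Agent.Helper9
open CategoryTheory MonoidalCategory CartesianMonoidalCategory AlgebraicGeometry Opposite MonObj GrpObj

namespace Groth.Agent.Lib.Helper4.LinRedAff1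

/-! ### algebra: the Reynolds operator of the translation coaction and invariant separation -/
section Alg
variable {k : Type u} [Field k] {G H : Type u} [CommRing G] [HopfAlgebra k G] [CommRing H]
  [HopfAlgebra k H] (ψ : G →ₐc[k] H)

/-- the coaction `a ↦ Σ a₁ ⊗ ψ a₂` of `H` on `G` (right translations), as an algebra map -/
noncomputable def ρa : G →ₐ[k] G ⊗[k] H :=
  (Algebra.TensorProduct.map (AlgHom.id k G) (ψ : G →ₐ[k] H)).comp (Bialgebra.comulAlgHom k G)

lemma ρa_apply (a : G) :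
    ρa ψ a = (ψ : G →ₗ[k] H).lTensor G (Coalgebra.comul (R := k) a) := by
  show Algebra.TensorProduct.map (AlgHom.id k G) (ψ : G →ₐ[k] H) (Coalgebra.comul (R := k) a) = _
  generalize Coalgebra.comul (R := k) a = y
  induction y using TensorProduct.induction_on with
  | zero => simp
  | add x y hx hy => simp only [map_add, hx, hy]
  | tmul b c => rfl

variable (c : H →ₗ[k] k)

/-- the Reynolds operator `a ↦ Σ a₁ c(ψ a₂)` -/
noncomputable def Rey : G →ₗ[k] G := (slice c : G ⊗[k] H →ₗ[k] G) ∘ₗ (ρa ψ).toLinearMap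

lemma Rey_apply (a : G) : Rey ψ c a = slice c (ρa ψ a) := rfl

lemma Rey_eq (a : G) :
    Rey ψ c a = slice (c ∘ₗ (ψ : G →ₗ[k] H)) (Coalgebra.comul (R := k) a) := by
  rw [Rey_apply, ρa_apply, slice_comp_eq]

lemma ρa_Rey (hc : ∀ h : H, slice c (Coalgebra.comul (R := k) h) = c h • (1 : H)) (a : G) :
    ρa ψ (Rey ψ c a) = Rey ψ c a ⊗ₜ[k] (1 : H) := by
  set f : G →ₗ[k] k := c ∘ₗ (ψ : G →ₗ[k] H) with hf
  set E : G →ₗ[k] G := (slice f : G ⊗[k] G →ₗ[k] G) ∘ₗ Coalgebra.comul with hE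
  have hEdef : ∀ a, E a = slice f (Coalgebra.comul (R := k) a) := fun _ => rfl
  have hRE : ∀ a, Rey ψ c a = E a := fun a => Rey_eq ψ c a
  have hE1 : ∀ a, Coalgebra.comul (R := k) (E a) = E.lTensor G (Coalgebra.comul (R := k) a) := by
    intro a
    rw [hEdef, ← slice_rTensor, Groth.Agent.Lib.Helper4.LinRedExact1.slice_assoc',
      Coalgebra.coassoc_apply, ← LinearMap.comp_apply, ← LinearMap.lTensor_comp]
  have hψE : ∀ b, ψ (E b) = f b • (1 : H) := by
    intro b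
    rw [hEdef, hf, Groth.Agent.Lib.Helper4.LinRedExact1.phi_slice ψ c,
      CoalgHomClass.map_comp_comul_apply, hc]
    rfl
  rw [ρa_apply, hRE, hE1, ← LinearMap.comp_apply, ← LinearMap.lTensor_comp]
  have h1 : ∀ y : G ⊗[k] G, ((ψ : G →ₗ[k] H) ∘ₗ E).lTensor G y = slice f y ⊗ₜ[k] (1 : H) := by
    intro y
    induction y using TensorProduct.induction_on with
    | zero => simp
    | add x y hx hy => rw [map_add, map_add, hx, hy, TensorProduct.add_tmul]
    | tmul a b =>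
      rw [LinearMap.lTensor_tmul, slice_tmul, LinearMap.comp_apply]
      show a ⊗ₜ[k] ψ (E b) = _
      rw [hψE, TensorProduct.tmul_smul, TensorProduct.smul_tmul']
  rw [h1, hEdef]

lemma Rey_of_coinv (hc1 : c 1 = 1) (a : G) (ha : ρa ψ a = a ⊗ₜ[k] (1 : H)) : Rey ψ c a = a := by
  rw [Rey_apply, ha, slice_tmul, hc1, one_smul]

lemma slice_tmul_one_mul (b : G) (y : G ⊗[k] H) :
    slice c ((b ⊗ₜ[k] (1 : H)) * y) = b * slice c y := by
  induction y using TensorProduct.induction_on with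
  | zero => simp
  | add x y hx hy => rw [mul_add, map_add, map_add, hx, hy, mul_add]
  | tmul u h =>
    rw [Algebra.TensorProduct.tmul_mul_tmul, _root_.one_mul, slice_tmul, slice_tmul,
      mul_smul_comm]

lemma Rey_mul (b a : G) (hb : ρa ψ b = b ⊗ₜ[k] (1 : H)) :
    Rey ψ c (b * a) = b * Rey ψ c a := by
  rw [Rey_apply, map_mul, hb, slice_tmul_one_mul, Rey_apply]

variable (J : Ideal G)

/-- `a ↦ Σ (a₁ mod J) ⊗ ψ a₂` -/
noncomputable def τ : G →ₐ[k] (G ⧸ J) ⊗[k] H :=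
  (Algebra.TensorProduct.map (Ideal.Quotient.mkₐ k J) (AlgHom.id k H)).comp (ρa ψ)

lemma τ_apply (a : G) :
    τ ψ J a = (Ideal.Quotient.mkₐ k J).toLinearMap.rTensor H (ρa ψ a) := by
  show Algebra.TensorProduct.map (Ideal.Quotient.mkₐ k J) (AlgHom.id k H) (ρa ψ a) = _
  generalize ρa ψ a = y
  induction y using TensorProduct.induction_on with
  | zero => simp
  | add x y hx hy => simp only [map_add, hx, hy]
  | tmul b c => rfl

lemma ker_τ_le : RingHom.ker (τ ψ J) ≤ J := by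
  intro a ha
  rw [RingHom.mem_ker] at ha
  have h2 : ∀ y : G ⊗[k] G, (TensorProduct.rid k (G ⧸ J))
      ((Coalgebra.counit (R := k) (A := H)).lTensor (G ⧸ J)
        ((Ideal.Quotient.mkₐ k J).toLinearMap.rTensor H ((ψ : G →ₗ[k] H).lTensor G y))) =
      Ideal.Quotient.mk J (TensorProduct.rid k G
        ((Coalgebra.counit (R := k) (A := G)).lTensor G y)) := by
    intro y
    induction y using TensorProduct.induction_on with
    | zero => simp
    | add x y hx hy => simp only [map_add, hx, hy]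
    | tmul b b' =>
      rw [LinearMap.lTensor_tmul, LinearMap.rTensor_tmul, LinearMap.lTensor_tmul,
        TensorProduct.rid_tmul, LinearMap.lTensor_tmul, TensorProduct.rid_tmul]
      show Coalgebra.counit (R := k) (ψ b') • Ideal.Quotient.mkₐ k J b =
        Ideal.Quotient.mkₐ k J (Coalgebra.counit (R := k) b' • b)
      rw [CoalgHomClass.counit_comp_apply ψ b', map_smul]
  have h1 : (TensorProduct.rid k (G ⧸ J))
      ((Coalgebra.counit (R := k) (A := H)).lTensor (G ⧸ J) (τ ψ J a)) =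
      Ideal.Quotient.mk J a := by
    rw [τ_apply, ρa_apply, h2, Coalgebra.lTensor_counit_comul, TensorProduct.rid_tmul, one_smul]
  rw [ha, map_zero, map_zero] at h1
  exact Ideal.Quotient.eq_zero_iff_mem.mp h1.symm

lemma Rey_mem (a : G) (ha : a ∈ RingHom.ker (τ ψ J)) : Rey ψ c a ∈ J := by
  rw [RingHom.mem_ker, τ_apply] at ha
  rw [← Ideal.Quotient.eq_zero_iff_mem, Rey_apply]
  have h1 := slice_rTensor (Ideal.Quotient.mkₐ k J).toLinearMap c (ρa ψ a)
  rw [ha, map_zero] at h1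
  exact h1.symm

lemma le_of_ker_τ_le (hst : ∀ P : Ideal (G ⊗[k] H), P.IsPrime →
      J ≤ P.comap (Algebra.TensorProduct.includeLeft : G →ₐ[k] G ⊗[k] H) →
      J ≤ P.comap (ρa ψ))
    (𝔭 : Ideal G) [𝔭.IsPrime] (h𝔭 : RingHom.ker (τ ψ J) ≤ 𝔭) : J ≤ 𝔭 := by
  obtain ⟨𝔮, h𝔮, h𝔮𝔭⟩ := Ideal.exists_minimalPrimes_le h𝔭
  have h𝔮' : 𝔮 ∈ ((⊥ : Ideal ((G ⧸ J) ⊗[k] H)).comap (τ ψ J).toRingHom).minimalPrimes := h𝔮
  obtain ⟨P', hP', -, hP'𝔮⟩ :=
    Ideal.exists_comap_eq_of_mem_minimalPrimes (τ ψ J).toRingHom 𝔮 h𝔮'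
  have hP : (P'.comap (Algebra.TensorProduct.map (Ideal.Quotient.mkₐ k J)
      (AlgHom.id k H))).IsPrime := Ideal.comap_isPrime _ P'
  have h1 : J ≤ (P'.comap (Algebra.TensorProduct.map (Ideal.Quotient.mkₐ k J)
      (AlgHom.id k H))).comap (Algebra.TensorProduct.includeLeft : G →ₐ[k] G ⊗[k] H) := by
    intro j hj
    rw [Ideal.mem_comap, Ideal.mem_comap]
    have h0 : (Algebra.TensorProduct.map (Ideal.Quotient.mkₐ k J) (AlgHom.id k H))
        ((Algebra.TensorProduct.includeLeft : G →ₐ[k] G ⊗[k] H) j) = 0 := by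
      show (Ideal.Quotient.mk J j) ⊗ₜ[k] (1 : H) = 0
      rw [Ideal.Quotient.eq_zero_iff_mem.mpr hj, TensorProduct.zero_tmul]
    rw [h0]
    exact P'.zero_mem
  have h2 := hst _ hP h1
  have h3 : (P'.comap (Algebra.TensorProduct.map (Ideal.Quotient.mkₐ k J)
      (AlgHom.id k H))).comap (ρa ψ) = 𝔮 := by
    rw [← hP'𝔮]; rfl
  rw [h3] at h2
  exact h2.trans h𝔮𝔭

theorem exists_invariant_sep (hc1 : c 1 = 1)
    (hc : ∀ h : H, slice c (Coalgebra.comul (R := k) h) = c h • (1 : H)) (J J' : Ideal G)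
    (hst : ∀ P : Ideal (G ⊗[k] H), P.IsPrime →
      J ≤ P.comap (Algebra.TensorProduct.includeLeft : G →ₐ[k] G ⊗[k] H) →
      J ≤ P.comap (ρa ψ))
    (hst' : ∀ P : Ideal (G ⊗[k] H), P.IsPrime →
      J' ≤ P.comap (Algebra.TensorProduct.includeLeft : G →ₐ[k] G ⊗[k] H) →
      J' ≤ P.comap (ρa ψ))
    (hdisj : ∀ 𝔭 : Ideal G, 𝔭.IsPrime → J ≤ 𝔭 → ¬ J' ≤ 𝔭) :
    ∃ a : G, ρa ψ a = a ⊗ₜ[k] (1 : H) ∧ a ∈ J ∧ 1 - a ∈ J' := by
  have htop : RingHom.ker (τ ψ J) ⊔ RingHom.ker (τ ψ J') = ⊤ := by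
    by_contra hne
    obtain ⟨𝔪, h𝔪, hle⟩ := Ideal.exists_le_maximal _ hne
    haveI := h𝔪.isPrime
    exact hdisj 𝔪 h𝔪.isPrime (le_of_ker_τ_le ψ J hst 𝔪 (le_sup_left.trans hle))
      (le_of_ker_τ_le ψ J' hst' 𝔪 (le_sup_right.trans hle))
  have h1 : (1 : G) ∈ RingHom.ker (τ ψ J) ⊔ RingHom.ker (τ ψ J') := by rw [htop]; trivial
  obtain ⟨j, hj, j', hj', hjj'⟩ := Submodule.mem_sup.mp h1
  refine ⟨Rey ψ c j, ρa_Rey ψ c hc j, Rey_mem ψ c J j hj, ?_⟩
  have h2 : Rey ψ c 1 = 1 := Rey_of_coinv ψ c hc1 1 (by rw [map_one]; rfl)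
  have h3 : 1 - Rey ψ c j = Rey ψ c j' := by
    rw [← h2, ← hjj', map_add]; ring
  rw [h3]
  exact Rey_mem ψ c J' j' hj'

end Alg


/-! ### geometry: functions on the quotient -/
section Geo
open CoactBr
variable {k : Type u} [Field k] {AG AH : Type u} [CommRing AG] [HopfAlgebra k AG] [CommRing AH]
  [HopfAlgebra k AH] (ψ : AG →ₐc[k] AH) {Q : Over (Spec (CommRingCat.of k))} (q : sp k AG ⟶ Q)
  (hpb : IsPullback (fst (sp k AG) (sp k AH))
    ((sp k AG ◁ pt (ψ : AG →ₐ[k] AH)) ≫ μ[sp k AG]) q q)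

noncomputable local instance instBraidedAlgSpec' : (algSpec (CommRingCat.of k)).Braided :=
  braidedAlgSpec

lemma ρa_eq_lift : ρa ψ = (Algebra.TensorProduct.lift
    (Algebra.TensorProduct.includeLeft : AG →ₐ[k] AG ⊗[k] AH)
    ((Algebra.TensorProduct.includeRight : AH →ₐ[k] AG ⊗[k] AH).comp (ψ : AG →ₐ[k] AH))
    (fun _ _ => .all _ _)).comp (Bialgebra.comulAlgHom k AG) := by
  unfold ρa
  congr 1
  apply Algebra.TensorProduct.ext'
  intro x y
  simp

include hpb in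
lemma pt_ρa_q : pt (ρa ψ) ≫ q =
    pt (Algebra.TensorProduct.includeLeft : AG →ₐ[k] AG ⊗[k] AH) ≫ q := by
  have h := Groth.Agent.Lib.Helper4.LinRedQuot1.q_inv _ _ hpb
    (pt (Algebra.TensorProduct.includeLeft : AG →ₐ[k] AG ⊗[k] AH))
    (pt (Algebra.TensorProduct.includeRight : AH →ₐ[k] AG ⊗[k] AH))
  rw [← pt_comp, pt_mul_pt, ← ρa_eq_lift] at h
  exact h

/-- `q` on the underlying schemes -/
noncomputable def q₀ : Spec (CommRingCat.of AG) ⟶ Q.left := q.left

/-- pullback of global functions along `q` -/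
noncomputable def φ : Γ(Q.left, ⊤) →+* AG :=
  ((q₀ q).appTop ≫ (Scheme.ΓSpecIso (CommRingCat.of AG)).hom).hom

lemma φ_pt {K : Type u} [CommRing K] [Algebra k K] (χ χ' : AG →ₐ[k] K)
    (h : pt χ ≫ q = pt χ' ≫ q) (f : Γ(Q.left, ⊤)) : χ (φ q f) = χ' (φ q f) := by
  have h0 : Spec.map (CommRingCat.ofHom χ.toRingHom) ≫ q₀ q =
      Spec.map (CommRingCat.ofHom χ'.toRingHom) ≫ q₀ q := congrArg (fun m => m.left) h
  have e : ∀ χ₁ : AG →ₐ[k] K,
      (Spec.map (CommRingCat.ofHom χ₁.toRingHom) ≫ q₀ q).appTop ≫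
        (Scheme.ΓSpecIso (CommRingCat.of K)).hom =
      ((q₀ q).appTop ≫ (Scheme.ΓSpecIso (CommRingCat.of AG)).hom) ≫
        CommRingCat.ofHom χ₁.toRingHom := by
    intro χ₁
    rw [Scheme.Hom.comp_appTop, Category.assoc, Scheme.ΓSpecIso_naturality, Category.assoc]
  have e1 := e χ
  rw [h0, e χ'] at e1
  exact (congrArg (fun m => m.hom f) e1).symm

include hpb in
lemma ρa_φ (f : Γ(Q.left, ⊤)) : ρa ψ (φ q f) = φ q f ⊗ₜ[k] (1 : AH) :=
  φ_pt q (ρa ψ) (Algebra.TensorProduct.includeLeft : AG →ₐ[k] AG ⊗[k] AH) (pt_ρa_q ψ q hpb) f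

include hpb in
lemma q_comap_eq (P : PrimeSpectrum (AG ⊗[k] AH)) :
    q₀ q (PrimeSpectrum.comap (ρa ψ).toRingHom P) =
      q₀ q (PrimeSpectrum.comap
        (Algebra.TensorProduct.includeLeft : AG →ₐ[k] AG ⊗[k] AH).toRingHom P) := by
  have h : Spec.map (CommRingCat.ofHom (ρa ψ).toRingHom) ≫ q₀ q =
      Spec.map (CommRingCat.ofHom
        (Algebra.TensorProduct.includeLeft : AG →ₐ[k] AG ⊗[k] AH).toRingHom) ≫ q₀ q :=
    congrArg (fun m => m.left) (pt_ρa_q ψ q hpb)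
  have h' := congrArg (fun m : Spec (CommRingCat.of (AG ⊗[k] AH)) ⟶ Q.left => m P) h
  exact h'

lemma mem_basicOpen_iff (f : Γ(Q.left, ⊤)) (g : PrimeSpectrum AG) :
    q₀ q g ∈ Q.left.basicOpen f ↔ φ q f ∉ g.asIdeal := by
  have h1 : (q₀ q) ⁻¹ᵁ Q.left.basicOpen f = PrimeSpectrum.basicOpen (φ q f) := by
    rw [Scheme.preimage_basicOpen_top, basicOpen_eq_of_affine']
    rfl
  have h2 : (g ∈ ((q₀ q) ⁻¹ᵁ Q.left.basicOpen f)) ↔ q₀ q g ∈ Q.left.basicOpen f := Iff.rfl
  rw [← h2, h1]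
  exact PrimeSpectrum.mem_basicOpen _ _

lemma isIso_lift_incl : IsIso (lift (pt (Algebra.TensorProduct.includeLeft : AG →ₐ[k] AG ⊗[k] AH))
    (pt (Algebra.TensorProduct.includeRight : AH →ₐ[k] AG ⊗[k] AH))) := by
  have h1 : lift (pt (Algebra.TensorProduct.includeLeft : AG →ₐ[k] AG ⊗[k] AH))
      (pt (Algebra.TensorProduct.includeRight : AH →ₐ[k] AG ⊗[k] AH)) ≫
      Functor.LaxMonoidal.μ (algSpec (CommRingCat.of k)) (op (.of k AG)) (op (.of k AH)) =
      𝟙 _ := by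
    rw [lift_pt_pt]
    have : Algebra.TensorProduct.lift
        (Algebra.TensorProduct.includeLeft : AG →ₐ[k] AG ⊗[k] AH)
        (Algebra.TensorProduct.includeRight : AH →ₐ[k] AG ⊗[k] AH)
        (fun _ _ => .all _ _) = AlgHom.id k (AG ⊗[k] AH) := by
      apply Algebra.TensorProduct.ext'
      intro x y
      simp
    rw [this, pt_id]
  have hcomp : IsIso (lift (pt (Algebra.TensorProduct.includeLeft : AG →ₐ[k] AG ⊗[k] AH))
      (pt (Algebra.TensorProduct.includeRight : AH →ₐ[k] AG ⊗[k] AH)) ≫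
      Functor.LaxMonoidal.μ (algSpec (CommRingCat.of k)) (op (.of k AG)) (op (.of k AH))) := by
    rw [h1]; exact IsIso.id _
  haveI hμ : IsIso (Functor.LaxMonoidal.μ (algSpec (CommRingCat.of k)) (op (.of k AG))
      (op (.of k AH))) :=
    (Functor.Monoidal.μIso (algSpec (CommRingCat.of k)) (op (.of k AG))
      (op (.of k AH))).isIso_hom
  exact @IsIso.of_isIso_comp_right _ _ _ _ _ _
    (Functor.LaxMonoidal.μ (algSpec (CommRingCat.of k)) (op (.of k AG)) (op (.of k AH))) hμ hcomp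

include hpb in
lemma exists_section_of_coinv [Flat q.left] [Surjective q.left] [QuasiCompact q.left] (a : AG)
    (ha : ρa ψ a = a ⊗ₜ[k] (1 : AH)) : ∃ f : Γ(Q.left, ⊤), φ q f = a := by
  have key : ((sp k AG ◁ pt (ψ : AG →ₐ[k] AH)) ≫ μ[sp k AG]) ≫
      pt (Polynomial.aeval a : Polynomial k →ₐ[k] AG) =
      fst (sp k AG) (sp k AH) ≫ pt (Polynomial.aeval a : Polynomial k →ₐ[k] AG) := by
    haveI := isIso_lift_incl (k := k) (AG := AG) (AH := AH)
    rw [← cancel_epi (lift (pt (Algebra.TensorProduct.includeLeft : AG →ₐ[k] AG ⊗[k] AH))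
      (pt (Algebra.TensorProduct.includeRight : AH →ₐ[k] AG ⊗[k] AH)))]
    rw [← Category.assoc, Groth.Agent.Lib.Helper4.QuotAffFib1.lift_whisker_mul, lift_fst_assoc,
      ← pt_comp, pt_mul_pt, ← ρa_eq_lift, ← pt_comp, ← pt_comp]
    congr 1
    apply Polynomial.algHom_ext
    show ρa ψ (Polynomial.aeval a Polynomial.X) =
      (Algebra.TensorProduct.includeLeft : AG →ₐ[k] AG ⊗[k] AH) (Polynomial.aeval a Polynomial.X)
    rw [Polynomial.aeval_X, ha]
    rfl
  have hinv : ∀ {T : Over (Spec (CommRingCat.of k))} (g₁ g₂ : T ⟶ sp k AG),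
      g₁ ≫ q = g₂ ≫ q → g₁ ≫ pt (Polynomial.aeval a : Polynomial k →ₐ[k] AG) =
        g₂ ≫ pt (Polynomial.aeval a : Polynomial k →ₐ[k] AG) := by
    intro T g₁ g₂ h12
    obtain ⟨n, hn⟩ := Groth.Agent.Lib.Helper4.LinRedQuot1.q_fib _ _ hpb g₁ g₂ h12
    rw [hn, ← Groth.Agent.Lib.Helper4.QuotAffFib1.lift_whisker_mul, Category.assoc, key,
      lift_fst_assoc]
  obtain ⟨gbar, hgbar⟩ := Groth.Agent.Helper2.QuotDesc.exists_desc_over q
    (pt (Polynomial.aeval a : Polynomial k →ₐ[k] AG)) hinv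
  obtain ⟨g₀, hg₀⟩ : ∃ g₀ : Q.left ⟶ Spec (CommRingCat.of (Polynomial k)), q₀ q ≫ g₀ =
      Spec.map (CommRingCat.ofHom (Polynomial.aeval a : Polynomial k →ₐ[k] AG).toRingHom) :=
    ⟨gbar.left, congrArg (fun m => m.left) hgbar⟩
  refine ⟨g₀.appTop ((Scheme.ΓSpecIso (CommRingCat.of (Polynomial k))).inv Polynomial.X), ?_⟩
  have h1 : g₀.appTop ≫ (q₀ q).appTop =
      (Spec.map (CommRingCat.ofHom
        (Polynomial.aeval a : Polynomial k →ₐ[k] AG).toRingHom)).appTop := by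
    rw [← Scheme.Hom.comp_appTop, hg₀]
  have h2 : (Scheme.ΓSpecIso (CommRingCat.of (Polynomial k))).inv ≫
      (g₀.appTop ≫ (q₀ q).appTop) ≫ (Scheme.ΓSpecIso (CommRingCat.of AG)).hom =
      CommRingCat.ofHom (Polynomial.aeval a : Polynomial k →ₐ[k] AG).toRingHom := by
    rw [h1, ← Category.assoc, ← Scheme.ΓSpecIso_inv_naturality, Category.assoc,
      Iso.inv_hom_id, Category.comp_id]
  have h3 := congrArg (fun m => m.hom Polynomial.X) h2
  have h4 : (Polynomial.aeval a : Polynomial k →ₐ[k] AG) Polynomial.X = a :=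
    Polynomial.aeval_X a
  exact h3.trans h4

include hpb in
lemma stab_of_preimage (S : Set Q.left)
    (hS : IsClosed ((q₀ q) ⁻¹' S : Set (PrimeSpectrum AG))) :
    ∀ P : Ideal (AG ⊗[k] AH), P.IsPrime →
      PrimeSpectrum.vanishingIdeal ((q₀ q) ⁻¹' S : Set (PrimeSpectrum AG)) ≤
        P.comap (Algebra.TensorProduct.includeLeft : AG →ₐ[k] AG ⊗[k] AH) →
      PrimeSpectrum.vanishingIdeal ((q₀ q) ⁻¹' S : Set (PrimeSpectrum AG)) ≤
        P.comap (ρa ψ) := by
  intro P hP h1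
  have h2 : (PrimeSpectrum.comap
      (Algebra.TensorProduct.includeLeft : AG →ₐ[k] AG ⊗[k] AH).toRingHom ⟨P, hP⟩) ∈
      ((q₀ q) ⁻¹' S : Set (PrimeSpectrum AG)) := by
    rw [← hS.closure_eq, ← PrimeSpectrum.zeroLocus_vanishingIdeal_eq_closure,
      PrimeSpectrum.mem_zeroLocus]
    exact h1
  have h3 : (PrimeSpectrum.comap (ρa ψ).toRingHom ⟨P, hP⟩) ∈
      ((q₀ q) ⁻¹' S : Set (PrimeSpectrum AG)) := by
    show q₀ q _ ∈ S
    rw [q_comap_eq ψ q hpb]
    exact h2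
  intro j hj
  exact (PrimeSpectrum.mem_vanishingIdeal _ _).mp hj _ h3

end Geo


section Main
open CoactBr

theorem main (k : Type u) [Field k] [IsAlgClosed k]
    (AG AH : Type u) [CommRing AG] [HopfAlgebra k AG] [Algebra.FiniteType k AG]
    [CommRing AH] [HopfAlgebra k AH] [Algebra.FiniteType k AH]
    (hH : HopfRep.IsLinearlyReductive k AH)
    (ψ : AG →ₐc[k] AH) (hψ : Function.Surjective ψ)
    [IsMonHom (CoactBr.pt (ψ : AG →ₐ[k] AH))]
    (Q : Over (Spec (CommRingCat.of k))) (q : CoactBr.sp k AG ⟶ Q)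
    (hq : RedSub.IsQuotient (CoactBr.pt (ψ : AG →ₐ[k] AH)) q) :
    IsAffine Q.left := by
  obtain ⟨hsurj, hflat, -, hpb⟩ := hq
  haveI : Surjective q.left := hsurj
  haveI : Flat q.left := hflat
  haveI : Surjective (q₀ q) := hsurj
  haveI : IsNoetherianRing AG := Algebra.FiniteType.isNoetherianRing k AG
  haveI hqc : QuasiCompact q.left := ⟨fun U _ _ => by
    haveI : TopologicalSpace.NoetherianSpace (PrimeSpectrum AG) := inferInstance
    exact TopologicalSpace.NoetherianSpace.isCompact (α := PrimeSpectrum AG) _⟩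
  obtain ⟨c, hc1, hc⟩ := LinRedIntegral.exists_integral hH
  haveI : CompactSpace Q.left :=
    Function.Surjective.compactSpace (f := q₀ q) (q₀ q).continuous (q₀ q).surjective
  -- every closed point has an affine basic open neighbourhood
  have key : ∀ x : Q.left, IsClosed ({x} : Set Q.left) →
      ∃ f : Γ(Q.left, ⊤), x ∈ Q.left.basicOpen f ∧ IsAffineOpen (Q.left.basicOpen f) := by
    intro x hx
    obtain ⟨U, hU, hxU, -⟩ := exists_isAffineOpen_mem_and_subset (x := x) (U := ⊤) trivial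
    have ht : IsClosed ((q₀ q) ⁻¹' ((U : Set Q.left)ᶜ) : Set (PrimeSpectrum AG)) :=
      (U.isOpen.isClosed_compl).preimage (q₀ q).continuous
    have ht' : IsClosed ((q₀ q) ⁻¹' ({x} : Set Q.left) : Set (PrimeSpectrum AG)) :=
      hx.preimage (q₀ q).continuous
    have hdisj : ∀ 𝔭 : Ideal AG, 𝔭.IsPrime →
        PrimeSpectrum.vanishingIdeal ((q₀ q) ⁻¹' ((U : Set Q.left)ᶜ) : Set (PrimeSpectrum AG)) ≤ 𝔭 →
        ¬ PrimeSpectrum.vanishingIdeal
          ((q₀ q) ⁻¹' ({x} : Set Q.left) : Set (PrimeSpectrum AG)) ≤ 𝔭 := by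
      intro 𝔭 h𝔭 h1 h2
      have m1 : (⟨𝔭, h𝔭⟩ : PrimeSpectrum AG) ∈
          ((q₀ q) ⁻¹' ((U : Set Q.left)ᶜ) : Set (PrimeSpectrum AG)) := by
        rw [← ht.closure_eq, ← PrimeSpectrum.zeroLocus_vanishingIdeal_eq_closure,
          PrimeSpectrum.mem_zeroLocus]
        exact h1
      have m2 : (⟨𝔭, h𝔭⟩ : PrimeSpectrum AG) ∈
          ((q₀ q) ⁻¹' ({x} : Set Q.left) : Set (PrimeSpectrum AG)) := by
        rw [← ht'.closure_eq, ← PrimeSpectrum.zeroLocus_vanishingIdeal_eq_closure,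
          PrimeSpectrum.mem_zeroLocus]
        exact h2
      have m2' : q₀ q ⟨𝔭, h𝔭⟩ = x := m2
      have m1' : q₀ q ⟨𝔭, h𝔭⟩ ∉ (U : Set Q.left) := m1
      rw [m2'] at m1'
      exact m1' hxU
    obtain ⟨a, ha1, ha2, ha3⟩ := exists_invariant_sep ψ c hc1 hc _ _
      (stab_of_preimage ψ q hpb _ ht) (stab_of_preimage ψ q hpb _ ht') hdisj
    obtain ⟨f, hf⟩ := exists_section_of_coinv ψ q hpb a ha1
    refine ⟨f, ?_, ?_⟩
    · obtain ⟨g₀, hg₀⟩ := (q₀ q).surjective x
      rw [← hg₀, mem_basicOpen_iff, hf]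
      intro hmem
      have h1 : 1 - a ∈ g₀.asIdeal :=
        (PrimeSpectrum.mem_vanishingIdeal _ _).mp ha3 g₀ hg₀
      have h2 : (1 : AG) ∈ g₀.asIdeal := by
        have := Ideal.add_mem _ hmem h1
        rwa [add_sub_cancel] at this
      exact g₀.isPrime.ne_top ((Ideal.eq_top_iff_one _).mpr h2)
    · have hsub : Q.left.basicOpen f ≤ U := by
        intro z hz
        by_contra hzU
        obtain ⟨g, hg⟩ := (q₀ q).surjective z
        rw [← hg, mem_basicOpen_iff, hf] at hz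
        have hgt : g ∈ ((q₀ q) ⁻¹' ((U : Set Q.left)ᶜ) : Set (PrimeSpectrum AG)) := by
          show q₀ q g ∈ (U : Set Q.left)ᶜ
          rw [hg]
          exact hzU
        exact hz ((PrimeSpectrum.mem_vanishingIdeal _ _).mp ha2 g hgt)
      have e : Q.left.basicOpen f =
          Q.left.basicOpen (Q.left.presheaf.map (homOfLE (le_top : U ≤ ⊤)).op f) := by
        rw [Scheme.basicOpen_res]
        exact (inf_eq_right.mpr hsub).symm
      rw [e]
      exact hU.basicOpen _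
  -- the affine basic opens cover
  have hcov : ∀ x : Q.left, ∃ f : Γ(Q.left, ⊤),
      IsAffineOpen (Q.left.basicOpen f) ∧ x ∈ Q.left.basicOpen f := by
    by_contra hne
    push Not at hne
    obtain ⟨x₀, hx₀⟩ := hne
    have hW : IsClosed {x : Q.left | ∀ f : Γ(Q.left, ⊤),
        IsAffineOpen (Q.left.basicOpen f) → x ∉ Q.left.basicOpen f} := by
      have e : {x : Q.left | ∀ f : Γ(Q.left, ⊤),
          IsAffineOpen (Q.left.basicOpen f) → x ∉ Q.left.basicOpen f} =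
          ⋂ f ∈ {f : Γ(Q.left, ⊤) | IsAffineOpen (Q.left.basicOpen f)},
            ((Q.left.basicOpen f : Set Q.left))ᶜ := by
        ext x
        simp
      rw [e]
      exact isClosed_biInter (fun f _ => (Q.left.basicOpen f).isOpen.isClosed_compl)
    obtain ⟨x, hxW, hxc⟩ := hW.exists_closed_singleton ⟨x₀, hx₀⟩
    obtain ⟨f, hxf, hfa⟩ := key x hxc
    exact hxW f hfa hxf
  apply isAffine_of_isAffineOpen_basicOpen {f : Γ(Q.left, ⊤) | IsAffineOpen (Q.left.basicOpen f)}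
    ?_ (fun f hf => hf)
  have h1 : Ideal.span (φ q '' {f : Γ(Q.left, ⊤) | IsAffineOpen (Q.left.basicOpen f)}) = ⊤ := by
    rw [← PrimeSpectrum.zeroLocus_empty_iff_eq_top, PrimeSpectrum.zeroLocus_span]
    ext g
    simp only [Set.mem_empty_iff_false, iff_false, PrimeSpectrum.mem_zeroLocus]
    intro hg
    obtain ⟨f, hfs, hxf⟩ := hcov (q₀ q g)
    exact (mem_basicOpen_iff q f g).mp hxf (hg ⟨f, hfs, rfl⟩)
  have hP : ∀ a ∈ Ideal.span (φ q '' {f : Γ(Q.left, ⊤) | IsAffineOpen (Q.left.basicOpen f)}),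
      ∀ b : AG, ∃ y ∈ Ideal.span {f : Γ(Q.left, ⊤) | IsAffineOpen (Q.left.basicOpen f)},
        φ q y = Rey ψ c (b * a) := by
    intro a ha
    induction ha using Submodule.span_induction with
    | mem a ha =>
      obtain ⟨f, hfs, rfl⟩ := ha
      intro b
      obtain ⟨y, hy⟩ := exists_section_of_coinv ψ q hpb (Rey ψ c b) (ρa_Rey ψ c hc b)
      refine ⟨f * y, Ideal.mul_mem_right _ _ (Ideal.subset_span hfs), ?_⟩
      rw [map_mul, hy, mul_comm b, Rey_mul ψ c _ _ (ρa_φ ψ q hpb f)]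
    | zero =>
      intro b
      exact ⟨0, Ideal.zero_mem _, by rw [mul_zero, map_zero, map_zero]⟩
    | add a a' _ _ h h' =>
      intro b
      obtain ⟨y, hy, e⟩ := h b
      obtain ⟨y', hy', e'⟩ := h' b
      exact ⟨y + y', Ideal.add_mem _ hy hy', by rw [map_add, e, e', mul_add, map_add]⟩
    | smul r a _ h =>
      intro b
      obtain ⟨y, hy, e⟩ := h (b * r)
      exact ⟨y, hy, by rw [e, smul_eq_mul, _root_.mul_assoc]⟩
  obtain ⟨y, hy, e⟩ := hP 1 (by rw [h1]; trivial) 1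
  rw [_root_.mul_one, Rey_of_coinv ψ c hc1 1 (by rw [map_one]; rfl)] at e
  have hyu : IsUnit y := by
    apply RingedSpace.isUnit_of_isUnit_germ Q.left.toRingedSpace ⊤ y
    intro z hz
    obtain ⟨g, rfl⟩ := (q₀ q).surjective z
    apply (Q.left.mem_basicOpen_top y (q₀ q g)).mp
    rw [mem_basicOpen_iff, e]
    exact fun h => g.isPrime.ne_top ((Ideal.eq_top_iff_one _).mpr h)
  exact Ideal.eq_top_of_isUnit_mem _ hy hyu

end Main

end Groth.Agent.Lib.Helper4.LinRedAff1
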