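import Mathlib

/-!
# Locally constructible sets contain points with locally closed singletons (helper4)
-/

set_option backward.isDefEq.respectTransparency.types false
set_option synthInstance.maxHeartbeats 400000
set_option autoImplicit false
set_option linter.unusedSectionVars false
set_option linter.style.haveILetI false
set_option linter.unusedSimpArgs false
universe u v

namespace Groth.Agent.Lib.Helper4.LocConstr
open AlgebraicGeometry Topology TopologicalSpace Set
open scoped Set.Notation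

lemma lemA {Z : Type*} [TopologicalSpace Z] {s : Set Z} (hs : IsConstructible s) :
    ∀ x ∈ s, closure {x} ∩ s ⊆ {x} → IsLocallyClosed ({x} : Set Z) := by
  induction s, hs using BooleanSubalgebra.closure_sdiff_sup_induction with
  | isSublattice =>
    exact ⟨fun s hs t ht ↦ ⟨hs.1.union ht.1, hs.2.union ht.2⟩,
      fun s hs t ht ↦ ⟨hs.1.inter ht.1, hs.2.inter_isOpen ht.2 ht.1⟩⟩
  | bot_mem => exact ⟨isOpen_empty, .empty⟩
  | top_mem => exact ⟨isOpen_univ, .univ⟩
  | sdiff U hU V hV =>
    intro x hx hcl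
    have h1 : closure {x} ⊆ Vᶜ := by
      apply closure_minimal _ hV.1.isClosed_compl
      simpa using hx.2
    refine ⟨U, closure {x}, hU.1, isClosed_closure, ?_⟩
    apply subset_antisymm
    · rintro y rfl
      exact ⟨hx.1, subset_closure rfl⟩
    · rintro y ⟨hyU, hyc⟩
      exact hcl ⟨hyc, hyU, h1 hyc⟩
  | sup s _ t _ hs' ht' =>
    intro x hx hcl
    rcases hx with hx | hx
    · exact hs' x hx (fun y hy => hcl ⟨hy.1, Or.inl hy.2⟩)
    · exact ht' x hx (fun y hy => hcl ⟨hy.1, Or.inr hy.2⟩)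

lemma lemB {Z : Type*} [TopologicalSpace Z] [CompactSpace Z] {s : Set Z} (hs : IsConstructible s) :
    IsCompact s := by
  induction s, hs using BooleanSubalgebra.closure_sdiff_sup_induction with
  | isSublattice =>
    exact ⟨fun s hs t ht ↦ ⟨hs.1.union ht.1, hs.2.union ht.2⟩,
      fun s hs t ht ↦ ⟨hs.1.inter ht.1, hs.2.inter_isOpen ht.2 ht.1⟩⟩
  | bot_mem => exact ⟨isOpen_empty, .empty⟩
  | top_mem => exact ⟨isOpen_univ, .univ⟩
  | sdiff U hU V hV => exact hU.2.isCompact.diff hV.1
  | sup s _ t _ hs' ht' => exact hs'.union ht'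

lemma lemC {Z : Type*} [TopologicalSpace Z] [CompactSpace Z] [T0Space Z] {s : Set Z}
    (hs : IsConstructible s) (hne : s.Nonempty) : ∃ x ∈ s, IsLocallyClosed ({x} : Set Z) := by
  have hc := lemB hs
  have : CompactSpace s := isCompact_iff_compactSpace.mp hc
  have : Nonempty s := hne.to_subtype
  obtain ⟨x, -, hx⟩ := IsClosed.exists_closed_singleton (X := s) isClosed_univ univ_nonempty
  refine ⟨x.1, x.2, lemA hs x.1 x.2 ?_⟩
  rintro y ⟨hy1, hy2⟩
  have : (⟨y, hy2⟩ : s) ∈ closure ({x} : Set s) := by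
    apply closure_subtype.mpr
    simpa using hy1
  rw [hx.closure_eq] at this
  simp only [mem_singleton_iff] at this ⊢
  rw [← this]

theorem S4711_main (X : Scheme.{u}) (E : Set X)
    (hE : Topology.IsLocallyConstructible E) (hne : E.Nonempty) :
    ∃ x ∈ E, IsLocallyClosed ({x} : Set X) := by
  obtain ⟨e, he⟩ := hne
  obtain ⟨U, hU, hUo, hUc⟩ := hE e
  obtain ⟨V, ⟨hV₁, hV₂⟩, heV, hVU⟩ := PrespectralSpace.isTopologicalBasis.mem_nhds_iff.mp hU
  have hc : IsConstructible (V ↓∩ E) :=
    (hUc.preimage_of_isOpenEmbedding (IsOpenEmbedding.id.restrict hVU hV₁) :)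
  have : CompactSpace V := isCompact_iff_compactSpace.mp hV₂
  obtain ⟨x, hx, hxl⟩ := lemC hc ⟨⟨e, heV⟩, he⟩
  refine ⟨x.1, hx, ?_⟩
  have := hxl.image IsInducing.subtypeVal (by rw [Subtype.range_coe]; exact hV₁.isLocallyClosed)
  simpa using this
end Groth.Agent.Lib.Helper4.LocConstr
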