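import Mathlib
import Groth.Prelude.Def_Found
import Groth.Agent.Lib.Helper4.LocUC1

/-!
# The dimension formula under a catenary hypothesis on localizations of subalgebras of the polynomial ring (helper4)
-/

set_option backward.isDefEq.respectTransparency.types false
set_option synthInstance.maxHeartbeats 400000
set_option autoImplicit false
set_option linter.unusedSectionVars false
set_option linter.style.haveILetI false
set_option linter.unusedSimpArgs false
universe u v w
open Polynomial Cardinal
open Groth.Agent.Lib.Helper4.DimIneq1 Groth.Agent.Lib.Helper4.DimFT2 Groth.Agent.Lib.Helper4.Catenary1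
open Groth.Agent.Lib.Helper4.DimEq1 Groth.Agent.Lib.Helper4.DimEq2 Groth.Agent.Lib.Helper4.DimFT1
open Groth.Agent.Lib.Helper4.DimIneq2 Groth.Agent.Lib.Helper4.LocUC1

namespace Groth.Agent.Lib.Helper4.LocUC2

section OrderC

/-- `Set.Iic` transported along an order isomorphism -/
def iicOrderIso {α β : Type*} [Preorder α] [Preorder β] (φ : α ≃o β) (x : α) :
    Set.Iic x ≃o Set.Iic (φ x) where
  toFun a := ⟨φ a.1, φ.monotone a.2⟩
  invFun b := ⟨φ.symm b.1, by
    have h := φ.symm.monotone b.2
    rw [OrderIso.symm_apply_apply] at h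
    exact h⟩
  left_inv a := Subtype.ext (φ.symm_apply_apply a.1)
  right_inv b := Subtype.ext (φ.apply_symm_apply b.1)
  map_rel_iff' := by
    intro _ _
    exact φ.le_iff_le

theorem catP_Iic_of_le {α : Type u} [PartialOrder α] (M x : α) (hx : x ≤ M)
    (h : CatP (Set.Iic M)) : CatP (Set.Iic x) :=
  catP_congr (iicSubtypeIso (fun a : α => a ≤ M) (fun _ _ hab hb => hab.trans hb) x hx)
    (catP_Iic (⟨x, hx⟩ : Set.Iic M) h)

end OrderC

theorem S12126_main (R : Type u) [CommRing R] [IsDomain R]
    [IsNoetherianRing R] [IsLocalRing R] (S : Type u) [CommRing S] [IsDomain S] [Algebra R S]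
    [FaithfulSMul R S] [Algebra.FiniteType R S] (q : Ideal S) [q.IsPrime]
    [q.LiesOver (IsLocalRing.maximalIdeal R)]
    (hcat : ∀ A' : Subalgebra R (Polynomial S), A'.FG →
      ∀ (m' : Ideal A') [m'.IsMaximal], m'.LiesOver (IsLocalRing.maximalIdeal R) →
        CAlg.IsCatenary (Localization.AtPrime m')) :
    (q.height : Cardinal.{u}) + Algebra.trdeg (R ⧸ IsLocalRing.maximalIdeal R) (S ⧸ q) =
      ((IsLocalRing.maximalIdeal R).height : Cardinal.{u}) + Algebra.trdeg R S := by
  apply dim_eq_of_oneGenHypAll R S (IsLocalRing.maximalIdeal R) q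
  intro R' _ _ _ _ _ _ hft a
  haveI : Algebra.FiniteType R R' := hft
  haveI : Algebra.FiniteType R R'[X] :=
    Algebra.FiniteType.trans (S := R') inferInstance inferInstance
  haveI : IsNoetherianRing R'[X] := Algebra.FiniteType.isNoetherianRing R R'[X]
  haveI h𝔮 : (q.comap (Polynomial.aeval (R := R') a)).IsPrime := Ideal.comap_isPrime _ q
  haveI hQ : (RingHom.ker (Polynomial.aeval (R := R') a : R'[X] →+* S)).IsPrime :=
    RingHom.ker_isPrime _
  have hQ𝔮 : RingHom.ker (Polynomial.aeval (R := R') a : R'[X] →+* S) ≤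
      q.comap (Polynomial.aeval (R := R') a) := by
    intro f hf
    rw [Ideal.mem_comap]
    have : (Polynomial.aeval (R := R') a) f = 0 := hf
    rw [this]
    exact zero_mem _
  refine htAddAt_of_catP_Iic R'[X] _ ?_ _ hQ𝔮
  -- the embedding into `S[X]`
  have hinj : Function.Injective (Polynomial.mapAlgHom (IsScalarTower.toAlgHom R R' S)) := by
    rw [Polynomial.coe_mapAlgHom]
    exact Polynomial.map_injective _ (FaithfulSMul.algebraMap_injective R' S)
  have hFG : (Polynomial.mapAlgHom (IsScalarTower.toAlgHom R R' S)).range.FG := by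
    rw [← Algebra.map_top]
    exact Subalgebra.FG.map _ Algebra.FiniteType.out
  let e : R'[X] ≃ₐ[R] (Polynomial.mapAlgHom (IsScalarTower.toAlgHom R R' S)).range :=
    AlgEquiv.ofInjective _ hinj
  let φ := PrimeSpectrum.comapEquiv e.toRingEquiv
  obtain ⟨m', hm', hle⟩ := Ideal.exists_le_maximal (φ ⟨_, h𝔮⟩).asIdeal
    (φ ⟨_, h𝔮⟩).2.ne_top
  have hlo : m'.LiesOver (IsLocalRing.maximalIdeal R) := by
    constructor
    apply (IsLocalRing.maximalIdeal.isMaximal R).eq_of_le
    · intro h
      apply hm'.ne_top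
      rw [Ideal.eq_top_iff_one]
      have h1 : (1 : R) ∈ m'.under R := by rw [h]; trivial
      rw [Ideal.under, Ideal.mem_comap, map_one] at h1
      exact h1
    · intro x hx
      rw [Ideal.under, Ideal.mem_comap]
      apply hle
      change e.symm (algebraMap R _ x) ∈ q.comap (Polynomial.aeval (R := R') a)
      rw [AlgEquiv.commutes, Ideal.mem_comap]
      have : (Polynomial.aeval (R := R') a) (algebraMap R R'[X] x) = algebraMap R S x := by
        rw [IsScalarTower.algebraMap_apply R R' R'[X], AlgHom.commutes,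
          ← IsScalarTower.algebraMap_apply]
      rw [this, ← Ideal.mem_of_liesOver q (IsLocalRing.maximalIdeal R)]
      exact hx
  have h1 : CatP (PrimeSpectrum (Localization.AtPrime m')) := hcat _ hFG m' hlo
  have h2 : CatP (Set.Iic (⟨m', hm'.isPrime⟩ : PrimeSpectrum _)) :=
    catP_congr (IsLocalization.AtPrime.primeSpectrumOrderIso (Localization.AtPrime m') m').symm h1
  have h3 : CatP (Set.Iic (φ ⟨_, h𝔮⟩)) := catP_Iic_of_le _ _ hle h2
  exact catP_congr (iicOrderIso φ ⟨_, h𝔮⟩) h3

end Groth.Agent.Lib.Helper4.LocUC2
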