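import Mathlib
import Groth.Prelude.Def_ModSite2
import Groth.Agent.Lib.Helper4.OverMapPres

/-!
# Morphisms from a finitely presented module to a flat module factor locally through finite free modules (helper4) (helper4)
-/

set_option backward.isDefEq.respectTransparency.types false
set_option synthInstance.maxHeartbeats 400000
set_option autoImplicit false
set_option linter.unusedSectionVars false
set_option linter.style.haveILetI false
set_option linter.unusedSimpArgs false
universe u v w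
open CategoryTheory CategoryTheory.Limits Opposite

namespace Groth.Agent.Lib.Helper4.LocalFactor

open Groth.Agent.Lib.Helper4.PureTensor Groth.Agent.Lib.Helper4.EqCrit
  Groth.Agent.Lib.Helper4.OverMapPres

variable {C : Type u} [SmallCategory C] {J : GrothendieckTopology C} {O : Sheaf J CommRingCat.{u}}

section secAlg

variable (V : C) (M : ModSite.Mod O)

/-- (S4) -/
lemma scalHom_secHom (x : O.obj.obj (op V)) (t : ModSite.sect M V) :
    scalHom V x ≫ secHom V M t = secHom V M (x • t) := by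
  apply unit_hom_ext
  intro Y
  rw [ev_comp, ev_scalHom, ev_secHom]
  refine (ev_unit_apply (secHom V M t) Y _).trans ?_
  rw [ev_secHom]
  exact (M.val.map_smul Y.hom.op x t).symm

/-- (S5) -/
lemma sum_secHom {ι : Type*} (s : Finset ι) (t : ι → ModSite.sect M V) :
    ∑ k ∈ s, secHom V M (t k) = secHom V M (∑ k ∈ s, t k) := by
  apply unit_hom_ext
  intro Y
  rw [ev_sum, ev_secHom]
  refine Eq.trans (Finset.sum_congr rfl (fun k _ => ev_secHom V M (t k) Y)) ?_
  exact (map_sum (M.val.map Y.hom.op).hom t s).symm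

lemma secHom_zero : secHom V M 0 = 0 := by
  apply unit_hom_ext
  intro Y
  rw [ev_secHom]
  exact map_zero _

/-- (S6) -/
lemma secHom_comp_restr_map {M' : ModSite.Mod O} (φ : M ⟶ M') (x : ModSite.sect M V) :
    secHom V M x ≫ (ModSite.restr O V).map φ = secHom V M' (ev φ V x) := by
  apply unit_hom_ext
  intro Y
  rw [ev_comp, ev_secHom, ev_secHom]
  exact ev_naturality φ Y.hom x

end secAlg


section scal

variable (V : C)

lemma scalHom_comp (x y : O.obj.obj (op V)) : scalHom V x ≫ scalHom V y = scalHom V (x * y) :=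
  scalHom_secHom V (ModSite.unit O) x y

lemma sum_scalHom {ι : Type*} (s : Finset ι) (x : ι → O.obj.obj (op V)) :
    ∑ k ∈ s, scalHom V (x k) = scalHom V (∑ k ∈ s, x k) :=
  sum_secHom V (ModSite.unit O) s x

lemma scalHom_zero : scalHom V (0 : O.obj.obj (op V)) = 0 :=
  secHom_zero V (ModSite.unit O)

end scal


section thmA

open SheafOfModules

variable (F H : ModSite.Mod O) (φ : F ⟶ H) (X₀ : C)
  (P : (F.over X₀).Presentation) [Fintype P.generators.I] [Fintype P.relations.I]

lemma rel_pushed {Z : C} (z : Z ⟶ X₀) (r₀ : P.relations.I) :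
    ∑ j₀, (O.obj.map z.op).hom (c0 F X₀ P r₀ j₀) •
      ev φ Z ((F.val.map z.op).hom (γ0 F X₀ P j₀)) = 0 := by
  have base := sum_c0_smul_γ0 F X₀ P r₀
  have h0 : (F.val.map z.op).hom (∑ j₀, c0 F X₀ P r₀ j₀ • γ0 F X₀ P j₀) = 0 := by
    rw [base]
    exact map_zero _
  have h0' : ∑ j₀, (F.val.map z.op).hom (c0 F X₀ P r₀ j₀ • γ0 F X₀ P j₀) = 0 :=
    (map_sum (F.val.map z.op).hom _ _).symm.trans h0
  have h1 : ev φ Z (∑ j₀, (F.val.map z.op).hom (c0 F X₀ P r₀ j₀ • γ0 F X₀ P j₀)) = 0 :=
    (congrArg (fun x => ev φ Z x) h0').trans (map_zero _)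
  replace h1 := (ev_map_sum φ Z Finset.univ _).symm.trans h1
  refine Eq.trans (Finset.sum_congr rfl (fun j₀ _ => ?_)) h1
  refine Eq.trans ?_ (congrArg (fun x => ev φ Z x) (F.val.map_smul z.op _ _).symm)
  exact (ev_smul φ Z _ _).symm

/-- the map `O_V^l ⟶ H|_V` defined by `l` sections of `H` over `V` -/
noncomputable def bHom (V : C) {l : ℕ} (t : Fin l → ModSite.sect H V) :
    (SheafOfModules.free (ULift.{u} (Fin l)) : ModSite.Mod (O.over V)) ⟶ (ModSite.restr O V).obj H :=
  (freeHomEquiv ((ModSite.restr O V).obj H)).symm (fun k => secOver V H (t k.down))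

lemma ιFree_bHom (V : C) {l : ℕ} (t : Fin l → ModSite.sect H V) (k : Fin l) :
    (ιFree (ULift.up k) : ModSite.unit (O.over V) ⟶ SheafOfModules.free (ULift.{u} (Fin l))) ≫
      bHom H V t = secHom V H (t k) := by
  have h := unitHomEquiv_symm_freeHomEquiv_apply (bHom H V t) (ULift.up k)
  unfold bHom at h
  rw [Equiv.apply_symm_apply] at h
  exact h.symm

/-- the components `O_V ⟶ O_V^l` of the map to the free module -/
noncomputable def yHom (V : C) {l : ℕ} (a : Fin l → O.obj.obj (op V)) :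
    ModSite.unit (O.over V) ⟶ (SheafOfModules.free (ULift.{u} (Fin l)) : ModSite.Mod (O.over V)) :=
  ∑ k, scalHom V (a k) ≫ ιFree (ULift.up k)

lemma scalHom_yHom (V : C) {l : ℕ} (x : O.obj.obj (op V)) (a : Fin l → O.obj.obj (op V)) :
    scalHom V x ≫ yHom V a = yHom V (fun k => x * a k) := by
  unfold yHom
  rw [Preadditive.comp_sum]
  refine Finset.sum_congr rfl (fun k _ => ?_)
  rw [← Category.assoc, scalHom_comp]

lemma sum_yHom (V : C) {l : ℕ} {ι : Type*} (s : Finset ι) (a : ι → Fin l → O.obj.obj (op V)) :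
    ∑ i ∈ s, yHom V (a i) = yHom V (fun k => ∑ i ∈ s, a i k) := by
  unfold yHom
  rw [Finset.sum_comm]
  refine Finset.sum_congr rfl (fun k _ => ?_)
  rw [← Preadditive.sum_comp, sum_scalHom]

lemma yHom_zero (V : C) {l : ℕ} : yHom V (fun _ : Fin l => (0 : O.obj.obj (op V))) = 0 := by
  unfold yHom
  refine Finset.sum_eq_zero (fun k _ => ?_)
  rw [scalHom_zero, zero_comp]

lemma yHom_bHom (V : C) {l : ℕ} (a : Fin l → O.obj.obj (op V)) (t : Fin l → ModSite.sect H V) :
    yHom V a ≫ bHom H V t = secHom V H (∑ k, a k • t k) := by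
  unfold yHom
  rw [Preadditive.sum_comp, ← sum_secHom]
  refine Finset.sum_congr rfl (fun k _ => ?_)
  rw [Category.assoc, ιFree_bHom, scalHom_secHom]

lemma map_comp_apply_ring {V Z : C} (g : V ⟶ Z) (z : Z ⟶ X₀) (x : O.obj.obj (op X₀)) :
    (O.obj.map (g ≫ z).op).hom x = (O.obj.map g.op).hom ((O.obj.map z.op).hom x) := by
  rw [op_comp, Functor.map_comp]
  rfl

include P in
/-- **Local factorisation through a finite free module**, over objects mapping to `X₀`. -/
theorem factor_local (hH : ModSite.IsFlat H) {Z : C} (z : Z ⟶ X₀) :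
    ∃ S ∈ J Z, ∀ ⦃V : C⦄ (g : V ⟶ Z), S g →
      ∃ (l : ℕ) (a : (ModSite.restr O V).obj F ⟶ SheafOfModules.free (ULift.{u} (Fin l)))
        (b : SheafOfModules.free (ULift.{u} (Fin l)) ⟶ (ModSite.restr O V).obj H),
        a ≫ b = (ModSite.restr O V).map φ := by
  classical
  let eI := Fintype.equivFin P.generators.I
  let eR := Fintype.equivFin P.relations.I
  let f : Fin (Fintype.card P.relations.I) → Fin (Fintype.card P.generators.I) →
      O.obj.obj (op Z) :=
    fun r j => (O.obj.map z.op).hom (c0 F X₀ P (eR.symm r) (eI.symm j))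
  let s : Fin (Fintype.card P.generators.I) → ModSite.sect H Z :=
    fun j => ev φ Z ((F.val.map z.op).hom (γ0 F X₀ P (eI.symm j)))
  have hrel : ∀ r, ∑ j, f r j • s j = 0 := by
    intro r
    have h := rel_pushed F H φ X₀ P z (eR.symm r)
    rw [← Equiv.sum_comp eI.symm] at h
    exact h
  obtain ⟨S, hS, h⟩ := eqCrit_local H Z f s hH hrel
  refine ⟨S, hS, fun V g hg => ?_⟩
  obtain ⟨l, t, a, h1, h2⟩ := h g hg
  have hy : ∀ r₀, ∑ j₀, scalHom V ((O.obj.map (g ≫ z).op).hom (c0 F X₀ P r₀ j₀)) ≫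
      yHom V (a (eI j₀)) = 0 := by
    intro r₀
    rw [Finset.sum_congr rfl (fun j₀ _ => scalHom_yHom V _ (a (eI j₀))), sum_yHom]
    have hk : (fun k => ∑ j₀, (O.obj.map (g ≫ z).op).hom (c0 F X₀ P r₀ j₀) * a (eI j₀) k) =
        fun _ => 0 := by
      funext k
      have h3 := h2 (eR r₀) k
      rw [← Equiv.sum_comp eI] at h3
      refine Eq.trans (Finset.sum_congr rfl (fun j₀ _ => ?_)) h3
      simp only [f, Equiv.symm_apply_apply]
      rw [map_comp_apply_ring, mul_comm]
    rw [hk, yHom_zero]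
  obtain ⟨aF, haF⟩ := exists_desc F X₀ P (g ≫ z) _ (fun j₀ => yHom V (a (eI j₀))) hy
  refine ⟨l, aF, bHom H V t, ?_⟩
  refine desc_unique F X₀ P (g ≫ z) _ _ _ (fun j₀ => ?_)
  rw [← Category.assoc, haF, yHom_bHom, secHom_comp_restr_map]
  congr 1
  rw [← h1 (eI j₀)]
  simp only [s, Equiv.symm_apply_apply]
  rw [← ev_naturality, op_comp, PresheafOfModules.map_comp_apply]

end thmA


section main

variable (O)

/-- the existence of a factorisation through a finite free module over `V` -/
def Good (F H : ModSite.Mod O) (φ : F ⟶ H) (V : C) : Prop :=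
  ∃ (n : ℕ) (a : (ModSite.restr O V).obj F ⟶ SheafOfModules.free (ULift.{u} (Fin n)))
    (b : SheafOfModules.free (ULift.{u} (Fin n)) ⟶ (ModSite.restr O V).obj H),
    a ≫ b = (ModSite.restr O V).map φ

theorem main (F H : ModSite.Mod O) [F.IsFinitePresentation] (hH : ModSite.IsFlat H)
    (φ : F ⟶ H) (X : C) :
    ∃ (ι : Type u) (Y : ι → C) (g : ∀ i, Y i ⟶ X), Sieve.ofArrows Y g ∈ J X ∧
      ∀ i, ∃ (n : ℕ) (a : (ModSite.restr O (Y i)).obj F ⟶ SheafOfModules.free (ULift.{u} (Fin n)))
        (b : SheafOfModules.free (ULift.{u} (Fin n)) ⟶ (ModSite.restr O (Y i)).obj H),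
        a ≫ b = (ModSite.restr O (Y i)).map φ := by
  obtain ⟨σ, hσ⟩ := SheafOfModules.IsFinitePresentation.exists_quasicoherentData F
  refine ⟨Σ V : C, {g : V ⟶ X // Good O F H φ V}, fun i => i.1, fun i => i.2.1, ?_,
    fun i => i.2.2⟩
  refine J.transitive (σ.coversTop X) _ (fun W f hf => ?_)
  obtain ⟨i, ⟨z⟩⟩ := (Sieve.mem_ofObjects_iff _ _).1 hf
  haveI : (σ.presentation i).IsFinite := hσ.isFinite_presentation i
  haveI : Finite (σ.presentation i).generators.I :=
    SheafOfModules.GeneratingSections.IsFiniteType.finite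
  haveI : Finite (σ.presentation i).relations.I :=
    SheafOfModules.GeneratingSections.IsFiniteType.finite
  haveI := Fintype.ofFinite (σ.presentation i).generators.I
  haveI := Fintype.ofFinite (σ.presentation i).relations.I
  obtain ⟨S, hS, h⟩ := factor_local F H φ (σ.X i) (σ.presentation i) hH z
  refine J.superset_covering (fun V p hp => ?_) hS
  exact Sieve.ofArrows_mk (fun i : Σ V : C, {g : V ⟶ X // Good O F H φ V} => i.1)
    (fun i => i.2.1) ⟨V, p ≫ f, h p hp⟩

end main

end Groth.Agent.Lib.Helper4.LocalFactor
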