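import Mathlib

/-!
# Mate calculus for the canonical map Hom(F,G) ⊗ H ⟶ Hom(F, G ⊗ H): the cube lemma, naturality, retract and kernel comparison lemmas (helper4)
-/

set_option backward.isDefEq.respectTransparency.types false
set_option synthInstance.maxHeartbeats 400000
set_option autoImplicit false
set_option linter.unusedSectionVars false
set_option linter.style.haveILetI false
set_option linter.unusedSimpArgs false
universe u v w
open CategoryTheory CategoryTheory.Limits Opposite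

namespace Groth.Agent.Lib.Helper4.MateCube

variable {D : Type*} [Category D] {D' : Type*} [Category D']
  {ρ : D ⥤ D'} {L R T : D ⥤ D} {L' R' T' : D' ⥤ D'}
  (adj : L ⊣ R) (adj' : L' ⊣ R')
  (σ : T ⋙ L ⟶ L ⋙ T) (σ' : T' ⋙ L' ⟶ L' ⋙ T')
  (lam : ρ ⋙ L' ⟶ L ⋙ ρ) (mu : ρ ⋙ T' ⟶ T ⋙ ρ)

/-- the canonical map `R G ⊗ H ⟶ R (G ⊗ H)` as a mate -/
noncomputable def cmate : R ⋙ T ⟶ T ⋙ R := mateEquiv adj adj σ

/-- the comparison map `ρ (R G) ⟶ R' (ρ G)` as a mate -/
noncomputable def thmate : R ⋙ ρ ⟶ ρ ⋙ R' := mateEquiv adj adj' lam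

lemma cmate_counit (G : D) :
    L.map ((cmate adj σ).app G) ≫ adj.counit.app (T.obj G) =
      σ.app (R.obj G) ≫ T.map (adj.counit.app G) :=
  mateEquiv_counit adj adj σ G

lemma thmate_counit (G : D) :
    L'.map ((thmate adj adj' lam).app G) ≫ adj'.counit.app (ρ.obj G) =
      lam.app (R.obj G) ≫ ρ.map (adj.counit.app G) :=
  mateEquiv_counit adj adj' lam G

/-- the cube lemma -/
theorem cube
    (K : ∀ X : D, L'.map (mu.app X) ≫ lam.app (T.obj X) ≫ ρ.map (σ.app X) =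
      σ'.app (ρ.obj X) ≫ T'.map (lam.app X) ≫ mu.app (L.obj X)) (G : D) :
    mu.app (R.obj G) ≫ ρ.map ((cmate adj σ).app G) ≫ (thmate adj adj' lam).app (T.obj G) =
      T'.map ((thmate adj adj' lam).app G) ≫ (cmate adj' σ').app (ρ.obj G) ≫
        R'.map (mu.app G) := by
  apply (adj'.homEquiv _ _).symm.injective
  simp only [Adjunction.homEquiv_counit, Functor.map_comp, Category.assoc]
  have n1 : L'.map (ρ.map ((cmate adj σ).app G)) ≫ lam.app (R.obj (T.obj G)) =
      lam.app (T.obj (R.obj G)) ≫ ρ.map (L.map ((cmate adj σ).app G)) :=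
    lam.naturality ((cmate adj σ).app G)
  have n2 : L'.map (T'.map ((thmate adj adj' lam).app G)) ≫ σ'.app (R'.obj (ρ.obj G)) =
      σ'.app (ρ.obj (R.obj G)) ≫ T'.map (L'.map ((thmate adj adj' lam).app G)) :=
    σ'.naturality ((thmate adj adj' lam).app G)
  have n3 : T'.map (ρ.map (adj.counit.app G)) ≫ mu.app G =
      mu.app (L.obj (R.obj G)) ≫ ρ.map (T.map (adj.counit.app G)) :=
    mu.naturality (adj.counit.app G)
  have k := K (R.obj G)
  have c1 := cmate_counit adj σ G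
  have c2 := cmate_counit adj' σ' (ρ.obj G)
  have t1 := thmate_counit adj adj' lam G
  have t2 := thmate_counit adj adj' lam (T.obj G)
  have e1 := adj'.counit_naturality (mu.app G)
  simp only [Functor.comp_obj, Functor.comp_map, Functor.id_obj, Functor.id_map] at e1
  calc L'.map (mu.app (R.obj G)) ≫ L'.map (ρ.map ((cmate adj σ).app G)) ≫
        L'.map ((thmate adj adj' lam).app (T.obj G)) ≫ adj'.counit.app (ρ.obj (T.obj G))
      = L'.map (mu.app (R.obj G)) ≫ (L'.map (ρ.map ((cmate adj σ).app G)) ≫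
          lam.app (R.obj (T.obj G))) ≫ ρ.map (adj.counit.app (T.obj G)) := by
        rw [t2, Category.assoc]
    _ = L'.map (mu.app (R.obj G)) ≫ lam.app (T.obj (R.obj G)) ≫
          ρ.map (L.map ((cmate adj σ).app G) ≫ adj.counit.app (T.obj G)) := by
        rw [n1, Category.assoc, ρ.map_comp]
    _ = (L'.map (mu.app (R.obj G)) ≫ lam.app (T.obj (R.obj G)) ≫ ρ.map (σ.app (R.obj G))) ≫
          ρ.map (T.map (adj.counit.app G)) := by
        rw [c1, ρ.map_comp, Category.assoc, Category.assoc]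
    _ = σ'.app (ρ.obj (R.obj G)) ≫ T'.map (lam.app (R.obj G)) ≫
          (mu.app (L.obj (R.obj G)) ≫ ρ.map (T.map (adj.counit.app G))) := by
        rw [k, Category.assoc, Category.assoc]
    _ = σ'.app (ρ.obj (R.obj G)) ≫ T'.map (lam.app (R.obj G) ≫ ρ.map (adj.counit.app G)) ≫
          mu.app G := by
        rw [← n3, T'.map_comp, Category.assoc]
    _ = (σ'.app (ρ.obj (R.obj G)) ≫ T'.map (L'.map ((thmate adj adj' lam).app G))) ≫
          T'.map (adj'.counit.app (ρ.obj G)) ≫ mu.app G := by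
        rw [← t1, T'.map_comp, Category.assoc, Category.assoc]
    _ = L'.map (T'.map ((thmate adj adj' lam).app G)) ≫
          (σ'.app (R'.obj (ρ.obj G)) ≫ T'.map (adj'.counit.app (ρ.obj G))) ≫ mu.app G := by
        rw [← n2, Category.assoc, Category.assoc]
    _ = L'.map (T'.map ((thmate adj adj' lam).app G)) ≫
          L'.map ((cmate adj' σ').app (ρ.obj G)) ≫
          (adj'.counit.app (T'.obj (ρ.obj G)) ≫ mu.app G) := by
        rw [← c2, Category.assoc]
    _ = _ := by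
        rw [← e1]

include σ' mu in
/-- consequence of the cube lemma: the restricted canonical map is an isomorphism -/
theorem isIso_map_cmate
    (K : ∀ X : D, L'.map (mu.app X) ≫ lam.app (T.obj X) ≫ ρ.map (σ.app X) =
      σ'.app (ρ.obj X) ≫ T'.map (lam.app X) ≫ mu.app (L.obj X)) (G : D)
    [∀ X : D, IsIso (mu.app X)] [∀ X : D, IsIso ((thmate adj adj' lam).app X)]
    [IsIso ((cmate adj' σ').app (ρ.obj G))] :
    IsIso (ρ.map ((cmate adj σ).app G)) := by
  have h := cube adj adj' σ σ' lam mu K G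
  have e : ρ.map ((cmate adj σ).app G) =
      inv (mu.app (R.obj G)) ≫ (T'.map ((thmate adj adj' lam).app G) ≫
        (cmate adj' σ').app (ρ.obj G) ≫ R'.map (mu.app G)) ≫
        inv ((thmate adj adj' lam).app (T.obj G)) := by
    rw [← h]
    simp
  rw [e]
  infer_instance

section naturality

variable {𝒜 : Type*} [Category 𝒜] {L₁ R₁ L₂ R₂ T₀ : 𝒜 ⥤ 𝒜}
  (adj₁ : L₁ ⊣ R₁) (adj₂ : L₂ ⊣ R₂) (α : L₂ ⟶ L₁)
  (σ₁ : T₀ ⋙ L₁ ⟶ L₁ ⋙ T₀) (σ₂ : T₀ ⋙ L₂ ⟶ L₂ ⋙ T₀)

/-- naturality of the canonical map in the module `F` -/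
theorem cmate_natural
    (hσ : ∀ X : 𝒜, α.app (T₀.obj X) ≫ σ₁.app X = σ₂.app X ≫ T₀.map (α.app X)) (G : 𝒜) :
    (cmate adj₁ σ₁).app G ≫ (conjugateEquiv adj₁ adj₂ α).app (T₀.obj G) =
      T₀.map ((conjugateEquiv adj₁ adj₂ α).app G) ≫ (cmate adj₂ σ₂).app G := by
  apply (adj₂.homEquiv _ _).symm.injective
  simp only [Adjunction.homEquiv_counit, Functor.map_comp, Category.assoc]
  have c1 := cmate_counit adj₁ σ₁ G
  have c2 := cmate_counit adj₂ σ₂ G
  have k1 := conjugateEquiv_counit adj₁ adj₂ α G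
  have k2 := conjugateEquiv_counit adj₁ adj₂ α (T₀.obj G)
  have n1 : L₂.map ((cmate adj₁ σ₁).app G) ≫ α.app (R₁.obj (T₀.obj G)) =
      α.app (T₀.obj (R₁.obj G)) ≫ L₁.map ((cmate adj₁ σ₁).app G) :=
    α.naturality ((cmate adj₁ σ₁).app G)
  have n2 : L₂.map (T₀.map ((conjugateEquiv adj₁ adj₂ α).app G)) ≫ σ₂.app (R₂.obj G) =
      σ₂.app (R₁.obj G) ≫ T₀.map (L₂.map ((conjugateEquiv adj₁ adj₂ α).app G)) :=
    σ₂.naturality ((conjugateEquiv adj₁ adj₂ α).app G)
  calc L₂.map ((cmate adj₁ σ₁).app G) ≫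
        L₂.map ((conjugateEquiv adj₁ adj₂ α).app (T₀.obj G)) ≫ adj₂.counit.app (T₀.obj G)
      = (L₂.map ((cmate adj₁ σ₁).app G) ≫ α.app (R₁.obj (T₀.obj G))) ≫
          adj₁.counit.app (T₀.obj G) := by rw [k2, Category.assoc]
    _ = α.app (T₀.obj (R₁.obj G)) ≫ σ₁.app (R₁.obj G) ≫ T₀.map (adj₁.counit.app G) := by
        rw [n1, Category.assoc, c1]
    _ = σ₂.app (R₁.obj G) ≫ T₀.map (α.app (R₁.obj G) ≫ adj₁.counit.app G) := by
        rw [← Category.assoc, hσ, Category.assoc, T₀.map_comp]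
    _ = (σ₂.app (R₁.obj G) ≫ T₀.map (L₂.map ((conjugateEquiv adj₁ adj₂ α).app G))) ≫
          T₀.map (adj₂.counit.app G) := by
        rw [← k1, T₀.map_comp, Category.assoc]
    _ = L₂.map (T₀.map ((conjugateEquiv adj₁ adj₂ α).app G)) ≫
          σ₂.app (R₂.obj G) ≫ T₀.map (adj₂.counit.app G) := by
        rw [← n2, Category.assoc]
    _ = _ := by rw [← c2]

end naturality

/-- the canonical map is an isomorphism when unit, counit and `σ` are -/
lemma isIso_cmate_of_isIso [IsIso adj.unit] [IsIso adj.counit] [∀ X, IsIso (σ.app X)] (G : D) :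
    IsIso ((cmate adj σ).app G) := by
  unfold cmate
  simp only [mateEquiv_apply, Functor.comp_obj, NatTrans.comp_app, Functor.rightUnitor_inv_app,
    Functor.whiskerLeft_app, Functor.associator_hom_app, Functor.associator_inv_app,
    Functor.whiskerRight_app, Functor.leftUnitor_hom_app, Functor.id_obj]
  infer_instance

section retract

variable {𝒜 : Type*} [Category 𝒜] [Preadditive 𝒜] {ι : Type*} [Fintype ι]
  {ΦP ΦU ΨP ΨU : 𝒜} (a : ι → (ΦP ⟶ ΦU)) (b : ι → (ΦU ⟶ ΦP))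
  (a' : ι → (ΨP ⟶ ΨU)) (b' : ι → (ΨU ⟶ ΨP)) (cP : ΦP ⟶ ΨP) (cU : ΦU ⟶ ΨU)

lemma isIso_of_sum_retract [IsIso cU]
    (h1 : ∀ i, cP ≫ a' i = a i ≫ cU) (h2 : ∀ i, cU ≫ b' i = b i ≫ cP)
    (s : ∑ i, a i ≫ b i = 𝟙 ΦP) (s' : ∑ i, a' i ≫ b' i = 𝟙 ΨP) : IsIso cP := by
  refine ⟨∑ i, a' i ≫ inv cU ≫ b i, ?_, ?_⟩
  · rw [Preadditive.comp_sum, ← s]
    refine Finset.sum_congr rfl (fun i _ => ?_)
    rw [← Category.assoc, h1, Category.assoc, IsIso.hom_inv_id_assoc]
  · rw [Preadditive.sum_comp, ← s']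
    refine Finset.sum_congr rfl (fun i _ => ?_)
    rw [Category.assoc, Category.assoc, ← h2, IsIso.inv_hom_id_assoc]

end retract

section kernel

variable {𝒜 : Type*} [Category 𝒜] [Abelian 𝒜] {A B C A' B' C' : 𝒜}
  (f : A ⟶ B) (g : B ⟶ C) (f' : A' ⟶ B') (g' : B' ⟶ C')

lemma isIso_of_kernel_comparison (w : f ≫ g = 0) (w' : f' ≫ g' = 0) [Mono f] [Mono f']
    (hex : (ShortComplex.mk f g w).Exact) (hex' : (ShortComplex.mk f' g' w').Exact)
    (a : A ⟶ A') (b : B ⟶ B') (c : C ⟶ C') (h1 : a ≫ f' = f ≫ b) (h2 : b ≫ g' = g ≫ c)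
    [IsIso b] [Mono c] : IsIso a := by
  haveI : Mono a := by
    haveI : Mono (a ≫ f') := by rw [h1]; infer_instance
    exact mono_of_mono a f'
  haveI : Epi a := by
    rw [epi_iff_surjective_up_to_refinements]
    intro T y
    have hz : (y ≫ f' ≫ inv b) ≫ g = 0 := by
      rw [← cancel_mono c]
      simp only [Category.assoc, zero_comp]
      rw [← h2, IsIso.inv_hom_id_assoc, w', comp_zero]
    obtain ⟨T', π, hπ, x, hx⟩ := hex.exact_up_to_refinements _ hz
    change π ≫ y ≫ f' ≫ inv b = x ≫ f at hx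
    refine ⟨T', π, hπ, x, ?_⟩
    rw [← cancel_mono f', Category.assoc, Category.assoc, h1, ← Category.assoc x, ← hx]
    simp
  exact isIso_of_mono_of_epi a

end kernel

end Groth.Agent.Lib.Helper4.MateCube
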