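import Mathlib

set_option linter.style.haveILetI false

namespace Groth.Agent.Helper4.Misc

universe u
open TensorProduct

theorem iInf_ker_rTensor_eq_bot_of_basis {A : Type u} [CommRing A]
    {M : Type u} [AddCommGroup M] [Module A M] {ι : Type u} (M' : ι → Type u)
    [∀ i, AddCommGroup (M' i)] [∀ i, Module A (M' i)] (u : ∀ i, M →ₗ[A] M' i)
    (hu : ⨅ i, LinearMap.ker (u i) = ⊥)
    (F : Type u) [AddCommGroup F] [Module A F] {κ : Type u} (b : Module.Basis κ A F) :
    ⨅ i, LinearMap.ker ((u i).rTensor F) = ⊥ := by
  classical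
  rw [eq_bot_iff]
  intro x hx
  rw [Submodule.mem_iInf] at hx
  rw [Submodule.mem_bot]
  apply (TensorProduct.equivFinsuppOfBasisRight (M := M) b).injective
  rw [map_zero]
  ext j
  rw [Finsupp.zero_apply]
  have hmem : TensorProduct.equivFinsuppOfBasisRight (M := M) b x j ∈ ⨅ i, LinearMap.ker (u i) := by
    rw [Submodule.mem_iInf]
    intro i
    rw [LinearMap.mem_ker]
    have hnat : ∀ y : M ⊗[A] F, u i (TensorProduct.equivFinsuppOfBasisRight (M := M) b y j) =
        TensorProduct.equivFinsuppOfBasisRight (M := M' i) b ((u i).rTensor F y) j := by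
      intro y
      induction y using TensorProduct.induction_on with
      | zero => simp
      | tmul m n =>
        rw [LinearMap.rTensor_tmul, TensorProduct.equivFinsuppOfBasisRight_apply_tmul_apply,
          TensorProduct.equivFinsuppOfBasisRight_apply_tmul_apply, map_smul]
      | add y z hy hz =>
        simp only [map_add, Finsupp.add_apply, hy, hz]
    rw [hnat, (LinearMap.mem_ker.mp (hx i)), map_zero, Finsupp.zero_apply]
  rw [hu] at hmem
  exact (Submodule.mem_bot A).mp hmem


end Groth.Agent.Helper4.Misc
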