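import Mathlib
import Groth.Prelude.Def_Desc
import Groth.Agent.Lib.Helper2.Desc.AffDescAlg

/-!
# Effectivity of descent for modules along a flat ring map with Mathlib descent data (S1161) (helper4)
-/

set_option backward.isDefEq.respectTransparency.types false
set_option synthInstance.maxHeartbeats 400000
set_option autoImplicit false
set_option linter.unusedSectionVars false
set_option linter.style.haveILetI false
set_option linter.unusedSimpArgs false
universe u v w
open CategoryTheory CategoryTheory.Limits Opposite Bicategory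
open ChangeOfRings

namespace Groth.Agent.Lib.Helper4.ModDesc1
noncomputable section

abbrev F := Desc.ringModPF.{u}

/-- pure tensors in an extension of scalars, with the right type -/
def tm {A B : CommRingCat.{u}} (f : A ⟶ B) (N : ModuleCat.{u} A) (b : B) (n : N) :
    (ModuleCat.extendScalars f.hom).obj N := b ⊗ₜ[A, f.hom] n

lemma smul_tm {A B : CommRingCat.{u}} (f : A ⟶ B) (N : ModuleCat.{u} A) (b' b : B) (n : N) :
    b' • tm f N b n = tm f N (b' * b) n := rfl

lemma tm_eq_smul {A B : CommRingCat.{u}} (f : A ⟶ B) (N : ModuleCat.{u} A) (b : B) (n : N) :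
    tm f N b n = b • tm f N 1 n := by rw [smul_tm, mul_one]

lemma tm_add {A B : CommRingCat.{u}} (f : A ⟶ B) (N : ModuleCat.{u} A) (b : B) (n n' : N) :
    tm f N b (n + n') = tm f N b n + tm f N b n' := TensorProduct.tmul_add _ _ _

lemma add_tm {A B : CommRingCat.{u}} (f : A ⟶ B) (N : ModuleCat.{u} A) (b b' : B) (n : N) :
    tm f N (b + b') n = tm f N b n + tm f N b' n := TensorProduct.add_tmul _ _ _

set_option backward.isDefEq.respectTransparency false in
lemma tm_smul {A B : CommRingCat.{u}} (f : A ⟶ B) (N : ModuleCat.{u} A) (b : B) (a : A) (n : N) :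
    tm f N b (a • n) = tm f N (b * f.hom a) n := by
  unfold tm
  rw [← TensorProduct.smul_tmul]
  congr 1
  exact mul_comm (f.hom a) b

lemma tm_induction {A B : CommRingCat.{u}} (f : A ⟶ B) (N : ModuleCat.{u} A)
    {P : (ModuleCat.extendScalars f.hom).obj N → Prop}
    (h0 : P 0) (h1 : ∀ b n, P (tm f N b n)) (h2 : ∀ x y, P x → P y → P (x + y)) : ∀ x, P x := by
  intro x
  induction x using TensorProduct.induction_on with
  | zero => exact h0
  | tmul b n => exact h1 b n
  | add x y hx hy => exact h2 x y hx hy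

lemma map_tm {A B : CommRingCat.{u}} (f : A ⟶ B) {N N' : ModuleCat.{u} A} (g : N ⟶ N') (b : B)
    (n : N) : ((ModuleCat.extendScalars f.hom).map g).hom (tm f N b n) = tm f N' b (g.hom n) := rfl

/-- the composition isomorphism, typed in `ModuleCat` -/
def mcHom {A B C : CommRingCat.{u}} (φ : A ⟶ B) (ψ : B ⟶ C) (χ : A ⟶ C)
    (h : φ ≫ ψ = χ) (N : ModuleCat.{u} A) :
    (ModuleCat.extendScalars χ.hom).obj N ⟶
      (ModuleCat.extendScalars ψ.hom).obj ((ModuleCat.extendScalars φ.hom).obj N) :=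
  (F.mapComp' φ.op.op.toLoc ψ.op.op.toLoc χ.op.op.toLoc (by rw [← h]; rfl)).hom.toNatTrans.app N

/-- the inverse composition isomorphism, typed in `ModuleCat` -/
def mcInv {A B C : CommRingCat.{u}} (φ : A ⟶ B) (ψ : B ⟶ C) (χ : A ⟶ C)
    (h : φ ≫ ψ = χ) (N : ModuleCat.{u} A) :
    (ModuleCat.extendScalars ψ.hom).obj ((ModuleCat.extendScalars φ.hom).obj N) ⟶
      (ModuleCat.extendScalars χ.hom).obj N :=
  (F.mapComp' φ.op.op.toLoc ψ.op.op.toLoc χ.op.op.toLoc (by rw [← h]; rfl)).inv.toNatTrans.app N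

lemma mcHom_mcInv {A B C : CommRingCat.{u}} (φ : A ⟶ B) (ψ : B ⟶ C) (χ : A ⟶ C)
    (h : φ ≫ ψ = χ) (N : ModuleCat.{u} A) : mcHom φ ψ χ h N ≫ mcInv φ ψ χ h N = 𝟙 _ :=
  Cat.Hom.hom_inv_id_toNatTrans_app (F.mapComp' φ.op.op.toLoc ψ.op.op.toLoc
    χ.op.op.toLoc (by rw [← h]; rfl)) N

lemma mcInv_mcHom {A B C : CommRingCat.{u}} (φ : A ⟶ B) (ψ : B ⟶ C) (χ : A ⟶ C)
    (h : φ ≫ ψ = χ) (N : ModuleCat.{u} A) : mcInv φ ψ χ h N ≫ mcHom φ ψ χ h N = 𝟙 _ :=
  Cat.Hom.inv_hom_id_toNatTrans_app (F.mapComp' φ.op.op.toLoc ψ.op.op.toLoc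
    χ.op.op.toLoc (by rw [← h]; rfl)) N

lemma mcHom_one_tm {A B C : CommRingCat.{u}} (φ : A ⟶ B) (ψ : B ⟶ C) (χ : A ⟶ C)
    (h : φ ≫ ψ = χ) (N : ModuleCat.{u} A) (n : N) :
    (mcHom φ ψ χ h N).hom (tm χ N 1 n) =
      tm ψ ((ModuleCat.extendScalars φ.hom).obj N) 1 (tm φ N 1 n) := by
  subst h
  have h1 : F.mapComp' φ.op.op.toLoc ψ.op.op.toLoc (φ ≫ ψ).op.op.toLoc rfl =
      F.mapComp φ.op.op.toLoc ψ.op.op.toLoc :=
    Pseudofunctor.mapComp'_eq_mapComp F φ.op.op.toLoc ψ.op.op.toLoc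
  unfold mcHom
  rw [h1]
  exact ModuleCat.extendScalarsComp_hom_app_one_tmul φ.hom ψ.hom N n

lemma mcHom_tm {A B C : CommRingCat.{u}} (φ : A ⟶ B) (ψ : B ⟶ C) (χ : A ⟶ C)
    (h : φ ≫ ψ = χ) (N : ModuleCat.{u} A) (b : B) (n : N) :
    (mcHom φ ψ χ h N).hom (tm χ N (ψ.hom b) n) =
      tm ψ ((ModuleCat.extendScalars φ.hom).obj N) 1 (tm φ N b n) := by
  rw [tm_eq_smul χ, map_smul, mcHom_one_tm φ ψ χ h N n, smul_tm, mul_one,
    tm_eq_smul φ N b n, tm_smul, one_mul]

lemma mcInv_tm {A B C : CommRingCat.{u}} (φ : A ⟶ B) (ψ : B ⟶ C) (χ : A ⟶ C)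
    (h : φ ≫ ψ = χ) (N : ModuleCat.{u} A) (b : B) (n : N) :
    (mcInv φ ψ χ h N).hom (tm ψ ((ModuleCat.extendScalars φ.hom).obj N) 1 (tm φ N b n)) =
      tm χ N (ψ.hom b) n := by
  rw [← mcHom_tm φ ψ χ h N b n]
  exact congrArg (fun ξ => ModuleCat.Hom.hom ξ (tm χ N (ψ.hom b) n)) (mcHom_mcInv φ ψ χ h N)

lemma comp3_apply {T : CommRingCat.{u}} {M₁ M₂ M₃ M₄ : ModuleCat.{u} T} (a : M₁ ⟶ M₂)
    (b : M₂ ⟶ M₃) (c : M₃ ⟶ M₄) (x : M₁) : (a ≫ b ≫ c).hom x = c.hom (b.hom (a.hom x)) := rfl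

/-- pushing an element of `T ⊗_{A,β} N` forward along `γ : T ⟶ T'` -/
def push {A : CommRingCat.{u}} {T T' : CommRingCat.{u}} (β : A ⟶ T) (γ : T ⟶ T') (β' : A ⟶ T')
    (h : β ≫ γ = β') (N : ModuleCat.{u} A) (x : (ModuleCat.extendScalars β.hom).obj N) :
    (ModuleCat.extendScalars β'.hom).obj N :=
  (mcInv β γ β' h N).hom (tm γ ((ModuleCat.extendScalars β.hom).obj N) 1 x)

lemma push_tm {A : CommRingCat.{u}} {T T' : CommRingCat.{u}} (β : A ⟶ T) (γ : T ⟶ T')
    (β' : A ⟶ T') (h : β ≫ γ = β') (N : ModuleCat.{u} A) (t : T) (n : N) :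
    push β γ β' h N (tm β N t n) = tm β' N (γ.hom t) n :=
  mcInv_tm β γ β' h N t n

lemma push_add {A : CommRingCat.{u}} {T T' : CommRingCat.{u}} (β : A ⟶ T) (γ : T ⟶ T')
    (β' : A ⟶ T') (h : β ≫ γ = β') (N : ModuleCat.{u} A)
    (x y : (ModuleCat.extendScalars β.hom).obj N) :
    push β γ β' h N (x + y) = push β γ β' h N x + push β γ β' h N y := by
  unfold push
  rw [tm_add, map_add]


section DD

open TensorProduct

variable {R S : Type u} [CommRing R] [CommRing S] [Algebra R S]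

variable (R S) in
abbrev fRS : (op (CommRingCat.of S) : CommRingCat.{u}ᵒᵖ) ⟶ op (CommRingCat.of R) :=
  (CommRingCat.ofHom (algebraMap R S)).op

variable (R S) in
abbrev DD := F.DescentData (fun _ : PUnit.{u + 1} => fRS R S)

variable (D : DD R S)

abbrev NN : ModuleCat.{u} S := D.obj PUnit.unit

/-- the comparison morphism for a pair of ring maps -/
def θ {T : CommRingCat.{u}} (q : CommRingCat.of R ⟶ T) (α β : CommRingCat.of S ⟶ T)
    (hα : CommRingCat.ofHom (algebraMap R S) ≫ α = q)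
    (hβ : CommRingCat.ofHom (algebraMap R S) ≫ β = q) :
    (ModuleCat.extendScalars α.hom).obj (NN D) ⟶ (ModuleCat.extendScalars β.hom).obj (NN D) :=
  D.hom q.op α.op β.op (by rw [← hα]; rfl) (by rw [← hβ]; rfl)

lemma theta_natural {T T' : CommRingCat.{u}} (q : CommRingCat.of R ⟶ T)
    (α β : CommRingCat.of S ⟶ T)
    (hα : CommRingCat.ofHom (algebraMap R S) ≫ α = q)
    (hβ : CommRingCat.ofHom (algebraMap R S) ≫ β = q)
    (γ : T ⟶ T') (q' : CommRingCat.of R ⟶ T') (α' β' : CommRingCat.of S ⟶ T')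
    (hq' : q ≫ γ = q') (hα' : α ≫ γ = α') (hβ' : β ≫ γ = β') (n : NN D) :
    (θ D q' α' β' (by rw [← hα', ← hq', ← hα, Category.assoc])
        (by rw [← hβ', ← hq', ← hβ, Category.assoc])).hom (tm α' (NN D) 1 n) =
    push β γ β' hβ' (NN D) ((θ D q α β hα hβ).hom (tm α (NN D) 1 n)) := by
  have h := D.pullHom_hom (i₁ := PUnit.unit) (i₂ := PUnit.unit) γ.op q.op q'.op
    (by rw [← hq']; rfl) α.op β.op (by rw [← hα]; rfl)
    (by rw [← hβ]; rfl) α'.op β'.op (by rw [← hα']; rfl) (by rw [← hβ']; rfl)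
  unfold θ
  rw [← h]
  dsimp only [Pseudofunctor.LocallyDiscreteOpToCat.pullHom]
  refine (comp3_apply _ _ _ _).trans ?_
  erw [mcHom_one_tm α γ α' hα' (NN D) n]
  rfl

lemma theta_self {T : CommRingCat.{u}} (q : CommRingCat.of R ⟶ T) (α : CommRingCat.of S ⟶ T)
    (hα : CommRingCat.ofHom (algebraMap R S) ≫ α = q) : θ D q α α hα hα = 𝟙 _ :=
  D.hom_self (i := PUnit.unit) q.op α.op (by rw [← hα]; rfl)

lemma theta_comp {T : CommRingCat.{u}} (q : CommRingCat.of R ⟶ T)
    (α β γ : CommRingCat.of S ⟶ T)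
    (hα : CommRingCat.ofHom (algebraMap R S) ≫ α = q)
    (hβ : CommRingCat.ofHom (algebraMap R S) ≫ β = q)
    (hγ : CommRingCat.ofHom (algebraMap R S) ≫ γ = q) :
    θ D q α β hα hβ ≫ θ D q β γ hβ hγ = θ D q α γ hα hγ :=
  D.hom_comp (i₁ := PUnit.unit) (i₂ := PUnit.unit) (i₃ := PUnit.unit) q.op α.op β.op γ.op
    (by rw [← hα]; rfl) (by rw [← hβ]; rfl) (by rw [← hγ]; rfl)

/-! ### the universal pair -/

variable (R S) in
abbrev T₂ : CommRingCat.{u} := CommRingCat.of (S ⊗[R] S)

variable (R S) in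
abbrev i₁ : CommRingCat.of S ⟶ T₂ R S :=
  CommRingCat.ofHom (Algebra.TensorProduct.includeLeftRingHom)

variable (R S) in
abbrev i₂ : CommRingCat.of S ⟶ T₂ R S :=
  CommRingCat.ofHom (Algebra.TensorProduct.includeRight (R := R) (A := S) (B := S)).toRingHom

variable (R S) in
abbrev q₂ : CommRingCat.of R ⟶ T₂ R S := CommRingCat.ofHom (algebraMap R (S ⊗[R] S))

lemma hi₁ : CommRingCat.ofHom (algebraMap R S) ≫ i₁ R S = q₂ R S := by
  ext r
  simp [Algebra.TensorProduct.algebraMap_apply]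

lemma hi₂ : CommRingCat.ofHom (algebraMap R S) ≫ i₂ R S = q₂ R S := by
  ext r
  exact (Algebra.TensorProduct.includeRight (R := R) (A := S) (B := S)).commutes r

/-- the `R`-module structure on an `S`-module -/
abbrev modR (N : ModuleCat.{u} S) : Module R N := Module.compHom N (algebraMap R S)

lemma isScalarTower_modR (N : ModuleCat.{u} S) :
    letI := modR (R := R) N
    IsScalarTower R S N :=
  letI := modR (R := R) N
  IsScalarTower.of_algebraMap_smul fun _ _ => rfl

section Sig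

variable (N : ModuleCat.{u} S)

local instance instModR : Module R N := Module.compHom N (algebraMap R S)

local instance instTowerR : IsScalarTower R S N :=
  IsScalarTower.of_algebraMap_smul fun _ _ => rfl

lemma algebraMap_smul' (r : R) (n : N) : r • n = algebraMap R S r • n := rfl

/-- `s ⊗ n ↦ α s ⊗ n` -/
def σ {T : CommRingCat.{u}} (α β : CommRingCat.of S ⟶ T)
    (h : CommRingCat.ofHom (algebraMap R S) ≫ α = CommRingCat.ofHom (algebraMap R S) ≫ β) :
    S ⊗[R] N →+ (ModuleCat.extendScalars β.hom).obj N :=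
  TensorProduct.liftAddHom
    (AddMonoidHom.mk' (fun s => AddMonoidHom.mk' (fun n => tm β N (α.hom s) n)
      (fun n n' => tm_add β N _ n n'))
      (fun s s' => by
        ext n
        change tm β N (α.hom (s + s')) n = tm β N (α.hom s) n + tm β N (α.hom s') n
        rw [map_add, add_tm]))
    (fun r s n => by
      change tm β N (α.hom (r • s)) n = tm β N (α.hom s) (r • n)
      rw [algebraMap_smul', tm_smul, Algebra.smul_def, map_mul, mul_comm]
      congr 2
      have := congrArg (fun ψ => ψ.hom r) h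
      exact this)

lemma σ_tmul {T : CommRingCat.{u}} (α β : CommRingCat.of S ⟶ T)
    (h : CommRingCat.ofHom (algebraMap R S) ≫ α = CommRingCat.ofHom (algebraMap R S) ≫ β)
    (s : S) (n : N) : σ N α β h (s ⊗ₜ[R] n) = tm β N (α.hom s) n := rfl

/-- `s' ↦ s' • n` as an `R`-linear map -/
def ψn (n : N) : S →ₗ[R] N := (LinearMap.toSpanSingleton S N n).restrictScalars R

lemma ψn_apply (n : N) (s : S) : ψn (R := R) N n s = s • n := rfl

lemma ψn_add (n n' : N) : ψn (R := R) N (n + n') = ψn N n + ψn N n' := by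
  ext s
  simp [ψn_apply, smul_add]

/-- `(s ⊗ s') ⊗ n ↦ s ⊗ s' n` -/
def ε₂ : (ModuleCat.extendScalars (i₂ R S).hom).obj N →+ S ⊗[R] N :=
  TensorProduct.liftAddHom (R := S)
    (M := (ModuleCat.restrictScalars (i₂ R S).hom).obj (ModuleCat.of (T₂ R S) (T₂ R S))) (N := N)
    (AddMonoidHom.mk' (fun t => AddMonoidHom.mk' (fun n => LinearMap.lTensor S (ψn N n)
        (show S ⊗[R] S from t))
      (fun n n' => by rw [ψn_add, LinearMap.lTensor_add, LinearMap.add_apply]))
      (fun t t' => by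
        ext n
        exact map_add (LinearMap.lTensor S (ψn (R := R) N n)) _ _))
    (fun s₀ t n => by
      change LinearMap.lTensor S (ψn N n) ((1 ⊗ₜ[R] s₀ : S ⊗[R] S) * (show S ⊗[R] S from t)) =
        LinearMap.lTensor S (ψn N (s₀ • n)) (show S ⊗[R] S from t)
      induction (show S ⊗[R] S from t) using TensorProduct.induction_on with
      | zero => simp
      | tmul s s' =>
        rw [Algebra.TensorProduct.tmul_mul_tmul, LinearMap.lTensor_tmul, LinearMap.lTensor_tmul,
          ψn_apply, ψn_apply, one_mul, mul_comm, mul_smul]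
      | add x y hx hy => rw [mul_add, map_add, map_add, hx, hy])

lemma ε₂_tm (s s' : S) (n : N) :
    ε₂ (R := R) N (tm (i₂ R S) N (s ⊗ₜ[R] s') n) = s ⊗ₜ[R] (s' • n) := rfl

lemma ε₂_smul_left (s : S) (x : (ModuleCat.extendScalars (i₂ R S).hom).obj N) :
    ε₂ (R := R) N ((show (T₂ R S) from s ⊗ₜ[R] (1 : S)) • x) = s • ε₂ N x := by
  induction x using tm_induction with
  | h0 => rw [smul_zero, map_zero, smul_zero]
  | h1 t n =>
    rw [smul_tm]
    induction (show S ⊗[R] S from t) using TensorProduct.induction_on with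
    | zero =>
      rw [mul_zero]
      have : tm (i₂ R S) N (0 : S ⊗[R] S) n = 0 := TensorProduct.zero_tmul _ _
      rw [this, map_zero, smul_zero]
    | tmul s₁ s₂ =>
      rw [Algebra.TensorProduct.tmul_mul_tmul, ε₂_tm, ε₂_tm, one_mul, TensorProduct.smul_tmul',
        smul_eq_mul]
    | add x y hx hy =>
      rw [mul_add, add_tm, add_tm, map_add, map_add, hx, hy, smul_add]
  | h2 x y hx hy => rw [smul_add, map_add, map_add, hx, hy, smul_add]

lemma push_eq_σ_ε₂ {T : CommRingCat.{u}} (α β : CommRingCat.of S ⟶ T) (γ : T₂ R S ⟶ T)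
    (h₁ : i₁ R S ≫ γ = α) (h₂ : i₂ R S ≫ γ = β)
    (h : CommRingCat.ofHom (algebraMap R S) ≫ α = CommRingCat.ofHom (algebraMap R S) ≫ β)
    (x : (ModuleCat.extendScalars (i₂ R S).hom).obj N) :
    push (i₂ R S) γ β h₂ N x = σ N α β h (ε₂ N x) := by
  induction x using tm_induction with
  | h0 =>
    rw [map_zero, map_zero]
    unfold push
    have : tm γ ((ModuleCat.extendScalars (i₂ R S).hom).obj N) 1 0 = 0 :=
      TensorProduct.tmul_zero _ _
    rw [this, map_zero]
  | h1 t n =>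
    induction (show S ⊗[R] S from t) using TensorProduct.induction_on with
    | zero =>
      have : tm (i₂ R S) N (0 : S ⊗[R] S) n = 0 := TensorProduct.zero_tmul _ _
      rw [this, map_zero, map_zero]
      unfold push
      have : tm γ ((ModuleCat.extendScalars (i₂ R S).hom).obj N) 1 0 = 0 :=
        TensorProduct.tmul_zero _ _
      rw [this, map_zero]
    | tmul s s' =>
      rw [push_tm, ε₂_tm, σ_tmul, tm_smul]
      congr 1
      have e1 : (s ⊗ₜ[R] s' : S ⊗[R] S) = (i₁ R S).hom s * (i₂ R S).hom s' := by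
        change _ = (s ⊗ₜ[R] (1 : S)) * ((1 : S) ⊗ₜ[R] s')
        rw [Algebra.TensorProduct.tmul_mul_tmul, mul_one, one_mul]
      rw [e1, map_mul]
      have e2 : γ.hom ((i₁ R S).hom s) = α.hom s := congrArg (fun ψ => ψ.hom s) h₁
      have e3 : γ.hom ((i₂ R S).hom s') = β.hom s' := congrArg (fun ψ => ψ.hom s') h₂
      rw [e2, e3]
    | add x y hx hy =>
      rw [add_tm, push_add, map_add, map_add, hx, hy]
  | h2 x y hx hy => rw [push_add, map_add, map_add, hx, hy]

end Sig

/-! ### the coaction attached to a descent datum -/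

section Coact

local instance instModR' (N : ModuleCat.{u} S) : Module R N := Module.compHom N (algebraMap R S)

local instance instTowerR' (N : ModuleCat.{u} S) : IsScalarTower R S N :=
  IsScalarTower.of_algebraMap_smul fun _ _ => rfl

/-- the universal comparison evaluated on `1 ⊗ n` -/
def c₂ (n : NN D) : (ModuleCat.extendScalars (i₂ R S).hom).obj (NN D) :=
  (θ D (q₂ R S) (i₁ R S) (i₂ R S) hi₁ hi₂).hom (tm (i₁ R S) (NN D) 1 n)

lemma c₂_add (n n' : NN D) : c₂ D (n + n') = c₂ D n + c₂ D n' := by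
  unfold c₂
  rw [tm_add, map_add]

lemma c₂_smul (s : S) (n : NN D) :
    c₂ D (s • n) = (show (T₂ R S) from s ⊗ₜ[R] (1 : S)) • c₂ D n := by
  unfold c₂
  rw [tm_smul, one_mul, tm_eq_smul, map_smul]
  rfl

/-- the coaction -/
def coactD : NN D →ₗ[S] S ⊗[R] NN D where
  toFun n := ε₂ (NN D) (c₂ D n)
  map_add' n n' := by rw [c₂_add, map_add]
  map_smul' s n := by
    rw [c₂_smul, ε₂_smul_left]
    rfl

lemma coactD_apply (n : NN D) : coactD D n = ε₂ (NN D) (c₂ D n) := rfl

/-- the general comparison in terms of the coaction -/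
theorem theta_eq_σ {T : CommRingCat.{u}} (q : CommRingCat.of R ⟶ T)
    (α β : CommRingCat.of S ⟶ T)
    (hα : CommRingCat.ofHom (algebraMap R S) ≫ α = q)
    (hβ : CommRingCat.ofHom (algebraMap R S) ≫ β = q) (n : NN D) :
    (θ D q α β hα hβ).hom (tm α (NN D) 1 n) =
      σ (NN D) α β (hα.trans hβ.symm) (coactD D n) := by
  -- the map from the universal ring
  obtain ⟨γ, h₁, h₂⟩ : ∃ γ : T₂ R S ⟶ T, i₁ R S ≫ γ = α ∧ i₂ R S ≫ γ = β := by
    let c : PushoutCocone (CommRingCat.ofHom (algebraMap R S))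
        (CommRingCat.ofHom (algebraMap R S)) := PushoutCocone.mk α β (hα.trans hβ.symm)
    refine ⟨(CommRingCat.pushoutCoconeIsColimit R S S).desc c, ?_, ?_⟩
    · exact (CommRingCat.pushoutCoconeIsColimit R S S).fac c WalkingSpan.left
    · exact (CommRingCat.pushoutCoconeIsColimit R S S).fac c WalkingSpan.right
  have hq : q₂ R S ≫ γ = q := by
    rw [← hi₁, Category.assoc, h₁, hα]
  have h3 := theta_natural D (q₂ R S) (i₁ R S) (i₂ R S) hi₁ hi₂ γ q α β hq h₁ h₂ n
  rw [h3, coactD_apply]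
  exact push_eq_σ_ε₂ (NN D) α β γ h₁ h₂ (hα.trans hβ.symm) _

/-! ### counit -/

open Groth.Agent.Helper2.AffDesc

variable (S) in
/-- the identity of `S` as a morphism of `CommRingCat` -/
abbrev idS : CommRingCat.of S ⟶ CommRingCat.of S := 𝟙 _

/-- `s ⊗ n ↦ s • n` on the extension of scalars along the identity -/
def μN (N : ModuleCat.{u} S) :
    (ModuleCat.extendScalars (idS S).hom).obj N →+ N :=
  TensorProduct.liftAddHom (R := S)
    (M := (ModuleCat.restrictScalars (idS S).hom).obj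
      (ModuleCat.of (CommRingCat.of S) (CommRingCat.of S))) (N := N)
    (AddMonoidHom.mk' (fun s => AddMonoidHom.mk' (fun n => (show S from s) • n)
      (fun n n' => smul_add _ n n'))
      (fun s s' => by
        ext n
        exact add_smul (show S from s) (show S from s') n))
    (fun s₀ s n => by
      change (s₀ * (show S from s)) • n = (show S from s) • (s₀ • n)
      rw [mul_comm, mul_smul])

lemma μN_tm (N : ModuleCat.{u} S) (s : S) (n : N) :
    μN N (tm (idS S) N s n) = s • n := rfl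

lemma μN_σ (N : ModuleCat.{u} S) (x : S ⊗[R] N) :
    μN N (σ N (idS S) (idS S) rfl x) = eps R S N x := by
  induction x using TensorProduct.induction_on with
  | zero => simp
  | tmul s n =>
    rw [σ_tmul, eps_tmul]
    exact μN_tm N s n
  | add x y hx hy => rw [map_add, map_add, map_add, hx, hy]

theorem counit_coactD (n : NN D) : eps R S (NN D) (coactD D n) = n := by
  have h1 := theta_eq_σ D (CommRingCat.ofHom (algebraMap R S)) (idS S)
    (idS S) (Category.comp_id _) (Category.comp_id _) n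
  rw [theta_self] at h1
  have h2 := congrArg (μN (NN D)) h1
  rw [μN_σ] at h2
  rw [← h2]
  exact (one_smul S n)

/-! ### coassociativity -/

variable (R S) in
abbrev T₃ : CommRingCat.{u} := CommRingCat.of (S ⊗[R] (S ⊗[R] S))

variable (R S) in
abbrev k₃ : T₂ R S ⟶ T₃ R S :=
  CommRingCat.ofHom
    (Algebra.TensorProduct.includeRight (R := R) (A := S) (B := S ⊗[R] S)).toRingHom

variable (R S) in
abbrev j₁ : CommRingCat.of S ⟶ T₃ R S :=
  CommRingCat.ofHom (Algebra.TensorProduct.includeLeftRingHom)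

variable (R S) in
abbrev j₂ : CommRingCat.of S ⟶ T₃ R S := i₁ R S ≫ k₃ R S

variable (R S) in
abbrev j₃ : CommRingCat.of S ⟶ T₃ R S := i₂ R S ≫ k₃ R S

variable (R S) in
abbrev q₃ : CommRingCat.of R ⟶ T₃ R S :=
  CommRingCat.ofHom (algebraMap R (S ⊗[R] (S ⊗[R] S)))

lemma hj₁ : CommRingCat.ofHom (algebraMap R S) ≫ j₁ R S = q₃ R S := by
  ext r
  simp [Algebra.TensorProduct.algebraMap_apply]

lemma hk₃ : q₂ R S ≫ k₃ R S = q₃ R S := by
  ext r
  exact (Algebra.TensorProduct.includeRight (R := R) (A := S) (B := S ⊗[R] S)).commutes r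

lemma hj₂ : CommRingCat.ofHom (algebraMap R S) ≫ j₂ R S = q₃ R S := by
  rw [← Category.assoc, hi₁, hk₃]

lemma hj₃ : CommRingCat.ofHom (algebraMap R S) ≫ j₃ R S = q₃ R S := by
  rw [← Category.assoc, hi₂, hk₃]

lemma lT_ψn_mul (N : ModuleCat.{u} S) (s₀ : S) (n : N) (u : S ⊗[R] S) :
    LinearMap.lTensor S (ψn N n) ((1 ⊗ₜ[R] s₀ : S ⊗[R] S) * u) =
      LinearMap.lTensor S (ψn N (s₀ • n)) u := by
  induction u using TensorProduct.induction_on with
  | zero => simp
  | tmul s s' =>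
    rw [Algebra.TensorProduct.tmul_mul_tmul, LinearMap.lTensor_tmul, LinearMap.lTensor_tmul,
      ψn_apply, ψn_apply, one_mul, mul_comm, mul_smul]
  | add x y hx hy => rw [mul_add, map_add, map_add, hx, hy]

/-- `(s ⊗ (s' ⊗ s'')) ⊗ n ↦ s ⊗ (s' ⊗ s'' n)` -/
def ε₃ (N : ModuleCat.{u} S) :
    (ModuleCat.extendScalars (j₃ R S).hom).obj N →+ S ⊗[R] (S ⊗[R] N) :=
  TensorProduct.liftAddHom (R := S)
    (M := (ModuleCat.restrictScalars (j₃ R S).hom).obj (ModuleCat.of (T₃ R S) (T₃ R S))) (N := N)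
    (AddMonoidHom.mk' (fun t => AddMonoidHom.mk' (fun n =>
        LinearMap.lTensor S (LinearMap.lTensor S (ψn N n)) (show S ⊗[R] (S ⊗[R] S) from t))
      (fun n n' => by
        rw [ψn_add, LinearMap.lTensor_add, LinearMap.lTensor_add, LinearMap.add_apply]))
      (fun t t' => by
        ext n
        exact map_add (LinearMap.lTensor S (LinearMap.lTensor S (ψn (R := R) N n))) _ _))
    (fun s₀ t n => by
      change LinearMap.lTensor S (LinearMap.lTensor S (ψn N n))
          ((1 ⊗ₜ[R] (1 ⊗ₜ[R] s₀) : S ⊗[R] (S ⊗[R] S)) * (show S ⊗[R] (S ⊗[R] S) from t)) =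
        LinearMap.lTensor S (LinearMap.lTensor S (ψn N (s₀ • n)))
          (show S ⊗[R] (S ⊗[R] S) from t)
      induction (show S ⊗[R] (S ⊗[R] S) from t) using TensorProduct.induction_on with
      | zero => simp
      | tmul s u =>
        rw [Algebra.TensorProduct.tmul_mul_tmul, LinearMap.lTensor_tmul, LinearMap.lTensor_tmul,
          one_mul, lT_ψn_mul]
      | add x y hx hy => rw [mul_add, map_add, map_add, hx, hy])

lemma ε₃_tm (N : ModuleCat.{u} S) (s : S) (u : S ⊗[R] S) (n : N) :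
    ε₃ (R := R) N (tm (j₃ R S) N (s ⊗ₜ[R] u) n) = s ⊗ₜ[R] (LinearMap.lTensor S (ψn N n) u) := rfl

lemma ε₃_σ₁₃ (N : ModuleCat.{u} S) (x : S ⊗[R] N) :
    ε₃ (R := R) N (σ N (j₁ R S) (j₃ R S) (hj₁.trans hj₃.symm) x) =
      LinearMap.lTensor S (TensorProduct.mk R S N 1) x := by
  induction x using TensorProduct.induction_on with
  | zero => rw [map_zero, map_zero, map_zero]
  | tmul s n =>
    rw [σ_tmul]
    have e1 : (j₁ R S).hom s = (s ⊗ₜ[R] ((1 : S) ⊗ₜ[R] (1 : S)) : S ⊗[R] (S ⊗[R] S)) := rfl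
    rw [e1, ε₃_tm, LinearMap.lTensor_tmul, LinearMap.lTensor_tmul, ψn_apply, one_smul]
    rfl
  | add x y hx hy => rw [map_add, map_add, map_add, hx, hy]

lemma ε₃_σ₂₃ (N : ModuleCat.{u} S) (s : S) (y : S ⊗[R] N) :
    ε₃ (R := R) N ((j₁ R S).hom s • σ N (j₂ R S) (j₃ R S) (hj₂.trans hj₃.symm) y) =
      s ⊗ₜ[R] y := by
  induction y using TensorProduct.induction_on with
  | zero => rw [map_zero, smul_zero, map_zero, TensorProduct.tmul_zero]
  | tmul s' n =>
    rw [σ_tmul, smul_tm]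
    have e1 : (j₁ R S).hom s * (j₂ R S).hom s' =
        (s ⊗ₜ[R] (s' ⊗ₜ[R] (1 : S)) : S ⊗[R] (S ⊗[R] S)) := by
      change (s ⊗ₜ[R] ((1 : S) ⊗ₜ[R] (1 : S)) : S ⊗[R] (S ⊗[R] S)) *
        ((1 : S) ⊗ₜ[R] (s' ⊗ₜ[R] (1 : S))) = _
      rw [Algebra.TensorProduct.tmul_mul_tmul, Algebra.TensorProduct.tmul_mul_tmul, mul_one,
        one_mul, one_mul]
    rw [e1, ε₃_tm, LinearMap.lTensor_tmul, ψn_apply, one_smul]
  | add x y hx hy => rw [map_add, smul_add, map_add, hx, hy, TensorProduct.tmul_add]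

lemma ε₃_θ_σ₁₂ (x : S ⊗[R] NN D) :
    ε₃ (R := R) (NN D) ((θ D (q₃ R S) (j₂ R S) (j₃ R S) hj₂ hj₃).hom
      (σ (NN D) (j₁ R S) (j₂ R S) (hj₁.trans hj₂.symm) x)) =
      LinearMap.lTensor S ((coactD D).restrictScalars R) x := by
  induction x using TensorProduct.induction_on with
  | zero => rw [map_zero, map_zero, map_zero, map_zero]
  | tmul s n =>
    rw [σ_tmul, tm_eq_smul, map_smul, theta_eq_σ, ε₃_σ₂₃, LinearMap.lTensor_tmul]
    rfl
  | add x y hx hy => rw [map_add, map_add, map_add, map_add, hx, hy]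

theorem coassoc_coactD (n : NN D) :
    LinearMap.lTensor S ((coactD D).restrictScalars R) (coactD D n) =
      LinearMap.lTensor S (TensorProduct.mk R S (NN D) 1) (coactD D n) := by
  have h1 := theta_comp D (q₃ R S) (j₁ R S) (j₂ R S) (j₃ R S) hj₁ hj₂ hj₃
  have h2 := congrArg (fun ξ => ModuleCat.Hom.hom ξ (tm (j₁ R S) (NN D) 1 n)) h1
  change (θ D (q₃ R S) (j₂ R S) (j₃ R S) hj₂ hj₃).hom
    ((θ D (q₃ R S) (j₁ R S) (j₂ R S) hj₁ hj₂).hom (tm (j₁ R S) (NN D) 1 n)) = _ at h2
  rw [theta_eq_σ, theta_eq_σ] at h2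
  have h3 := congrArg (ε₃ (R := R) (NN D)) h2
  rw [ε₃_θ_σ₁₂, ε₃_σ₁₃] at h3
  exact h3

/-! ### the descended module -/

variable (R S) in
/-- the structure map as a morphism of `CommRingCat` -/
abbrev aRS : CommRingCat.of R ⟶ CommRingCat.of S := CommRingCat.ofHom (algebraMap R S)

/-- `s ⊗ m ↦ s ⊗ m` between the two models of the base change -/
def τ (M : ModuleCat.{u} R) : S ⊗[R] M →+ (ModuleCat.extendScalars (aRS R S).hom).obj M :=
  TensorProduct.liftAddHom
    (AddMonoidHom.mk' (fun s => AddMonoidHom.mk' (fun m => tm (aRS R S) M s m)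
      (fun m m' => tm_add (aRS R S) M _ m m'))
      (fun s s' => by
        ext m
        exact add_tm (aRS R S) M s s' m))
    (fun r s m => by
      change tm (aRS R S) M (r • s) m = tm (aRS R S) M s (r • m)
      rw [tm_smul, Algebra.smul_def, mul_comm]
      rfl)

lemma τ_tmul (M : ModuleCat.{u} R) (s : S) (m : M) : τ M (s ⊗ₜ[R] m) = tm (aRS R S) M s m := rfl

/-- the inverse of `τ` -/
def τ' (M : ModuleCat.{u} R) : (ModuleCat.extendScalars (aRS R S).hom).obj M →+ S ⊗[R] M :=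
  TensorProduct.liftAddHom (R := R)
    (M := (ModuleCat.restrictScalars (aRS R S).hom).obj
      (ModuleCat.of (CommRingCat.of S) (CommRingCat.of S))) (N := M)
    (AddMonoidHom.mk' (fun s => AddMonoidHom.mk' (fun m => (show S from s) ⊗ₜ[R] m)
      (fun m m' => TensorProduct.tmul_add _ m m'))
      (fun s s' => by
        ext m
        exact TensorProduct.add_tmul (show S from s) (show S from s') m))
    (fun r s m => by
      change (algebraMap R S r * (show S from s)) ⊗ₜ[R] m = (show S from s) ⊗ₜ[R] (r • m)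
      rw [← Algebra.smul_def, TensorProduct.smul_tmul])

lemma τ'_tm (M : ModuleCat.{u} R) (s : S) (m : M) : τ' M (tm (aRS R S) M s m) = s ⊗ₜ[R] m := rfl

lemma τ_τ' (M : ModuleCat.{u} R) (x : (ModuleCat.extendScalars (aRS R S).hom).obj M) :
    τ M (τ' M x) = x := by
  induction x using tm_induction with
  | h0 => rw [map_zero, map_zero]
  | h1 s m => rw [τ'_tm, τ_tmul]
  | h2 x y hx hy => rw [map_add, map_add, hx, hy]

/-- the descended module -/
abbrev MM : ModuleCat.{u} R := ModuleCat.of R (descended (coactD D))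

/-- the inclusion of the descended module -/
def inclM : MM D ⟶ (ModuleCat.restrictScalars (aRS R S).hom).obj (NN D) :=
  ModuleCat.ofHom (descended (coactD D)).subtype

/-- the comparison map `S ⊗ M ⟶ N` -/
def eHom : (ModuleCat.extendScalars (aRS R S).hom).obj (MM D) ⟶ NN D :=
  ModuleCat.ExtendRestrictScalarsAdj.HomEquiv.fromExtendScalars (aRS R S).hom (inclM D)

lemma eHom_tm (s : S) (m : MM D) :
    (eHom D).hom (tm (aRS R S) (MM D) s m) = s • (m : descended (coactD D)).1 := rfl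

lemma eHom_τ (x : S ⊗[R] (descended (coactD D))) :
    (eHom D).hom (τ (MM D) x) = (descended (coactD D)).subtype.liftBaseChange S x := by
  induction x using TensorProduct.induction_on with
  | zero => rw [map_zero, map_zero, map_zero]
  | tmul s m =>
    rw [τ_tmul, eHom_tm, LinearMap.liftBaseChange_tmul]
    rfl
  | add x y hx hy => rw [map_add, map_add, map_add, hx, hy]

section Eff

variable [Module.Flat R S]

lemma bijective_eHom : Function.Bijective (eHom D).hom := by
  have hb := bijective_liftBaseChange_descended (coactD D) (counit_coactD D) (coassoc_coactD D)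
  constructor
  · rw [injective_iff_map_eq_zero]
    intro x hx
    rw [← τ_τ' (MM D) x, eHom_τ] at hx
    have h0 : τ' (MM D) x = 0 := hb.1 (hx.trans (map_zero _).symm)
    rw [← τ_τ' (MM D) x, h0, map_zero]
  · intro n
    obtain ⟨y, hy⟩ := hb.2 n
    exact ⟨τ (MM D) y, (eHom_τ D y).trans hy⟩

instance isIso_eHom : IsIso (eHom D) :=
  (ConcreteCategory.isIso_iff_bijective (eHom D)).mpr (bijective_eHom D)

/-- the comparison isomorphism -/
def eIso : (ModuleCat.extendScalars (aRS R S).hom).obj (MM D) ≅ NN D := asIso (eHom D)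

lemma eIso_hom_tm (m : MM D) :
    (eIso D).hom.hom (tm (aRS R S) (MM D) 1 m) = (m : descended (coactD D)).1 := by
  change (eHom D).hom _ = _
  rw [eHom_tm, one_smul]

end Eff

end Coact

/-- morphisms out of a double extension of scalars are determined by the elements
`1 ⊗ (1 ⊗ m)` -/
lemma ext2 {A B C : CommRingCat.{u}} (φ : A ⟶ B) (ψ : B ⟶ C) (M : ModuleCat.{u} A)
    {X : ModuleCat.{u} C}
    (a b : (ModuleCat.extendScalars ψ.hom).obj ((ModuleCat.extendScalars φ.hom).obj M) ⟶ X)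
    (h : ∀ m : M, a.hom (tm ψ _ 1 (tm φ M 1 m)) = b.hom (tm ψ _ 1 (tm φ M 1 m))) : a = b := by
  apply ModuleCat.hom_ext
  apply LinearMap.ext
  intro x
  induction x using tm_induction with
  | h0 => rw [map_zero, map_zero]
  | h1 t y =>
    rw [tm_eq_smul, map_smul, map_smul]
    congr 1
    induction y using tm_induction with
    | h0 =>
      have : tm ψ ((ModuleCat.extendScalars φ.hom).obj M) 1 0 = 0 := TensorProduct.tmul_zero _ _
      rw [this, map_zero, map_zero]
    | h1 s m =>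
      rw [tm_eq_smul φ M s m, tm_smul, one_mul, tm_eq_smul, map_smul, map_smul, h]
    | h2 y y' hy hy' => rw [tm_add, map_add, map_add, hy, hy']
  | h2 x y hx hy => rw [map_add, map_add, hx, hy]

section Main

local instance instModR'' (N : ModuleCat.{u} S) : Module R N :=
  Module.compHom N (algebraMap R S)

local instance instTowerR'' (N : ModuleCat.{u} S) : IsScalarTower R S N :=
  IsScalarTower.of_algebraMap_smul fun _ _ => rfl

variable [Module.Flat R S]

open Groth.Agent.Helper2.AffDesc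

lemma comm_core {T : CommRingCat.{u}} (q : CommRingCat.of R ⟶ T) (α β : CommRingCat.of S ⟶ T)
    (hα : aRS R S ≫ α = q) (hβ : aRS R S ≫ β = q) :
    (ModuleCat.extendScalars α.hom).map (eIso D).hom ≫ θ D q α β hα hβ =
      (mcInv (aRS R S) α q hα (MM D) ≫ mcHom (aRS R S) β q hβ (MM D)) ≫
        (ModuleCat.extendScalars β.hom).map (eIso D).hom := by
  apply ext2
  intro m
  have hm : coactD D (m : descended (coactD D)).1 = 1 ⊗ₜ[R] (m : descended (coactD D)).1 := m.2
  have hL : ((ModuleCat.extendScalars α.hom).map (eIso D).hom ≫ θ D q α β hα hβ).hom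
      (tm α _ 1 (tm (aRS R S) (MM D) 1 m)) = tm β (NN D) 1 (m : descended (coactD D)).1 := by
    change (θ D q α β hα hβ).hom (((ModuleCat.extendScalars α.hom).map (eIso D).hom).hom
      (tm α _ 1 (tm (aRS R S) (MM D) 1 m))) = _
    rw [map_tm, eIso_hom_tm, theta_eq_σ, hm, σ_tmul, map_one]
  have hR : ((mcInv (aRS R S) α q hα (MM D) ≫ mcHom (aRS R S) β q hβ (MM D)) ≫
        (ModuleCat.extendScalars β.hom).map (eIso D).hom).hom
      (tm α _ 1 (tm (aRS R S) (MM D) 1 m)) = tm β (NN D) 1 (m : descended (coactD D)).1 := by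
    change ((ModuleCat.extendScalars β.hom).map (eIso D).hom).hom
      ((mcHom (aRS R S) β q hβ (MM D)).hom ((mcInv (aRS R S) α q hα (MM D)).hom
        (tm α _ 1 (tm (aRS R S) (MM D) 1 m)))) = _
    rw [mcInv_tm, map_one, mcHom_one_tm, map_tm, eIso_hom_tm]
  rw [hL, hR]

theorem main' :
    Nonempty ((F.toDescentData (fun _ : PUnit.{u + 1} => fRS R S)).obj
      (MM (R := R) (S := S) D) ≅ D) := by
  refine ⟨Pseudofunctor.DescentData.isoMk (fun _ => eIso D) ?_⟩
  intro Y q i₁ i₂ f₁ f₂ hf₁ hf₂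
  exact comm_core D q.unop f₁.unop f₂.unop (by rw [← hf₁]; rfl) (by rw [← hf₂]; rfl)

end Main

end DD

theorem main (R S : Type u) [CommRing R] [CommRing S] [Algebra R S]
    [Module.FaithfullyFlat R S] (D : Desc.ringModPF.{u}.DescentData (fun _ : PUnit.{u + 1} => (CommRingCat.ofHom (algebraMap R S)).op)) :
    ∃ M : ModuleCat.{u} R, Nonempty ((Desc.ringModPF.{u}.toDescentData (fun _ : PUnit.{u + 1} => (CommRingCat.ofHom (algebraMap R S)).op)).obj M ≅ D) :=
  ⟨MM (R := R) (S := S) D, main' (R := R) (S := S) D⟩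

end
end Groth.Agent.Lib.Helper4.ModDesc1
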