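import Mathlib
import Groth.Prelude.Def_Pi1
import Groth.Agent.Lib.Helper1.PureL
import Groth.Agent.Lib.Helper2.Desc.AffDescAlg

/-!
# Descent of modules along universally injective ring maps: Amitsur exactness, purity of the equalizer via character modules, effectivity (helper4)
-/

set_option backward.isDefEq.respectTransparency.types false
set_option synthInstance.maxHeartbeats 400000
set_option autoImplicit false
set_option linter.unusedSectionVars false
set_option linter.style.haveILetI false
set_option linter.unusedSimpArgs false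
universe u v w
open TensorProduct

namespace Groth.Agent.Lib.Helper4.PureDesc1
noncomputable section

open Groth.Agent.Helper2.AffDesc Groth.Agent.Helper1.PureL

variable {R S : Type u} [CommRing R] [CommRing S] [Algebra R S]

/-! ### exactness of the Amitsur complex in degree zero -/

theorem amitsur_exact (h : Pi1.UnivInjective R S) (M : Type u) [AddCommGroup M] [Module R M]
    (x : S ⊗[R] M)
    (hx : (1 : S) ⊗ₜ[R] x = LinearMap.lTensor S (TensorProduct.mk R S M 1) x) :
    ∃ m : M, (1 : S) ⊗ₜ[R] m = x := by
  let f : R →ₗ[R] S := Algebra.linearMap R S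
  let π : S →ₗ[R] S ⧸ LinearMap.range f := (LinearMap.range f).mkQ
  have hπ1 : π 1 = 0 := by
    rw [Submodule.mkQ_apply, Submodule.Quotient.mk_eq_zero]
    exact ⟨1, by simp [f]⟩
  -- apply `π ⊗ id` to the hypothesis
  have h1 : LinearMap.rTensor (S ⊗[R] M) π ((1 : S) ⊗ₜ[R] x) = 0 := by
    rw [LinearMap.rTensor_tmul, hπ1, TensorProduct.zero_tmul]
  have h2 : ∀ y : S ⊗[R] M, LinearMap.rTensor (S ⊗[R] M) π
      (LinearMap.lTensor S (TensorProduct.mk R S M 1) y) =
      LinearMap.lTensor (S ⧸ LinearMap.range f) (TensorProduct.mk R S M 1)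
        (LinearMap.rTensor M π y) := by
    intro y
    induction y using TensorProduct.induction_on with
    | zero => simp
    | tmul s m => simp
    | add y z hy hz => simp only [map_add, hy, hz]
  have h3 : LinearMap.lTensor (S ⧸ LinearMap.range f) (TensorProduct.mk R S M 1)
      (LinearMap.rTensor M π x) = 0 := by
    rw [← h2, ← hx, h1]
  -- injectivity from universal injectivity
  have hinj : Function.Injective
      (LinearMap.lTensor (S ⧸ LinearMap.range f) (TensorProduct.mk R S M 1)) := by
    have hc : ∀ y : (S ⧸ LinearMap.range f) ⊗[R] M,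
        TensorProduct.leftComm R (S ⧸ LinearMap.range f) S M
          (LinearMap.lTensor (S ⧸ LinearMap.range f) (TensorProduct.mk R S M 1) y) =
        (1 : S) ⊗ₜ[R] y := by
      intro y
      induction y using TensorProduct.induction_on with
      | zero => simp
      | tmul q m => simp
      | add y z hy hz => simp only [map_add, hy, hz, TensorProduct.tmul_add]
    intro y z hyz
    apply one_tmul_injective h ((S ⧸ LinearMap.range f) ⊗[R] M)
    change (1 : S) ⊗ₜ[R] y = (1 : S) ⊗ₜ[R] z
    rw [← hc, ← hc, hyz]
  have h4 : LinearMap.rTensor M π x = 0 := hinj (h3.trans (map_zero _).symm)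
  have hex : Function.Exact (LinearMap.rTensor M f) (LinearMap.rTensor M π) :=
    rTensor_exact M (LinearMap.exact_map_mkQ_range f) (Submodule.mkQ_surjective _)
  have key : ∀ y : R ⊗[R] M, (1 : S) ⊗ₜ[R] (TensorProduct.lid R M y) = LinearMap.rTensor M f y := by
    intro y
    induction y using TensorProduct.induction_on with
    | zero => simp
    | tmul r m =>
      simp only [TensorProduct.lid_tmul, LinearMap.rTensor_tmul, f, Algebra.linearMap_apply]
      rw [TensorProduct.tmul_smul, TensorProduct.smul_tmul', Algebra.smul_def, mul_one]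
    | add y z hy hz => simp only [map_add, hy, hz, TensorProduct.tmul_add]
  obtain ⟨y, hy⟩ := (hex x).mp h4
  exact ⟨TensorProduct.lid R M y, (key y).trans hy⟩

/-! ### purity from a splitting on character modules -/

section Pure

variable {N Q : Type u} [AddCommGroup N] [Module R N] [AddCommGroup Q] [Module R Q]

/-- a character vanishing on `ker d` factors through `d` -/
lemma exists_factor_character (d : N →ₗ[R] Q) (c : CharacterModule N)
    (hc : ∀ n, d n = 0 → c n = 0) : ∃ c₂ : CharacterModule Q, ∀ n, c₂ (d n) = c n := by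
  let K : Submodule R N := LinearMap.ker d
  let dbar : N ⧸ K →ₗ[R] Q := K.liftQ d le_rfl
  have hinj : Function.Injective dbar := by
    rw [← LinearMap.ker_eq_bot]
    exact Submodule.ker_liftQ_eq_bot _ _ _ le_rfl
  let cQ : CharacterModule (N ⧸ K) :=
    QuotientAddGroup.lift K.toAddSubgroup c (fun n hn => hc n hn)
  obtain ⟨c₂, hc₂⟩ := CharacterModule.dual_surjective_of_injective dbar hinj cQ
  refine ⟨c₂, fun n => ?_⟩
  have := congrArg (fun χ : CharacterModule (N ⧸ K) => χ (K.mkQ n)) hc₂
  exact this

variable (d : N →ₗ[R] Q) (M : Submodule R N) (hM : ∀ n, n ∈ M ↔ d n = 0)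
  (uu : CharacterModule N →ₗ[R] CharacterModule N)
  (tt : CharacterModule N →ₗ[R] CharacterModule Q)
  (hu1 : ∀ c n, d n = 0 → uu c n = c n)
  (hu2 : ∀ c : CharacterModule N, (∀ n, d n = 0 → c n = 0) → uu c = 0)
  (hu3 : ∀ c n, c n - uu c n = tt c (d n))

include hM hu1 hu2 in
/-- a linear section of the restriction of characters -/
lemma exists_section_dual : ∃ ss : CharacterModule M →ₗ[R] CharacterModule N,
    ∀ (c : CharacterModule M) (k : M), ss c k = c k := by
  have hsurj : Function.Surjective (CharacterModule.dual M.subtype) :=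
    CharacterModule.dual_surjective_of_injective M.subtype M.injective_subtype
  let ext : CharacterModule M → CharacterModule N := Function.surjInv hsurj
  have hext : ∀ (c : CharacterModule M) (k : M), ext c k = c k := by
    intro c k
    have := congrArg (fun χ : CharacterModule M => χ k) (Function.surjInv_eq hsurj c)
    exact this
  refine ⟨{ toFun := fun c => uu (ext c), map_add' := ?_, map_smul' := ?_ }, ?_⟩
  · intro c c'
    rw [← sub_eq_zero, ← map_add, ← map_sub]
    apply hu2
    intro n hn
    have hk := hext (c + c') ⟨n, (hM n).mpr hn⟩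
    have hk1 := hext c ⟨n, (hM n).mpr hn⟩
    have hk2 := hext c' ⟨n, (hM n).mpr hn⟩
    change ext (c + c') n - (ext c n + ext c' n) = 0
    rw [show ext (c + c') n = (c + c') ⟨n, (hM n).mpr hn⟩ from hk,
      show ext c n = c ⟨n, (hM n).mpr hn⟩ from hk1, show ext c' n = c' ⟨n, (hM n).mpr hn⟩ from hk2]
    exact sub_self _
  · intro r c
    rw [RingHom.id_apply, ← sub_eq_zero, ← map_smul, ← map_sub]
    apply hu2
    intro n hn
    have hk := hext (r • c) ⟨n, (hM n).mpr hn⟩
    have hk1 := hext c ⟨r • n, M.smul_mem r ((hM n).mpr hn)⟩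
    change ext (r • c) n - ext c (r • n) = 0
    rw [show ext (r • c) n = (r • c) ⟨n, (hM n).mpr hn⟩ from hk,
      show ext c (r • n) = c ⟨r • n, M.smul_mem r ((hM n).mpr hn)⟩ from hk1]
    exact sub_self _
  · intro c k
    change uu (ext c) (k : N) = c k
    rw [hu1 _ _ ((hM _).mp k.2)]
    exact hext c k

include hM hu1 hu2 in
theorem lTensor_subtype_injective (P : Type u) [AddCommGroup P] [Module R P] :
    Function.Injective (LinearMap.lTensor P M.subtype) := by
  obtain ⟨ss, hss⟩ := exists_section_dual d M hM uu hu1 hu2
  rw [injective_iff_map_eq_zero]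
  intro z hz
  apply CharacterModule.eq_zero_of_character_apply
  intro c
  let c' : CharacterModule (P ⊗[R] N) := CharacterModule.uncurry (ss ∘ₗ CharacterModule.curry c)
  have key : ∀ w : P ⊗[R] M, c' (LinearMap.lTensor P M.subtype w) = c w := by
    intro w
    induction w using TensorProduct.induction_on with
    | zero => simp
    | tmul p k =>
      rw [LinearMap.lTensor_tmul]
      exact hss _ k
    | add w w' hw hw' => rw [map_add, map_add, map_add, hw, hw']
  rw [← key, hz, map_zero]

include hM hu2 hu3 in
theorem mem_range_lTensor_subtype (P : Type u) [AddCommGroup P] [Module R P] (y : P ⊗[R] N)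
    (hy : LinearMap.lTensor P d y = 0) : y ∈ LinearMap.range (LinearMap.lTensor P M.subtype) := by
  by_contra hne
  let I : Submodule R (P ⊗[R] N) := LinearMap.range (LinearMap.lTensor P M.subtype)
  have hne' : I.mkQ y ≠ 0 := by
    rw [Submodule.mkQ_apply, Ne, Submodule.Quotient.mk_eq_zero]
    exact hne
  obtain ⟨cbar, hcbar⟩ := CharacterModule.exists_character_apply_ne_zero_of_ne_zero hne'
  let c : CharacterModule (P ⊗[R] N) := CharacterModule.dual I.mkQ cbar
  have hcI : ∀ w ∈ I, c w = 0 := by
    intro w hw
    change cbar (I.mkQ w) = 0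
    rw [Submodule.mkQ_apply, (Submodule.Quotient.mk_eq_zero I).mpr hw, map_zero]
  have hcur : ∀ p : P, uu (CharacterModule.curry c p) = 0 := by
    intro p
    apply hu2
    intro n hn
    change c (p ⊗ₜ[R] n) = 0
    apply hcI
    exact ⟨p ⊗ₜ[R] ⟨n, (hM n).mpr hn⟩, rfl⟩
  let c'' : CharacterModule (P ⊗[R] Q) := CharacterModule.uncurry (tt ∘ₗ CharacterModule.curry c)
  have key : ∀ w : P ⊗[R] N, c'' (LinearMap.lTensor P d w) = c w := by
    intro w
    induction w using TensorProduct.induction_on with
    | zero => simp
    | tmul p n =>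
      rw [LinearMap.lTensor_tmul]
      change tt (CharacterModule.curry c p) (d n) = c (p ⊗ₜ[R] n)
      rw [← hu3, hcur p]
      change CharacterModule.curry c p n - 0 = _
      rw [sub_zero]
      rfl
    | add w w' hw hw' => rw [map_add, map_add, map_add, hw, hw']
  apply hcbar
  change c y = 0
  rw [← key, hy, map_zero]

end Pure

/-! ### the natural section on character modules -/

section Tau

theorem exists_tau (h : Pi1.UnivInjective R S) :
    ∃ τ : CharacterModule R →ₗ[R] CharacterModule S,
      ∀ (φ : CharacterModule R) (r : R), τ φ (algebraMap R S r) = φ r := by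
  let j : CharacterModule R ⊗[R] R →ₗ[R] CharacterModule R ⊗[R] S :=
    LinearMap.lTensor (CharacterModule R) (Algebra.linearMap R S)
  have hj : Function.Injective j := h (CharacterModule R)
  let c₀ : CharacterModule (CharacterModule R ⊗[R] R) :=
    CharacterModule.uncurry (LinearMap.id : CharacterModule R →ₗ[R] CharacterModule R)
  obtain ⟨c₁, hc₁⟩ := CharacterModule.dual_surjective_of_injective j hj c₀
  refine ⟨CharacterModule.curry c₁, fun φ r => ?_⟩
  have := congrArg (fun χ : CharacterModule (CharacterModule R ⊗[R] R) => χ (φ ⊗ₜ[R] r)) hc₁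
  exact this

variable (τ : CharacterModule R →ₗ[R] CharacterModule S)

/-- `c ↦ (x ↦ (r ↦ c (r • x)))` -/
def hat (X : Type u) [AddCommGroup X] [Module R X] :
    CharacterModule X →ₗ[R] (X →ₗ[R] CharacterModule R) :=
  CharacterModule.curry ∘ₗ CharacterModule.dual (TensorProduct.rid R X).toLinearMap

lemma hat_apply (X : Type u) [AddCommGroup X] [Module R X] (c : CharacterModule X) (x : X)
    (r : R) : hat X c x r = c (r • x) := by
  change c (TensorProduct.rid R X (x ⊗ₜ[R] r)) = _
  rw [TensorProduct.rid_tmul]

/-- the natural map `C(X) → C(S ⊗ X)` -/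
def tX (X : Type u) [AddCommGroup X] [Module R X] :
    CharacterModule X →ₗ[R] CharacterModule (S ⊗[R] X) where
  toFun c := CharacterModule.dual (TensorProduct.comm R S X).toLinearMap
    (CharacterModule.uncurry (τ ∘ₗ hat X c))
  map_add' c c' := by rw [map_add, LinearMap.comp_add, map_add, map_add]
  map_smul' r c := by
    rw [map_smul, LinearMap.comp_smul, map_smul, map_smul]
    rfl

lemma tX_tmul (X : Type u) [AddCommGroup X] [Module R X] (c : CharacterModule X) (s : S)
    (x : X) : tX τ X c (s ⊗ₜ[R] x) = τ (hat X c x) s := rfl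

variable (hτ : ∀ (φ : CharacterModule R) (r : R), τ φ (algebraMap R S r) = φ r)

include hτ in
lemma tX_one_tmul (X : Type u) [AddCommGroup X] [Module R X] (c : CharacterModule X) (x : X) :
    tX τ X c ((1 : S) ⊗ₜ[R] x) = c x := by
  rw [tX_tmul, ← map_one (algebraMap R S), hτ, hat_apply, one_smul]

lemma tX_natural {X Y : Type u} [AddCommGroup X] [Module R X] [AddCommGroup Y] [Module R Y]
    (g : X →ₗ[R] Y) (c : CharacterModule Y) (w : S ⊗[R] X) :
    tX τ X (CharacterModule.dual g c) w = tX τ Y c (LinearMap.lTensor S g w) := by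
  induction w using TensorProduct.induction_on with
  | zero => simp
  | tmul s x =>
    rw [LinearMap.lTensor_tmul, tX_tmul, tX_tmul]
    congr 2
    ext r
    rw [hat_apply, hat_apply]
    change c (g (r • x)) = _
    rw [map_smul]
  | add w w' hw hw' => rw [map_add, map_add, map_add, hw, hw']

end Tau

/-! ### effectivity of descent along a universally injective ring map -/

section Main

variable {N : Type u} [AddCommGroup N] [Module R N] [Module S N] [IsScalarTower R S N]
variable (a : N →ₗ[S] S ⊗[R] N)

theorem bijective_liftBaseChange_descended_of_univInjective (h : Pi1.UnivInjective R S)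
    (hU : ∀ n, eps R S N (a n) = n)
    (hC : ∀ n, LinearMap.lTensor S (a.restrictScalars R) (a n) =
      LinearMap.lTensor S (TensorProduct.mk R S N 1) (a n)) :
    Function.Bijective ((descended a).subtype.liftBaseChange S) := by
  obtain ⟨τ, hτ⟩ := exists_tau h
  let f : N →ₗ[R] S ⊗[R] N := a.restrictScalars R
  let g : N →ₗ[R] S ⊗[R] N := TensorProduct.mk R S N 1
  let d : N →ₗ[R] S ⊗[R] N := f - g
  have hM : ∀ n, n ∈ descended a ↔ d n = 0 := by
    intro n
    rw [mem_descended]
    change a n = 1 ⊗ₜ[R] n ↔ a n - 1 ⊗ₜ[R] n = 0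
    rw [sub_eq_zero]
  let uu : CharacterModule N →ₗ[R] CharacterModule N := CharacterModule.dual f ∘ₗ tX τ N
  let tt : CharacterModule N →ₗ[R] CharacterModule (S ⊗[R] N) := - tX τ N
  have hu1 : ∀ c n, d n = 0 → uu c n = c n := by
    intro c n hn
    have hfg : f n = g n := sub_eq_zero.mp hn
    change tX τ N c (f n) = c n
    rw [hfg]
    exact tX_one_tmul τ hτ N c n
  have hu3 : ∀ c n, c n - uu c n = tt c (d n) := by
    intro c n
    change c n - tX τ N c (f n) = - (tX τ N c (f n - g n))
    rw [map_sub, neg_sub]
    congr 1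
    exact (tX_one_tmul τ hτ N c n).symm
  have hu2 : ∀ c : CharacterModule N, (∀ n, d n = 0 → c n = 0) → uu c = 0 := by
    intro c hc
    obtain ⟨c₂, hc₂⟩ := exists_factor_character d c hc
    have hc' : c = CharacterModule.dual f c₂ - CharacterModule.dual g c₂ := by
      ext n
      rw [← hc₂]
      change c₂ (f n - g n) = c₂ (f n) - c₂ (g n)
      rw [map_sub]
    ext n
    change tX τ N c (f n) = 0
    rw [hc', map_sub]
    change tX τ N (CharacterModule.dual f c₂) (f n) - tX τ N (CharacterModule.dual g c₂) (f n) = 0
    rw [tX_natural, tX_natural]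
    have := hC n
    change LinearMap.lTensor S f (f n) = LinearMap.lTensor S g (f n) at this
    rw [this]
    exact sub_self _
  have hP1 := lTensor_subtype_injective d (descended a) hM uu hu1 hu2 S
  have hP2 := mem_range_lTensor_subtype d (descended a) hM uu tt hu2 hu3 S
  have hcomp : ∀ z : S ⊗[R] descended a, a ((descended a).subtype.liftBaseChange S z) =
      LinearMap.lTensor S (descended a).subtype z := by
    intro z
    induction z using TensorProduct.induction_on with
    | zero => simp
    | tmul s m =>
      rw [LinearMap.liftBaseChange_tmul, map_smul, LinearMap.lTensor_tmul]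
      have hm : a (m : N) = 1 ⊗ₜ[R] (m : N) := m.2
      change s • a (m : N) = _
      rw [hm, TensorProduct.smul_tmul', smul_eq_mul, mul_one]
      rfl
    | add z z' hz hz' => simp only [map_add, hz, hz']
  constructor
  · rw [injective_iff_map_eq_zero]
    intro z hz
    apply hP1
    rw [map_zero, ← hcomp, hz, map_zero]
  · intro n
    have hy : LinearMap.lTensor S d (a n) = 0 := by
      change LinearMap.lTensor S (f - g) (a n) = 0
      rw [LinearMap.lTensor_sub, LinearMap.sub_apply]
      have := hC n
      change LinearMap.lTensor S f (a n) = LinearMap.lTensor S g (a n) at this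
      rw [this, sub_self]
    obtain ⟨z, hz⟩ := hP2 (a n) hy
    refine ⟨z, ?_⟩
    have h1 := hcomp z
    rw [hz] at h1
    have h2 := congrArg (eps R S N) h1
    rw [hU, hU] at h2
    exact h2

end Main

end
end Groth.Agent.Lib.Helper4.PureDesc1
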