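import Mathlib
import Groth.Prelude.Def_Desc
import Groth.Prelude.Def_Pi1
import Groth.Agent.Lib.Helper4.ModDesc1
import Groth.Agent.Lib.Helper4.PureDesc1

/-!
# Descent data for modules: faithfulness, canonical datum, naturality of the coaction (for S1160) (helper4)
-/

set_option backward.isDefEq.respectTransparency.types false
set_option synthInstance.maxHeartbeats 400000
set_option autoImplicit false
set_option linter.unusedSectionVars false
set_option linter.style.haveILetI false
set_option linter.unusedSimpArgs false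
universe u v w
open CategoryTheory CategoryTheory.Limits Opposite Bicategory
open ChangeOfRings
open Groth.Agent.Lib.Helper4.ModDesc1 Groth.Agent.Lib.Helper4.PureDesc1
open Groth.Agent.Helper2.AffDesc Groth.Agent.Helper1.PureL

namespace Groth.Agent.Lib.Helper4.ModDesc2a
noncomputable section

open TensorProduct

variable {R S : Type u} [CommRing R] [CommRing S] [Algebra R S]

local instance instModRN (N : ModuleCat.{u} S) : Module R N :=
  Module.compHom N (algebraMap R S)

local instance instTowerRN (N : ModuleCat.{u} S) : IsScalarTower R S N :=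
  IsScalarTower.of_algebraMap_smul fun _ _ => rfl

/-! ### essential surjectivity from bijectivity of the comparison map -/

section Eff

variable (D : DD R S)
  (hb : Function.Bijective ((descended (coactD D)).subtype.liftBaseChange S))

include hb in
lemma bijective_eHom' : Function.Bijective (eHom D).hom := by
  constructor
  · rw [injective_iff_map_eq_zero]
    intro x hx
    rw [← τ_τ' (MM D) x, eHom_τ] at hx
    have h0 : τ' (MM D) x = 0 := hb.1 (hx.trans (map_zero _).symm)
    rw [← τ_τ' (MM D) x, h0, map_zero]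
  · intro n
    obtain ⟨y, hy⟩ := hb.2 n
    exact ⟨τ (MM D) y, (eHom_τ D y).trans hy⟩

include hb in
lemma isIso_eHom' : IsIso (eHom D) :=
  (ConcreteCategory.isIso_iff_bijective (eHom D)).mpr (bijective_eHom' D hb)

/-- the comparison isomorphism -/
def eIso' : (ModuleCat.extendScalars (aRS R S).hom).obj (MM D) ≅ NN D :=
  haveI := isIso_eHom' D hb
  asIso (eHom D)

lemma eIso'_hom_tm (m : MM D) :
    (eIso' D hb).hom.hom (tm (aRS R S) (MM D) 1 m) = (m : descended (coactD D)).1 := by
  change (eHom D).hom _ = _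
  rw [eHom_tm, one_smul]

lemma comm_core' {T : CommRingCat.{u}} (q : CommRingCat.of R ⟶ T) (α β : CommRingCat.of S ⟶ T)
    (hα : aRS R S ≫ α = q) (hβ : aRS R S ≫ β = q) :
    (ModuleCat.extendScalars α.hom).map (eIso' D hb).hom ≫ θ D q α β hα hβ =
      (mcInv (aRS R S) α q hα (MM D) ≫ mcHom (aRS R S) β q hβ (MM D)) ≫
        (ModuleCat.extendScalars β.hom).map (eIso' D hb).hom := by
  apply ext2
  intro m
  have hm : coactD D (m : descended (coactD D)).1 = 1 ⊗ₜ[R] (m : descended (coactD D)).1 := m.2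
  have hL : ((ModuleCat.extendScalars α.hom).map (eIso' D hb).hom ≫ θ D q α β hα hβ).hom
      (tm α _ 1 (tm (aRS R S) (MM D) 1 m)) = tm β (NN D) 1 (m : descended (coactD D)).1 := by
    change (θ D q α β hα hβ).hom (((ModuleCat.extendScalars α.hom).map (eIso' D hb).hom).hom
      (tm α _ 1 (tm (aRS R S) (MM D) 1 m))) = _
    rw [map_tm, eIso'_hom_tm, theta_eq_σ, hm, σ_tmul, map_one]
  have hR : ((mcInv (aRS R S) α q hα (MM D) ≫ mcHom (aRS R S) β q hβ (MM D)) ≫
        (ModuleCat.extendScalars β.hom).map (eIso' D hb).hom).hom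
      (tm α _ 1 (tm (aRS R S) (MM D) 1 m)) = tm β (NN D) 1 (m : descended (coactD D)).1 := by
    change ((ModuleCat.extendScalars β.hom).map (eIso' D hb).hom).hom
      ((mcHom (aRS R S) β q hβ (MM D)).hom ((mcInv (aRS R S) α q hα (MM D)).hom
        (tm α _ 1 (tm (aRS R S) (MM D) 1 m)))) = _
    rw [mcInv_tm, map_one, mcHom_one_tm, map_tm, eIso'_hom_tm]
  rw [hL, hR]

include hb in
theorem essSurj_core :
    Nonempty ((F.toDescentData (fun _ : PUnit.{u + 1} => fRS R S)).obj
      (MM (R := R) (S := S) D) ≅ D) := by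
  refine ⟨Pseudofunctor.DescentData.isoMk (fun _ => eIso' D hb) ?_⟩
  intro Y q i₁ i₂ f₁ f₂ hf₁ hf₂
  exact comm_core' D hb q.unop f₁.unop f₂.unop (by rw [← hf₁]; rfl) (by rw [← hf₂]; rfl)

end Eff

/-! ### faithfulness -/

section FF

variable (R S) in
/-- the functor to descent data -/
abbrev GG := F.toDescentData (fun _ : PUnit.{u + 1} => fRS R S)

lemma tm_one_injective (h : Pi1.UnivInjective R S) (M : ModuleCat.{u} R) :
    Function.Injective (fun m : M => tm (aRS R S) M 1 m) := by
  intro m m' hmm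
  have h1 := congrArg (τ' M) hmm
  rw [τ'_tm, τ'_tm] at h1
  exact one_tmul_injective h M h1

lemma GG_map_hom {M M' : ModuleCat.{u} R} (φ : M ⟶ M') :
    ((GG R S).map φ).hom PUnit.unit = (ModuleCat.extendScalars (aRS R S).hom).map φ := rfl

theorem faithful_of_univInjective (h : Pi1.UnivInjective R S) : (GG R S).Faithful := by
  refine ⟨?_⟩
  intro (M : ModuleCat.{u} R) (M' : ModuleCat.{u} R) (φ : M ⟶ M') (φ' : M ⟶ M') hφ
  have h1 : (ModuleCat.extendScalars (aRS R S).hom).map φ =
      (ModuleCat.extendScalars (aRS R S).hom).map φ' :=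
    congrArg (fun ψ => Pseudofunctor.DescentData.Hom.hom ψ PUnit.unit) hφ
  apply ModuleCat.hom_ext
  apply LinearMap.ext
  intro m
  apply tm_one_injective h M'
  have h2 := congrArg (fun ξ => ModuleCat.Hom.hom ξ (tm (aRS R S) M 1 m)) h1
  exact h2

theorem univInjective_of_faithful [(GG R S).Faithful] : Pi1.UnivInjective R S := by
  intro P _ _
  rw [injective_iff_map_eq_zero]
  intro x hx
  have hx0 : x = (TensorProduct.rid R P x) ⊗ₜ[R] (1 : R) := by
    rw [← TensorProduct.rid_symm_apply, LinearEquiv.symm_apply_apply]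
  set p := TensorProduct.rid R P x with hp
  rw [hx0, LinearMap.lTensor_tmul, Algebra.linearMap_apply, map_one] at hx
  -- the morphism `r ↦ r • p`
  let φ : ModuleCat.of R R ⟶ ModuleCat.of R P :=
    ModuleCat.ofHom (LinearMap.toSpanSingleton R P p)
  have h0 : tm (aRS R S) (ModuleCat.of R P) 1 p = 0 := by
    have h1 : (1 : S) ⊗ₜ[R] p = 0 := by
      have := congrArg (TensorProduct.comm R P S) hx
      rw [TensorProduct.comm_tmul, map_zero] at this
      exact this
    have h2 := congrArg (τ (ModuleCat.of R P)) h1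
    rw [map_zero] at h2
    exact h2
  let φ0 : ModuleCat.of R R ⟶ ModuleCat.of R P := ModuleCat.ofHom 0
  have hmap : (GG R S).map φ = (GG R S).map φ0 := by
    apply Pseudofunctor.DescentData.hom_ext
    intro i
    change (ModuleCat.extendScalars (aRS R S).hom).map φ =
      (ModuleCat.extendScalars (aRS R S).hom).map φ0
    apply ModuleCat.hom_ext
    apply LinearMap.ext
    intro y
    induction y using tm_induction with
    | h0 => rw [map_zero, map_zero]
    | h1 s r =>
      rw [map_tm, map_tm]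
      change tm (aRS R S) (ModuleCat.of R P) s ((show R from r) • p) =
        tm (aRS R S) (ModuleCat.of R P) s 0
      rw [tm_smul, tm_eq_smul, h0, smul_zero]
      exact (TensorProduct.tmul_zero _ _).symm
    | h2 y y' hy hy' => rw [map_add, map_add, hy, hy']
  have hφ : φ = φ0 := (GG R S).map_injective hmap
  have hp0 : p = 0 := by
    have := congrArg (fun ξ => ModuleCat.Hom.hom ξ (1 : R)) hφ
    change (1 : R) • p = 0 at this
    rwa [one_smul] at this
  rw [hx0, hp0, TensorProduct.zero_tmul]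

end FF

/-! ### fullness -/

section Full

variable (R S) in
/-- the canonical descent datum -/
abbrev canD (M : ModuleCat.{u} R) : DD R S := (GG R S).obj M

variable (R S) in
/-- extension of scalars -/
abbrev NM (M : ModuleCat.{u} R) : ModuleCat.{u} S :=
  (ModuleCat.extendScalars (aRS R S).hom).obj M

lemma theta_can (M : ModuleCat.{u} R) {T : CommRingCat.{u}} (q : CommRingCat.of R ⟶ T)
    (α β : CommRingCat.of S ⟶ T) (hα : aRS R S ≫ α = q) (hβ : aRS R S ≫ β = q) :
    θ (canD R S M) q α β hα hβ = mcInv (aRS R S) α q hα M ≫ mcHom (aRS R S) β q hβ M := by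
  unfold θ mcInv mcHom
  exact Pseudofunctor.DescentData.ofObj_hom (F := F) (f := fun _ : PUnit.{u + 1} => fRS R S) M
    (op T) q.op PUnit.unit PUnit.unit α.op β.op _ _

lemma A_gen (M : ModuleCat.{u} R) {T : CommRingCat.{u}} (q : CommRingCat.of R ⟶ T)
    (α β : CommRingCat.of S ⟶ T) (hα : aRS R S ≫ α = q) (hβ : aRS R S ≫ β = q) (m : M) :
    (mcInv (aRS R S) α q hα M ≫ mcHom (aRS R S) β q hβ M).hom
      (tm α (NM R S M) 1 (tm (aRS R S) M 1 m)) =
      tm β (NM R S M) 1 (tm (aRS R S) M 1 m) := by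
  change (mcHom (aRS R S) β q hβ M).hom
      ((mcInv (aRS R S) α q hα M).hom
        (tm α (NM R S M) 1 (tm (aRS R S) M 1 m))) = _
  rw [mcInv_tm, map_one, mcHom_one_tm]

lemma theta_can_tm (M : ModuleCat.{u} R) {T : CommRingCat.{u}} (q : CommRingCat.of R ⟶ T)
    (α β : CommRingCat.of S ⟶ T) (hα : aRS R S ≫ α = q) (hβ : aRS R S ≫ β = q) (m : M) :
    (θ (canD R S M) q α β hα hβ).hom (tm α (NN (canD R S M)) 1 (tm (aRS R S) M 1 m)) =
      tm β (NN (canD R S M)) 1 (tm (aRS R S) M 1 m) := by
  rw [theta_can]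
  exact A_gen M q α β hα hβ m

lemma ε₂_σ (N : ModuleCat.{u} S) (x : S ⊗[R] N) :
    ε₂ N (σ N (i₁ R S) (i₂ R S) (hi₁.trans hi₂.symm) x) = x := by
  induction x using TensorProduct.induction_on with
  | zero => rw [map_zero, map_zero]
  | tmul s n =>
    rw [σ_tmul]
    have h := ε₂_tm (R := R) N s 1 n
    rw [one_smul] at h
    exact h
  | add x y hx hy => rw [map_add, map_add, hx, hy]

lemma coactD_can_one (M : ModuleCat.{u} R) (m : M) :
    coactD (canD R S M) (tm (aRS R S) M 1 m) = (1 : S) ⊗ₜ[R] (tm (aRS R S) M 1 m) := by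
  have h1 := theta_eq_σ (canD R S M) (q₂ R S) (i₁ R S) (i₂ R S) hi₁ hi₂ (tm (aRS R S) M 1 m)
  rw [theta_can_tm M (q₂ R S) (i₁ R S) (i₂ R S) hi₁ hi₂ m] at h1
  have h2 := congrArg (ε₂ (NN (canD R S M))) h1
  rw [ε₂_σ] at h2
  rw [← h2]
  have h := ε₂_tm (R := R) (NN (canD R S M)) 1 1 (tm (aRS R S) M 1 m)
  rw [one_smul] at h
  exact h

/-! naturality of the coaction -/

lemma map_σ {N N' : ModuleCat.{u} S} (ψ₀ : N ⟶ N') {T : CommRingCat.{u}}
    (α β : CommRingCat.of S ⟶ T)
    (h : CommRingCat.ofHom (algebraMap R S) ≫ α = CommRingCat.ofHom (algebraMap R S) ≫ β)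
    (x : S ⊗[R] N) :
    ((ModuleCat.extendScalars β.hom).map ψ₀).hom (σ N α β h x) =
      σ N' α β h (LinearMap.lTensor S (ψ₀.hom.restrictScalars R) x) := by
  induction x using TensorProduct.induction_on with
  | zero => rw [map_zero, map_zero, map_zero, map_zero]
  | tmul s n =>
    rw [σ_tmul, map_tm, LinearMap.lTensor_tmul, σ_tmul]
    rfl
  | add x y hx hy => rw [map_add, map_add, map_add, map_add, hx, hy]

/-- the underlying morphism of modules of a morphism of descent data -/
def hom0 {D D' : DD R S} (ψ : D ⟶ D') : NN D ⟶ NN D' := ψ.hom PUnit.unit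

lemma theta_comm {D D' : DD R S} (ψ : D ⟶ D') {T : CommRingCat.{u}} (q : CommRingCat.of R ⟶ T)
    (α β : CommRingCat.of S ⟶ T) (hα : aRS R S ≫ α = q) (hβ : aRS R S ≫ β = q) :
    (ModuleCat.extendScalars α.hom).map (hom0 ψ) ≫ θ D' q α β hα hβ =
      θ D q α β hα hβ ≫ (ModuleCat.extendScalars β.hom).map (hom0 ψ) :=
  ψ.comm q.op α.op β.op (by rw [← hα]; rfl) (by rw [← hβ]; rfl)

lemma theta_comm_apply {D D' : DD R S} (ψ : D ⟶ D') {T : CommRingCat.{u}}
    (q : CommRingCat.of R ⟶ T)
    (α β : CommRingCat.of S ⟶ T) (hα : aRS R S ≫ α = q) (hβ : aRS R S ≫ β = q) (n : NN D) :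
    (θ D' q α β hα hβ).hom (tm α (NN D') 1 ((hom0 ψ).hom n)) =
      ((ModuleCat.extendScalars β.hom).map (hom0 ψ)).hom
        ((θ D q α β hα hβ).hom (tm α (NN D) 1 n)) :=
  congrArg (fun ξ => ModuleCat.Hom.hom ξ (tm α (NN D) 1 n)) (theta_comm ψ q α β hα hβ)

lemma coactD_natural {D D' : DD R S} (ψ : D ⟶ D') (n : NN D) :
    coactD D' ((hom0 ψ).hom n) =
      LinearMap.lTensor S ((hom0 ψ).hom.restrictScalars R) (coactD D n) := by
  have h1 := theta_comm_apply ψ (q₂ R S) (i₁ R S) (i₂ R S) hi₁ hi₂ n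
  rw [theta_eq_σ, theta_eq_σ, map_σ] at h1
  have h2 := congrArg (ε₂ (NN D')) h1
  rw [ε₂_σ, ε₂_σ] at h2
  exact h2

end Full

end
end Groth.Agent.Lib.Helper4.ModDesc2a
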