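import Mathlib
import Groth.Prelude.Def_Desc
import Groth.Prelude.Def_Pi1
import Groth.Agent.Lib.Helper4.ModDesc2a

/-!
# Descent of modules along universally injective ring maps: fullness and the equivalence (S1160) (helper4)
-/

set_option backward.isDefEq.respectTransparency.types false
set_option synthInstance.maxHeartbeats 400000
set_option autoImplicit false
set_option linter.unusedSectionVars false
set_option linter.style.haveILetI false
set_option linter.unusedSimpArgs false
universe u v w
open CategoryTheory CategoryTheory.Limits Opposite Bicategory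
open ChangeOfRings
open Groth.Agent.Lib.Helper4.ModDesc1 Groth.Agent.Lib.Helper4.PureDesc1 Groth.Agent.Lib.Helper4.ModDesc2a
open Groth.Agent.Helper2.AffDesc Groth.Agent.Helper1.PureL

namespace Groth.Agent.Lib.Helper4.ModDesc2b
noncomputable section

open TensorProduct

variable {R S : Type u} [CommRing R] [CommRing S] [Algebra R S]

local instance instModRN' (N : ModuleCat.{u} S) : Module R N :=
  Module.compHom N (algebraMap R S)

local instance instTowerRN' (N : ModuleCat.{u} S) : IsScalarTower R S N :=
  IsScalarTower.of_algebraMap_smul fun _ _ => rfl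

/-! ### the descended module of the canonical datum -/

/-- pure tensors, typed in the canonical descent datum -/
def jm (M : ModuleCat.{u} R) (s : S) (m : M) : NN (canD R S M) := tm (aRS R S) M s m

lemma jm_eq_smul (M : ModuleCat.{u} R) (s : S) (m : M) : jm M s m = s • jm M 1 m :=
  tm_eq_smul _ _ _ _

lemma jm_add (M : ModuleCat.{u} R) (s : S) (m m' : M) : jm M s (m + m') = jm M s m + jm M s m' :=
  tm_add _ _ _ _ _

lemma jm_smul (M : ModuleCat.{u} R) (s : S) (r : R) (m : M) :
    jm M s (r • m) = jm M (s * algebraMap R S r) m :=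
  tm_smul _ _ _ _ _

lemma jm_induction (M : ModuleCat.{u} R) {P : NN (canD R S M) → Prop}
    (h0 : P 0) (h1 : ∀ s m, P (jm M s m)) (h2 : ∀ x y, P x → P y → P (x + y)) : ∀ x, P x :=
  tm_induction (aRS R S) M h0 h1 h2

lemma coactD_jm_one (M : ModuleCat.{u} R) (m : M) :
    coactD (canD R S M) (jm M 1 m) = (1 : S) ⊗ₜ[R] jm M 1 m := coactD_can_one M m

lemma coactD_jm (M : ModuleCat.{u} R) (s : S) (m : M) :
    coactD (canD R S M) (jm M s m) = s ⊗ₜ[R] jm M 1 m := by
  rw [jm_eq_smul, map_smul, coactD_jm_one, TensorProduct.smul_tmul', smul_eq_mul, mul_one]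

/-- `s ⊗ m ↦ s ⊗ m` as an `R`-linear map out of the canonical datum -/
def τ'ₗ (M : ModuleCat.{u} R) : NN (canD R S M) →ₗ[R] S ⊗[R] M where
  toFun y := τ' M y
  map_add' x y := map_add (τ' M) _ _
  map_smul' r y := by
    change τ' M (algebraMap R S r • y) = r • τ' M y
    induction y using jm_induction with
    | h0 => rw [smul_zero]; exact (map_zero (τ' M)).trans (smul_zero r).symm
    | h1 s m =>
      change τ' M (tm (aRS R S) M (algebraMap R S r * s) m) = r • τ' M (tm (aRS R S) M s m)
      rw [τ'_tm, τ'_tm, ← Algebra.smul_def, TensorProduct.smul_tmul']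
    | h2 y y' hy hy' =>
      rw [smul_add]
      refine (map_add (τ' M) _ _).trans ?_
      rw [hy, hy']
      refine Eq.trans ?_ (congrArg (fun z => r • z) (map_add (τ' M) _ _).symm)
      exact (smul_add r _ _).symm

lemma τ'ₗ_jm (M : ModuleCat.{u} R) (s : S) (m : M) : τ'ₗ M (jm M s m) = s ⊗ₜ[R] m := rfl

lemma τ_τ'ₗ (M : ModuleCat.{u} R) (y : NN (canD R S M)) : τ M (τ'ₗ M y) = y := τ_τ' M y

/-- the key compatibility for the canonical datum -/
lemma key_can (M : ModuleCat.{u} R) (y : NN (canD R S M)) :
    LinearMap.lTensor S (τ'ₗ M) (coactD (canD R S M) y) =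
      LinearMap.lTensor S (TensorProduct.mk R S M 1) (τ'ₗ M y) := by
  induction y using jm_induction with
  | h0 => rw [map_zero, map_zero, map_zero, map_zero]
  | h1 s m =>
    rw [coactD_jm, LinearMap.lTensor_tmul, τ'ₗ_jm, τ'ₗ_jm, LinearMap.lTensor_tmul]
    rfl
  | h2 y y' hy hy' => rw [map_add, map_add, map_add, map_add, hy, hy']

theorem exists_of_mem_descended_can (h : Pi1.UnivInjective R S) (M : ModuleCat.{u} R)
    (y : NN (canD R S M)) (hy : coactD (canD R S M) y = (1 : S) ⊗ₜ[R] y) :
    ∃ m : M, jm M 1 m = y := by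
  have h1 := key_can M y
  rw [hy, LinearMap.lTensor_tmul] at h1
  obtain ⟨m, hm⟩ := amitsur_exact h M (τ'ₗ M y) h1
  refine ⟨m, ?_⟩
  rw [← τ_τ'ₗ M y, ← hm]
  rfl

/-! ### fullness -/

/-- extension of scalars of a morphism, typed in the canonical data -/
def mapN {M M' : ModuleCat.{u} R} (φ : M ⟶ M') : NN (canD R S M) ⟶ NN (canD R S M') :=
  (ModuleCat.extendScalars (aRS R S).hom).map φ

lemma mapN_jm {M M' : ModuleCat.{u} R} (φ : M ⟶ M') (s : S) (m : M) :
    (mapN (S := S) φ).hom (jm M s m) = jm M' s (φ.hom m) := rfl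

theorem full_of_univInjective (h : Pi1.UnivInjective R S) : (GG R S).Full := by
  refine ⟨?_⟩
  intro (M : ModuleCat.{u} R) (M' : ModuleCat.{u} R) (ψ : canD R S M ⟶ canD R S M')
  have hex : ∀ m : M, ∃ m' : M', jm M' 1 m' = (hom0 ψ).hom (jm M 1 m) := by
    intro m
    apply exists_of_mem_descended_can h
    rw [coactD_natural, coactD_jm_one, LinearMap.lTensor_tmul]
    rfl
  choose φf hφf using hex
  have hinj : Function.Injective (fun m' : M' => jm M' 1 m') := tm_one_injective h M'
  let φ : M →ₗ[R] M' :=
    { toFun := φf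
      map_add' := fun m m' => by
        apply hinj
        change jm M' 1 (φf (m + m')) = jm M' 1 (φf m + φf m')
        rw [hφf, jm_add, jm_add, map_add, hφf, hφf]
      map_smul' := fun r m => by
        apply hinj
        change jm M' 1 (φf (r • m)) = jm M' 1 (r • φf m)
        rw [hφf, jm_smul, jm_smul, one_mul, jm_eq_smul M, map_smul, ← hφf, ← jm_eq_smul] }
  refine ⟨ModuleCat.ofHom φ, ?_⟩
  apply Pseudofunctor.DescentData.hom_ext
  intro i
  change mapN (ModuleCat.ofHom φ) = hom0 ψ
  apply ModuleCat.hom_ext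
  apply LinearMap.ext
  intro y
  induction y using jm_induction with
  | h0 => rw [map_zero, map_zero]
  | h1 s m =>
    calc (mapN (ModuleCat.ofHom φ)).hom (jm M s m) = jm M' s (φf m) := rfl
      _ = s • jm M' 1 (φf m) := jm_eq_smul M' s _
      _ = s • (hom0 ψ).hom (jm M 1 m) := by rw [hφf]
      _ = (hom0 ψ).hom (s • jm M 1 m) := (map_smul _ _ _).symm
      _ = (hom0 ψ).hom (jm M s m) := by rw [← jm_eq_smul M]
  | h2 y y' hy hy' => rw [map_add, map_add, hy, hy']

/-! ### the equivalence -/

theorem isEquivalence_of_univInjective (h : Pi1.UnivInjective R S) : (GG R S).IsEquivalence := by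
  haveI := faithful_of_univInjective h
  haveI := full_of_univInjective h
  haveI : (GG R S).EssSurj :=
    ⟨fun D => ⟨MM (R := R) (S := S) D, essSurj_core D
      (bijective_liftBaseChange_descended_of_univInjective (coactD D) h (counit_coactD D)
        (coassoc_coactD D))⟩⟩
  exact { }

theorem main (R S : Type u) [CommRing R] [CommRing S] [Algebra R S] :
    (Pi1.UnivInjective R S ↔ (Desc.ringModPF.{u}.toDescentData (fun _ : PUnit.{u + 1} => (CommRingCat.ofHom (algebraMap R S)).op)).IsEquivalence) ∧
    (Nonempty (Desc.ringModPF.{u}.toDescentData (fun _ : PUnit.{u + 1} => (CommRingCat.ofHom (algebraMap R S)).op)).FullyFaithful → Pi1.UnivInjective R S) := by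
  refine ⟨⟨isEquivalence_of_univInjective, fun hE => ?_⟩, fun ⟨hff⟩ => ?_⟩
  · haveI : (GG R S).IsEquivalence := hE
    exact univInjective_of_faithful
  · haveI : (GG R S).Faithful := hff.faithful
    exact univInjective_of_faithful

end
end Groth.Agent.Lib.Helper4.ModDesc2b
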