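import Mathlib
import Groth.Prelude.Def_Formal2
import Groth.Prelude.Def_Formal
import Groth.Prelude.Def_Wider
import Groth.Agent.Lib.Helper4.AffExist
import Groth.Agent.Lib.Helper4.ComplExt
import Groth.Agent.Lib.Helper3.SepFam1

/-!
# coherent formal modules on a punctured spectrum from module systems (S0841) (helper4) (helper4)
-/

set_option backward.isDefEq.respectTransparency.types false
set_option synthInstance.maxHeartbeats 400000
set_option autoImplicit false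
set_option linter.unusedSectionVars false
set_option linter.style.haveILetI false
set_option linter.unusedSimpArgs false
universe u v w
open CategoryTheory CategoryTheory.Limits AlgebraicGeometry TopologicalSpace Topology

namespace Groth.Agent.Lib.Helper4.ModSysPunct

open Opposite

section Alg

variable {A : Type u} [CommRing A] (h : A)
  {P P' Ph Ph' : Type u} [AddCommGroup P] [Module A P] [AddCommGroup P'] [Module A P']
  [AddCommGroup Ph] [Module A Ph] [AddCommGroup Ph'] [Module A Ph']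
  (lP : P →ₗ[A] Ph) (lP' : P' →ₗ[A] Ph')
  [IsLocalizedModule (Submonoid.powers h) lP] [IsLocalizedModule (Submonoid.powers h) lP']
  (φ : P →ₗ[A] P') (Φ : Ph →ₗ[A] Ph') (hΦ : ∀ p, Φ (lP p) = lP' (φ p))

include hΦ in
theorem loc_injective (hφ : ∀ x, φ x = 0 → ∃ m : ℕ, h ^ m • x = 0) : Function.Injective Φ := by
  rw [← LinearMap.ker_eq_bot, LinearMap.ker_eq_bot']
  intro z hz
  obtain ⟨⟨p, ⟨_, k, rfl⟩⟩, hp⟩ := IsLocalizedModule.surj (Submonoid.powers h) lP z
  change h ^ k • z = lP p at hp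
  have h1 : lP' (φ p) = 0 := by rw [← hΦ, ← hp, map_smul, hz, smul_zero]
  obtain ⟨⟨_, j, rfl⟩, hj⟩ := (IsLocalizedModule.eq_zero_iff (Submonoid.powers h) lP').1 h1
  change h ^ j • φ p = 0 at hj
  obtain ⟨m, hm⟩ := hφ (h ^ j • p) (by rw [map_smul, hj])
  have h2 : lP p = 0 := by
    rw [IsLocalizedModule.eq_zero_iff (Submonoid.powers h) lP]
    refine ⟨⟨h ^ (m + j), m + j, rfl⟩, ?_⟩
    change h ^ (m + j) • p = 0
    rw [pow_add, mul_smul, hm]
  rw [h2] at hp
  have hu := IsLocalizedModule.map_units lP (⟨h ^ k, k, rfl⟩ : Submonoid.powers h)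
  have hinj := ((Module.End.isUnit_iff _).1 hu).1
  apply hinj
  change h ^ k • z = h ^ k • 0
  rw [hp, smul_zero]

include hΦ in
theorem loc_surjective (hφ : ∀ y, ∃ m : ℕ, h ^ m • y ∈ LinearMap.range φ) : Function.Surjective Φ := by
  intro z'
  obtain ⟨⟨y, ⟨_, k, rfl⟩⟩, hy⟩ := IsLocalizedModule.surj (Submonoid.powers h) lP' z'
  change h ^ k • z' = lP' y at hy
  obtain ⟨m, p, hp⟩ := hφ y
  let s : Submonoid.powers h := ⟨h ^ (k + m), k + m, rfl⟩
  refine ⟨IsLocalizedModule.mk' lP p s, ?_⟩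
  have hu := IsLocalizedModule.map_units lP' s
  have hinj := ((Module.End.isUnit_iff _).1 hu).1
  apply hinj
  change h ^ (k + m) • Φ (IsLocalizedModule.mk' lP p s) = h ^ (k + m) • z'
  rw [← map_smul]
  have h3 : h ^ (k + m) • IsLocalizedModule.mk' lP p s = lP p := by
    have := IsLocalizedModule.mk'_cancel' lP p s
    exact this
  rw [h3, hΦ, hp, map_smul, ← hy, ← mul_smul, pow_add, mul_comm]

include hΦ in
theorem ker_torsion_of_loc_injective (hinj : Function.Injective Φ) (x : P) (hx : φ x = 0) :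
    ∃ m : ℕ, h ^ m • x = 0 := by
  have h1 : lP x = 0 := by
    apply hinj
    rw [hΦ, hx, map_zero, map_zero]
  obtain ⟨⟨_, m, rfl⟩, hm⟩ := (IsLocalizedModule.eq_zero_iff (Submonoid.powers h) lP).1 h1
  exact ⟨m, hm⟩

include hΦ in
theorem coker_torsion_of_loc_surjective (hsurj : Function.Surjective Φ) (y : P') :
    ∃ m : ℕ, h ^ m • y ∈ LinearMap.range φ := by
  obtain ⟨z, hz⟩ := hsurj (lP' y)
  obtain ⟨⟨p, ⟨_, k, rfl⟩⟩, hp⟩ := IsLocalizedModule.surj (Submonoid.powers h) lP z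
  change h ^ k • z = lP p at hp
  have h1 : lP' (h ^ k • y - φ p) = 0 := by
    rw [map_sub, map_smul, ← hz, ← map_smul, hp, hΦ, sub_self]
  obtain ⟨⟨_, m, rfl⟩, hm⟩ := (IsLocalizedModule.eq_zero_iff (Submonoid.powers h) lP').1 h1
  change h ^ m • (h ^ k • y - φ p) = 0 at hm
  refine ⟨m + k, h ^ m • p, ?_⟩
  rw [map_smul, pow_add, mul_smul]
  rw [smul_sub, sub_eq_zero] at hm
  exact hm.symm

end Alg

section IdealT

variable {A : Type u} [CommRing A] {P : Type u} [AddCommGroup P] [Module A P]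

theorem exists_pow_smul_mem [IsNoetherianRing A] (𝔞 : Ideal A) (N : Submodule A P) (x : P)
    (hx : ∀ f ∈ 𝔞, ∃ m : ℕ, f ^ m • x ∈ N) : ∃ m : ℕ, ∀ a ∈ 𝔞 ^ m, a • x ∈ N := by
  let J : Ideal A := Submodule.comap (LinearMap.toSpanSingleton A P x) N
  have hJ : ∀ a, a ∈ J ↔ a • x ∈ N := fun a => Iff.rfl
  have hle : 𝔞 ≤ J.radical := by
    intro f hf
    obtain ⟨m, hm⟩ := hx f hf
    exact ⟨m, (hJ _).2 hm⟩
  obtain ⟨m, hm⟩ := Ideal.exists_pow_le_of_le_radical_of_fg hle (IsNoetherian.noetherian 𝔞)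
  exact ⟨m, fun a ha => (hJ a).1 (hm ha)⟩

theorem pow_smul_mem_of_forall_pow (𝔞 : Ideal A) (N : Submodule A P) (x : P)
    (hx : ∃ m : ℕ, ∀ a ∈ 𝔞 ^ m, a • x ∈ N) (f : A) (hf : f ∈ 𝔞) : ∃ m : ℕ, f ^ m • x ∈ N := by
  obtain ⟨m, hm⟩ := hx
  exact ⟨m, hm _ (Ideal.pow_mem_pow hf m)⟩

end IdealT

section Sheaf

open Groth.Agent.Helper1 Groth.Agent.Helper3

variable (A : Type u) [CommRing A] (𝔞 : Ideal A)

theorem basicOpen_le_punctured {h : A} (hh : h ∈ 𝔞) :
    (PrimeSpectrum.basicOpen h : (Spec (CommRingCat.of A)).Opens) ≤ LocCoh.puncturedOpen A 𝔞 := by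
  intro x hx hx'
  exact hx (hx' hh)

theorem image_preimage_basicOpen {h : A} (hh : h ∈ 𝔞) :
    (LocCoh.puncturedOpen A 𝔞).ι ''ᵁ ((LocCoh.puncturedOpen A 𝔞).ι ⁻¹ᵁ
      (PrimeSpectrum.basicOpen h : (Spec (CommRingCat.of A)).Opens)) =
      (PrimeSpectrum.basicOpen h : (Spec (CommRingCat.of A)).Opens) := by
  rw [Scheme.Hom.image_preimage_eq_opensRange_inf, Scheme.Opens.opensRange_ι]
  exact inf_eq_right.2 (basicOpen_le_punctured A 𝔞 hh)

theorem inj_transport {X : Scheme.{u}} {N₁ N₂ : X.Modules} (ψ : N₁ ⟶ N₂) {W W' : X.Opens}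
    (e : W = W') : Function.Injective (ψ.app W) ↔ Function.Injective (ψ.app W') := by
  subst e; rfl

theorem surj_transport {X : Scheme.{u}} {N₁ N₂ : X.Modules} (ψ : N₁ ⟶ N₂) {W W' : X.Opens}
    (e : W = W') : Function.Surjective (ψ.app W) ↔ Function.Surjective (ψ.app W') := by
  subst e; rfl

variable {A 𝔞} {N₁ N₂ : (Spec (CommRingCat.of A)).Modules} (ψ : N₁ ⟶ N₂)

theorem app_injective_of_mono_restrict
    (hm : Mono ((Scheme.Modules.restrictFunctor (LocCoh.puncturedOpen A 𝔞).ι).map ψ))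
    {h : A} (hh : h ∈ 𝔞) :
    Function.Injective (ψ.app (PrimeSpectrum.basicOpen h : (Spec (CommRingCat.of A)).Opens)) := by
  have h1 := SepFam.app_injective_of_mono
    ((Scheme.Modules.restrictFunctor (LocCoh.puncturedOpen A 𝔞).ι).map ψ)
    ((LocCoh.puncturedOpen A 𝔞).ι ⁻¹ᵁ (PrimeSpectrum.basicOpen h : (Spec (CommRingCat.of A)).Opens))
  have h2 : Function.Injective (ψ.app ((LocCoh.puncturedOpen A 𝔞).ι ''ᵁ ((LocCoh.puncturedOpen A 𝔞).ι ⁻¹ᵁ
      (PrimeSpectrum.basicOpen h : (Spec (CommRingCat.of A)).Opens)))) := h1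
  exact (inj_transport ψ (image_preimage_basicOpen A 𝔞 hh)).1 h2

theorem app_surjective_of_epi_restrict [N₁.IsQuasicoherent] [N₂.IsQuasicoherent]
    (hm : Epi ((Scheme.Modules.restrictFunctor (LocCoh.puncturedOpen A 𝔞).ι).map ψ))
    {h : A} (hh : h ∈ 𝔞) :
    Function.Surjective (ψ.app (PrimeSpectrum.basicOpen h : (Spec (CommRingCat.of A)).Opens)) := by
  have haff : IsAffineOpen ((LocCoh.puncturedOpen A 𝔞).ι ⁻¹ᵁ
      (PrimeSpectrum.basicOpen h : (Spec (CommRingCat.of A)).Opens)) := by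
    apply IsAffineOpen.preimage_of_isOpenImmersion
    · exact IsAffineOpen.Spec_basicOpen (R := CommRingCat.of A) h
    · rw [Scheme.Opens.opensRange_ι]
      exact basicOpen_le_punctured A 𝔞 hh
  have h1 := AffPushEpi.app_surjective_of_epi
    ((Scheme.Modules.restrictFunctor (LocCoh.puncturedOpen A 𝔞).ι).map ψ) _ haff
  have h2 : Function.Surjective (ψ.app ((LocCoh.puncturedOpen A 𝔞).ι ''ᵁ ((LocCoh.puncturedOpen A 𝔞).ι ⁻¹ᵁ
      (PrimeSpectrum.basicOpen h : (Spec (CommRingCat.of A)).Opens)))) := h1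
  exact (surj_transport ψ (image_preimage_basicOpen A 𝔞 hh)).1 h2

end Sheaf

section Sheaf2

open Groth.Agent.Helper1 Groth.Agent.Helper3 Groth.Agent.Lead

variable {A : Type u} [CommRing A] {𝔞 : Ideal A}
  {N₁ N₂ : (Spec (CommRingCat.of A)).Modules} (ψ : N₁ ⟶ N₂)

theorem isIso_restrict_of_bijective
    (hb : ∀ h ∈ 𝔞, Function.Bijective
      (ψ.app (PrimeSpectrum.basicOpen h : (Spec (CommRingCat.of A)).Opens))) :
    IsIso ((Scheme.Modules.restrictFunctor (LocCoh.puncturedOpen A 𝔞).ι).map ψ) := by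
  apply BCU.isIso_of_bijective_nhds
  intro V x hx
  -- the image point
  have hxU : (LocCoh.puncturedOpen A 𝔞).ι x ∈ LocCoh.puncturedOpen A 𝔞 := x.2
  have hnot : ¬ (𝔞 : Set A) ⊆ ((LocCoh.puncturedOpen A 𝔞).ι x).asIdeal := fun hc => hxU hc
  obtain ⟨f, hf𝔞, hfx⟩ := Set.not_subset.1 hnot
  have hxW : (LocCoh.puncturedOpen A 𝔞).ι x ∈ (LocCoh.puncturedOpen A 𝔞).ι ''ᵁ V := ⟨x, hx, rfl⟩
  obtain ⟨_, ⟨_, ⟨g, rfl⟩, rfl⟩, hxg, hgW⟩ := PrimeSpectrum.isBasis_basic_opens.exists_subset_of_mem_open hxW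
    ((LocCoh.puncturedOpen A 𝔞).ι ''ᵁ V).2
  have hh : f * g ∈ 𝔞 := Ideal.mul_mem_right _ _ hf𝔞
  have hle : (PrimeSpectrum.basicOpen (f * g) : (Spec (CommRingCat.of A)).Opens) ≤
      (LocCoh.puncturedOpen A 𝔞).ι ''ᵁ V := by
    intro y hy
    apply hgW
    rw [PrimeSpectrum.basicOpen_mul] at hy
    exact hy.2
  refine ⟨(LocCoh.puncturedOpen A 𝔞).ι ⁻¹ᵁ
    (PrimeSpectrum.basicOpen (f * g) : (Spec (CommRingCat.of A)).Opens), ?_, ?_, ?_⟩
  · rw [← Scheme.Hom.image_le_image_iff (LocCoh.puncturedOpen A 𝔞).ι, image_preimage_basicOpen A 𝔞 hh]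
    exact hle
  · change (LocCoh.puncturedOpen A 𝔞).ι x ∈ PrimeSpectrum.basicOpen (f * g)
    rw [PrimeSpectrum.basicOpen_mul]
    exact ⟨hfx, hxg⟩
  · have h2 := hb (f * g) hh
    have e := image_preimage_basicOpen A 𝔞 hh
    exact ⟨(inj_transport ψ e).2 h2.1, (surj_transport ψ e).2 h2.2⟩

end Sheaf2

section TilSec

variable {R : CommRingCat.{u}} {P P' : ModuleCat.{u} R} (φ : P ⟶ P') (h : R)

theorem toOpen_map_apply (p : P) :
    ((modulesSpecToSheaf.map (tilde.map φ)).1.app (op (PrimeSpectrum.basicOpen h))).hom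
      ((tilde.toOpen P (PrimeSpectrum.basicOpen h)).hom p) =
    (tilde.toOpen P' (PrimeSpectrum.basicOpen h)).hom (φ.hom p) := by
  have := congrArg (fun ψ => ψ.hom p) (tilde.toOpen_map_app φ (PrimeSpectrum.basicOpen h))
  exact this

theorem tilde_app_injective (hφ : ∀ x, φ.hom x = 0 → ∃ m : ℕ, h ^ m • x = 0) :
    Function.Injective ((tilde.map φ).app (PrimeSpectrum.basicOpen h)) :=
  loc_injective h (tilde.toOpen P (PrimeSpectrum.basicOpen h)).hom
    (tilde.toOpen P' (PrimeSpectrum.basicOpen h)).hom φ.hom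
    ((modulesSpecToSheaf.map (tilde.map φ)).1.app (op (PrimeSpectrum.basicOpen h))).hom
    (toOpen_map_apply φ h) hφ

theorem tilde_app_surjective (hφ : ∀ y, ∃ m : ℕ, h ^ m • y ∈ LinearMap.range φ.hom) :
    Function.Surjective ((tilde.map φ).app (PrimeSpectrum.basicOpen h)) :=
  loc_surjective h (tilde.toOpen P (PrimeSpectrum.basicOpen h)).hom
    (tilde.toOpen P' (PrimeSpectrum.basicOpen h)).hom φ.hom
    ((modulesSpecToSheaf.map (tilde.map φ)).1.app (op (PrimeSpectrum.basicOpen h))).hom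
    (toOpen_map_apply φ h) hφ

theorem ker_torsion_of_tilde_app_injective
    (hinj : Function.Injective ((tilde.map φ).app (PrimeSpectrum.basicOpen h)))
    (x : P) (hx : φ.hom x = 0) : ∃ m : ℕ, h ^ m • x = 0 :=
  ker_torsion_of_loc_injective h (tilde.toOpen P (PrimeSpectrum.basicOpen h)).hom
    (tilde.toOpen P' (PrimeSpectrum.basicOpen h)).hom φ.hom
    ((modulesSpecToSheaf.map (tilde.map φ)).1.app (op (PrimeSpectrum.basicOpen h))).hom
    (toOpen_map_apply φ h) hinj x hx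

theorem coker_torsion_of_tilde_app_surjective
    (hsurj : Function.Surjective ((tilde.map φ).app (PrimeSpectrum.basicOpen h)))
    (y : P') : ∃ m : ℕ, h ^ m • y ∈ LinearMap.range φ.hom :=
  coker_torsion_of_loc_surjective h (tilde.toOpen P (PrimeSpectrum.basicOpen h)).hom
    (tilde.toOpen P' (PrimeSpectrum.basicOpen h)).hom φ.hom
    ((modulesSpecToSheaf.map (tilde.map φ)).1.app (op (PrimeSpectrum.basicOpen h))).hom
    (toOpen_map_apply φ h) hsurj y

end TilSec

section PU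

variable {A : Type u} [CommRing A] (𝔞 : Ideal A) {P P' : ModuleCat.{u} A} (φ : P ⟶ P')

theorem isIso_restrict_tilde_map
    (hker : ∀ x, φ.hom x = 0 → ∀ f ∈ 𝔞, ∃ m : ℕ, f ^ m • x = 0)
    (hcok : ∀ y, ∀ f ∈ 𝔞, ∃ m : ℕ, f ^ m • y ∈ LinearMap.range φ.hom) :
    IsIso ((Scheme.Modules.restrictFunctor (LocCoh.puncturedOpen A 𝔞).ι).map
      (tilde.map (R := CommRingCat.of A) φ)) := by
  apply isIso_restrict_of_bijective
  intro h hh
  exact ⟨tilde_app_injective (R := CommRingCat.of A) φ h (fun x hx => hker x hx h hh),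
    tilde_app_surjective (R := CommRingCat.of A) φ h (fun y => hcok y h hh)⟩

theorem ker_torsion_of_mono_restrict
    (hm : Mono ((Scheme.Modules.restrictFunctor (LocCoh.puncturedOpen A 𝔞).ι).map
      (tilde.map (R := CommRingCat.of A) φ)))
    (x : P) (hx : φ.hom x = 0) (f : A) (hf : f ∈ 𝔞) : ∃ m : ℕ, f ^ m • x = 0 :=
  ker_torsion_of_tilde_app_injective (R := CommRingCat.of A) φ f
    (app_injective_of_mono_restrict _ hm hf) x hx

theorem coker_torsion_of_epi_restrict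
    (hm : Epi ((Scheme.Modules.restrictFunctor (LocCoh.puncturedOpen A 𝔞).ι).map
      (tilde.map (R := CommRingCat.of A) φ)))
    (y : P') (f : A) (hf : f ∈ 𝔞) : ∃ m : ℕ, f ^ m • y ∈ LinearMap.range φ.hom := by
  haveI : (tilde (R := CommRingCat.of A) P).IsQuasicoherent := inferInstance
  haveI : (tilde (R := CommRingCat.of A) P').IsQuasicoherent := inferInstance
  exact coker_torsion_of_tilde_app_surjective (R := CommRingCat.of A) φ f
    (app_surjective_of_epi_restrict _ hm hf) y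

end PU

section RC

open Groth.Agent.Lib.Helper4.CohFormalPB Groth.Agent.Lib.Helper4.CohFormalTors
  Groth.Agent.Lib.Helper4.CanonExt Groth.Agent.Lib.Helper4.ComplExt Groth.Agent.Lib.Helper4.IPow1

variable {A : Type u} [CommRing A]

/-- restriction to an open preserves cokernels of the action of an ideal -/
theorem restrict_cokernel {X : Scheme.{u}} [X.Over (Spec (CommRingCat.of A))] (J : Ideal A)
    (U : X.Opens) [(↑U : Scheme.{u}).Over (Spec (CommRingCat.of A))]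
    (hf : U.ι ≫ (X ↘ Spec (CommRingCat.of A)) = (↑U : Scheme.{u}) ↘ Spec (CommRingCat.of A))
    {N Q : X.Modules} (q : N ⟶ Q) (w : Formal.smulFamily J N ≫ q = 0)
    (hc : IsColimit (CokernelCofork.ofπ q w)) :
    ∃ w' : Formal.smulFamily J ((Scheme.Modules.restrictFunctor U.ι).obj N) ≫
        (Scheme.Modules.restrictFunctor U.ι).map q = 0,
      Nonempty (IsColimit (CokernelCofork.ofπ ((Scheme.Modules.restrictFunctor U.ι).map q) w')) := by
  let ρ := Scheme.Modules.restrictFunctorIsoPullback U.ι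
  have hi0 : IsIso (cokernel.desc _ q w) := isIso_desc_of_isColimit _ _ w hc
  obtain ⟨h', hi'⟩ := cokernel_pullback U.ι hf J q w hi0
  have hcP := isColimitOfIsIsoDesc _ _ h' hi'
  let j : (Scheme.Modules.restrictFunctor U.ι).obj N ≅ (Scheme.Modules.pullback U.ι).obj N := ρ.app N
  have w1 : Formal.smulFamily J ((Scheme.Modules.restrictFunctor U.ι).obj N) ≫
      j.hom ≫ (Scheme.Modules.pullback U.ι).map q = 0 := by
    apply Sigma.hom_ext
    intro a
    rw [← Category.assoc, smulFamily_ι, comp_zero, ← Category.assoc, smulMod_nat, Category.assoc,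
      ← smulFamily_ι J ((Scheme.Modules.pullback U.ι).obj N) a, Category.assoc, h',
      comp_zero, comp_zero]
  have hc1 := isColimitOfIso J j _ h' hcP w1
  have w2 : Formal.smulFamily J ((Scheme.Modules.restrictFunctor U.ι).obj N) ≫
      (j.hom ≫ (Scheme.Modules.pullback U.ι).map q) ≫ (ρ.symm.app Q).hom = 0 := by
    rw [← Category.assoc, w1, zero_comp]
  have hc2 := isColimitCompIso _ _ w1 hc1 (ρ.symm.app Q) w2
  have hpn : (j.hom ≫ (Scheme.Modules.pullback U.ι).map q) ≫ (ρ.symm.app Q).hom =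
      (Scheme.Modules.restrictFunctor U.ι).map q := by
    change (ρ.hom.app N ≫ (Scheme.Modules.pullback U.ι).map q) ≫ ρ.inv.app Q = _
    rw [← ρ.hom.naturality q, Category.assoc, Iso.hom_inv_id_app, Category.comp_id]
  have w3 : Formal.smulFamily J ((Scheme.Modules.restrictFunctor U.ι).obj N) ≫
      (Scheme.Modules.restrictFunctor U.ι).map q = 0 := by
    rw [← hpn]; exact w2
  refine ⟨w3, ⟨?_⟩⟩
  have : CokernelCofork.ofπ ((Scheme.Modules.restrictFunctor U.ι).map q) w3 =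
      CokernelCofork.ofπ _ w2 := by
    congr 1
    exact hpn.symm
  rw [this]
  exact hc2

/-- two cokernels of the same map: the comparison is an isomorphism -/
theorem isIso_of_two_cokernels {C : Type*} [Category C] [HasZeroMorphisms C] {P M Q₁ Q₂ : C}
    (s : P ⟶ M) (q₁ : M ⟶ Q₁) (q₂ : M ⟶ Q₂) (w₁ : s ≫ q₁ = 0) (w₂ : s ≫ q₂ = 0)
    (h₁ : IsColimit (CokernelCofork.ofπ q₁ w₁)) (h₂ : IsColimit (CokernelCofork.ofπ q₂ w₂))
    (c : Q₁ ⟶ Q₂) (hc : q₁ ≫ c = q₂) : IsIso c := by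
  have e : c = (h₁.coconePointUniqueUpToIso h₂).hom := by
    apply Cofork.IsColimit.hom_ext h₁
    have := IsColimit.comp_coconePointUniqueUpToIso_hom h₁ h₂ WalkingParallelPair.one
    exact hc.trans this.symm
  rw [e]
  infer_instance

/-- transport of a cokernel of the ideal action along isomorphisms on both sides -/
theorem cokernel_transport {X : Scheme.{u}} [X.Over (Spec (CommRingCat.of A))] (J : Ideal A)
    {M N Q Q' : X.Modules} (j : M ⟶ N) [IsIso j] (i : Q' ⟶ Q) [IsIso i] (q : N ⟶ Q) (q' : M ⟶ Q')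
    (hsq : q' ≫ i = j ≫ q) (w : Formal.smulFamily J N ≫ q = 0)
    (hq : IsColimit (CokernelCofork.ofπ q w)) :
    ∃ w' : Formal.smulFamily J M ≫ q' = 0, Nonempty (IsColimit (CokernelCofork.ofπ q' w')) := by
  have w1 : Formal.smulFamily J M ≫ (asIso j).hom ≫ q = 0 := by
    apply Sigma.hom_ext
    intro a
    rw [← Category.assoc, smulFamily_ι, comp_zero, ← Category.assoc]
    change (Formal.smulMod A M a ≫ j) ≫ q = 0
    rw [smulMod_nat, Category.assoc, ← smulFamily_ι J N a, Category.assoc, w, comp_zero, comp_zero]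
  have hc1 := isColimitOfIso J (asIso j) q w hq w1
  have w2 : Formal.smulFamily J M ≫ ((asIso j).hom ≫ q) ≫ (asIso i).symm.hom = 0 := by
    rw [← Category.assoc, w1, zero_comp]
  have hc2 := isColimitCompIso _ _ w1 hc1 (asIso i).symm w2
  have hpn : ((asIso j).hom ≫ q) ≫ (asIso i).symm.hom = q' := by
    change (j ≫ q) ≫ inv i = q'
    rw [← hsq, Category.assoc, IsIso.hom_inv_id, Category.comp_id]
  have w3 : Formal.smulFamily J M ≫ q' = 0 := by
    rw [← hpn]; exact w2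
  refine ⟨w3, ⟨?_⟩⟩
  have : CokernelCofork.ofπ q' w3 = CokernelCofork.ofπ _ w2 := by
    congr 1
    exact hpn.symm
  rw [this]
  exact hc2


end RC

section G0

open Groth.Agent.Helper1

variable (A : Type u) [CommRing A]

theorem exists_fg_generating [IsNoetherianRing A] (𝔞 : Ideal A)
    (G : (↑(LocCoh.puncturedOpen A 𝔞) : Scheme.{u}).Modules) (hG : Coh.IsCoh G) :
    ∃ N : Submodule A ↑((moduleSpecΓFunctor (R := CommRingCat.of A)).obj
        ((Scheme.Modules.pushforward (LocCoh.puncturedOpen A 𝔞).ι).obj G)),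
      N.FG ∧ ∀ y, ∀ f ∈ 𝔞, ∃ m : ℕ, f ^ m • y ∈ N := by
  obtain ⟨M', _, _, hfin, ⟨ε⟩⟩ := (Groth.Agent.S2269.result A (LocCoh.puncturedOpen A 𝔞) G).1 hG
  haveI : G.IsQuasicoherent := hG.1
  obtain ⟨U, hU⟩ : ∃ U : (Spec (CommRingCat.of A)).Opens, U = LocCoh.puncturedOpen A 𝔞 := ⟨_, rfl⟩
  obtain ⟨Q, hQdef⟩ : ∃ Q, Q = (Scheme.Modules.pushforward (LocCoh.puncturedOpen A 𝔞).ι).obj G :=
    ⟨_, rfl⟩
  rw [← hQdef]
  haveI hQ : Q.IsQuasicoherent := by
    rw [hQdef]; exact PushQc.isQuasicoherent_pushforward _ G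
  obtain ⟨TM, hTM⟩ : ∃ TM : (Spec (CommRingCat.of A)).Modules,
      TM = tilde (R := CommRingCat.of A) (ModuleCat.of A M') := ⟨_, rfl⟩
  -- the adjoint maps
  obtain ⟨η', hη'⟩ : ∃ η' : tilde (R := CommRingCat.of A) (ModuleCat.of A M') ⟶ Q,
      IsIso ((Scheme.Modules.restrictFunctor (LocCoh.puncturedOpen A 𝔞).ι).map η') := by
    subst hQdef
    refine ⟨(Scheme.Modules.restrictAdjunction (LocCoh.puncturedOpen A 𝔞).ι).homEquiv _ G ε.inv, ?_⟩
    have h2 := ((Scheme.Modules.restrictAdjunction (LocCoh.puncturedOpen A 𝔞).ι).homEquiv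
      (tilde (R := CommRingCat.of A) (ModuleCat.of A M')) G).symm_apply_apply ε.inv
    rw [Adjunction.homEquiv_counit] at h2
    exact IsIso.of_isIso_fac_right h2
  obtain ⟨ℓ, hℓ⟩ : ∃ ℓ : ModuleCat.of A M' ⟶ (moduleSpecΓFunctor (R := CommRingCat.of A)).obj Q,
      η' = tilde.map (R := CommRingCat.of A) ℓ ≫ Scheme.Modules.fromTildeΓ (R := CommRingCat.of A) Q := by
    refine ⟨(tilde.adjunction (R := CommRingCat.of A)).homEquiv (ModuleCat.of A M') Q η', ?_⟩
    have := ((tilde.adjunction (R := CommRingCat.of A)).homEquiv (ModuleCat.of A M') Q).symm_apply_apply η'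
    rw [Adjunction.homEquiv_counit] at this
    exact this.symm
  haveI : IsIso (Scheme.Modules.fromTildeΓ (R := CommRingCat.of A) Q) :=
    @Scheme.Modules.isIso_fromTildeΓ_of_isQuasicoherent (CommRingCat.of A) Q hQ
  have h4 : IsIso ((Scheme.Modules.restrictFunctor (LocCoh.puncturedOpen A 𝔞).ι).map
      (tilde.map (R := CommRingCat.of A) ℓ)) := by
    have e : (Scheme.Modules.restrictFunctor (LocCoh.puncturedOpen A 𝔞).ι).map
        (tilde.map (R := CommRingCat.of A) ℓ) ≫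
        (Scheme.Modules.restrictFunctor (LocCoh.puncturedOpen A 𝔞).ι).map (Scheme.Modules.fromTildeΓ (R := CommRingCat.of A) Q) =
        (Scheme.Modules.restrictFunctor (LocCoh.puncturedOpen A 𝔞).ι).map η' := by
      rw [← Functor.map_comp, hℓ]
    haveI : IsIso ((Scheme.Modules.restrictFunctor (LocCoh.puncturedOpen A 𝔞).ι).map
        (Scheme.Modules.fromTildeΓ (R := CommRingCat.of A) Q)) := Functor.map_isIso _ _
    exact @IsIso.of_isIso_fac_right _ _ _ _ _ _ _ _ this hη' e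
  refine ⟨LinearMap.range ℓ.hom, ?_, fun y f hf => ?_⟩
  · rw [LinearMap.range_eq_map]
    exact Submodule.FG.map _ (Module.Finite.fg_top)
  · exact coker_torsion_of_epi_restrict 𝔞 ℓ inferInstance y f hf

end G0

section Rec

variable {A : Type u} [CommRing A]

theorem fg_of_le_of_fg [IsNoetherianRing A] {P : Type u} [AddCommGroup P] [Module A P]
    {N M' : Submodule A P} (hN : N.FG) (hle : M' ≤ N) : M'.FG := by
  haveI : IsNoetherian A N := isNoetherian_of_fg_of_noetherian N hN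
  have h1 : (Submodule.comap N.subtype M').FG := IsNoetherian.noetherian _
  have h2 : M' = Submodule.map N.subtype (Submodule.comap N.subtype M') := by
    rw [Submodule.map_comap_subtype]
    exact (inf_eq_right.2 hle).symm
  rw [h2]
  exact h1.map _

variable (𝔞 : Ideal A) (S : ℕᵒᵖ ⥤ ModuleCat.{u} A)

/-- the transition maps -/
noncomputable abbrev tS (n : ℕ) : S.obj (op (n + 1)) →ₗ[A] S.obj (op n) :=
  (S.map (homOfLE (Nat.le_succ n)).op).hom

/-- the recursively defined compatible system of submodules -/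
noncomputable def Msys (N : ∀ n, Submodule A (S.obj (op n))) : ∀ n, Submodule A (S.obj (op n))
  | 0 => N 0
  | n + 1 => N (n + 1) ⊓ Submodule.comap (tS S n) (Msys N n)

theorem Msys_succ (N : ∀ n, Submodule A (S.obj (op n))) (n : ℕ) :
    Msys S N (n + 1) = N (n + 1) ⊓ Submodule.comap (tS S n) (Msys S N n) := rfl

theorem Msys_le (N : ∀ n, Submodule A (S.obj (op n))) (n : ℕ) : Msys S N n ≤ N n := by
  cases n with
  | zero => exact le_rfl
  | succ n => exact inf_le_left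

theorem Msys_fg [IsNoetherianRing A] (N : ∀ n, Submodule A (S.obj (op n)))
    (hN : ∀ n, (N n).FG) (n : ℕ) : (Msys S N n).FG :=
  fg_of_le_of_fg (hN n) (Msys_le S N n)

theorem Msys_map (N : ∀ n, Submodule A (S.obj (op n))) (n : ℕ) (x : S.obj (op (n + 1)))
    (hx : x ∈ Msys S N (n + 1)) : tS S n x ∈ Msys S N n := by
  rw [Msys_succ] at hx
  exact hx.2

theorem Msys_gen (N : ∀ n, Submodule A (S.obj (op n)))
    (hN : ∀ n (y : S.obj (op n)), ∀ f ∈ 𝔞, ∃ m : ℕ, f ^ m • y ∈ N n) :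
    ∀ n (y : S.obj (op n)), ∀ f ∈ 𝔞, ∃ m : ℕ, f ^ m • y ∈ Msys S N n := by
  intro n
  induction n with
  | zero => exact hN 0
  | succ n ih =>
    intro y f hf
    obtain ⟨m₁, h₁⟩ := hN (n + 1) y f hf
    obtain ⟨m₂, h₂⟩ := ih (tS S n y) f hf
    refine ⟨m₁ + m₂, ?_⟩
    rw [Msys_succ]
    have e1 : f ^ (m₁ + m₂) • y = f ^ m₂ • (f ^ m₁ • y) := by
      rw [← mul_smul, ← pow_add, add_comm m₂ m₁]
    have e2 : tS S n (f ^ (m₁ + m₂) • y) = f ^ m₁ • (f ^ m₂ • tS S n y) := by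
      rw [map_smul, ← mul_smul, ← pow_add]
    refine ⟨?_, ?_⟩
    · change f ^ (m₁ + m₂) • y ∈ N (n + 1)
      rw [e1]
      exact Submodule.smul_mem _ _ h₁
    · change tS S n (f ^ (m₁ + m₂) • y) ∈ Msys S N n
      rw [e2]
      exact Submodule.smul_mem _ _ h₂

end Rec

section Rec2

variable {A : Type u} [CommRing A] (S : ℕᵒᵖ ⥤ ModuleCat.{u} A)

/-- the inclusion of a submodule of `S_n` -/
noncomputable def incl (M : ∀ n, Submodule A (S.obj (op n))) (n : ℕ) :
    ModuleCat.of A ↥(M n) ⟶ S.obj (op n) :=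
  ModuleCat.ofHom (M n).subtype

theorem incl_apply (M : ∀ n, Submodule A (S.obj (op n))) (n : ℕ) (x : ↥(M n)) :
    (incl S M n).hom x = (x : S.obj (op n)) := rfl

/-- the restricted transition maps -/
noncomputable def gmap (M : ∀ n, Submodule A (S.obj (op n)))
    (hmap : ∀ n x, x ∈ M (n + 1) → tS S n x ∈ M n) (n : ℕ) : ↥(M (n + 1)) →ₗ[A] ↥(M n) :=
  (tS S n).restrict (hmap n)

theorem gmap_apply (M : ∀ n, Submodule A (S.obj (op n)))
    (hmap : ∀ n x, x ∈ M (n + 1) → tS S n x ∈ M n) (n : ℕ) (x : ↥(M (n + 1))) :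
    ((gmap S M hmap n x : ↥(M n)) : S.obj (op n)) = tS S n (x : S.obj (op (n + 1))) := rfl

theorem gmap_incl (M : ∀ n, Submodule A (S.obj (op n)))
    (hmap : ∀ n x, x ∈ M (n + 1) → tS S n x ∈ M n) (n : ℕ) :
    ModuleCat.ofHom (gmap S M hmap n) ≫ incl S M n =
      incl S M (n + 1) ≫ S.map (homOfLE (Nat.le_succ n)).op := by
  apply ModuleCat.hom_ext
  apply LinearMap.ext
  intro x
  rfl

end Rec2

section Final

open Groth.Agent.Helper1 Groth.Agent.Lib.Helper4.CanonExt Groth.Agent.Lib.Helper4.CanonExtOf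
  Groth.Agent.Lib.Helper4.CohFormalPB Groth.Agent.Lib.Helper4.CohFormalTors
  Groth.Agent.Lib.Helper4.AffExist

variable (A : Type u) [CommRing A] (I 𝔞 : Ideal A)
  (F : ℕᵒᵖ ⥤ (↑(LocCoh.puncturedOpen A 𝔞) : Scheme.{u}).Modules)

variable [IsNoetherianRing A]

/-- the comparison morphism `(M_n~)|_U ⟶ F_n` -/
noncomputable def theta (hqc : ∀ n : ℕᵒᵖ, (F.obj n).IsQuasicoherent)
    (M : ∀ n, Submodule A ((Algz.sectMod A (LocCoh.puncturedOpen A 𝔞) F).obj (op n))) (n : ℕ) :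
    (Scheme.Modules.restrictFunctor (LocCoh.puncturedOpen A 𝔞).ι).obj (Formal2.tmod A ↥(M n)) ⟶
      F.obj (op n) :=
  (Scheme.Modules.restrictFunctor (LocCoh.puncturedOpen A 𝔞).ι).map
      (tilde.map (R := CommRingCat.of A) (incl (Algz.sectMod A (LocCoh.puncturedOpen A 𝔞) F) M n)) ≫
    (sectSysRestrictIso A (LocCoh.puncturedOpen A 𝔞) F hqc).hom.app (op n)

theorem isIso_theta (hqc : ∀ n : ℕᵒᵖ, (F.obj n).IsQuasicoherent)
    (M : ∀ n, Submodule A ((Algz.sectMod A (LocCoh.puncturedOpen A 𝔞) F).obj (op n)))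
    (hgen : ∀ n (y : (Algz.sectMod A (LocCoh.puncturedOpen A 𝔞) F).obj (op n)),
      ∀ f ∈ 𝔞, ∃ m : ℕ, f ^ m • y ∈ M n) (n : ℕ) :
    IsIso (theta A 𝔞 F hqc M n) := by
  have h1 : IsIso ((Scheme.Modules.restrictFunctor (LocCoh.puncturedOpen A 𝔞).ι).map
      (tilde.map (R := CommRingCat.of A) (incl (Algz.sectMod A (LocCoh.puncturedOpen A 𝔞) F) M n))) := by
    apply isIso_restrict_tilde_map
    · intro x hx f hf
      refine ⟨0, ?_⟩
      rw [incl_apply] at hx
      have : x = 0 := Subtype.ext hx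
      rw [this, smul_zero]
    · intro y f hf
      obtain ⟨m, hm⟩ := hgen n y f hf
      exact ⟨m, ⟨⟨_, hm⟩, rfl⟩⟩
  have h2 : IsIso ((sectSysRestrictIso A (LocCoh.puncturedOpen A 𝔞) F hqc).hom.app (op n)) :=
    inferInstance
  exact @IsIso.comp_isIso _ _ _ _ _ _ _ h1 h2

theorem theta_naturality (hqc : ∀ n : ℕᵒᵖ, (F.obj n).IsQuasicoherent)
    (M : ∀ n, Submodule A ((Algz.sectMod A (LocCoh.puncturedOpen A 𝔞) F).obj (op n)))
    (hmap : ∀ n x, x ∈ M (n + 1) → tS (Algz.sectMod A (LocCoh.puncturedOpen A 𝔞) F) n x ∈ M n)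
    (n : ℕ) :
    (Scheme.Modules.restrictFunctor (LocCoh.puncturedOpen A 𝔞).ι).map
        (Formal2.tmodMap A (gmap (Algz.sectMod A (LocCoh.puncturedOpen A 𝔞) F) M hmap n)) ≫
          theta A 𝔞 F hqc M n =
      theta A 𝔞 F hqc M (n + 1) ≫ F.map (homOfLE (Nat.le_succ n)).op := by
  have hnat := (sectSysRestrictIso A (LocCoh.puncturedOpen A 𝔞) F hqc).hom.naturality
    (homOfLE (Nat.le_succ n)).op
  have key : (Scheme.Modules.restrictFunctor (LocCoh.puncturedOpen A 𝔞).ι).map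
        (Formal2.tmodMap A (gmap (Algz.sectMod A (LocCoh.puncturedOpen A 𝔞) F) M hmap n)) ≫
      (Scheme.Modules.restrictFunctor (LocCoh.puncturedOpen A 𝔞).ι).map
        (tilde.map (R := CommRingCat.of A) (incl (Algz.sectMod A (LocCoh.puncturedOpen A 𝔞) F) M n)) =
      (Scheme.Modules.restrictFunctor (LocCoh.puncturedOpen A 𝔞).ι).map
        (tilde.map (R := CommRingCat.of A) (incl (Algz.sectMod A (LocCoh.puncturedOpen A 𝔞) F) M (n + 1))) ≫
      (Scheme.Modules.restrictFunctor (LocCoh.puncturedOpen A 𝔞).ι).map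
        (tilde.map (R := CommRingCat.of A)
          ((Algz.sectMod A (LocCoh.puncturedOpen A 𝔞) F).map (homOfLE (Nat.le_succ n)).op)) := by
    rw [← Functor.map_comp, ← Functor.map_comp]
    congr 1
    change tilde.map (R := CommRingCat.of A) (ModuleCat.ofHom (gmap _ M hmap n)) ≫ _ = _
    rw [← tilde.map_comp, ← tilde.map_comp, gmap_incl]
  unfold theta
  rw [← Category.assoc]
  exact (congrArg (· ≫ _) key).trans ((Category.assoc _ _ _).trans (congrArg (_ ≫ ·) hnat))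

end Final

section Key

open Groth.Agent.Helper1 Groth.Agent.Lib.Helper4.CanonExt Groth.Agent.Lib.Helper4.CanonExtOf
  Groth.Agent.Lib.Helper4.CohFormalPB Groth.Agent.Lib.Helper4.CohFormalTors
  Groth.Agent.Lib.Helper4.AffExist

variable (A : Type u) [CommRing A] (𝔞 : Ideal A)

theorem transition_torsion (J : Ideal A) {P1 P0 : Type u} [AddCommGroup P1] [Module A P1]
    [AddCommGroup P0] [Module A P0] (g : P1 →ₗ[A] P0) (hkill : ∀ a ∈ J, ∀ y : P0, a • y = 0)
    (w : Formal.smulFamily J ((Scheme.Modules.restrictFunctor (LocCoh.puncturedOpen A 𝔞).ι).obj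
        (Formal2.tmod A P1)) ≫
      (Scheme.Modules.restrictFunctor (LocCoh.puncturedOpen A 𝔞).ι).map (Formal2.tmodMap A g) = 0)
    (hc : IsColimit (CokernelCofork.ofπ
      ((Scheme.Modules.restrictFunctor (LocCoh.puncturedOpen A 𝔞).ι).map (Formal2.tmodMap A g)) w)) :
    (∀ x, g x = 0 → ∀ f ∈ 𝔞, ∃ m : ℕ, f ^ m • x ∈ J • (⊤ : Submodule A P1)) ∧
    (∀ y, ∀ f ∈ 𝔞, ∃ m : ℕ, f ^ m • y ∈ LinearMap.range g) := by
  obtain ⟨K, hK⟩ : ∃ K : Submodule A P1, K = J • (⊤ : Submodule A P1) := ⟨_, rfl⟩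
  have hle : K ≤ LinearMap.ker g := by
    rw [hK, Submodule.smul_le]
    intro a ha x _
    rw [LinearMap.mem_ker, map_smul]
    exact hkill a ha _
  obtain ⟨φ, hφ⟩ : ∃ φ : (P1 ⧸ K) →ₗ[A] P0, φ = K.liftQ g hle := ⟨_, rfl⟩
  have hφmk : φ ∘ₗ K.mkQ = g := by rw [hφ]; exact K.liftQ_mkQ g hle
  letI instX : (Spec (CommRingCat.of A)).Over (Spec (CommRingCat.of A)) := ⟨𝟙 _⟩
  have hf : (LocCoh.puncturedOpen A 𝔞).ι ≫
      ((Spec (CommRingCat.of A)) ↘ Spec (CommRingCat.of A)) =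
      (↑(LocCoh.puncturedOpen A 𝔞) : Scheme.{u}) ↘ Spec (CommRingCat.of A) := Category.comp_id _
  obtain ⟨w₁, hi₁⟩ := tilde_cokernel A J (ModuleCat.ofHom K.mkQ)
    (Submodule.mkQ_surjective K)
    (fun x hx => by
      rw [← hK]
      exact (Submodule.Quotient.mk_eq_zero K).1 hx)
    (fun a ha y => by
      obtain ⟨x, rfl⟩ := Submodule.mkQ_surjective K y
      change a • K.mkQ x = 0
      rw [← map_smul]
      refine (Submodule.Quotient.mk_eq_zero K).2 ?_
      rw [hK]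
      exact Submodule.smul_mem_smul ha trivial)
  have hc₁ := isColimitOfIsIsoDesc _ _ w₁ hi₁
  obtain ⟨w₁', ⟨hc₁'⟩⟩ := restrict_cokernel J (LocCoh.puncturedOpen A 𝔞) hf _ w₁ hc₁
  have hcomp : (Scheme.Modules.restrictFunctor (LocCoh.puncturedOpen A 𝔞).ι).map
        ((tilde.functor (CommRingCat.of A)).map (ModuleCat.ofHom K.mkQ)) ≫
      (Scheme.Modules.restrictFunctor (LocCoh.puncturedOpen A 𝔞).ι).map
        (tilde.map (R := CommRingCat.of A) (ModuleCat.ofHom φ)) =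
      (Scheme.Modules.restrictFunctor (LocCoh.puncturedOpen A 𝔞).ι).map (Formal2.tmodMap A g) := by
    rw [← Functor.map_comp]
    congr 1
    change tilde.map (R := CommRingCat.of A) _ ≫ tilde.map (R := CommRingCat.of A) _ =
      tilde.map (R := CommRingCat.of A) _
    rw [← tilde.map_comp, ← ModuleCat.ofHom_comp, hφmk]
  have hiso : IsIso ((Scheme.Modules.restrictFunctor (LocCoh.puncturedOpen A 𝔞).ι).map
      (tilde.map (R := CommRingCat.of A) (ModuleCat.ofHom φ))) :=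
    isIso_of_two_cokernels _ _ _ w₁' w hc₁' hc _ hcomp
  refine ⟨fun x hx f hf' => ?_, fun y f hf' => ?_⟩
  · have hx' : (ModuleCat.ofHom φ).hom (K.mkQ x) = 0 := by
      change φ (K.mkQ x) = 0
      rw [← LinearMap.comp_apply, hφmk]
      exact hx
    obtain ⟨m, hm⟩ := ker_torsion_of_mono_restrict 𝔞 (ModuleCat.ofHom φ) inferInstance
      (K.mkQ x) hx' f hf'
    refine ⟨m, ?_⟩
    rw [← hK]
    rw [← map_smul] at hm
    exact (Submodule.Quotient.mk_eq_zero K).1 hm
  · obtain ⟨m, z, hz⟩ := coker_torsion_of_epi_restrict 𝔞 (ModuleCat.ofHom φ) inferInstance y f hf'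
    obtain ⟨x, rfl⟩ := Submodule.mkQ_surjective K z
    refine ⟨m, x, ?_⟩
    rw [← hz, ← hφmk]
    rfl

end Key

section Main

open Groth.Agent.Helper1 Groth.Agent.Lib.Helper4.CanonExt Groth.Agent.Lib.Helper4.CanonExtOf
  Groth.Agent.Lib.Helper4.CohFormalPB Groth.Agent.Lib.Helper4.CohFormalTors
  Groth.Agent.Lib.Helper4.AffExist

variable (A : Type u) [CommRing A] [IsNoetherianRing A] (I 𝔞 : Ideal A)
  (F : ℕᵒᵖ ⥤ (↑(LocCoh.puncturedOpen A 𝔞) : Scheme.{u}).Modules)

set_option maxHeartbeats 1600000 in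
theorem main (hF : Formal.IsCohFormal I F) :
    ∃ (M : ℕ → Type u) (_ : ∀ n, AddCommGroup (M n)) (_ : ∀ n, Module A (M n))
      (g : ∀ n, M (n + 1) →ₗ[A] M n),
      (∀ n, Module.Finite A (M n)) ∧ (∀ n, I ^ (n + 1) • (⊤ : Submodule A (M n)) = ⊥) ∧
      (∀ n (x : M (n + 1)), g n x = 0 →
        ∃ m : ℕ, ∀ a ∈ 𝔞 ^ m, a • x ∈ I ^ (n + 1) • (⊤ : Submodule A (M (n + 1)))) ∧
      (∀ n (y : M n), ∃ m : ℕ, ∀ a ∈ 𝔞 ^ m, a • y ∈ LinearMap.range (g n)) ∧
      Nonempty (F ≅ Functor.ofOpSequence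
        (X := fun n => (Scheme.Modules.restrictFunctor (LocCoh.puncturedOpen A 𝔞).ι).obj
          (Formal2.tmod A (M n)))
        (fun n => (Scheme.Modules.restrictFunctor (LocCoh.puncturedOpen A 𝔞).ι).map
          (Formal2.tmodMap A (g n)))) := by
  have hqc : ∀ n : ℕᵒᵖ, (F.obj n).IsQuasicoherent := fun n => (hF.1 n.unop).1
  obtain ⟨S, hS⟩ : ∃ S, S = Algz.sectMod A (LocCoh.puncturedOpen A 𝔞) F := ⟨_, rfl⟩
  have hN : ∀ n : ℕ, ∃ N : Submodule A (S.obj (op n)),
      N.FG ∧ ∀ y : S.obj (op n), ∀ f ∈ 𝔞, ∃ m : ℕ, f ^ m • y ∈ N := by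
    intro n
    subst hS
    exact exists_fg_generating A 𝔞 (F.obj (op n)) (hF.1 n)
  choose N hNfg hNgen using hN
  have hmap : ∀ n x, x ∈ Msys S N (n + 1) → tS S n x ∈ Msys S N n := Msys_map S N
  have hgen := Msys_gen 𝔞 S N hNgen
  have hfg := Msys_fg S N hNfg
  subst hS
  refine ⟨fun n => ↥(Msys _ N n), fun n => inferInstance, fun n => inferInstance,
    fun n => gmap _ (Msys _ N) hmap n, ?_, ?_, ?_⟩
  · intro n
    exact Module.Finite.iff_fg.2 (hfg n)
  · intro n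
    rw [eq_bot_iff, Submodule.smul_le]
    intro a ha x _
    rw [Submodule.mem_bot]
    apply Subtype.ext
    exact sectMod_killed A I (LocCoh.puncturedOpen A 𝔞) F hF.2.1 n a ha x.1
  · -- the transition maps are cokernels
    have hTT : ∀ n, (∀ x : ↥(Msys _ N (n + 1)), gmap _ (Msys _ N) hmap n x = 0 → ∀ f ∈ 𝔞, ∃ m : ℕ,
          f ^ m • x ∈ I ^ (n + 1) • (⊤ : Submodule A ↥(Msys _ N (n + 1)))) ∧
        (∀ y : ↥(Msys _ N n), ∀ f ∈ 𝔞, ∃ m : ℕ,
          f ^ m • y ∈ LinearMap.range (gmap _ (Msys _ N) hmap n)) := by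
      intro n
      obtain ⟨h, hi⟩ := hF.2.2 n
      have hcF := isColimitOfIsIsoDesc _ _ h hi
      haveI := isIso_theta A 𝔞 F hqc (Msys _ N) hgen (n + 1)
      haveI := isIso_theta A 𝔞 F hqc (Msys _ N) hgen n
      obtain ⟨w', ⟨hc'⟩⟩ := cokernel_transport (I ^ (n + 1))
        (theta A 𝔞 F hqc (Msys _ N) (n + 1)) (theta A 𝔞 F hqc (Msys _ N) n)
        (F.map (homOfLE (Nat.le_succ n)).op)
        ((Scheme.Modules.restrictFunctor (LocCoh.puncturedOpen A 𝔞).ι).map
          (Formal2.tmodMap A (gmap _ (Msys _ N) hmap n)))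
        (theta_naturality A 𝔞 F hqc (Msys _ N) hmap n) h hcF
      refine transition_torsion A 𝔞 (I ^ (n + 1)) _ ?_ w' hc'
      intro a ha y
      apply Subtype.ext
      exact sectMod_killed A I (LocCoh.puncturedOpen A 𝔞) F hF.2.1 n a ha y.1
    refine ⟨fun n x hx => ?_, fun n y => ?_, ?_⟩
    · exact exists_pow_smul_mem 𝔞 _ x ((hTT n).1 x hx)
    · exact exists_pow_smul_mem 𝔞 _ y ((hTT n).2 y)
    · -- the isomorphism
      let τ : Functor.ofOpSequence
          (X := fun n => (Scheme.Modules.restrictFunctor (LocCoh.puncturedOpen A 𝔞).ι).obj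
            (Formal2.tmod A ↥(Msys _ N n)))
          (fun n => (Scheme.Modules.restrictFunctor (LocCoh.puncturedOpen A 𝔞).ι).map
            (Formal2.tmodMap A (gmap _ (Msys _ N) hmap n))) ⟶ F :=
        NatTrans.ofOpSequence (fun n => theta A 𝔞 F hqc (Msys _ N) n) (fun n => by
          rw [Functor.ofOpSequence_map_homOfLE_succ]
          exact theta_naturality A 𝔞 F hqc (Msys _ N) hmap n)
      haveI : ∀ n : ℕᵒᵖ, IsIso (τ.app n) := fun n => by
        change IsIso (theta A 𝔞 F hqc (Msys _ N) n.unop)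
        exact isIso_theta A 𝔞 F hqc (Msys _ N) hgen n.unop
      haveI : IsIso τ := NatIso.isIso_of_isIso_app τ
      exact ⟨(asIso τ).symm⟩

end Main

end Groth.Agent.Lib.Helper4.ModSysPunct
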