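import Mathlib
import Groth.Prelude.Def_Red
import Groth.Prelude.Def_Red2
import Groth.Prelude.Def_AlgGrp
import Groth.Prelude.Def_SGA3x
import Groth.Agent.Lib.Helper4.TorusCentExt2
import Groth.Agent.Lib.Lead.DiagAct

/-!
# central extensions of mu_n by G_m are commutative (alternating bimultiplicative pairings mu_n x mu_n -> G_m are trivial) (helper4)
-/

set_option backward.isDefEq.respectTransparency.types false
set_option synthInstance.maxHeartbeats 400000
set_option autoImplicit false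
set_option linter.unusedSectionVars false
set_option linter.style.haveILetI false
set_option linter.unusedSimpArgs false
universe u v w
open CategoryTheory CategoryTheory.Limits AlgebraicGeometry TopologicalSpace Opposite
open MonoidalCategory CartesianMonoidalCategory MonObj GrpObj
open scoped commutatorElement
open Groth.Agent.Lib.Helper6.DS
open Groth.Agent.Lib.Helper6.FlatQ
open Groth.Agent.Lib.Helper4.NormRadQuot1
open Groth.Agent.Lib.Helper4.GaTorusHom1
open Groth.Agent.Lib.Helper4.MultTypeRigid1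
open Groth.Agent.Lib.Helper4.MultTypeRigid2
open Groth.Agent.Lib.Helper4.SemiabComm1
open Groth.Agent.Lib.Helper4.MultTypeExt1
open Groth.Agent.Lib.Helper4.MultTypeCentExt1
open Groth.Agent.Lib.Helper4.TorusBilin1
open Groth.Agent.Lib.Helper4.TorusCentExt2
open Groth.Agent.Lead.DiagAct

namespace Groth.Agent.Lib.Helper4.MuGmCentExt1

section Part1

variable {S : Scheme.{u}}

theorem part1 (E A G' : Over S) [GrpObj E] [GrpObj A] [GrpObj G']
    (i : A ⟶ E) [IsMonHom i] (q : E ⟶ G') [IsMonHom q]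
    (hker : AlgGrp.IsKernel i q) (hcov : FCov q.left)
    (hcomm : ∀ (X : Over S) (a b : X ⟶ G'), a * b = b * a)
    (hcent : ∀ (T : Over S) (g : T ⟶ E) (t : T ⟶ A), g * (t ≫ i) = (t ≫ i) * g) :
    ∃ δ₀ : G' ⊗ G' ⟶ A,
      (q ⊗ₘ q) ≫ δ₀ ≫ i = κ E ∧
      (∀ (X : Over S) (g h h' : X ⟶ G'),
        lift g (h * h') ≫ δ₀ = (lift g h ≫ δ₀) * (lift g h' ≫ δ₀)) ∧
      (∀ (X : Over S) (g g' h : X ⟶ G'),
        lift (g * g') h ≫ δ₀ = (lift g h ≫ δ₀) * (lift g' h ≫ δ₀)) ∧
      (∀ (X : Over S) (x : X ⟶ G'), lift x x ≫ δ₀ = 1) := by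
  have hker' : ∀ (X : Over S) (c : X ⟶ E), c ≫ q = 1 →
      ∀ g : X ⟶ E, c * g = g * c := by
    intro X c hc g
    have ht : hker.lift c (toUnit X) (by rw [hc, Hom.one_def]) ≫ i = c := hker.lift_fst _ _ _
    rw [← ht]
    exact (hcent X g _).symm
  have imono : ∀ {X : Over S} (a b : X ⟶ A),
      a ≫ i = b ≫ i → a = b := fun a b h => hker.hom_ext h (toUnit_unique _ _)
  obtain ⟨δ, hδ, h2, h1⟩ := exists_bil' E G' q hcov hker' hcomm
  haveI : Epi (q ⊗ₘ q) := (isDesc_of_FCov _ (prop_tensorHom' FCov q q hcov hcov)).epi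
  haveI : Epi q := (isDesc_of_FCov q hcov).epi
  have hδq : δ ≫ q = 1 := by
    rw [← cancel_epi (q ⊗ₘ q), ← Category.assoc, hδ, MonObj.comp_one, κ, commutatorElement_def,
      MonObj.mul_comp, MonObj.mul_comp, MonObj.mul_comp, GrpObj.inv_comp, GrpObj.inv_comp,
      hcomm _ (fst E E ≫ q) (snd E E ≫ q)]
    group
  let δ₀ : G' ⊗ G' ⟶ A :=
    hker.lift δ (toUnit _) (by rw [hδq, Hom.one_def])
  have hδ₀ : δ₀ ≫ i = δ := hker.lift_fst _ _ _
  refine ⟨δ₀, by rw [hδ₀, hδ], ?_, ?_, ?_⟩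
  · intro X g h h'
    apply imono
    rw [MonObj.mul_comp, Category.assoc, Category.assoc, Category.assoc, hδ₀]
    exact h2 X g h h'
  · intro X g g' h
    apply imono
    rw [MonObj.mul_comp, Category.assoc, Category.assoc, Category.assoc, hδ₀]
    exact h1 X g g' h
  · intro X x
    apply imono
    rw [Category.assoc, hδ₀, MonObj.one_comp]
    have e1 : lift x x = x ≫ lift (𝟙 _) (𝟙 _) := by
      rw [comp_lift, Category.comp_id]
    have e2 : lift (𝟙 G') (𝟙 _) ≫ δ = 1 := by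
      rw [← cancel_epi q, MonObj.comp_one, ← Category.assoc, comp_lift, Category.comp_id]
      have e3 : lift q q = lift (𝟙 E) (𝟙 E) ≫ (q ⊗ₘ q) := by
        rw [lift_map, Category.id_comp]
      rw [e3, Category.assoc, hδ, lift_κ]
      exact commutatorElement_self _
    rw [e1, Category.assoc, e2, MonObj.comp_one]

end Part1

section Alg2

/-- pairing datum on characters -/
structure PD (R : Type u) [CommRing R] (C : Type) [CommGroup C] where
  p : ∀ (B : Type u) [CommRing B] [Algebra R B], (C →* B) → (C →* B) → B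
  nat : ∀ {B B' : Type u} [CommRing B] [CommRing B'] [Algebra R B] [Algebra R B']
    (θ : B →ₐ[R] B') (χ ψ : C →* B),
    θ (p B χ ψ) = p B' ((θ : B →* B').comp χ) ((θ : B →* B').comp ψ)
  mul1 : ∀ {B : Type u} [CommRing B] [Algebra R B] (χ₁ χ₂ ψ : C →* B),
    p B (χ₁ * χ₂) ψ = p B χ₁ ψ * p B χ₂ ψ
  mul2 : ∀ {B : Type u} [CommRing B] [Algebra R B] (χ ψ₁ ψ₂ : C →* B),
    p B χ (ψ₁ * ψ₂) = p B χ ψ₁ * p B χ ψ₂
  one1 : ∀ {B : Type u} [CommRing B] [Algebra R B] (ψ : C →* B), p B 1 ψ = 1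
  one2 : ∀ {B : Type u} [CommRing B] [Algebra R B] (χ : C →* B), p B χ 1 = 1
  alt : ∀ {B : Type u} [CommRing B] [Algebra R B] (χ : C →* B), p B χ χ = 1

variable {R : Type u} [CommRing R] {C : Type} [CommGroup C]

/-- evaluation at a character -/
noncomputable def ev (R : Type u) [CommRing R] {C : Type} [CommGroup C]
    {B : Type u} [CommRing B] [Algebra R B] (χ : C →* B) :
    MonoidAlgebra B C →ₐ[R] B :=
  MonoidAlgebra.liftNCAlgHom (AlgHom.id R B) χ (fun _ _ => Commute.all _ _)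

theorem ev_single {B : Type u} [CommRing B] [Algebra R B] (χ : C →* B) (c : C) (b : B) :
    ev R χ (MonoidAlgebra.single c b) = b * χ c := by
  simp [ev, MonoidAlgebra.liftNC_single]

/-- inclusion of constants as a monoid hom -/
noncomputable def inclM (R : Type u) [CommRing R] {C : Type} [CommGroup C]
    {B : Type u} [CommRing B] [Algebra R B] (ψ : C →* B) : C →* MonoidAlgebra B C :=
  ((MonoidAlgebra.singleOneAlgHom : B →ₐ[R] MonoidAlgebra B C) : B →* MonoidAlgebra B C).comp ψ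

theorem inclM_apply {B : Type u} [CommRing B] [Algebra R B] (ψ : C →* B) (c : C) :
    inclM R ψ c = MonoidAlgebra.single 1 (ψ c) := rfl

variable (D : PD R C)

/-- the universal value -/
noncomputable def W {B : Type u} [CommRing B] [Algebra R B] (ψ : C →* B) : MonoidAlgebra B C :=
  D.p (MonoidAlgebra B C) (MonoidAlgebra.of B C) (inclM R ψ)

theorem ev_W {B : Type u} [CommRing B] [Algebra R B] (χ ψ : C →* B) :
    ev R χ (W D ψ) = D.p B χ ψ := by
  unfold W
  rw [D.nat]
  congr 1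
  · ext c
    simp [ev_single, MonoidAlgebra.of_apply]
  · ext c
    simp [ev_single, inclM_apply]

theorem map_W {B B' : Type u} [CommRing B] [CommRing B'] [Algebra R B] [Algebra R B']
    (f : B →ₐ[R] B') (ψ : C →* B) :
    MonoidAlgebra.mapAlgHom C f (W D ψ) = W D ((f : B →* B').comp ψ) := by
  unfold W
  rw [D.nat]
  congr 1
  · ext c
    simp [MonoidAlgebra.of_apply]
  · ext c
    simp [inclM_apply]

theorem W_mul {B : Type u} [CommRing B] [Algebra R B] (ψ ψ' : C →* B) :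
    W D (ψ * ψ') = W D ψ * W D ψ' := by
  unfold W
  have : inclM R (ψ * ψ') = inclM R ψ * inclM R ψ' := by
    ext c
    simp only [MonoidHom.mul_apply, inclM_apply, MonoidAlgebra.single_mul_single, _root_.mul_one]
  rw [this, D.mul2]

theorem W_one {B : Type u} [CommRing B] [Algebra R B] :
    W D (1 : C →* B) = 1 := by
  unfold W
  have : inclM R (1 : C →* B) = 1 := by
    ext c
    simp [inclM_apply, MonoidAlgebra.one_def]
  rw [this, D.one2]

theorem W_orth {B : Type u} [CommRing B] [Algebra R B] (ψ : C →* B) (c c' : C) :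
    (c = c' → (W D ψ).coeff c * (W D ψ).coeff c' = (W D ψ).coeff c) ∧
    (c ≠ c' → (W D ψ).coeff c * (W D ψ).coeff c' = 0) := by
  let i2 : B →ₐ[R] MonoidAlgebra B (C × C) := MonoidAlgebra.singleOneAlgHom
  let r1 : MonoidAlgebra B C →ₐ[R] MonoidAlgebra B (C × C) :=
    MonoidAlgebra.liftNCAlgHom i2 ((MonoidAlgebra.of B (C × C)).comp (MonoidHom.inl C C))
      (fun _ _ => Commute.all _ _)
  let r2 : MonoidAlgebra B C →ₐ[R] MonoidAlgebra B (C × C) :=
    MonoidAlgebra.liftNCAlgHom i2 ((MonoidAlgebra.of B (C × C)).comp (MonoidHom.inr C C))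
      (fun _ _ => Commute.all _ _)
  let r12 : MonoidAlgebra B C →ₐ[R] MonoidAlgebra B (C × C) :=
    MonoidAlgebra.liftNCAlgHom i2 ((MonoidAlgebra.of B (C × C)).comp
      (MonoidHom.prod (MonoidHom.id C) (MonoidHom.id C))) (fun _ _ => Commute.all _ _)
  have h1 : ∀ n b, r1 (MonoidAlgebra.single n b) = MonoidAlgebra.single (n, 1) b := by
    intro n b
    simp [r1, i2, MonoidAlgebra.liftNC_single, MonoidAlgebra.of_apply,
      MonoidAlgebra.single_mul_single]
  have h2 : ∀ n b, r2 (MonoidAlgebra.single n b) = MonoidAlgebra.single (1, n) b := by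
    intro n b
    simp [r2, i2, MonoidAlgebra.liftNC_single, MonoidAlgebra.of_apply,
      MonoidAlgebra.single_mul_single]
  have h12 : ∀ n b, r12 (MonoidAlgebra.single n b) = MonoidAlgebra.single (n, n) b := by
    intro n b
    simp [r12, i2, MonoidAlgebra.liftNC_single, MonoidAlgebra.of_apply,
      MonoidAlgebra.single_mul_single]
  have a1 : ((r12 : MonoidAlgebra B C →* MonoidAlgebra B (C × C)).comp (MonoidAlgebra.of B C)) =
      ((r1 : MonoidAlgebra B C →* MonoidAlgebra B (C × C)).comp (MonoidAlgebra.of B C)) *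
      ((r2 : MonoidAlgebra B C →* MonoidAlgebra B (C × C)).comp (MonoidAlgebra.of B C)) := by
    ext c
    simp only [MonoidHom.comp_apply, MonoidHom.mul_apply, MonoidHom.coe_coe,
      MonoidAlgebra.of_apply, h1, h2, h12, MonoidAlgebra.single_mul_single, Prod.mk_mul_mk,
      _root_.mul_one, _root_.one_mul]
  have a2 : (r12 : MonoidAlgebra B C →* MonoidAlgebra B (C × C)).comp (inclM R ψ) =
      (r1 : MonoidAlgebra B C →* MonoidAlgebra B (C × C)).comp (inclM R ψ) := by
    ext c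
    simp only [MonoidHom.comp_apply, MonoidHom.coe_coe, inclM_apply, h1, h12]
  have a3 : (r2 : MonoidAlgebra B C →* MonoidAlgebra B (C × C)).comp (inclM R ψ) =
      (r1 : MonoidAlgebra B C →* MonoidAlgebra B (C × C)).comp (inclM R ψ) := by
    ext c
    simp only [MonoidHom.comp_apply, MonoidHom.coe_coe, inclM_apply, h1, h2]
  have hw : r12 (W D ψ) = r1 (W D ψ) * r2 (W D ψ) := by
    unfold W
    rw [D.nat r12, D.nat r1, D.nat r2, a1, a2, a3, D.mul1]
  exact coeff_orth (r1 : MonoidAlgebra B C →+* MonoidAlgebra B (C × C)) r2 r12 h1 h2 h12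
    (W D ψ) hw c c'

theorem L1 (K : Type u) [Field K] (n : ℕ) (hn : n ≠ 0) :
    ∃ N m : ℕ, n = N * m ∧ (m : K) ≠ 0 ∧ Nat.Coprime N m ∧ ∀ x : K, x ^ N = 1 → x = 1 := by
  obtain ⟨q, hq⟩ := CharP.exists K
  rcases CharP.char_is_prime_or_zero K q with hp | h0
  · haveI : ExpChar K q := ExpChar.prime hp
    obtain ⟨e, m, hndvd, hnm⟩ := Nat.exists_eq_pow_mul_and_not_dvd hn q hp.ne_one
    refine ⟨q ^ e, m, hnm, ?_, ?_, ?_⟩
    · rw [Ne, CharP.cast_eq_zero_iff K q m]
      exact hndvd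
    · exact Nat.Coprime.pow_left e ((Nat.Prime.coprime_iff_not_dvd hp).mpr hndvd)
    · intro x hx
      have := (ExpChar.pow_prime_pow_mul_eq_one_iff q e 1 x).mp (by rwa [_root_.mul_one])
      rwa [pow_one] at this
  · subst h0
    haveI : CharZero K := CharP.charP_to_charZero K
    refine ⟨1, n, (_root_.one_mul n).symm, Nat.cast_ne_zero.mpr hn, Nat.coprime_one_left n, ?_⟩
    intro x hx
    rwa [pow_one] at hx

theorem W_field (n : ℕ) [NeZero n] (D : PD R (Multiplicative (ZMod n)))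
    (K : Type u) [Field K] [IsAlgClosed K] [Algebra R K]
    (ψ : Multiplicative (ZMod n) →* K) : W D ψ = 1 := by
  classical
  have hsingle : ∀ φ : Multiplicative (ZMod n) →* K,
      ∃ c, W D φ = MonoidAlgebra.of K (Multiplicative (ZMod n)) c := by
    intro φ
    have hne : W D φ ≠ 0 := by
      intro h0
      have := ev_W D (1 : Multiplicative (ZMod n) →* K) φ
      rw [h0, map_zero, D.one1] at this
      exact zero_ne_one this
    obtain ⟨c, hc⟩ := eq_single_of_orth (fun e he => IsIdempotentElem.iff_eq_zero_or_one.mp he)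
      (W D φ) hne (fun c => (W_orth D φ c c).1 rfl) (fun c c' h => (W_orth D φ c c').2 h)
    exact ⟨c, by rw [hc, MonoidAlgebra.of_apply]⟩
  have hpow : ∀ (φ : Multiplicative (ZMod n) →* K) (t : ℕ), W D (φ ^ t) = (W D φ) ^ t := by
    intro φ t
    induction t with
    | zero => rw [pow_zero, pow_zero, W_one]
    | succ t ih => rw [pow_succ, pow_succ, W_mul, ih]
  obtain ⟨N, m, hnNm, hmK, hcop, hN⟩ := L1 K n (NeZero.ne n)
  haveI : NeZero (m : K) := ⟨hmK⟩
  have hm0 : m ≠ 0 := fun h => hmK (by rw [h, Nat.cast_zero])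
  haveI : NeZero m := ⟨hm0⟩
  obtain ⟨ζ, hζ⟩ := HasEnoughRootsOfUnity.exists_primitiveRoot K m
  have hζn : ζ ^ n = 1 := by rw [hnNm, pow_mul', hζ.pow_eq_one, one_pow]
  let ψ₁ : Multiplicative (ZMod n) →* K := (AddChar.zmodChar n hζn).toMonoidHom
  have hψ₁ : ∀ c : Multiplicative (ZMod n), ψ₁ c = ζ ^ (c.toAdd).val := fun c => rfl
  have hψ₁m : ψ₁ ^ m = 1 := by
    apply MonoidHom.ext
    intro c
    rw [MonoidHom.pow_apply, hψ₁, ← pow_mul, mul_comm, pow_mul, hζ.pow_eq_one, one_pow,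
      MonoidHom.one_apply]
  obtain ⟨c₁, hc₁⟩ := hsingle ψ₁
  have hW1 : W D ψ₁ = 1 := by
    set s := (c₁.toAdd).val with hs
    have h_alt : ζ ^ s = 1 := by
      have := ev_W D ψ₁ ψ₁
      rw [D.alt, hc₁, MonoidAlgebra.of_apply, ev_single, _root_.one_mul, hψ₁] at this
      exact this
    have hms : m ∣ s := hζ.dvd_of_pow_eq_one s h_alt
    have hc₁m : c₁ ^ m = 1 := by
      apply MonoidAlgebra.of_injective (R := K)
      rw [map_pow, ← hc₁, ← hpow, hψ₁m, W_one, map_one]
    have hn_dvd : n ∣ s * m := by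
      have h1 : (m : ZMod n) * c₁.toAdd = 0 := by
        have := congrArg Multiplicative.toAdd hc₁m
        simpa [toAdd_pow, nsmul_eq_mul] using this
      have h2 : ((s * m : ℕ) : ZMod n) = 0 := by
        rw [Nat.cast_mul, hs, ZMod.natCast_zmod_val, mul_comm]
        exact h1
      exact (ZMod.natCast_eq_zero_iff _ _).mp h2
    have hNs : N ∣ s := by
      rw [hnNm] at hn_dvd
      exact Nat.dvd_of_mul_dvd_mul_right (Nat.pos_of_ne_zero hm0) hn_dvd
    have hns : n ∣ s := by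
      rw [hnNm]
      exact Nat.Coprime.mul_dvd_of_dvd_of_dvd hcop hNs hms
    have hc1 : c₁ = 1 := by
      have h0 : c₁.toAdd = 0 := by
        rw [← ZMod.natCast_zmod_val c₁.toAdd, ← hs]
        exact (ZMod.natCast_eq_zero_iff _ _).mpr hns
      exact toAdd_eq_zero.mp h0
    rw [hc₁, hc1, map_one]
  set ξ := ψ (Multiplicative.ofAdd 1) with hξ
  have hgen : ∀ c : Multiplicative (ZMod n),
      c = (Multiplicative.ofAdd (1 : ZMod n)) ^ (c.toAdd).val := by
    intro c
    rw [← ofAdd_nsmul, nsmul_one, ZMod.natCast_zmod_val]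
    rfl
  have hξn : ξ ^ n = 1 := by
    rw [hξ, ← map_pow, ← ofAdd_nsmul, nsmul_one, ZMod.natCast_self]
    exact map_one ψ
  have hξm : ξ ^ m = 1 := by
    apply hN
    rw [← pow_mul, mul_comm, ← hnNm, hξn]
  obtain ⟨t, -, ht⟩ := hζ.eq_pow_of_pow_eq_one hξm
  have hψ : ψ = ψ₁ ^ t := by
    apply MonoidHom.ext
    intro c
    rw [MonoidHom.pow_apply, hψ₁]
    conv_lhs => rw [hgen c]
    rw [map_pow, ← hξ, ← ht, ← pow_mul, ← pow_mul, mul_comm]
  rw [hψ, hpow, hW1, one_pow]

theorem p_eq_one (n : ℕ) [NeZero n] (D : PD R (Multiplicative (ZMod n)))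
    (B : Type u) [CommRing B] [Algebra R B] (χ ψ : Multiplicative (ZMod n) →* B) :
    D.p B χ ψ = 1 := by
  classical
  have hc : ∀ c : Multiplicative (ZMod n), c ≠ 1 → (W D ψ).coeff c = 0 := by
    intro c hc1
    by_contra hne
    have hidem : (W D ψ).coeff c * (W D ψ).coeff c = (W D ψ).coeff c := (W_orth D ψ c c).1 rfl
    generalize he : (W D ψ).coeff c = e at hne hidem
    let I : Ideal B := Ideal.span {1 - e}
    have hI : I ≠ ⊤ := by
      intro htop
      have h1 : (1 : B) ∈ I := htop ▸ Submodule.mem_top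
      obtain ⟨b, hb⟩ := Ideal.mem_span_singleton'.mp h1
      apply hne
      calc e = (b * (1 - e)) * e := by rw [hb, _root_.one_mul]
        _ = b * (e - e * e) := by ring
        _ = 0 := by rw [hidem, sub_self, mul_zero]
    obtain ⟨m, hm, hIm⟩ := Ideal.exists_le_maximal I hI
    haveI := hm
    letI : Field (B ⧸ m) := Ideal.Quotient.field m
    let φ : B →+* AlgebraicClosure (B ⧸ m) :=
      (algebraMap (B ⧸ m) (AlgebraicClosure (B ⧸ m))).comp (Ideal.Quotient.mk m)
    letI : Algebra R (AlgebraicClosure (B ⧸ m)) := (φ.comp (algebraMap R B)).toAlgebra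
    let f : B →ₐ[R] AlgebraicClosure (B ⧸ m) := { φ with commutes' := fun r => rfl }
    have hf1 : f (1 - e) = 0 := by
      have hmem : (1 - e) ∈ m := hIm (Ideal.subset_span rfl)
      show algebraMap (B ⧸ m) (AlgebraicClosure (B ⧸ m)) (Ideal.Quotient.mk m (1 - e)) = 0
      rw [Ideal.Quotient.eq_zero_iff_mem.mpr hmem, map_zero]
    have hf2 : f e = 0 := by
      have h := map_W D f ψ
      rw [W_field n D] at h
      have h' := congrArg (fun x => x.coeff c) h
      simp only [MonoidAlgebra.coeff_mapAlgHom] at h'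
      rw [← he, h', MonoidAlgebra.one_def, MonoidAlgebra.coeff_single, Finsupp.single_apply,
        if_neg (Ne.symm hc1)]
    have h10 : f 1 = 0 := by
      have : (1 : B) = (1 - e) + e := by ring
      rw [this, map_add, hf1, hf2, add_zero]
    rw [map_one] at h10
    exact one_ne_zero h10
  have hW : W D ψ = MonoidAlgebra.single 1 ((W D ψ).coeff 1) := by
    apply MonoidAlgebra.ext
    ext c
    rw [MonoidAlgebra.coeff_single, Finsupp.single_apply]
    by_cases h : (1 : Multiplicative (ZMod n)) = c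
    · subst h
      rw [if_pos rfl]
    · rw [if_neg h]
      exact hc c (Ne.symm h)
  obtain ⟨e, hW⟩ : ∃ e, W D ψ = MonoidAlgebra.single 1 e := ⟨_, hW⟩
  have e1 : D.p B χ ψ = e := by
    rw [← ev_W D χ ψ, hW, ev_single, map_one, _root_.mul_one]
  have e2 : D.p B 1 ψ = e := by
    rw [← ev_W D 1 ψ, hW, ev_single, map_one, _root_.mul_one]
  rw [e1, ← e2, D.one1]

end Alg2

section Pts

variable {R : Type u} [CommRing R]

theorem gpt_inj {M : Type} [AddCommGroup M] {B : Type u} [CommRing B] [Algebra R B]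
    {χ χ' : Multiplicative M →* B} (h : gpt (R := R) χ = gpt χ') : χ = χ' := by
  unfold gpt at h
  have h1 := Spec.mapMulEquiv.injective h
  have h2 := congrArg WithConv.ofConv h1
  simp only [WithConv.ofConv_toConv] at h2
  exact (MonoidAlgebra.lift R B (Multiplicative M)).injective h2

variable (n : ℕ) (δ₀ : Red.diag R (ZMod n) ⊗ Red.diag R (ZMod n) ⟶ Red.diag R ℤ)

/-- value of the pairing on affine points -/
noncomputable def PP (B : Type u) [CommRing B] [Algebra R B]
    (χ χ' : Multiplicative (ZMod n) →* B) : Multiplicative ℤ →* B :=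
  Classical.choose (exists_gpt (lift (gpt (R := R) χ) (gpt (R := R) χ') ≫ δ₀))

theorem PP_spec (B : Type u) [CommRing B] [Algebra R B]
    (χ χ' : Multiplicative (ZMod n) →* B) :
    lift (gpt (R := R) χ) (gpt (R := R) χ') ≫ δ₀ = gpt (PP n δ₀ B χ χ') :=
  Classical.choose_spec (exists_gpt (lift (gpt (R := R) χ) (gpt (R := R) χ') ≫ δ₀))

theorem PP_nat {B B' : Type u} [CommRing B] [CommRing B'] [Algebra R B] [Algebra R B']
    (θ : B →ₐ[R] B') (χ ψ : Multiplicative (ZMod n) →* B) :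
    (θ : B →* B').comp (PP n δ₀ B χ ψ) =
      PP n δ₀ B' ((θ : B →* B').comp χ) ((θ : B →* B').comp ψ) := by
  apply gpt_inj (R := R)
  rw [← tmor_gpt, ← PP_spec, ← PP_spec, ← Category.assoc, comp_lift, tmor_gpt, tmor_gpt]

variable (h2 : ∀ (X : Over (Spec (CommRingCat.of R))) (g h h' : X ⟶ Red.diag R (ZMod n)),
        lift g (h * h') ≫ δ₀ = (lift g h ≫ δ₀) * (lift g h' ≫ δ₀))
    (h1 : ∀ (X : Over (Spec (CommRingCat.of R))) (g g' h : X ⟶ Red.diag R (ZMod n)),
        lift (g * g') h ≫ δ₀ = (lift g h ≫ δ₀) * (lift g' h ≫ δ₀))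
    (halt : ∀ (X : Over (Spec (CommRingCat.of R))) (x : X ⟶ Red.diag R (ZMod n)),
        lift x x ≫ δ₀ = 1)

include h1 in
theorem PP_mul1 {B : Type u} [CommRing B] [Algebra R B]
    (χ₁ χ₂ ψ : Multiplicative (ZMod n) →* B) :
    PP n δ₀ B (χ₁ * χ₂) ψ = PP n δ₀ B χ₁ ψ * PP n δ₀ B χ₂ ψ := by
  apply gpt_inj (R := R)
  rw [gpt_mul, ← PP_spec, ← PP_spec, ← PP_spec, gpt_mul, h1]

include h2 in
theorem PP_mul2 {B : Type u} [CommRing B] [Algebra R B]
    (χ ψ₁ ψ₂ : Multiplicative (ZMod n) →* B) :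
    PP n δ₀ B χ (ψ₁ * ψ₂) = PP n δ₀ B χ ψ₁ * PP n δ₀ B χ ψ₂ := by
  apply gpt_inj (R := R)
  rw [gpt_mul, ← PP_spec, ← PP_spec, ← PP_spec, gpt_mul, h2]

include halt in
theorem PP_alt {B : Type u} [CommRing B] [Algebra R B]
    (χ : Multiplicative (ZMod n) →* B) : PP n δ₀ B χ χ = 1 := by
  apply gpt_inj (R := R)
  rw [← PP_spec, halt, gpt_one]

theorem PP_isUnit {B : Type u} [CommRing B] [Algebra R B]
    (χ ψ : Multiplicative (ZMod n) →* B) :
    IsUnit (PP n δ₀ B χ ψ (Multiplicative.ofAdd 1)) :=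
  (Group.isUnit (Multiplicative.ofAdd (1 : ℤ))).map (PP n δ₀ B χ ψ)

include h1 in
theorem PP_one1 {B : Type u} [CommRing B] [Algebra R B]
    (ψ : Multiplicative (ZMod n) →* B) :
    PP n δ₀ B 1 ψ (Multiplicative.ofAdd 1) = 1 := by
  have hm := congrArg (fun F : Multiplicative ℤ →* B => F (Multiplicative.ofAdd 1))
    (PP_mul1 n δ₀ h1 1 1 ψ)
  simp only [_root_.one_mul, MonoidHom.mul_apply] at hm
  exact (PP_isUnit n δ₀ 1 ψ).mul_left_cancel (by rw [_root_.mul_one]; exact hm.symm)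

include h2 in
theorem PP_one2 {B : Type u} [CommRing B] [Algebra R B]
    (χ : Multiplicative (ZMod n) →* B) :
    PP n δ₀ B χ 1 (Multiplicative.ofAdd 1) = 1 := by
  have hm := congrArg (fun F : Multiplicative ℤ →* B => F (Multiplicative.ofAdd 1))
    (PP_mul2 n δ₀ h2 χ 1 1)
  simp only [_root_.one_mul, MonoidHom.mul_apply] at hm
  exact (PP_isUnit n δ₀ χ 1).mul_left_cancel (by rw [_root_.mul_one]; exact hm.symm)

/-- the pairing datum of a bimultiplicative alternating pairing -/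
noncomputable def mkD : PD R (Multiplicative (ZMod n)) where
  p := fun B _ _ χ ψ => PP n δ₀ B χ ψ (Multiplicative.ofAdd 1)
  nat := fun θ χ ψ =>
    congrArg (fun F : Multiplicative ℤ →* _ => F (Multiplicative.ofAdd 1)) (PP_nat n δ₀ θ χ ψ)
  mul1 := fun χ₁ χ₂ ψ =>
    congrArg (fun F : Multiplicative ℤ →* _ => F (Multiplicative.ofAdd 1))
      (PP_mul1 n δ₀ h1 χ₁ χ₂ ψ)
  mul2 := fun χ ψ₁ ψ₂ =>
    congrArg (fun F : Multiplicative ℤ →* _ => F (Multiplicative.ofAdd 1))
      (PP_mul2 n δ₀ h2 χ ψ₁ ψ₂)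
  one1 := fun ψ => PP_one1 n δ₀ h1 ψ
  one2 := fun χ => PP_one2 n δ₀ h2 χ
  alt := fun χ =>
    congrArg (fun F : Multiplicative ℤ →* _ => F (Multiplicative.ofAdd 1)) (PP_alt n δ₀ halt χ)

include h1 h2 halt in
theorem delta_trivial [NeZero n] : δ₀ = 1 := by
  have key : ∀ (B : Type u) [CommRing B] [Algebra R B] (χ ψ : Multiplicative (ZMod n) →* B),
      lift (gpt (R := R) χ) (gpt (R := R) ψ) ≫ δ₀ = 1 := by
    intro B _ _ χ ψ
    rw [PP_spec, ← gpt_one]
    congr 1
    apply MonoidHom.ext_mint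
    exact p_eq_one n (mkD n δ₀ h2 h1 halt) B χ ψ
  let X : Over (Spec (CommRingCat.of R)) := Red.diag R (ZMod n) ⊗ Red.diag R (ZMod n)
  haveI : IsAffine (Red.diag R (ZMod n)).left :=
    inferInstanceAs (IsAffine (Spec (CommRingCat.of
      (MonoidAlgebra R (Multiplicative (ZMod n))))))
  haveI : IsAffine X.left := by
    show IsAffine (pullback (Red.diag R (ZMod n)).hom (Red.diag R (ZMod n)).hom)
    infer_instance
  let φ : R →+* Γ(X.left, ⊤) :=
    (X.hom.appTop.hom).comp (Scheme.ΓSpecIso (CommRingCat.of R)).inv.hom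
  letI : Algebra R Γ(X.left, ⊤) := φ.toAlgebra
  have hw : X.left.isoSpec.inv ≫ X.hom = (tobj R Γ(X.left, ⊤)).hom := by
    rw [← Scheme.isoSpec_inv_naturality, Scheme.isoSpec_Spec_inv, ← Spec.map_comp]
    rfl
  let t : tobj R Γ(X.left, ⊤) ⟶ X := Over.homMk X.left.isoSpec.inv hw
  haveI : IsIso t.left := by
    show IsIso X.left.isoSpec.inv
    infer_instance
  obtain ⟨χ, hχ⟩ := exists_gpt (t ≫ fst _ _)
  obtain ⟨ψ, hψ⟩ := exists_gpt (t ≫ snd _ _)
  have ht : t = lift (gpt χ) (gpt ψ) := by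
    rw [← hχ, ← hψ]
    apply CartesianMonoidalCategory.hom_ext <;> simp
  have e : t ≫ δ₀ = t ≫ 1 := by
    rw [MonObj.comp_one, ht]
    exact key _ χ ψ
  apply Over.OverMorphism.ext
  have e' := congrArg (fun f => f.left) e
  simp only [Over.comp_left] at e'
  exact (cancel_epi t.left).mp e'

end Pts

section Main

theorem main (R : Type u) [CommRing R] (n : ℕ) (hn : 1 ≤ n)
    (E : Over (Spec (CommRingCat.of R))) [GrpObj E]
    (i : Red.diag R ℤ ⟶ E) [IsMonHom i] (q : E ⟶ Red.diag R (ZMod n)) [IsMonHom q]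
    (hker : AlgGrp.IsKernel i q)
    (hq : Flat q.left ∧ Surjective q.left ∧ LocallyOfFinitePresentation q.left)
    (hcent : ∀ (T : Over (Spec (CommRingCat.of R))) (g : T ⟶ E) (t : T ⟶ Red.diag R ℤ),
      g * (t ≫ i) = (t ≫ i) * g)
    (T : Over (Spec (CommRingCat.of R))) (g h : T ⟶ E) : g * h = h * g := by
  haveI : NeZero n := ⟨by omega⟩
  obtain ⟨hfl, hsu, hlp⟩ := hq
  haveI := hfl
  haveI := hsu
  haveI := hlp
  have hcov : FCov q.left := fcov_of_fppf q.left
  haveI : IsCommMonObj (Red.diag R (ZMod n)) := inferInstance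
  have hcomm : ∀ (X : Over (Spec (CommRingCat.of R))) (a b : X ⟶ Red.diag R (ZMod n)),
      a * b = b * a := fun X a b => comm_of_isComm _ a b
  obtain ⟨δ₀, hδ, h2, h1, halt⟩ := @part1 _ E (Red.diag R ℤ) (Red.diag R (ZMod n)) _ _ _
    i ‹IsMonHom i› q ‹IsMonHom q› hker hcov hcomm hcent
  have hδ1 : δ₀ = 1 := delta_trivial n δ₀ h2 h1 halt
  have hκ : κ E = 1 := by
    rw [← hδ, hδ1, MonObj.one_comp, MonObj.comp_one]
  haveI : IsCommMonObj E := isComm_of_κ E hκ
  exact comm_of_isComm E g h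

end Main

end Groth.Agent.Lib.Helper4.MuGmCentExt1
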