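import Mathlib
import Groth.Prelude.Def_AlgGrp
import Groth.Agent.Lib.Helper4.ClosedActQuot1
import Groth.Agent.Lib.Helper2.LfpOfComp

/-!
# multiplication composed with a product of flat lfp maps hitting maximal fibre points is an fppf covering (SGA3 VI_B) (helper4)
-/

set_option backward.isDefEq.respectTransparency.types false
set_option synthInstance.maxHeartbeats 400000
set_option autoImplicit false
set_option linter.unusedSectionVars false
set_option linter.style.haveILetI false
set_option linter.unusedSimpArgs false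
universe u v w
open CategoryTheory CategoryTheory.Limits AlgebraicGeometry TopologicalSpace Opposite
open MonoidalCategory CartesianMonoidalCategory MonObj GrpObj
open Groth.Agent.Lib.Helper4.UnivCatQuot1 Groth.Agent.Lib.Helper4.ClosedActQuot1

namespace Groth.Agent.Lib.Helper4.MulCover1

section Top

/-- a set containing the generic points of all irreducible components of a fibre is dense in the
scheme-theoretic fibre -/
theorem dense_fiber_of_maximal_points {Y S : Scheme.{u}} (p : Y ⟶ S) (s : S) (U : Set Y)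
    (hU : ∀ g : ↥(p.base ⁻¹' {s}), closure {g} ∈ irreducibleComponents ↥(p.base ⁻¹' {s}) →
      g.1 ∈ U) :
    Dense ((p.fiberι s).base ⁻¹' U) := by
  haveI : QuasiSober ↥(p.base ⁻¹' {s}) := (p.fiberHomeo s).symm.isOpenEmbedding.quasiSober
  have hd : Dense {g : ↥(p.base ⁻¹' {s}) | g.1 ∈ U} := by
    rw [dense_iff_inter_open]
    intro O hO hne
    obtain ⟨o, ho⟩ := hne
    obtain ⟨ξ, hξ⟩ := QuasiSober.sober (isIrreducible_irreducibleComponent (x := o))
      isClosed_irreducibleComponent
    have hξ' : closure {ξ} = irreducibleComponent o := hξ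
    have hoZ : o ∈ closure ({ξ} : Set ↥(p.base ⁻¹' {s})) := by
      rw [hξ']
      exact mem_irreducibleComponent
    obtain ⟨z, hzO, hzξ⟩ := mem_closure_iff.1 hoZ O hO ho
    have : z = ξ := hzξ
    subst this
    refine ⟨z, hzO, hU z ?_⟩
    rw [hξ']
    exact irreducibleComponent_mem_irreducibleComponents o
  have := hd.preimage (p.fiberHomeo s).isOpenMap
  exact this

end Top

section Grp
variable {S : Scheme.{u}} {G : Over S} [GrpObj G]

theorem exists_mul_eq_of_dense (U : G.left.Opens)
    (hU : ∀ s : S, Dense ((G.hom.fiberι s).base ⁻¹' (U : Set G.left))) (y : G.left) :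
    ∃ w : (G ⊗ G).left, (fst G G).left.base w ∈ U ∧ (snd G G).left.base w ∈ U ∧
      (μ[G]).left.base w = y := by
  let T : Over S := Over.mk (G.left.fromSpecResidueField y ≫ G.hom)
  let yy : T ⟶ G := Over.homMk (G.left.fromSpecResidueField y) rfl
  have hT : T.hom = Spec.map (G.hom.residueFieldMap y) ≫ S.fromSpecResidueField (G.hom.base y) :=
    (Scheme.Hom.SpecMap_residueFieldMap_fromSpecResidueField G.hom y).symm
  have hbig : IsPullback (fst G T).left (snd G T).left G.hom T.hom := by
    rw [Over.fst_left, Over.snd_left]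
    exact IsPullback.of_hasPullback G.hom T.hom
  let l : (G ⊗ T).left ⟶ G.hom.fiber (G.hom.base y) :=
    pullback.lift (fst G T).left ((snd G T).left ≫ Spec.map (G.hom.residueFieldMap y)) (by
      rw [Category.assoc, ← hT]
      exact hbig.w)
  have hl1 : l ≫ G.hom.fiberι (G.hom.base y) = (fst G T).left := pullback.lift_fst _ _ _
  have hl2 : l ≫ G.hom.fiberToSpecResidueField (G.hom.base y) =
      (snd G T).left ≫ Spec.map (G.hom.residueFieldMap y) := pullback.lift_snd _ _ _
  have hl : IsPullback l (snd G T).left (G.hom.fiberToSpecResidueField (G.hom.base y))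
      (Spec.map (G.hom.residueFieldMap y)) := by
    refine IsPullback.of_right ?_ hl2
      (IsPullback.of_hasPullback G.hom (S.fromSpecResidueField (G.hom.base y)))
    have e1 : l ≫ pullback.fst G.hom (S.fromSpecResidueField (G.hom.base y)) = (fst G T).left := hl1
    rw [e1, ← hT]
    exact hbig
  haveI : Subsingleton ↥(Spec (S.residueField (G.hom.base y))) :=
    inferInstanceAs (Subsingleton (PrimeSpectrum (S.residueField (G.hom.base y))))
  haveI : UniversallyOpen (Spec.map (G.hom.residueFieldMap y)) := inferInstance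
  haveI : UniversallyOpen l := MorphismProperty.of_isPullback hl.flip inferInstance
  -- the twisted inversion
  let τ : G ⊗ T ⟶ G ⊗ T := lift ((snd G T ≫ yy) * (fst G T)⁻¹) (snd G T)
  let τ' : G ⊗ T ⟶ G ⊗ T := lift ((fst G T)⁻¹ * (snd G T ≫ yy)) (snd G T)
  have hτ1 : τ ≫ fst G T = (snd G T ≫ yy) * (fst G T)⁻¹ := lift_fst _ _
  have hτ2 : τ ≫ snd G T = snd G T := lift_snd _ _
  have hτ'1 : τ' ≫ fst G T = (fst G T)⁻¹ * (snd G T ≫ yy) := lift_fst _ _
  have hτ'2 : τ' ≫ snd G T = snd G T := lift_snd _ _
  have hττ' : τ ≫ τ' = 𝟙 _ := by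
    apply CartesianMonoidalCategory.hom_ext
    · rw [Category.assoc, hτ'1, Category.id_comp, comp_mul, comp_inv, hτ1, ← Category.assoc, hτ2]
      group
    · rw [Category.assoc, hτ'2, hτ2, Category.id_comp]
  have hτ'τ : τ' ≫ τ = 𝟙 _ := by
    apply CartesianMonoidalCategory.hom_ext
    · rw [Category.assoc, hτ1, Category.id_comp, comp_mul, comp_inv, hτ'1, ← Category.assoc, hτ'2]
      group
    · rw [Category.assoc, hτ2, hτ'2, Category.id_comp]
  haveI : IsIso τ := ⟨τ', hττ', hτ'τ⟩
  haveI : IsIso τ.left := (Over.forget S).map_isIso τ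
  have hd1 : Dense ((fst G T).left.base ⁻¹' (U : Set G.left)) := by
    have := (hU (G.hom.base y)).preimage l.isOpenMap
    rw [← hl1]
    exact this
  have hd2 : Dense (τ.left.base ⁻¹' ((fst G T).left.base ⁻¹' (U : Set G.left))) :=
    hd1.preimage τ.left.homeomorph.isOpenMap
  have ho1 : IsOpen ((fst G T).left.base ⁻¹' (U : Set G.left)) :=
    U.2.preimage (fst G T).left.continuous
  haveI : Nonempty ↥(G ⊗ T).left :=
    ⟨(lift yy (𝟙 T)).left.base (⊥ : PrimeSpectrum (G.left.residueField y))⟩
  obtain ⟨z, hz1, hz2⟩ := (hd1.inter_of_isOpen_left hd2 ho1).nonempty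
  refine ⟨(lift (τ ≫ fst G T) (fst G T)).left.base z, ?_, ?_, ?_⟩
  · have e := congrArg (fun m => m.left.base z) (lift_fst (τ ≫ fst G T) (fst G T))
    have e' : (fst G G).left.base ((lift (τ ≫ fst G T) (fst G T)).left.base z) =
        (fst G T).left.base (τ.left.base z) := e
    rw [e']
    exact hz2
  · have e := congrArg (fun m => m.left.base z) (lift_snd (τ ≫ fst G T) (fst G T))
    have e' : (snd G G).left.base ((lift (τ ≫ fst G T) (fst G T)).left.base z) =
        (fst G T).left.base z := e
    rw [e']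
    exact hz1
  · have h1 : lift (τ ≫ fst G T) (fst G T) ≫ μ[G] = snd G T ≫ yy := by
      rw [← Hom.mul_def, hτ1]
      group
    have e := congrArg (fun m => m.left.base z) h1
    have e' : (μ[G]).left.base ((lift (τ ≫ fst G T) (fst G T)).left.base z) =
        (G.left.fromSpecResidueField y).base ((snd G T).left.base z) := e
    rw [e']
    exact Scheme.fromSpecResidueField_apply _ _

end Grp

section Main
variable {S : Scheme.{u}} {G XV : Over S} [GrpObj G]

/-- multiplication is a base change of the structure morphism -/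
theorem isPullback_mul : IsPullback μ[G] (snd G G) (toUnit G) (toUnit G) := by
  have e : ∀ {T : Over S} (d : T ⟶ G ⊗ G), d ≫ fst G G = (d ≫ μ[G]) * (d ≫ snd G G)⁻¹ := by
    intro T d
    have : d ≫ μ[G] = (d ≫ fst G G) * (d ≫ snd G G) := by
      rw [Hom.mul_def, lift_comp_fst_snd]
    rw [this]
    group
  apply isPullback_of_points'
  · exact toUnit_unique _ _
  · intro T α β _
    refine ⟨lift (α * β⁻¹) β, ?_, lift_snd _ _⟩
    rw [← Hom.mul_def]
    group
  · intro T c c' h1 h2
    apply CartesianMonoidalCategory.hom_ext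
    · rw [e c, e c', h1, h2]
    · exact h2

theorem main_gen [LocallyOfFinitePresentation G.hom] [Flat G.hom] (φ : XV ⟶ G) [Flat φ.left]
    [LocallyOfFinitePresentation φ.left]
    (hgen : ∀ (s : S) (g : ↥(G.hom.base ⁻¹' {s})),
      closure {g} ∈ irreducibleComponents ↥(G.hom.base ⁻¹' {s}) → g.1 ∈ Set.range φ.left.base) :
    Flat ((φ ⊗ₘ φ) ≫ μ[G]).left ∧ LocallyOfFinitePresentation ((φ ⊗ₘ φ) ≫ μ[G]).left ∧
      Surjective ((φ ⊗ₘ φ) ≫ μ[G]).left := by
  have hΦ : ((φ ⊗ₘ φ) ≫ μ[G]).left = (φ ▷ XV).left ≫ (G ◁ φ).left ≫ μ[G].left := by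
    rw [MonoidalCategory.tensorHom_def]
    rfl
  have sq1 : IsPullback (φ ▷ XV).left (fst XV XV).left (fst G XV).left φ.left :=
    (isPullback_whiskerRight φ XV).map (Over.forget S)
  have sq2 : IsPullback (G ◁ φ).left (snd G XV).left (snd G G).left φ.left :=
    (isPullback_whiskerLeft G φ).map (Over.forget S)
  have sq3 : IsPullback μ[G].left (snd G G).left (toUnit G).left (toUnit G).left :=
    (isPullback_mul (G := G)).map (Over.forget S)
  haveI : Flat (toUnit G).left := by rw [Over.toUnit_left]; infer_instance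
  haveI : LocallyOfFinitePresentation (toUnit G).left := by rw [Over.toUnit_left]; infer_instance
  haveI : Flat (φ ▷ XV).left := MorphismProperty.of_isPullback sq1.flip inferInstance
  haveI : Flat (G ◁ φ).left := MorphismProperty.of_isPullback sq2.flip inferInstance
  haveI : Flat μ[G].left := MorphismProperty.of_isPullback sq3.flip inferInstance
  haveI : LocallyOfFinitePresentation (φ ▷ XV).left :=
    MorphismProperty.of_isPullback sq1.flip inferInstance
  haveI : LocallyOfFinitePresentation (G ◁ φ).left :=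
    MorphismProperty.of_isPullback sq2.flip inferInstance
  haveI : LocallyOfFinitePresentation μ[G].left :=
    MorphismProperty.of_isPullback sq3.flip inferInstance
  refine ⟨by rw [hΦ]; infer_instance, by rw [hΦ]; infer_instance, ?_⟩
  rw [surjective_iff]
  intro y
  let U : G.left.Opens := ⟨Set.range φ.left.base, φ.left.isOpenMap.isOpen_range⟩
  obtain ⟨w, hw1, hw2, hw3⟩ := exists_mul_eq_of_dense U
    (fun s => dense_fiber_of_maximal_points G.hom s _ (hgen s)) y
  obtain ⟨x₁, hx₁⟩ := hw1
  obtain ⟨x₂, hx₂⟩ := hw2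
  obtain ⟨w', hw'1, hw'2⟩ := exists_preimage_of_isPullback sq2 w x₂ hx₂.symm
  have hfw' : (fst G XV).left.base w' = φ.left.base x₁ := by
    have e := congrArg (fun m => m.left.base w') (whiskerLeft_fst G φ)
    have e' : (fst G G).left.base ((G ◁ φ).left.base w') = (fst G XV).left.base w' := e
    rw [← e', hw'1, hx₁]
  obtain ⟨w'', hw''1, hw''2⟩ := exists_preimage_of_isPullback sq1 w' x₁ hfw'
  refine ⟨w'', ?_⟩
  rw [hΦ]
  show μ[G].left.base ((G ◁ φ).left.base ((φ ▷ XV).left.base w'')) = y
  rw [hw''1, hw'1, hw3]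

theorem main (S : Scheme.{u}) (G X : Over S) [GrpObj G] [LocallyOfFinitePresentation G.hom]
    [Flat G.hom] [LocallyOfFinitePresentation X.hom] (f : X ⟶ G)
    (hf : ∀ (s : S) (g : ↥(G.hom.base ⁻¹' {s})),
      closure {g} ∈ irreducibleComponents ↥(G.hom.base ⁻¹' {s}) →
      ∃ x : X.left, f.left.base x = g.1 ∧ (f.left.stalkMap x).hom.Flat)
    (V : X.left.Opens)
    (hV : (V : Set X.left) = {x : X.left | (f.left.stalkMap x).hom.Flat}) :
    letI fV : Over.mk (V.ι ≫ X.hom) ⟶ G := Over.homMk (V.ι ≫ f.left)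
      ((Category.assoc _ _ _).trans (congrArg (V.ι ≫ ·) (Over.w f)))
    Flat ((fV ⊗ₘ fV) ≫ μ[G]).left ∧ LocallyOfFinitePresentation ((fV ⊗ₘ fV) ≫ μ[G]).left ∧
      Surjective ((fV ⊗ₘ fV) ≫ μ[G]).left := by
  let fV : Over.mk (V.ι ≫ X.hom) ⟶ G := Over.homMk (V.ι ≫ f.left)
    ((Category.assoc _ _ _).trans (congrArg (V.ι ≫ ·) (Over.w f)))
  have hfV : fV.left = V.ι ≫ f.left := rfl
  haveI : LocallyOfFinitePresentation f.left := by
    have h : LocallyOfFinitePresentation (f.left ≫ G.hom) := by rw [Over.w f]; infer_instance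
    exact Groth.Agent.Helper2.locallyOfFinitePresentation_of_comp f.left G.hom inferInstance h
  haveI : LocallyOfFinitePresentation fV.left := by rw [hfV]; infer_instance
  haveI : Flat fV.left := by
    rw [hfV]
    apply Flat.of_stalkMap
    intro x
    rw [Scheme.Hom.stalkMap_comp]
    have h1 : (f.left.stalkMap (V.ι x)).hom.Flat := by
      have : (V.ι x) ∈ (V : Set X.left) := x.2
      rw [hV] at this
      exact this
    have h2 : (V.ι.stalkMap x).hom.Flat :=
      RingHom.Flat.of_bijective (ConcreteCategory.bijective_of_isIso (V.ι.stalkMap x))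
    exact h1.comp h2
  exact main_gen fV (fun s g hg => by
    obtain ⟨x, hx1, hx2⟩ := hf s g hg
    have hxV : x ∈ (V : Set X.left) := by rw [hV]; exact hx2
    refine ⟨⟨x, hxV⟩, ?_⟩
    rw [hfV]
    exact hx1)

end Main

end Groth.Agent.Lib.Helper4.MulCover1
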