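import Mathlib
import Groth.Prelude.Def_SGA3x
import Groth.Agent.Lib.Helper4.EssFreeWeil1

/-!
# groups of multiplicative type are essentially free and quasi-compact; centralizers and transporters (S19599, S16777) (helper4)
-/

set_option backward.isDefEq.respectTransparency.types false
set_option synthInstance.maxHeartbeats 400000
set_option autoImplicit false
set_option linter.unusedSectionVars false
set_option linter.style.haveILetI false
set_option linter.unusedSimpArgs false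
universe u v w
open CategoryTheory CategoryTheory.Limits AlgebraicGeometry TopologicalSpace Opposite
open MonoidalCategory CartesianMonoidalCategory MonObj GrpObj
open Groth.Agent.Lib.Helper4

namespace Groth.Agent.Lib.Helper4.MultTypeEssFree1

section AlgM

/-- a factor of a product ring is projective over the product -/
theorem proj_pi {κ : Type u} (R : κ → Type u) [∀ k, CommRing (R k)] (k : κ) :
    @Module.Projective (Π k, R k) _ (R k) _ (Pi.evalRingHom R k).toAlgebra.toModule := by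
  classical
  letI : Algebra (Π k, R k) (R k) := (Pi.evalRingHom R k).toAlgebra
  let s : R k →ₗ[Π k, R k] (Π k, R k) :=
    { toFun := fun x => Pi.single k x
      map_add' := fun x y => Pi.single_add k x y
      map_smul' := fun r x => by
        ext j
        by_cases h : j = k
        · subst h
          simp only [Pi.single_eq_same, RingHom.id_apply, Pi.smul_apply, smul_eq_mul, Pi.mul_apply]
          rfl
        · simp only [Pi.single_eq_of_ne h, RingHom.id_apply, Pi.smul_apply, smul_eq_mul,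
            Pi.mul_apply, mul_zero] }
  refine Module.Projective.of_split (R := Π k, R k) (M := Π k, R k) s
    (Algebra.linearMap (Π k, R k) (R k)) ?_
  refine LinearMap.ext fun x => ?_
  show (Pi.single k x : Π k, R k) k = x
  exact Pi.single_eq_same k x

theorem proj_monoidAlgebra (R : Type u) [CommRing R] (G : Type) [CommMonoid G] :
    @Module.Projective R _ (MonoidAlgebra R G) _
      (algebraMap R (MonoidAlgebra R G)).toAlgebra.toModule := by
  have h : (algebraMap R (MonoidAlgebra R G)).toAlgebra =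
      (inferInstance : Algebra R (MonoidAlgebra R G)) :=
    Algebra.algebra_ext _ _ (fun r => rfl)
  rw [h]
  infer_instance

theorem proj_specMap {R S : CommRingCat.{u}} (φ : R ⟶ S)
    (h : @Module.Projective R _ S _ φ.hom.toAlgebra.toModule) :
    @Module.Projective Γ(Spec R, ⊤) _ Γ(Spec S, ⊤) _
      (Spec.map φ).appTop.hom.toAlgebra.toModule := by
  have po : IsPushout φ (Scheme.ΓSpecIso R).inv (Scheme.ΓSpecIso S).inv (Spec.map φ).appTop :=
    IsPushout.of_vert_isIso ⟨Scheme.ΓSpecIso_inv_naturality φ⟩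
  exact EssFree1.projective_of_pushout _ _ _ _ po h

end AlgM

section Chart

variable {S : Scheme.{u}}

theorem chart_affine_proj {S' : Scheme.{u}} (f : S' ⟶ S) (H : Over S) [GrpObj H] (U' : S'.Opens)
    (M : Type) [AddCommGroup M]
    (e : Grp.mk (Red.bc (U'.ι ≫ f) H) ≅ Grp.mk (Red.DS (U' : Scheme.{u}) M))
    {A0 : Scheme.{u}} [IsAffine A0] (a : A0 ⟶ ↑U') (gam : A0 ⟶ S) (hgam : gam = a ≫ U'.ι ≫ f) :
    IsAffine (pullback H.hom gam) ∧
      @Module.Projective Γ(A0, ⊤) _ Γ(pullback H.hom gam, ⊤) _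
        (pullback.snd H.hom gam).appTop.hom.toAlgebra.toModule := by
  subst hgam
  have hid : e.hom.hom.hom ≫ e.inv.hom.hom = 𝟙 _ := by
    rw [← Grp.comp_hom_hom, e.hom_inv_id]; rfl
  have hid' : e.inv.hom.hom ≫ e.hom.hom.hom = 𝟙 _ := by
    rw [← Grp.comp_hom_hom, e.inv_hom_id]; rfl
  let eO : Red.bc (U'.ι ≫ f) H ≅ Red.DS (U' : Scheme.{u}) M :=
    ⟨e.hom.hom.hom, e.inv.hom.hom, hid, hid'⟩
  let D := Red.diag (ULift.{u} ℤ) M
  let tm : (U' : Scheme.{u}) ⟶ Spec (CommRingCat.of (ULift.{u} ℤ)) :=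
    Limits.IsTerminal.from specULiftZIsTerminal (U' : Scheme.{u})
  let b1 : pullback H.hom (a ≫ U'.ι ≫ f) ⟶ pullback H.hom (U'.ι ≫ f) :=
    pullback.lift (pullback.fst _ _) (pullback.snd _ _ ≫ a)
      (by rw [pullback.condition, Category.assoc])
  have hb1 : b1 ≫ pullback.fst H.hom (U'.ι ≫ f) = pullback.fst H.hom (a ≫ U'.ι ≫ f) :=
    pullback.lift_fst _ _ _
  have hb2 : b1 ≫ pullback.snd H.hom (U'.ι ≫ f) = pullback.snd H.hom (a ≫ U'.ι ≫ f) ≫ a :=
    pullback.lift_snd _ _ _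
  have sq1 : IsPullback b1 (pullback.snd H.hom (a ≫ U'.ι ≫ f))
      (pullback.snd H.hom (U'.ι ≫ f)) a := by
    refine IsPullback.of_right ?_ hb2 (IsPullback.of_hasPullback H.hom (U'.ι ≫ f))
    rw [hb1]
    exact IsPullback.of_hasPullback H.hom (a ≫ U'.ι ≫ f)
  have hw : eO.hom.left ≫ pullback.snd D.hom tm = pullback.snd H.hom (U'.ι ≫ f) := Over.w eO.hom
  haveI : IsIso eO.hom.left := inferInstance
  have sq2 : IsPullback eO.hom.left (pullback.snd H.hom (U'.ι ≫ f)) (pullback.snd D.hom tm)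
      (𝟙 _) := IsPullback.of_horiz_isIso ⟨by rw [Category.comp_id, hw]⟩
  have sq3 : IsPullback (pullback.fst D.hom tm) (pullback.snd D.hom tm) D.hom tm :=
    IsPullback.of_hasPullback _ _
  have big := (sq1.paste_horiz sq2).paste_horiz sq3
  haveI : IsAffine D.left := inferInstanceAs (IsAffine (Spec _))
  haveI : IsAffine (pullback H.hom (a ≫ U'.ι ≫ f)) := IsAffine.of_isPullback big
  refine ⟨inferInstance, ?_⟩
  have po := isPushout_appTop_of_isPullback big
  refine EssFree1.projective_of_pushout _ _ _ _ po ?_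
  exact proj_specMap _ (proj_monoidAlgebra (ULift.{u} ℤ) (Multiplicative M))

end Chart

section Main

variable {S : Scheme.{u}}

theorem isIso_appTop_of_iso {X Y : Scheme.{u}} (e : X ≅ Y) : IsIso e.hom.appTop :=
  ⟨e.inv.appTop, by rw [← Scheme.Hom.comp_appTop, e.inv_hom_id, Scheme.Hom.id_appTop],
    by rw [← Scheme.Hom.comp_appTop, e.hom_inv_id, Scheme.Hom.id_appTop]⟩

/-- a finite jointly surjective family of flat maps from affine schemes to an affine scheme factors
through open immersions into one affine scheme, flat and surjective over the target -/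
theorem exists_affine_prod_cover {κ : Type u} [Finite κ] (X : κ → Scheme.{u}) [∀ k, IsAffine (X k)]
    {V : Scheme.{u}} [IsAffine V] (lf : ∀ k, X k ⟶ V) (hflat : ∀ k, Flat (lf k))
    (hsurj : ∀ v : V, ∃ k, ∃ y : X k, lf k y = v) :
    ∃ (S'' : Scheme.{u}) (_ : IsAffine S'') (g : S'' ⟶ V) (o : ∀ k, X k ⟶ S''),
      Flat g ∧ Surjective g ∧ (∀ k, IsOpenImmersion (o k)) ∧ (∀ k, o k ≫ g = lf k) ∧
      (∀ y : S'', ∃ k, ∃ y' : X k, o k y' = y) ∧
      ∀ k, @Module.Projective Γ(S'', ⊤) _ Γ(X k, ⊤) _ (o k).appTop.hom.toAlgebra.toModule := by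
  let R : κ → Type u := fun k => Γ(X k, ⊤)
  let ev : ∀ k : κ, CommRingCat.of (Π k, R k) ⟶ Γ(X k, ⊤) :=
    fun k => CommRingCat.ofHom (Pi.evalRingHom R k)
  let o : ∀ k : κ, X k ⟶ Spec (CommRingCat.of (Π k, R k)) :=
    fun k => (X k).isoSpec.hom ≫ Spec.map (ev k)
  let pi : Γ(V, ⊤) ⟶ CommRingCat.of (Π k, R k) :=
    CommRingCat.ofHom (Pi.ringHom fun k => (lf k).appTop.hom)
  let g : Spec (CommRingCat.of (Π k, R k)) ⟶ V := Spec.map pi ≫ V.isoSpec.inv
  have hog : ∀ k, o k ≫ g = lf k := by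
    intro k
    have h1 : pi ≫ ev k = (lf k).appTop := by
      ext x
      rfl
    show ((X k).isoSpec.hom ≫ Spec.map (ev k)) ≫ Spec.map pi ≫ V.isoSpec.inv = lf k
    rw [Category.assoc, ← Category.assoc (Spec.map (ev k)), ← Spec.map_comp, h1,
      Scheme.isoSpec_hom_naturality_assoc, Iso.hom_inv_id, Category.comp_id]
  have hoi : ∀ k, IsOpenImmersion (o k) := fun k => by
    haveI : IsOpenImmersion (Spec.map (ev k)) :=
      AlgebraicGeometry.instIsOpenImmersionMapOfHomForallEvalRingHom.{u, u} k R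
    exact inferInstanceAs (IsOpenImmersion ((X k).isoSpec.hom ≫ Spec.map (ev k)))
  have hjs : ∀ y : ↥(Spec (CommRingCat.of (Π k, R k))), ∃ (k : κ) (y' : ↥(X k)), (o k) y' = y := by
    intro y
    obtain ⟨k, q, hq⟩ := PrimeSpectrum.exists_comap_evalRingHom_eq (R := R) y
    refine ⟨k, (X k).isoSpec.inv q, ?_⟩
    have h2 : (X k).isoSpec.inv ≫ o k = Spec.map (ev k) := by
      show (X k).isoSpec.inv ≫ (X k).isoSpec.hom ≫ Spec.map (ev k) = _
      rw [Iso.inv_hom_id_assoc]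
    rw [← Scheme.Hom.comp_apply, h2]
    exact hq
  let 𝒰 : Scheme.OpenCover.{u} (Spec (CommRingCat.of (Π k, R k))) :=
    { I₀ := κ
      X := X
      f := o
      mem₀ := by
        rw [Scheme.presieve₀_mem_precoverage_iff]
        refine ⟨fun y => ?_, hoi⟩
        obtain ⟨k, y', hy'⟩ := hjs y
        exact ⟨k, y', hy'⟩ }
  have hgflat : Flat g := by
    refine IsZariskiLocalAtSource.of_openCover (P := @Flat) 𝒰 fun k => ?_
    show Flat (o k ≫ g)
    rw [hog]
    exact hflat k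
  have hgsurj : Surjective g := by
    refine ⟨fun v => ?_⟩
    obtain ⟨k, y, hy⟩ := hsurj v
    refine ⟨o k y, ?_⟩
    rw [← Scheme.Hom.comp_apply, hog]
    exact hy
  refine ⟨Spec (CommRingCat.of (Π k, R k)), inferInstance, g, o, hgflat, hgsurj, hoi, hog, hjs,
    fun k => ?_⟩
  haveI : IsIso (X k).isoSpec.hom.appTop := isIso_appTop_of_iso _
  have po4 : IsPushout (ev k) (Scheme.ΓSpecIso (CommRingCat.of (Π k, R k))).inv
      ((Scheme.ΓSpecIso Γ(X k, ⊤)).inv ≫ (X k).isoSpec.hom.appTop) (o k).appTop := by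
    refine IsPushout.of_vert_isIso ⟨?_⟩
    rw [← Category.assoc, Scheme.ΓSpecIso_inv_naturality, Category.assoc,
      ← Scheme.Hom.comp_appTop]
  exact EssFree1.projective_of_pushout _ _ _ _ po4 (proj_pi R k)

/-- a chart of the pullback over an open affine piece of the base -/
theorem chart_of_openImmersion {Hl S S'' X : Scheme.{u}} [IsAffine S''] [IsAffine X] (h : Hl ⟶ S)
    (gam : S'' ⟶ S) (o : X ⟶ S'') [IsOpenImmersion o] (gk : X ⟶ S) (hcomm : o ≫ gam = gk)
    [IsAffine (pullback h gk)]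
    (hK4 : @Module.Projective Γ(S'', ⊤) _ Γ(X, ⊤) _ o.appTop.hom.toAlgebra.toModule)
    (hprojQ : @Module.Projective Γ(X, ⊤) _ Γ(pullback h gk, ⊤) _
      (pullback.snd h gk).appTop.hom.toAlgebra.toModule)
    :
    ∃ V : (pullback h gam).Opens, IsAffineOpen V ∧
      (∀ (x : ↥(pullback h gam)) (y' : X), o y' = (pullback.snd h gam) x → x ∈ V) ∧
      (letI := (V.ι ≫ pullback.snd h gam).appTop.hom.toAlgebra
       Module.Projective Γ(S'', ⊤) Γ(↑V, ⊤)) := by
  let ω : pullback h gk ⟶ pullback h gam :=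
    pullback.lift (pullback.fst h gk) (pullback.snd h gk ≫ o)
      (by rw [pullback.condition, Category.assoc, hcomm])
  have hω1 : ω ≫ pullback.fst h gam = pullback.fst h gk := pullback.lift_fst _ _ _
  have hω2 : ω ≫ pullback.snd h gam = pullback.snd h gk ≫ o := pullback.lift_snd _ _ _
  have sq : IsPullback ω (pullback.snd h gk) (pullback.snd h gam) o := by
    refine IsPullback.of_right ?_ hω2 (IsPullback.of_hasPullback h gam)
    rw [hω1, hcomm]
    exact IsPullback.of_hasPullback h gk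
  haveI : IsOpenImmersion ω :=
    MorphismProperty.of_isPullback (P := @IsOpenImmersion) sq.flip inferInstance
  have hmem : ∀ (x : ↥(pullback h gam)) (y' : X), o y' = (pullback.snd h gam) x →
      x ∈ ω.opensRange := by
    intro x y' hy'
    obtain ⟨z', hz1, hz2⟩ := Scheme.Pullback.exists_preimage_pullback
      (f := pullback.snd h gam) (g := o) x y' hy'.symm
    refine ⟨sq.isoPullback.inv z', ?_⟩
    rw [← Scheme.Hom.comp_apply, sq.isoPullback_inv_fst]
    exact hz1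
  refine ⟨ω.opensRange, isAffineOpen_opensRange ω, hmem, ?_⟩
  have hQ : @Module.Projective Γ(S'', ⊤) _ Γ(pullback h gk, ⊤) _
      (o.appTop ≫ (pullback.snd h gk).appTop).hom.toAlgebra.toModule := by
    letI : Algebra Γ(S'', ⊤) Γ(X, ⊤) := o.appTop.hom.toAlgebra
    letI : Algebra Γ(X, ⊤) Γ(pullback h gk, ⊤) := (pullback.snd h gk).appTop.hom.toAlgebra
    letI : Algebra Γ(S'', ⊤) Γ(pullback h gk, ⊤) :=
      (o.appTop ≫ (pullback.snd h gk).appTop).hom.toAlgebra
    haveI : IsScalarTower Γ(S'', ⊤) Γ(X, ⊤) Γ(pullback h gk, ⊤) := .of_algebraMap_eq' rfl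
    haveI : Module.Projective Γ(S'', ⊤) Γ(X, ⊤) := hK4
    haveI : Module.Projective Γ(X, ⊤) Γ(pullback h gk, ⊤) := hprojQ
    exact EssFree1.projective_trans _ Γ(X, ⊤) _
  haveI : IsIso ω.isoOpensRange.symm.hom.appTop := isIso_appTop_of_iso _
  have po5 : IsPushout (o.appTop ≫ (pullback.snd h gk).appTop) (𝟙 Γ(S'', ⊤))
      ω.isoOpensRange.symm.hom.appTop (ω.opensRange.ι ≫ pullback.snd h gam).appTop := by
    refine IsPushout.of_vert_isIso ⟨?_⟩
    rw [Category.id_comp, ← Scheme.Hom.comp_appTop, ← Scheme.Hom.comp_appTop, ← hω2,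
      ← Category.assoc]
    show (ω.isoOpensRange.inv ≫ ω ≫ pullback.snd h gam).appTop = _
    rw [← Category.assoc, Scheme.Hom.isoOpensRange_inv_comp]
  exact EssFree1.projective_of_pushout _ _ _ _ po5 hQ

theorem multType_local_data (H : Over S) [GrpObj H] (hH : SGA3x.IsMultTypeFT H) (s : S) :
    ∃ (V : S.Opens), s ∈ V ∧ IsAffineOpen V ∧ ∃ (S'' : Scheme.{u}) (_ : IsAffine S'')
      (g : S'' ⟶ (V : Scheme.{u})), Flat g ∧ Surjective g ∧
      ∃ (κ : Type u) (_ : Finite κ) (Vc : κ → (pullback H.hom (g ≫ V.ι)).Opens),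
        (∀ x, ∃ k, x ∈ Vc k) ∧ ∀ k, IsAffineOpen (Vc k) ∧
          (letI := ((Vc k).ι ≫ pullback.snd H.hom (g ≫ V.ι)).appTop.hom.toAlgebra
           Module.Projective Γ(S'', ⊤) Γ(↑(Vc k), ⊤)) := by
  obtain ⟨S', f, hf1, hf2, hfpqc, htriv⟩ := hH
  haveI := hf1
  haveI := hf2
  obtain ⟨V, hV, hsV, -⟩ := exists_isAffineOpen_mem_and_subset (x := s) (U := ⊤) trivial
  haveI : IsAffine ↑V := hV
  obtain ⟨W, hWc, hWV⟩ := hfpqc V hV
  have hchart : ∀ i : ↥(f ⁻¹ᵁ V), ∃ (A U' : S'.Opens) (M : Type) (_ : AddCommGroup M),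
      i.1 ∈ A ∧ IsAffineOpen A ∧ A ≤ U' ∧ A ≤ f ⁻¹ᵁ V ∧
      Nonempty (Grp.mk (Red.bc (U'.ι ≫ f) H) ≅ Grp.mk (Red.DS (U' : Scheme.{u}) M)) := by
    intro i
    obtain ⟨U', hiU', M, hM, -, he⟩ := htriv i.1
    obtain ⟨A, hA, hiA, hAsub⟩ := exists_isAffineOpen_mem_and_subset (x := i.1)
      (U := U' ⊓ f ⁻¹ᵁ V) ⟨hiU', i.2⟩
    exact ⟨A, U', M, hM, hiA, hA, fun _ hx => (hAsub hx).1, fun _ hx => (hAsub hx).2, he⟩
  choose A U' M hM hiA hA hAU hAV he using hchart
  have hWsub : (W : Set S') ⊆ ⋃ i : ↥(f ⁻¹ᵁ V), (A i : Set S') := by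
    intro w hw
    have hwV : w ∈ f ⁻¹ᵁ V := by
      show f w ∈ V
      have : f w ∈ f.base '' (W : Set S') := ⟨w, hw, rfl⟩
      rw [hWV] at this
      exact this
    exact Set.mem_iUnion.mpr ⟨⟨w, hwV⟩, hiA ⟨w, hwV⟩⟩
  obtain ⟨t, ht⟩ := hWc.elim_finite_subcover (fun i : ↥(f ⁻¹ᵁ V) => (A i : Set S'))
    (fun i => (A i).isOpen) hWsub
  haveI : ∀ k : {i // i ∈ t}, IsAffine ((fun k : {i // i ∈ t} => (A k.1 : Scheme.{u})) k) :=
    fun k => hA k.1
  have hsurj : ∀ v : ↥(V : Scheme.{u}), ∃ (k : {i // i ∈ t}) (y : ↥(A k.1 : Scheme.{u})),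
      (f.resLE V (A k.1) (hAV k.1)) y = v := by
    intro v
    have hv : V.ι v ∈ f.base '' (W : Set S') := by
      rw [hWV]
      exact v.2
    obtain ⟨w, hw, hfw⟩ := hv
    have hwc := ht hw
    simp only [Set.mem_iUnion] at hwc
    obtain ⟨i, hit, hwi⟩ := hwc
    refine ⟨⟨i, hit⟩, ⟨w, hwi⟩, ?_⟩
    apply V.ι.isOpenEmbedding.injective
    rw [← Scheme.Hom.comp_apply, Scheme.Hom.resLE_comp_ι, Scheme.Hom.comp_apply]
    exact hfw
  obtain ⟨S'', hS'', g, o, hgflat, hgsurj, hoi, hog, hjs, hK4⟩ :=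
    exists_affine_prod_cover (fun k : {i // i ∈ t} => (A k.1 : Scheme.{u}))
      (fun k => f.resLE V (A k.1) (hAV k.1))
      (fun k => IsZariskiLocalAtSource.resLE (P := @Flat) _ hf1) hsurj
  haveI := hS''
  have hcharts : ∀ k : {i // i ∈ t}, ∃ Vk : (pullback H.hom (g ≫ V.ι)).Opens, IsAffineOpen Vk ∧
      (∀ (x : ↥(pullback H.hom (g ≫ V.ι))) (y' : ↥(A k.1 : Scheme.{u})),
        o k y' = (pullback.snd H.hom (g ≫ V.ι)) x → x ∈ Vk) ∧
      (letI := (Vk.ι ≫ pullback.snd H.hom (g ≫ V.ι)).appTop.hom.toAlgebra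
       Module.Projective Γ(S'', ⊤) Γ(↑Vk, ⊤)) := by
    intro k
    have hcomm : o k ≫ (g ≫ V.ι) = (A k.1).ι ≫ f := by
      rw [← Category.assoc, hog, Scheme.Hom.resLE_comp_ι]
    letI := hM k.1
    obtain ⟨haffQ, hprojQ⟩ := chart_affine_proj f H (U' k.1) (M k.1) (he k.1).some
      (S'.homOfLE (hAU k.1)) ((A k.1).ι ≫ f) (by rw [← Category.assoc, Scheme.homOfLE_ι])
    haveI := haffQ
    haveI := hoi k
    haveI : IsAffine (A k.1 : Scheme.{u}) := hA k.1
    exact chart_of_openImmersion H.hom (g ≫ V.ι) (o k) ((A k.1).ι ≫ f) hcomm (hK4 k) hprojQ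
  choose Vc hVc1 hVc2 hVc3 using hcharts
  refine ⟨V, hsV, hV, S'', hS'', g, hgflat, hgsurj, {i // i ∈ t}, inferInstance, Vc, ?_,
    fun k => ⟨hVc1 k, hVc3 k⟩⟩
  intro x
  obtain ⟨k, y', hy'⟩ := hjs ((pullback.snd H.hom (g ≫ V.ι)) x)
  exact ⟨k, hVc2 k x y' hy'⟩

theorem essFree_of_multType (H : Over S) [GrpObj H] (hH : SGA3x.IsMultTypeFT H) :
    SGA3x.IsEssentiallyFree H.hom := by
  intro s
  obtain ⟨V, hsV, hV, S'', hS'', g, hg1, hg2, κ, hκ, Vc, hcov, hVc⟩ := multType_local_data H hH s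
  refine ⟨V, hsV, hV, S'', hS'', g, hg1, hg2, fun x => ?_⟩
  obtain ⟨k, hk⟩ := hcov x
  exact ⟨Vc k, hk, (hVc k).1, (hVc k).2⟩

theorem quasiCompact_of_multType (H : Over S) [GrpObj H] (hH : SGA3x.IsMultTypeFT H) :
    QuasiCompact H.hom := by
  apply IsZariskiLocalAtTarget.of_forall_exists_morphismRestrict (P := @QuasiCompact)
  intro s
  obtain ⟨V, hsV, hV, S'', hS'', g, hg1, hg2, κ, hκ, Vc, hcov, hVc⟩ := multType_local_data H hH s
  refine ⟨V, hsV, ?_⟩
  haveI : IsAffine ↑V := hV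
  haveI := hκ
  have hP : IsCompact (Set.univ : Set ↥(pullback H.hom (g ≫ V.ι))) := by
    have : (Set.univ : Set ↥(pullback H.hom (g ≫ V.ι))) = ⋃ k, (Vc k : Set _) := by
      ext x
      simp only [Set.mem_univ, Set.mem_iUnion, true_iff]
      exact hcov x
    rw [this]
    exact isCompact_iUnion fun k => (hVc k).1.isCompact
  have hc : IsCompact ((H.hom ⁻¹ᵁ V : H.left.Opens) : Set H.left) := by
    have hr : ((H.hom ⁻¹ᵁ V : H.left.Opens) : Set H.left) =
        Set.range (pullback.fst H.hom (g ≫ V.ι)) := by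
      rw [Scheme.Pullback.range_fst]
      ext y
      constructor
      · intro hy
        obtain ⟨z, hz⟩ := hg2.surj ⟨H.hom y, hy⟩
        refine ⟨z, ?_⟩
        rw [Scheme.Hom.comp_apply, hz]
        rfl
      · rintro ⟨z, hz⟩
        show H.hom y ∈ V
        rw [← hz, Scheme.Hom.comp_apply]
        exact (g z).2
    rw [hr, ← Set.image_univ]
    exact hP.image (pullback.fst H.hom (g ≫ V.ι)).continuous
  rw [HasAffineProperty.iff_of_isAffine (P := @QuasiCompact)]
  exact isCompact_iff_compactSpace.mp hc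

end Main

section Rep

variable {S : Scheme.{u}} (F X : Over S)

theorem essfree_rep (hF : SGA3x.IsEssentiallyFree F.hom) {E : Scheme.{u}}
    (i : E ⟶ (F ⊗ X).left) [IsClosedImmersion i] :
    ∃ (Z : Over S) (j : Z ⟶ X), IsClosedImmersion j.left ∧
      (∀ (T : Over S) (x : T ⟶ X),
        (∃ l : (F ⊗ T).left ⟶ E, l ≫ i = (F ◁ x).left) ↔ ∃ z : T ⟶ Z, z ≫ j = x) ∧
      (QuasiCompact F.hom → LocallyOfFinitePresentation i →
        LocallyOfFinitePresentation j.left) := by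
  have hess : SGA3x.IsEssentiallyFree (snd F X).left := by
    rw [Over.snd_left]
    exact EssFree1.part4 F.hom X.hom hF
  obtain ⟨Z₀, j₀, hj₀, hrep, hfp⟩ :=
    EssFreeWeil1.main X.left (F ⊗ X).left E (snd F X).left hess i
  refine ⟨Over.mk (j₀ ≫ X.hom), Over.homMk j₀ rfl, hj₀, ?_, ?_⟩
  · intro T x
    have h1 := hrep T.left x.left
    rw [← EssFreeWeil1.Fp_iff_isIso, EssFreeWeil1.Fp_iff_of_isPullback _ _ x.left (F ◁ x).left
      (snd F T).left (ContentRep2.isPullback_whiskerLeft F X x)] at h1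
    rw [← h1]
    constructor
    · rintro ⟨z₀, hz₀⟩
      refine ⟨Over.homMk z₀ ?_, ?_⟩
      · show z₀ ≫ j₀ ≫ X.hom = T.hom
        rw [← Category.assoc, hz₀]; exact Over.w x
      · ext; exact hz₀
    · rintro ⟨z, rfl⟩
      exact ⟨z.left, rfl⟩
  · intro hqc hlfp
    haveI := hqc
    apply hfp
    · rw [Over.snd_left]; infer_instance
    · exact hlfp

end Rep

theorem main_S19599 {S : Scheme.{u}} (G H : Over S) [GrpObj G] [GrpObj H]
    (hGa : IsAffineHom G.hom) (hGfp : LocallyOfFinitePresentation G.hom)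
    (i : H ⟶ G) [IsMonHom i] (hi : IsClosedImmersion i.left)
    (hHfp : LocallyOfFinitePresentation H.hom) (hH : SGA3x.IsMultTypeFT H) :
    ∃ (C : Over S) (c : C ⟶ G), IsClosedImmersion c.left ∧
      ∀ (X : Over S) (g : X ⟶ G), (∃ z : X ⟶ C, z ≫ c = g) ↔
        ∀ (X' : Over S) (x : X' ⟶ X) (a : X' ⟶ H),
          (x ≫ g) * (a ≫ i) = (a ≫ i) * (x ≫ g) := by
  haveI : IsClosedImmersion
      (equalizer.ι ((snd H G) * (fst H G ≫ i)) ((fst H G ≫ i) * (snd H G))).left := inferInstance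
  obtain ⟨Z, j, hj, hrep, -⟩ := essfree_rep H G (essFree_of_multType H hH)
    (equalizer.ι ((snd H G) * (fst H G ≫ i)) ((fst H G ≫ i) * (snd H G))).left
  refine ⟨Z, j, hj, fun X g => ?_⟩
  rw [← hrep X g, ContentRep2.lift_equalizer_iff]
  have e1 : (H ◁ g) ≫ ((snd H G) * (fst H G ≫ i)) = (snd H X ≫ g) * (fst H X ≫ i) := by
    rw [MonObj.comp_mul, whiskerLeft_snd, whiskerLeft_fst_assoc]
  have e2 : (H ◁ g) ≫ ((fst H G ≫ i) * (snd H G)) = (fst H X ≫ i) * (snd H X ≫ g) := by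
    rw [MonObj.comp_mul, whiskerLeft_snd, whiskerLeft_fst_assoc]
  rw [e1, e2]
  constructor
  · intro h X' x a
    have := congrArg (fun m => lift a x ≫ m) h
    simp only [MonObj.comp_mul, lift_snd_assoc, lift_fst_assoc] at this
    exact this
  · intro h
    exact h (H ⊗ X) (snd H X) (fst H X)

theorem main_S16777 {S : Scheme.{u}} (G H Y' : Over S) [GrpObj G] [GrpObj H]
    (hGa : IsAffineHom G.hom) (hGfp : LocallyOfFinitePresentation G.hom)
    (i : H ⟶ G) [IsMonHom i] [Mono i] (hH : SGA3x.IsMultTypeFT H)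
    (y' : Y' ⟶ G) (hy' : IsClosedImmersion y'.left)
    (hY'fp : LocallyOfFinitePresentation Y'.hom) :
    ∃ (C : Over S) (c : C ⟶ G), IsClosedImmersion c.left ∧ LocallyOfFinitePresentation C.hom ∧
      ∀ (X : Over S) (g : X ⟶ G), (∃ z : X ⟶ C, z ≫ c = g) ↔
        ∀ (X' : Over S) (x : X' ⟶ X) (h : X' ⟶ H),
          ∃ a' : X' ⟶ Y', (x ≫ g) * (h ≫ i) * (x ≫ g)⁻¹ = a' ≫ y' := by
  let cj : H ⊗ G ⟶ G := (snd H G) * (fst H G ≫ i) * (snd H G)⁻¹
  haveI : LocallyOfFinitePresentation y'.left :=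
    Groth.Agent.Helper2.locallyOfFinitePresentation_of_comp y'.left G.hom inferInstance
      (by rw [Over.w y']; exact hY'fp)
  haveI : IsClosedImmersion (pullback.snd y'.left cj.left) :=
    MorphismProperty.pullback_snd (P := @IsClosedImmersion) _ _ inferInstance
  haveI : LocallyOfFinitePresentation (pullback.snd y'.left cj.left) :=
    MorphismProperty.pullback_snd (P := @LocallyOfFinitePresentation) _ _ inferInstance
  obtain ⟨Z, j, hj, hrep, hfp⟩ := essfree_rep H G (essFree_of_multType H hH)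
    (pullback.snd y'.left cj.left)
  haveI : LocallyOfFinitePresentation j.left :=
    hfp (quasiCompact_of_multType H hH) inferInstance
  refine ⟨Z, j, hj, ?_, fun X g => ?_⟩
  · rw [← Over.w j]; infer_instance
  · rw [← hrep X g, ContentRep6.lift_pullback_iff, ContentRep6.forall_iff_whisker]
    constructor
    · intro h X' x a
      obtain ⟨a', ha'⟩ := h X' x a
      exact ⟨a', by rw [← ha', ContentRep6.conj_eq]⟩
    · intro h X' x a
      obtain ⟨a', ha'⟩ := h X' x a
      exact ⟨a', by rw [← ha', ContentRep6.conj_eq]⟩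

end Groth.Agent.Lib.Helper4.MultTypeEssFree1
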