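import Mathlib
import Groth.Prelude.Def_ega3
import Groth.Agent.Lib.Helper4.HomEl1
import Groth.Agent.Lib.Helper4.ExchAlg1
import Groth.Agent.Lib.Helper4.DualTen1

/-!
# H^p(K ⊗ M) commutes with arbitrary products in M, for K a complex of finite projective modules (helper4)
-/

set_option backward.isDefEq.respectTransparency.types false
set_option synthInstance.maxHeartbeats 400000
set_option autoImplicit false
set_option linter.unusedSectionVars false
set_option linter.style.haveILetI false
set_option linter.unusedSimpArgs false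
universe u v w
open CategoryTheory
open CategoryTheory.Limits
open TensorProduct
open Groth.Agent.Lib.Helper4.HomEl1
open Groth.Agent.Lib.Helper4.ExchAlg1
open Groth.Agent.Lib.Helper4.DualTen1

namespace Groth.Agent.Lib.Helper4.ProdAlg1

variable {A : Type u} [CommRing A] (K : CochainComplex (ModuleCat.{u} A) ℤ)
variable {J : Type u} (f : J → ModuleCat.{u} A)

/-- the product module -/
abbrev PiM : ModuleCat.{u} A := ModuleCat.of A (∀ j, f j)

/-- the projections -/
abbrev prM (j : J) : PiM f ⟶ f j := ModuleCat.ofHom (LinearMap.proj j)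

section Fix
variable (o p q : ℤ) (hop : o + 1 = p) (hpq : p + 1 = q)

/-- the comparison map on cohomology -/
noncomputable def Theta (c : (CohIII.TFun K p).obj (PiM f)) (j : J) : (CohIII.TFun K p).obj (f j) :=
  ((CohIII.TFun K p).map (prM f j)).hom c

theorem kappa_comm (i i' : ℤ) (z : (K.X i) ⊗[A] (∀ j, f j)) (j : J) :
    (LinearMap.proj j : (∀ j, f j) →ₗ[A] f j).lTensor (K.X i') ((K.d i i').hom.rTensor _ z) =
      (K.d i i').hom.rTensor _ ((LinearMap.proj j : (∀ j, f j) →ₗ[A] f j).lTensor (K.X i) z) := by
  rw [← LinearMap.comp_apply, ← LinearMap.comp_apply, LinearMap.lTensor_comp_rTensor,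
    LinearMap.rTensor_comp_lTensor]

include hop hpq in
theorem Theta_injective [Module.Finite A (K.X o)] [Module.Projective A (K.X o)]
    [Module.Finite A (K.X p)] [Module.Projective A (K.X p)] :
    Function.Injective (Theta K f p) := by
  intro c c' hcc
  rw [← sub_eq_zero]
  have h0 : ∀ j, ((CohIII.TFun K p).map (prM f j)).hom (c - c') = 0 := by
    intro j
    rw [map_sub, sub_eq_zero]
    exact congrFun hcc j
  generalize c - c' = e at h0
  obtain ⟨z, rfl⟩ := cls_surjective (KM K (PiM f)) p q hpq e
  have h1 : ∀ j, ∃ w : (K.X o) ⊗[A] (f j),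
      (K.d o p).hom.rTensor _ w = (LinearMap.proj j : (∀ j, f j) →ₗ[A] f j).lTensor (K.X p) z.1 := by
    intro j
    have h2 := (map_cls (CohIII.tensorMap K (prM f j)) p q hpq z).symm.trans (h0 j)
    exact (cls_eq_zero_iff (KM K (f j)) o p q hop hpq _).1 h2
  choose w hw using h1
  obtain ⟨W, hW⟩ := (piRightHom_bijective A (K.X o) (fun j => f j)).2 w
  refine (cls_eq_zero_iff (KM K (PiM f)) o p q hop hpq z).2 ⟨W, ?_⟩
  apply (piRightHom_bijective A (K.X p) (fun j => f j)).1
  funext j
  change TensorProduct.piRightHom A A (K.X p) (fun j => f j) ((K.d o p).hom.rTensor _ W) j = _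
  rw [piRightHom_eq, piRightHom_eq, kappa_comm, ← piRightHom_eq, hW, hw]

include hpq in
theorem Theta_surjective [Module.Finite A (K.X q)] [Module.Projective A (K.X q)]
    [Module.Finite A (K.X p)] [Module.Projective A (K.X p)] :
    Function.Surjective (Theta K f p) := by
  intro c
  have h1 : ∀ j, ∃ z : Zs (KM K (f j)) p q, cls (KM K (f j)) p q hpq z = c j := fun j =>
    cls_surjective (KM K (f j)) p q hpq (c j)
  choose z hz using h1
  obtain ⟨Z, hZ⟩ := (piRightHom_bijective A (K.X p) (fun j => f j)).2 (fun j => (z j).1)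
  have hcyc : Z ∈ Zs (KM K (PiM f)) p q := by
    change (K.d p q).hom.rTensor _ Z = 0
    apply (piRightHom_bijective A (K.X q) (fun j => f j)).1
    funext j
    rw [piRightHom_eq, kappa_comm, ← piRightHom_eq, hZ, map_zero]
    exact (z j).2
  refine ⟨cls (KM K (PiM f)) p q hpq ⟨Z, hcyc⟩, ?_⟩
  funext j
  refine (map_cls (CohIII.tensorMap K (prM f j)) p q hpq _).trans ?_
  rw [← hz j]
  congr 1
  apply Subtype.ext
  change (LinearMap.proj j : (∀ j, f j) →ₗ[A] f j).lTensor (K.X p) Z = (z j).1
  rw [← piRightHom_eq, hZ]

end Fix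


section Pack

/-- a cone over a discrete diagram of abelian groups is limiting if the induced map to the product is bijective -/
noncomputable def isLimitOfBijective {J : Type u} (D : Discrete J ⥤ AddCommGrpCat.{u}) (c : Cone D)
    (h : Function.Bijective (fun (x : c.pt) (j : J) => (c.π.app ⟨j⟩).hom x)) : IsLimit c := by
  let φ : c.pt →+ (∀ j : J, D.obj ⟨j⟩) :=
    { toFun := fun x j => (c.π.app ⟨j⟩).hom x
      map_zero' := by funext j; exact map_zero _
      map_add' := fun x y => by funext j; exact map_add _ x y }
  let e : c.pt ≃+ (∀ j : J, D.obj ⟨j⟩) := AddEquiv.ofBijective φ h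
  exact
    { lift := fun s => AddCommGrpCat.ofHom (e.symm.toAddMonoidHom.comp
        { toFun := fun x j => (s.π.app ⟨j⟩).hom x
          map_zero' := by funext j; exact map_zero _
          map_add' := fun x y => by funext j; exact map_add _ x y })
      fac := fun s ⟨j⟩ => by
        apply ConcreteCategory.hom_ext
        intro x
        change (c.π.app ⟨j⟩).hom (e.symm (fun j => (s.π.app ⟨j⟩).hom x)) = _
        have := congrFun (e.apply_symm_apply (fun j => (s.π.app ⟨j⟩).hom x)) j
        exact this
      uniq := fun s m hm => by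
        apply ConcreteCategory.hom_ext
        intro x
        apply e.injective
        change e (m.hom x) = e (e.symm (fun j => (s.π.app ⟨j⟩).hom x))
        rw [e.apply_symm_apply]
        funext j
        exact ConcreteCategory.congr_hom (hm ⟨j⟩) x }

variable (p : ℤ)

/-- **`M ↦ H^p(K ⊗ M)` commutes with arbitrary products** for a complex of finite projective modules -/
theorem preservesProducts (hK : ∀ i, Module.Finite A (K.X i) ∧ Module.Projective A (K.X i))
    (J : Type u) :
    PreservesLimitsOfShape (Discrete J)
      (CohIII.TFun K p ⋙ forget₂ (ModuleCat.{u} A) AddCommGrpCat.{u}) := by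
  haveI : ∀ f : J → ModuleCat.{u} A, PreservesLimit (Discrete.functor f)
      (CohIII.TFun K p ⋙ forget₂ (ModuleCat.{u} A) AddCommGrpCat.{u}) := by
    intro f
    apply preservesLimit_of_preserves_limit_cone (ModuleCat.productConeIsLimit f)
    apply isLimitOfBijective
    haveI := fun i => (hK i).1
    haveI := fun i => (hK i).2
    exact ⟨Theta_injective K f (p - 1) p (p + 1) (by omega) rfl,
      Theta_surjective K f p (p + 1) rfl⟩
  exact preservesLimitsOfShape_of_discrete _

end Pack

end Groth.Agent.Lib.Helper4.ProdAlg1
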