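import Mathlib
import Groth.Prelude.Def_ega3
import Groth.Agent.Lib.Helper4.MumCx2
import Groth.Agent.Lib.Helper4.ProdAlg1

/-!
# S16719: cohomology of F ⊗_A M commutes with products in M (helper4)
-/

set_option backward.isDefEq.respectTransparency.types false
set_option synthInstance.maxHeartbeats 400000
set_option autoImplicit false
set_option linter.unusedSectionVars false
set_option linter.style.haveILetI false
set_option linter.unusedSimpArgs false
universe u v w
open CategoryTheory
open CategoryTheory.Limits
open AlgebraicGeometry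
open Groth.Agent.Lib.Helper4.MumCx2
open Groth.Agent.Lib.Helper4.ProdAlg1

namespace Groth.Agent.Lib.Helper4.MumRes3

theorem s16719 (A : Type u) [CommRing A] [IsNoetherianRing A]
    (X : Scheme.{u}) [X.Over (Spec (CommRingCat.of A))] [IsProper (X ↘ (Spec (CommRingCat.of A)))]
    (F : X.Modules) (hF : Coh.IsCoh F) (hflat : FlatMod.IsFlatOver (X ↘ (Spec (CommRingCat.of A))) F)
    (p : ℕ) (J : Type u) :
    PreservesLimitsOfShape (Discrete J) (CohIII.tensorAFunctor A F ⋙ CohIII.HAb X p) := by
  obtain ⟨K, hff, _, _, hiso⟩ := exists_mumford_complex A X F hF hflat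
  obtain ⟨e⟩ := hiso p
  haveI := preservesProducts K (p : ℤ) (fun i => by
    haveI := (hff i).1
    haveI := (hff i).2
    exact ⟨inferInstance, inferInstance⟩) J
  exact preservesLimitsOfShape_of_natIso e

end Groth.Agent.Lib.Helper4.MumRes3
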