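import Mathlib
import Groth.Prelude.Def_ega3
import Groth.Agent.Lib.Helper4.MumRes5

/-!
# S4498: kernels of natural transformations between global section functors are corepresentable (helper4)
-/

set_option backward.isDefEq.respectTransparency.types false
set_option synthInstance.maxHeartbeats 400000
set_option autoImplicit false
set_option linter.unusedSectionVars false
set_option linter.style.haveILetI false
set_option linter.unusedSimpArgs false
universe u v w
open CategoryTheory
open CategoryTheory.Limits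
open Opposite
open AlgebraicGeometry

namespace Groth.Agent.Lib.Helper4.MumRes6

variable {A : Type u} [CommRing A]

/-- kernels of natural transformations between corepresentable functors are corepresentable -/
theorem kernel_corep {S S' : ModuleCat.{u} A ⥤ ModuleCat.{u} A} (Q Q' : ModuleCat.{u} A)
    [Module.Finite A Q]
    (c : S ≅ (linearCoyoneda A (ModuleCat.{u} A)).obj (op Q))
    (c' : S' ≅ (linearCoyoneda A (ModuleCat.{u} A)).obj (op Q')) (η : S ⟶ S') :
    ∃ (R : ModuleCat.{u} A) (ι : (linearCoyoneda A (ModuleCat.{u} A)).obj (op R) ⟶ S),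
      Module.Finite A R ∧ (∀ M : ModuleCat.{u} A, Function.Injective (ι.app M).hom) ∧
        ∀ (M : ModuleCat.{u} A) (x : S.obj M), (η.app M).hom x = 0 ↔ ∃ y, (ι.app M).hom y = x := by
  let η' : (linearCoyoneda A (ModuleCat.{u} A)).obj (op Q) ⟶
      (linearCoyoneda A (ModuleCat.{u} A)).obj (op Q') := c.inv ≫ η ≫ c'.hom
  let u : Q' ⟶ Q := (η'.app Q).hom (𝟙 Q)
  have hu : ∀ (M : ModuleCat.{u} A) (φ : Q ⟶ M), (η'.app M).hom φ = u ≫ φ := by
    intro M φ
    have h := ConcreteCategory.congr_hom (η'.naturality φ) (𝟙 Q)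
    have h' : (η'.app M).hom (𝟙 Q ≫ φ) = (η'.app Q).hom (𝟙 Q) ≫ φ := h
    rw [Category.id_comp] at h'
    exact h'
  let R : ModuleCat.{u} A := ModuleCat.of A (Q ⧸ LinearMap.range u.hom)
  let π : Q ⟶ R := ModuleCat.ofHom (LinearMap.range u.hom).mkQ
  have hπ : Function.Surjective π.hom := Submodule.mkQ_surjective _
  haveI : Epi π := (ModuleCat.epi_iff_surjective π).2 hπ
  have huπ : u ≫ π = 0 := by
    apply ModuleCat.hom_ext
    apply LinearMap.ext
    intro x
    exact (Submodule.Quotient.mk_eq_zero _).2 (LinearMap.mem_range_self _ x)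
  let ι' : (linearCoyoneda A (ModuleCat.{u} A)).obj (op R) ⟶
      (linearCoyoneda A (ModuleCat.{u} A)).obj (op Q) :=
    (linearCoyoneda A (ModuleCat.{u} A)).map π.op
  have hι' : ∀ (M : ModuleCat.{u} A) (y : R ⟶ M), (ι'.app M).hom y = π ≫ y := fun M y => rfl
  have hcb : ∀ M, Function.Bijective (c.hom.app M).hom := fun M =>
    ConcreteCategory.bijective_of_isIso (c.hom.app M)
  have hcb' : ∀ M, Function.Bijective (c'.hom.app M).hom := fun M =>
    ConcreteCategory.bijective_of_isIso (c'.hom.app M)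
  have hcinv : ∀ M (φ : Q ⟶ M), (c.hom.app M).hom ((c.inv.app M).hom φ) = φ := fun M φ =>
    ConcreteCategory.congr_hom (c.inv_hom_id_app M) φ
  have hcinv' : ∀ M (x : S.obj M), (c.inv.app M).hom ((c.hom.app M).hom x) = x := fun M x =>
    ConcreteCategory.congr_hom (c.hom_inv_id_app M) x
  refine ⟨R, ι' ≫ c.inv, inferInstance, ?_, ?_⟩
  · intro M y y' h
    have h1 : (c.inv.app M).hom (π ≫ y) = (c.inv.app M).hom (π ≫ y') := h
    have h2 := congrArg (c.hom.app M).hom h1
    rw [hcinv, hcinv] at h2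
    exact (cancel_epi π).1 h2
  · intro M x
    have hη : (η.app M).hom x = 0 ↔ u ≫ (c.hom.app M).hom x = 0 := by
      rw [← hu]
      have h3 : (η'.app M).hom ((c.hom.app M).hom x) =
          (c'.hom.app M).hom ((η.app M).hom ((c.inv.app M).hom ((c.hom.app M).hom x))) := rfl
      rw [h3, hcinv']
      constructor
      · intro h; rw [h, map_zero]; rfl
      · intro h; exact (hcb' M).1 (h.trans (map_zero _).symm)
    rw [hη]
    constructor
    · intro h
      -- factor through the quotient
      have hle : LinearMap.range u.hom ≤ LinearMap.ker ((c.hom.app M).hom x).hom := by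
        rintro _ ⟨w, rfl⟩
        exact ConcreteCategory.congr_hom h w
      let y : R ⟶ M := ModuleCat.ofHom ((LinearMap.range u.hom).liftQ _ hle)
      refine ⟨y, ?_⟩
      have h4 : π ≫ y = (c.hom.app M).hom x := by
        apply ModuleCat.hom_ext
        exact Submodule.liftQ_mkQ _ _ hle
      change (c.inv.app M).hom (π ≫ y) = x
      rw [h4, hcinv']
    · rintro ⟨y, rfl⟩
      change u ≫ (c.hom.app M).hom ((c.inv.app M).hom (π ≫ y)) = 0
      rw [hcinv, ← Category.assoc, huπ, zero_comp]


theorem s4498 (A : Type u) [CommRing A]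
    [IsNoetherianRing A] (X : Scheme.{u}) [X.Over (Spec (CommRingCat.of A))]
    [IsProper (X ↘ Spec (CommRingCat.of A))] (F F' : X.Modules) (hF : Coh.IsCoh F) (hF' : Coh.IsCoh F')
    (hfl : FlatMod.IsFlatOver (X ↘ Spec (CommRingCat.of A)) F)
    (hfl' : FlatMod.IsFlatOver (X ↘ Spec (CommRingCat.of A)) F')
    (η : CohIII.tensorAFunctor A F ⋙ CohIII.globalSectionsA A ⟶ CohIII.tensorAFunctor A F' ⋙ CohIII.globalSectionsA A) :
    ∃ (R : ModuleCat.{u} A) (ι : (linearCoyoneda A (ModuleCat.{u} A)).obj (op R) ⟶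
        CohIII.tensorAFunctor A F ⋙ CohIII.globalSectionsA A),
      Module.Finite A R ∧ (∀ M : ModuleCat.{u} A, Function.Injective (ι.app M).hom) ∧
        ∀ (M : ModuleCat.{u} A) (x : (CohIII.tensorAFunctor A F ⋙ CohIII.globalSectionsA A).obj M),
          (η.app M).hom x = 0 ↔ ∃ y, (ι.app M).hom y = x := by
  obtain ⟨Q, hQ, ⟨c⟩⟩ := Groth.Agent.Lib.Helper4.MumRes5.s2436 A X F hF hfl
  obtain ⟨Q', _, ⟨c'⟩⟩ := Groth.Agent.Lib.Helper4.MumRes5.s2436 A X F' hF' hfl'
  exact kernel_corep Q Q' c c' η

end Groth.Agent.Lib.Helper4.MumRes6
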