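import Mathlib

/-!
# Largest submodule with nowhere dense support; quotient has no embedded primes (helper4)
-/

set_option backward.isDefEq.respectTransparency.types false
set_option synthInstance.maxHeartbeats 400000
set_option autoImplicit false
set_option linter.unusedSectionVars false
set_option linter.style.haveILetI false
set_option linter.unusedSimpArgs false
universe u v w

namespace Groth.Agent.Lib.Helper4.NDSupp1

variable {R : Type u} [CommRing R] [IsNoetherianRing R]

/-- every point of the support lies above an associated prime -/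
lemma exists_ass_le (N : Type*) [AddCommGroup N] [Module R N] (q : PrimeSpectrum R)
    (hq : q ∈ Module.support R N) : ∃ p ∈ associatedPrimes R N, p ≤ q.asIdeal := by
  obtain ⟨m, hm⟩ := Module.mem_support_iff_exists_annihilator.mp hq
  obtain ⟨p, hp, hpq⟩ := Ideal.exists_minimalPrimes_le hm
  have h1 : p ∈ associatedPrimes R ↥(R ∙ m) :=
    Module.associatedPrimes.minimalPrimes_annihilator_subset_associatedPrimes R ↥(R ∙ m) hp
  exact ⟨p, associatedPrimes.subset_of_injective (f := (R ∙ m).subtype)
    (Submodule.injective_subtype _) h1, hpq⟩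

/-- associated primes lie in the support -/
lemma ass_mem_support (N : Type*) [AddCommGroup N] [Module R N] (p : Ideal R)
    (hp : p ∈ associatedPrimes R N) : (⟨p, hp.isPrime⟩ : PrimeSpectrum R) ∈ Module.support R N := by
  obtain ⟨hpp, x, hx⟩ := (isAssociatedPrime_iff).mp hp
  rw [Module.mem_support_iff_exists_annihilator]
  refine ⟨x, ?_⟩
  show (R ∙ x).annihilator ≤ p
  rw [hx]
  intro r hr
  rw [Submodule.mem_colon_singleton, Submodule.mem_bot]
  exact (Submodule.mem_annihilator_span_singleton _ _).mp hr

section Main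
variable (M : Type u) [AddCommGroup M] [Module R M] [Module.Finite R M]

/-- the support of a submodule is nowhere dense in the support of `M` -/
def ND (K' : Submodule R M) : Prop :=
  ∀ U : Set (PrimeSpectrum R), IsOpen U →
    U ∩ Module.support R M ⊆ closure (Module.support R ↥K') → U ∩ Module.support R M = ∅

variable {M}

lemma isClosed_support_sub (K' : Submodule R M) : IsClosed (Module.support R ↥K') := by
  rw [Module.support_eq_zeroLocus]
  exact PrimeSpectrum.isClosed_zeroLocus _

lemma mem_support_sub_iff (N : Submodule R M) (q : PrimeSpectrum R) :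
    q ∈ Module.support R ↥N ↔ ∃ m ∈ N, (R ∙ m).annihilator ≤ q.asIdeal := by
  rw [Module.mem_support_iff_exists_annihilator]
  constructor
  · rintro ⟨⟨m, hm⟩, h⟩
    refine ⟨m, hm, fun r hr => h ?_⟩
    rw [Submodule.mem_annihilator_span_singleton] at hr ⊢
    exact Subtype.ext hr
  · rintro ⟨m, hm, h⟩
    refine ⟨⟨m, hm⟩, fun r hr => h ?_⟩
    rw [Submodule.mem_annihilator_span_singleton] at hr ⊢
    exact congrArg Subtype.val hr

lemma support_sup_subset (N₁ N₂ : Submodule R M) :
    Module.support R ↥(N₁ ⊔ N₂) ⊆ Module.support R ↥N₁ ∪ Module.support R ↥N₂ := by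
  intro q hq
  obtain ⟨m, hm, h⟩ := (mem_support_sub_iff _ q).mp hq
  obtain ⟨a, ha, b, hb, rfl⟩ := Submodule.mem_sup.mp hm
  have h1 : (R ∙ a).annihilator ⊓ (R ∙ b).annihilator ≤ q.asIdeal := by
    refine le_trans ?_ h
    intro r hr
    rw [Submodule.mem_annihilator_span_singleton]
    have h2 := (Submodule.mem_annihilator_span_singleton _ _).mp hr.1
    have h3 := (Submodule.mem_annihilator_span_singleton _ _).mp hr.2
    rw [smul_add, h2, h3, add_zero]
  rcases (Ideal.IsPrime.inf_le q.2).mp h1 with h2 | h2
  · exact Or.inl ((mem_support_sub_iff _ q).mpr ⟨a, ha, h2⟩)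
  · exact Or.inr ((mem_support_sub_iff _ q).mpr ⟨b, hb, h2⟩)

lemma ND_bot : ND M (⊥ : Submodule R M) := by
  intro U _ h
  have h0 : Module.support R ↥(⊥ : Submodule R M) = ∅ := Module.support_eq_empty
  rw [h0, closure_empty] at h
  exact Set.subset_empty_iff.mp h

lemma ND_sup {N₁ N₂ : Submodule R M} (h₁ : ND M N₁) (h₂ : ND M N₂) : ND M (N₁ ⊔ N₂) := by
  intro U hU h
  rw [(isClosed_support_sub _).closure_eq] at h
  have h' : U ∩ Module.support R M ⊆ Module.support R ↥N₁ ∪ Module.support R ↥N₂ :=
    h.trans (support_sup_subset N₁ N₂)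
  have h3 : (U ∩ (Module.support R ↥N₁)ᶜ) ∩ Module.support R M = ∅ := by
    apply h₂ _ (hU.inter (isClosed_support_sub N₁).isOpen_compl)
    rintro r ⟨⟨hrU, hr1⟩, hrZ⟩
    apply subset_closure
    rcases h' ⟨hrU, hrZ⟩ with h4 | h4
    · exact absurd h4 hr1
    · exact h4
  apply h₁ U hU
  rintro r ⟨hrU, hrZ⟩
  apply subset_closure
  by_contra hr1
  have : r ∈ (U ∩ (Module.support R ↥N₁)ᶜ) ∩ Module.support R M := ⟨⟨hrU, hr1⟩, hrZ⟩
  rw [h3] at this
  exact this

lemma support_sup_span_subset (K : Submodule R M) (x : M) (p : Ideal R)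
    (hp : ∀ t ∈ p, t • x ∈ K) (q : PrimeSpectrum R)
    (hq : q ∈ Module.support R ↥(K ⊔ R ∙ x)) :
    q ∈ Module.support R ↥K ∨ p ≤ q.asIdeal := by
  by_contra hcon
  push Not at hcon
  obtain ⟨h1, h2⟩ := hcon
  obtain ⟨t, htp, htq⟩ := SetLike.not_le_iff_exists.mp h2
  rw [Module.notMem_support_iff'] at h1
  obtain ⟨s', hs'q, hs'⟩ := h1 ⟨t • x, hp t htp⟩
  have hs'' : (s' * t) • x = 0 := by
    have := congrArg Subtype.val hs'
    simpa [mul_smul] using this
  obtain ⟨m, hm, h⟩ := (mem_support_sub_iff _ q).mp hq
  obtain ⟨k, hk, y, hy, rfl⟩ := Submodule.mem_sup.mp hm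
  obtain ⟨r, rfl⟩ := Submodule.mem_span_singleton.mp hy
  obtain ⟨s, hsq, hs⟩ := h1 ⟨k, hk⟩
  have hsk : s • k = 0 := by
    have := congrArg Subtype.val hs
    simpa using this
  have hmem : s * (s' * t) ∈ (R ∙ (k + r • x)).annihilator := by
    rw [Submodule.mem_annihilator_span_singleton]
    have e : (s * (s' * t)) • (k + r • x) = (s' * t) • (s • k) + (s * r) • ((s' * t) • x) := by
      module
    rw [e, hsk, hs'', smul_zero, smul_zero, add_zero]
  have := h hmem
  rcases q.2.mem_or_mem this with h5 | h5
  · exact hsq h5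
  · rcases q.2.mem_or_mem h5 with h6 | h6
    · exact hs'q h6
    · exact htq h6

theorem S9644_main {R : Type u} [CommRing R] [IsNoetherianRing R] (M : Type u) [AddCommGroup M]
    [Module R M] [Module.Finite R M] :
    ∃ K : Submodule R M,
      IsGreatest {K' : Submodule R M | ∀ U : Set (PrimeSpectrum R), IsOpen U →
        U ∩ Module.support R M ⊆ closure (Module.support R ↥K') →
        U ∩ Module.support R M = ∅} K ∧
      Module.support R (M ⧸ K) = Module.support R M ∧
      (∀ p ∈ associatedPrimes R (M ⧸ K), ∀ q ∈ associatedPrimes R (M ⧸ K), p ≤ q → p = q) ∧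
      ∀ f : R, (∀ p ∈ associatedPrimes R M,
        ¬ Minimal (fun x => x ∈ associatedPrimes R M) p → f ∈ p) →
        Function.Bijective (LocalizedModule.map (Submonoid.powers f) K.mkQ) := by
  have hnoeth : IsNoetherian R M := inferInstance
  obtain ⟨K, hK, hKmax⟩ := set_has_maximal_iff_noetherian.mpr hnoeth {N | ND M N} ⟨⊥, ND_bot⟩
  have hKND : ND M K := hK
  have hgreatest : ∀ N, ND M N → N ≤ K := by
    intro N hN
    have h1 : ND M (K ⊔ N) := ND_sup hK hN
    have h2 : K ⊔ N = K := (eq_of_le_of_not_lt le_sup_left (hKmax _ h1)).symm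
    rw [← h2]; exact le_sup_right
  have hex : Function.Exact K.subtype K.mkQ := LinearMap.exact_subtype_mkQ K
  have hsupp : Module.support R M = Module.support R ↥K ∪ Module.support R (M ⧸ K) :=
    Module.support_of_exact hex (Submodule.injective_subtype K) (Submodule.mkQ_surjective K)
  have hclQ : IsClosed (Module.support R (M ⧸ K)) := by
    rw [Module.support_eq_zeroLocus]; exact PrimeSpectrum.isClosed_zeroLocus _
  -- support of the quotient
  have hsuppQ : Module.support R (M ⧸ K) = Module.support R M := by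
    apply le_antisymm
    · rw [hsupp]; exact Set.subset_union_right
    · intro r hr
      by_contra hrQ
      have h1 : (Module.support R (M ⧸ K))ᶜ ∩ Module.support R M = ∅ := by
        apply hKND _ hclQ.isOpen_compl
        rintro r' ⟨hr'1, hr'2⟩
        apply subset_closure
        rw [hsupp] at hr'2
        rcases hr'2 with h | h
        · exact h
        · exact absurd h hr'1
      have : r ∈ (Module.support R (M ⧸ K))ᶜ ∩ Module.support R M := ⟨hrQ, hr⟩
      rw [h1] at this; exact this
  -- associated primes of the quotient are minimal in the support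
  have hmin : ∀ p ∈ associatedPrimes R (M ⧸ K), ∀ q : PrimeSpectrum R,
      q ∈ Module.support R M → q.asIdeal ≤ p → p ≤ q.asIdeal := by
    intro p hp q hqZ hqp
    obtain ⟨hpp, xbar, hx⟩ := (isAssociatedPrime_iff).mp hp
    obtain ⟨x, rfl⟩ := Submodule.mkQ_surjective K xbar
    have hpx : ∀ t, t ∈ p ↔ t • x ∈ K := by
      intro t
      rw [hx, Submodule.mem_colon_singleton, Submodule.mem_bot, ← map_smul, Submodule.mkQ_apply,
        Submodule.Quotient.mk_eq_zero]
    by_contra hcon
    have hND : ND M (K ⊔ R ∙ x) := by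
      intro U hU h
      rw [(isClosed_support_sub _).closure_eq] at h
      have h3 : (U ∩ (PrimeSpectrum.zeroLocus (p : Set R))ᶜ) ∩ Module.support R M = ∅ := by
        apply hKND _ (hU.inter (PrimeSpectrum.isClosed_zeroLocus _).isOpen_compl)
        rintro r ⟨⟨hrU, hr1⟩, hrZ⟩
        apply subset_closure
        rcases support_sup_span_subset K x p (fun t ht => (hpx t).mp ht) r (h ⟨hrU, hrZ⟩)
          with h4 | h4
        · exact h4
        · exact absurd ((PrimeSpectrum.mem_zeroLocus _ _).mpr h4) hr1
      rw [Set.eq_empty_iff_forall_notMem]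
      rintro r ⟨hrU, hrZ⟩
      have hpr : p ≤ r.asIdeal := by
        by_contra hpr
        have : r ∈ (U ∩ (PrimeSpectrum.zeroLocus (p : Set R))ᶜ) ∩ Module.support R M :=
          ⟨⟨hrU, fun h5 => hpr ((PrimeSpectrum.mem_zeroLocus _ _).mp h5)⟩, hrZ⟩
        rw [h3] at this; exact this
      have hqr : q ⤳ r := (PrimeSpectrum.le_iff_specializes q r).mp (hqp.trans hpr)
      have hqU : q ∈ U := hqr.mem_open hU hrU
      rcases support_sup_span_subset K x p (fun t ht => (hpx t).mp ht) q (h ⟨hqU, hqZ⟩)
        with h4 | h4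
      · -- q ∈ support K: then use U' again
        have : q ∈ (U ∩ (PrimeSpectrum.zeroLocus (p : Set R))ᶜ) ∩ Module.support R M :=
          ⟨⟨hqU, fun h5 => hcon ((PrimeSpectrum.mem_zeroLocus _ _).mp h5)⟩, hqZ⟩
        rw [h3] at this; exact this
      · exact hcon h4
    have hxK : x ∈ K := hgreatest _ hND (Submodule.mem_sup_right (Submodule.mem_span_singleton_self x))
    have : (1 : R) ∈ p := by rw [hpx, one_smul]; exact hxK
    exact hpp.ne_top ((Ideal.eq_top_iff_one _).mpr this)
  refine ⟨K, ⟨hK, fun N hN => hgreatest N hN⟩, hsuppQ, ?_, ?_⟩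
  · intro p hp q hq hpq
    have hpZ : (⟨p, hp.isPrime⟩ : PrimeSpectrum R) ∈ Module.support R M := by
      rw [← hsuppQ]; exact ass_mem_support _ p hp
    exact le_antisymm hpq (hmin q hq ⟨p, hp.isPrime⟩ hpZ hpq)
  · intro f hf
    have hsub : Module.support R ↥K ⊆ PrimeSpectrum.zeroLocus {f} := by
      intro q hq
      obtain ⟨p, hpK, hpq⟩ := exists_ass_le ↥K q hq
      have hpM : p ∈ associatedPrimes R M :=
        associatedPrimes.subset_of_injective (f := K.subtype) (Submodule.injective_subtype K) hpK
      rw [PrimeSpectrum.mem_zeroLocus, Set.singleton_subset_iff]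
      by_cases hminp : Minimal (fun x => x ∈ associatedPrimes R M) p
      · exfalso
        -- the closed set W
        obtain ⟨W, hW⟩ : ∃ W : Set (PrimeSpectrum R), W = ⋃ p' ∈ {p' | p' ∈ associatedPrimes R M ∧ p' ≠ p},
            PrimeSpectrum.zeroLocus (p' : Set R) := ⟨_, rfl⟩
        have hWc : IsClosed W := by
          rw [hW]
          exact Set.Finite.isClosed_biUnion ((associatedPrimes.finite R M).subset (fun _ h => h.1))
            (fun _ _ => PrimeSpectrum.isClosed_zeroLocus _)
        have hpS : (⟨p, hpK.isPrime⟩ : PrimeSpectrum R) ∈ Module.support R ↥K :=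
          ass_mem_support _ p hpK
        have h1 : Wᶜ ∩ Module.support R M = ∅ := by
          apply hKND _ hWc.isOpen_compl
          rintro r ⟨hrW, hrZ⟩
          apply subset_closure
          obtain ⟨p'', hp'', hp''r⟩ := exists_ass_le M r hrZ
          have : p'' = p := by
            by_contra hne
            apply hrW
            rw [hW]
            exact Set.mem_biUnion (show p'' ∈ {p' | p' ∈ associatedPrimes R M ∧ p' ≠ p} from
              ⟨hp'', hne⟩) ((PrimeSpectrum.mem_zeroLocus _ _).mpr hp''r)
          subst this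
          exact Module.mem_support_mono (p := ⟨p'', hpK.isPrime⟩) hp''r hpS
        have h2 : (⟨p, hpK.isPrime⟩ : PrimeSpectrum R) ∈ Wᶜ ∩ Module.support R M := by
          refine ⟨?_, ass_mem_support _ p hpM⟩
          intro hpW
          rw [hW] at hpW
          obtain ⟨p', ⟨hp'M, hp'ne⟩, hp'⟩ := Set.mem_iUnion₂.mp hpW
          have hle : p' ≤ p := (PrimeSpectrum.mem_zeroLocus _ _).mp hp'
          exact hp'ne (le_antisymm hle (hminp.2 hp'M hle))
        rw [h1] at h2; exact h2
      · exact hpq (hf p hpM hminp)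
    have hsubs : Subsingleton (LocalizedModule (Submonoid.powers f) ↥K) :=
      LocalizedModule.subsingleton_iff_support_subset.mpr hsub
    constructor
    · have hex' := LocalizedModule.map_exact (Submonoid.powers f) K.subtype K.mkQ hex
      rw [injective_iff_map_eq_zero]
      intro y hy
      obtain ⟨z, rfl⟩ := (hex' y).mp hy
      rw [Subsingleton.elim z 0, map_zero]
    · exact LocalizedModule.map_surjective _ _ (Submodule.mkQ_surjective K)

end Main

end Groth.Agent.Lib.Helper4.NDSupp1
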