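import Mathlib

/-!
# kernel of M -> M tensor A_p via CommRingCat pushouts (helper4) (helper4)
-/

set_option backward.isDefEq.respectTransparency.types false
set_option synthInstance.maxHeartbeats 400000
set_option autoImplicit false
set_option linter.unusedSectionVars false
set_option linter.style.haveILetI false
set_option linter.unusedSimpArgs false
universe u v w
open CategoryTheory CategoryTheory.Limits AlgebraicGeometry TopologicalSpace Opposite

namespace Groth.Agent.Lib.Helper4.NNHartogs0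

theorem exists_mul_of_inl_eq_zero {A M Az : CommRingCat.{u}} (φ : A ⟶ M) (ψ : A ⟶ Az) (𝔭 : Ideal A)
    [𝔭.IsPrime] (hloc : letI := ψ.hom.toAlgebra; IsLocalization.AtPrime Az 𝔭) (m : M)
    (h : pushout.inl φ ψ m = 0) : ∃ s : A, s ∉ 𝔭 ∧ φ s * m = 0 := by
  letI := φ.hom.toAlgebra
  letI := ψ.hom.toAlgebra
  letI : Algebra M (pushout φ ψ : CommRingCat.{u}) := (pushout.inl φ ψ).hom.toAlgebra
  letI : Algebra Az (pushout φ ψ : CommRingCat.{u}) := (pushout.inr φ ψ).hom.toAlgebra
  letI : Algebra A (pushout φ ψ : CommRingCat.{u}) := (φ ≫ pushout.inl φ ψ).hom.toAlgebra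
  haveI : IsScalarTower A M (pushout φ ψ : CommRingCat.{u}) := .of_algebraMap_eq (fun _ => rfl)
  haveI : IsScalarTower A Az (pushout φ ψ : CommRingCat.{u}) := .of_algebraMap_eq (fun x => by
    show (φ ≫ pushout.inl φ ψ) x = (ψ ≫ pushout.inr φ ψ) x
    rw [pushout.condition])
  have hpo : IsPushout (CommRingCat.ofHom (algebraMap A M)) (CommRingCat.ofHom (algebraMap A Az))
      (CommRingCat.ofHom (algebraMap M (pushout φ ψ : CommRingCat.{u})))
      (CommRingCat.ofHom (algebraMap Az (pushout φ ψ : CommRingCat.{u}))) :=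
    IsPushout.of_hasPushout φ ψ
  have h1 : Algebra.IsPushout A M Az (pushout φ ψ : CommRingCat.{u}) :=
    CommRingCat.isPushout_iff_isPushout.mp hpo
  have h2 : Algebra.IsPushout A Az M (pushout φ ψ : CommRingCat.{u}) := h1.symm
  haveI : IsLocalization 𝔭.primeCompl Az := hloc
  haveI : IsLocalizedModule 𝔭.primeCompl
      (IsScalarTower.toAlgHom A M (pushout φ ψ : CommRingCat.{u})).toLinearMap :=
    (isLocalizedModule_iff_isBaseChange 𝔭.primeCompl Az _).mpr h2.out
  obtain ⟨s, hs⟩ := (IsLocalizedModule.eq_zero_iff 𝔭.primeCompl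
    (IsScalarTower.toAlgHom A M (pushout φ ψ : CommRingCat.{u})).toLinearMap).mp h
  exact ⟨s.1, s.2, hs⟩

end Groth.Agent.Lib.Helper4.NNHartogs0
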