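import Mathlib
import Groth.Agent.Lib.Helper4.RelHartogs1
import Groth.Agent.Lib.Helper4.LocNoethFib1
import Groth.Agent.Lib.Helper4.NNHartogs0

/-!
# non-noetherian Hartogs: retrocompact open whose complement has noetherian local rings of depth >= 2 (helper4) (helper4)
-/

set_option backward.isDefEq.respectTransparency.types false
set_option synthInstance.maxHeartbeats 400000
set_option autoImplicit false
set_option linter.unusedSectionVars false
set_option linter.style.haveILetI false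
set_option linter.unusedSimpArgs false
universe u v w
open CategoryTheory CategoryTheory.Limits AlgebraicGeometry TopologicalSpace Opposite

namespace Groth.Agent.Lib.Helper4.NNHartogs1

/-- the image of `Spec O_{X,z} ⟶ X` lies in every open containing `z` -/
theorem top_le_preimage {X : Scheme.{u}} (V : X.Opens) (z : X) (hz : z ∈ V) :
    (⊤ : (Spec (X.presheaf.stalk z)).Opens) ≤ (X.fromSpecStalk z) ⁻¹ᵁ V := by
  intro t _
  have : (X.fromSpecStalk z) t ∈ Set.range (X.fromSpecStalk z) := ⟨t, rfl⟩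
  rw [Scheme.range_fromSpecStalk] at this
  exact this.mem_open V.2 hz

/-- `Γ(Spec O_{X,z}, ⊤)` is the localization of `Γ(X, V)` at the prime of `z` -/
theorem appLE_eq_germ {X : Scheme.{u}} (V : X.Opens) (z : X) (hz : z ∈ V) :
    (X.fromSpecStalk z).appLE V ⊤ (top_le_preimage V z hz) =
      X.presheaf.germ V z hz ≫ (Scheme.ΓSpecIso (X.presheaf.stalk z)).inv := by
  rw [Scheme.Hom.appLE, Scheme.fromSpecStalk_app hz, Category.assoc, Category.assoc,
    ← Functor.map_comp]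
  have : (Spec (X.presheaf.stalk z)).presheaf.map
      ((homOfLE le_top).op ≫ (homOfLE (top_le_preimage V z hz)).op) = 𝟙 _ :=
    (Spec (X.presheaf.stalk z)).presheaf.map_id _
  rw [this, Category.comp_id]

theorem isLocalization_appLE {X : Scheme.{u}} (V : X.Opens) (hV : IsAffineOpen V) (z : X) (hz : z ∈ V) :
    letI := ((X.fromSpecStalk z).appLE V ⊤ (top_le_preimage V z hz)).hom.toAlgebra
    IsLocalization.AtPrime Γ(Spec (X.presheaf.stalk z), ⊤) (hV.primeIdealOf ⟨z, hz⟩).asIdeal := by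
  letI := X.presheaf.algebra_section_stalk (U := V) ⟨z, hz⟩
  haveI hl := hV.isLocalization_stalk ⟨z, hz⟩
  letI := ((X.fromSpecStalk z).appLE V ⊤ (top_le_preimage V z hz)).hom.toAlgebra
  let e : X.presheaf.stalk z ≃ₐ[Γ(X, V)] Γ(Spec (X.presheaf.stalk z), ⊤) :=
    { (Scheme.ΓSpecIso (X.presheaf.stalk z)).symm.commRingCatIsoToRingEquiv with
      commutes' := fun a => by
        show (Scheme.ΓSpecIso (X.presheaf.stalk z)).inv (X.presheaf.germ V z hz a) =
          ((X.fromSpecStalk z).appLE V ⊤ (top_le_preimage V z hz)) a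
        rw [appLE_eq_germ]; rfl }
  exact IsLocalization.isLocalization_of_algEquiv _ e

theorem mem_basicOpen_iff {X : Scheme.{u}} (V : X.Opens) (hV : IsAffineOpen V) (z : X) (hz : z ∈ V)
    (s : Γ(X, V)) : z ∈ X.basicOpen s ↔ s ∉ (hV.primeIdealOf ⟨z, hz⟩).asIdeal := by
  letI := X.presheaf.algebra_section_stalk (U := V) ⟨z, hz⟩
  haveI hl := hV.isLocalization_stalk ⟨z, hz⟩
  rw [Scheme.mem_basicOpen X s z hz]
  exact IsLocalization.AtPrime.isUnit_to_map_iff (X.presheaf.stalk z)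
    (hV.primeIdealOf ⟨z, hz⟩).asIdeal s

/-- flat base change (injectivity part): a section over a compact open `W ≤ V` (`V` affine) which dies on
`Spec O_{X,z}` is killed by a function on `V` invertible at `z`. -/
theorem exists_mul_eq_zero {X : Scheme.{u}} (V : X.Opens) (hV : IsAffineOpen V) (W : X.Opens) (hWV : W ≤ V)
    (hW : IsCompact (W : Set X)) (z : X) (hz : z ∈ V) (m : Γ(X, W))
    (Y' : (Spec (X.presheaf.stalk z)).Opens) (hY : Y' ≤ (X.fromSpecStalk z) ⁻¹ᵁ W)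
    (hY' : (X.fromSpecStalk z) ⁻¹ᵁ W ≤ Y')
    (hm : (X.fromSpecStalk z).appLE W Y' hY m = 0) :
    ∃ s : Γ(X, V), z ∈ X.basicOpen s ∧ X.presheaf.map (homOfLE hWV).op s * m = 0 := by
  haveI : Flat (X.fromSpecStalk z) := Groth.Agent.Lib.Helper4.LocNoethFib1.flat_fromSpecStalk X z
  have H : IsPullback (X.fromSpecStalk z) (𝟙 (Spec (X.presheaf.stalk z))) (𝟙 X) (X.fromSpecStalk z) := IsPullback.id_vert (X.fromSpecStalk z)
  have hUST : (⊤ : (Spec (X.presheaf.stalk z)).Opens) ≤ (X.fromSpecStalk z) ⁻¹ᵁ V := top_le_preimage V z hz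
  have hUSX : W ≤ (𝟙 X) ⁻¹ᵁ V := hWV
  have hmono := mono_pushoutSection_of_isCompact_of_flat_right H hUST hUSX
    (UY := (X.fromSpecStalk z) ⁻¹ᵁ W ⊓ (𝟙 (Spec (X.presheaf.stalk z))) ⁻¹ᵁ ⊤) rfl hV (isAffineOpen_top (Spec (X.presheaf.stalk z))) hW
  set φ := Scheme.Hom.appLE (𝟙 X) V W hUSX with hφ
  set ψ := (X.fromSpecStalk z).appLE V ⊤ hUST with hψ
  have hinj : Function.Injective (pushoutSection H hUST hUSX (UY := (X.fromSpecStalk z) ⁻¹ᵁ W ⊓ (𝟙 (Spec (X.presheaf.stalk z))) ⁻¹ᵁ ⊤) rfl) :=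
    (ConcreteCategory.mono_iff_injective_of_preservesPullback _).mp hmono
  have hUY : (X.fromSpecStalk z) ⁻¹ᵁ W ⊓ (𝟙 (Spec (X.presheaf.stalk z))) ⁻¹ᵁ ⊤ ≤ (X.fromSpecStalk z) ⁻¹ᵁ W := inf_le_left
  have h0 : pushout.inl φ ψ m = 0 := by
    apply hinj
    rw [map_zero]
    have e1 : pushout.inl φ ψ ≫ pushoutSection H hUST hUSX (UY := (X.fromSpecStalk z) ⁻¹ᵁ W ⊓ (𝟙 (Spec (X.presheaf.stalk z))) ⁻¹ᵁ ⊤) rfl =
        (X.fromSpecStalk z).appLE W ((X.fromSpecStalk z) ⁻¹ᵁ W ⊓ (𝟙 (Spec (X.presheaf.stalk z))) ⁻¹ᵁ ⊤) hUY := pushout.inl_desc _ _ _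
    have e2 : (X.fromSpecStalk z).appLE W ((X.fromSpecStalk z) ⁻¹ᵁ W ⊓ (𝟙 (Spec (X.presheaf.stalk z))) ⁻¹ᵁ ⊤) hUY =
        (X.fromSpecStalk z).appLE W Y' hY ≫ (Spec (X.presheaf.stalk z)).presheaf.map (homOfLE (hUY.trans hY')).op :=
      (Scheme.Hom.appLE_map (X.fromSpecStalk z) hY (homOfLE (hUY.trans hY')).op).symm
    show (pushout.inl φ ψ ≫ pushoutSection H hUST hUSX (UY := (X.fromSpecStalk z) ⁻¹ᵁ W ⊓ (𝟙 (Spec (X.presheaf.stalk z))) ⁻¹ᵁ ⊤) rfl) m = 0
    rw [e1, e2, CommRingCat.comp_apply, hm, map_zero]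
  obtain ⟨s, hs, hsm⟩ := Groth.Agent.Lib.Helper4.NNHartogs0.exists_mul_of_inl_eq_zero φ ψ
    (hV.primeIdealOf ⟨z, hz⟩).asIdeal (isLocalization_appLE V hV z hz) m h0
  refine ⟨s, (mem_basicOpen_iff V hV z hz s).mpr hs, ?_⟩
  have : φ = X.presheaf.map (homOfLE hWV).op := by
    rw [hφ, Scheme.Hom.appLE]
    simp
    rfl
  rw [← this]; exact hsm

lemma bij_of_eq {T : Scheme.{u}} (A B : T.Opens) (h : A = B) (hle : A ≤ B) :
    Function.Bijective (T.presheaf.map (homOfLE hle).op) := by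
  subst h
  have : homOfLE hle = 𝟙 A := rfl
  rw [this, op_id, T.presheaf.map_id]
  exact Function.bijective_id

/-- Hartogs on `Spec O_{X,z}` -/
theorem hbij_stalk {X : Scheme.{u}} (U : X.Opens)
    (h : ∀ x : X, x ∉ U → IsNoetherianRing (X.presheaf.stalk x) ∧
      (2 : ℕ∞) ≤ LocCoh.depth (X.presheaf.stalk x) (X.presheaf.stalk x)) (z : X) :
    Function.Bijective ((Spec (X.presheaf.stalk z)).presheaf.map
      (homOfLE (inf_le_left : ⊤ ⊓ (X.fromSpecStalk z) ⁻¹ᵁ U ≤ ⊤)).op) := by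
  by_cases hz : z ∈ U
  · apply bij_of_eq
    rw [inf_eq_left]
    exact top_le_preimage U z hz
  · haveI : IsNoetherianRing (X.presheaf.stalk z) := (h z hz).1
    haveI : Flat (X.fromSpecStalk z) := Groth.Agent.Lib.Helper4.LocNoethFib1.flat_fromSpecStalk X z
    have hd : ∀ t : (Spec (X.presheaf.stalk z) : Scheme.{u}), t ∉ (X.fromSpecStalk z) ⁻¹ᵁ U →
        (2 : ℕ∞) ≤ LocCoh.depth ((Spec (X.presheaf.stalk z)).presheaf.stalk t)
          ((Spec (X.presheaf.stalk z)).presheaf.stalk t) := fun t ht =>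
      Groth.Agent.Lib.Helper4.RelHartogs1.depth_preimage_of_flat (X.fromSpecStalk z) U
        (fun s hs => (h s hs).2) t ht
    exact Groth.Agent.Lib.Helper4.RelHartogs1.hbij_of_depth (Spec (X.presheaf.stalk z))
      ((X.fromSpecStalk z) ⁻¹ᵁ U) hd ⊤


section Aff
variable {X : Scheme.{u}} (U : X.Opens)
  (h : ∀ x : X, x ∉ U → IsNoetherianRing (X.presheaf.stalk x) ∧
      (2 : ℕ∞) ≤ LocCoh.depth (X.presheaf.stalk x) (X.presheaf.stalk x))
  (V : X.Opens)

lemma inf_top_le (z : X) (hz : z ∈ V) :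
    (⊤ : (Spec (X.presheaf.stalk z)).Opens) ⊓ (X.fromSpecStalk z) ⁻¹ᵁ U ≤ (X.fromSpecStalk z) ⁻¹ᵁ (V ⊓ U) := by
  intro t ht
  exact ⟨top_le_preimage V z hz trivial, ht.2⟩

/-- naturality of `appLE` against the two restrictions -/
lemma appLE_res (z : X) (hz : z ∈ V) (a : Γ(X, V)) :
    (X.fromSpecStalk z).appLE (V ⊓ U) (⊤ ⊓ (X.fromSpecStalk z) ⁻¹ᵁ U) (inf_top_le U V z hz)
      (X.presheaf.map (homOfLE (inf_le_left : V ⊓ U ≤ V)).op a) =
    (Spec (X.presheaf.stalk z)).presheaf.map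
      (homOfLE (inf_le_left : ⊤ ⊓ (X.fromSpecStalk z) ⁻¹ᵁ U ≤ ⊤)).op
      ((X.fromSpecStalk z).appLE V ⊤ (top_le_preimage V z hz) a) := by
  rw [← CommRingCat.comp_apply, ← CommRingCat.comp_apply, Scheme.Hom.map_appLE, Scheme.Hom.appLE_map]

include h in
theorem affine_inj (hV : IsAffineOpen V) :
    Function.Injective (X.presheaf.map (homOfLE (inf_le_left : V ⊓ U ≤ V)).op) := by
  intro s t hst
  apply TopCat.Presheaf.section_ext X.sheaf V s t
  intro z hz
  have h1 := appLE_res U V z hz s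
  have h2 := appLE_res U V z hz t
  rw [hst, h2] at h1
  have h3 := (hbij_stalk U h z).1 h1
  rw [appLE_eq_germ, CommRingCat.comp_apply, CommRingCat.comp_apply] at h3
  have hinj : Function.Injective (Scheme.ΓSpecIso (X.presheaf.stalk z)).inv :=
    ((ConcreteCategory.isIso_iff_bijective _).mp inferInstance).1
  exact (hinj h3).symm

lemma isCompact_inf [QuasiCompact U.ι] (hV : IsAffineOpen V) : IsCompact ((V ⊓ U : X.Opens) : Set X) := by
  have h1 : IsCompact (U.ι ⁻¹' (V : Set X)) :=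
    QuasiCompact.isCompact_preimage (f := U.ι) _ V.2 hV.isCompact
  have h2 := h1.image U.ι.continuous
  rw [Set.image_preimage_eq_inter_range, Scheme.Opens.range_ι] at h2
  exact h2

/-- the ideal of denominators of a section over `V ⊓ U` -/
def denom (t : Γ(X, V ⊓ U)) : Ideal Γ(X, V) where
  carrier := {a | ∃ b : Γ(X, V), X.presheaf.map (homOfLE (inf_le_left : V ⊓ U ≤ V)).op b =
    X.presheaf.map (homOfLE (inf_le_left : V ⊓ U ≤ V)).op a * t}
  add_mem' := by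
    rintro a a' ⟨b, hb⟩ ⟨b', hb'⟩
    exact ⟨b + b', by rw [map_add, map_add, hb, hb', add_mul]⟩
  zero_mem' := ⟨0, by rw [map_zero, zero_mul]⟩
  smul_mem' := by
    rintro c a ⟨b, hb⟩
    exact ⟨c * b, by rw [smul_eq_mul, map_mul, map_mul, hb, mul_assoc]⟩

include h in
theorem affine_surj [QuasiCompact U.ι] (hV : IsAffineOpen V) :
    Function.Surjective (X.presheaf.map (homOfLE (inf_le_left : V ⊓ U ≤ V)).op) := by
  intro t
  suffices hI : denom U V t = ⊤ by
    have h1 : (1 : Γ(X, V)) ∈ denom U V t := by rw [hI]; trivial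
    obtain ⟨b, hb⟩ := h1
    exact ⟨b, by rw [hb, map_one, one_mul]⟩
  rw [← Ideal.span_eq (denom U V t), ← hV.self_le_iSup_basicOpen_iff]
  intro z hz
  rw [Opens.mem_iSup]
  -- local computation at z
  set ρ := X.presheaf.map (homOfLE (inf_le_left : V ⊓ U ≤ V)).op with hρ
  set ψ := (X.fromSpecStalk z).appLE V ⊤ (top_le_preimage V z hz) with hψ
  set r := (Spec (X.presheaf.stalk z)).presheaf.map
      (homOfLE (inf_le_left : ⊤ ⊓ (X.fromSpecStalk z) ⁻¹ᵁ U ≤ ⊤)).op with hr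
  set θ := (X.fromSpecStalk z).appLE (V ⊓ U) (⊤ ⊓ (X.fromSpecStalk z) ⁻¹ᵁ U) (inf_top_le U V z hz) with hθ
  have hnat : ∀ a : Γ(X, V), θ (ρ a) = r (ψ a) := fun a => appLE_res U V z hz a
  obtain ⟨b', hb'⟩ := (hbij_stalk U h z).2 (θ t)
  letI := ψ.hom.toAlgebra
  haveI hl : IsLocalization.AtPrime Γ(Spec (X.presheaf.stalk z), ⊤) (hV.primeIdealOf ⟨z, hz⟩).asIdeal :=
    isLocalization_appLE V hV z hz
  obtain ⟨⟨b, s⟩, hbs⟩ := IsLocalization.surj (hV.primeIdealOf ⟨z, hz⟩).asIdeal.primeCompl b'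
  have hbs' : b' * ψ s.1 = ψ b := hbs
  have hm : θ (ρ s.1 * t - ρ b) = 0 := by
    rw [map_sub, map_mul, hnat, hnat, ← hb', ← hbs', map_mul, mul_comm, sub_self]
  obtain ⟨s', hs'z, hs'm⟩ := exists_mul_eq_zero V hV (V ⊓ U) inf_le_left (isCompact_inf U V hV) z hz
    (ρ s.1 * t - ρ b) (⊤ ⊓ (X.fromSpecStalk z) ⁻¹ᵁ U) (inf_top_le U V z hz)
    (fun x hx => ⟨trivial, hx.2⟩) hm
  refine ⟨⟨s' * s.1, ⟨s' * b, ?_⟩⟩, ?_⟩
  · show ρ (s' * b) = ρ (s' * s.1) * t
    have : ρ s' * (ρ s.1 * t - ρ b) = 0 := hs'm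
    rw [map_mul, map_mul, mul_assoc]
    rw [mul_sub, sub_eq_zero] at this
    exact this.symm
  · show z ∈ X.basicOpen (s' * s.1)
    rw [Scheme.basicOpen_mul]
    exact ⟨hs'z, (mem_basicOpen_iff V hV z hz s.1).mpr s.2⟩

include h in
/-- **Non-noetherian Hartogs**: if `U ⊆ X` is a retrocompact open such that the local rings at the points
outside `U` are noetherian of depth `≥ 2`, then functions extend uniquely from `W ∩ U` to `W`. -/
theorem hbij [QuasiCompact U.ι] (W : X.Opens) :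
    Function.Bijective (X.presheaf.map (homOfLE (inf_le_left : W ⊓ U ≤ W)).op) := by
  have h' : ∀ V : X.Opens, IsAffineOpen V →
      Function.Bijective (X.presheaf.map (homOfLE (inf_le_left : V ⊓ U ≤ V)).op) :=
    fun V hV => ⟨affine_inj U h V hV, affine_surj U h V hV⟩
  exact ⟨Groth.Agent.Lib.Helper4.Hartogs4.res_injective U (fun V hV => (h' V hV).1) W,
    Groth.Agent.Lib.Helper4.Hartogs4.res_surjective U h' W⟩

end Aff

end Groth.Agent.Lib.Helper4.NNHartogs1
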