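import Mathlib
import Groth.Agent.Lib.Helper4.NNHartogs1
import Groth.Agent.Lib.Helper8.ABS19
import Groth.Agent.Lib.Helper4.TorsNormal1
import Groth.Prelude.Def_AlgGrp

/-!
# relative non-noetherian Hartogs; restriction of morphisms of torsors across regular codim 2 (S14274) (helper4) (helper4)
-/

set_option backward.isDefEq.respectTransparency.types false
set_option synthInstance.maxHeartbeats 400000
set_option autoImplicit false
set_option linter.unusedSectionVars false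
set_option linter.style.haveILetI false
set_option linter.unusedSimpArgs false
universe u v w
open CategoryTheory CategoryTheory.Limits AlgebraicGeometry TopologicalSpace Opposite

namespace Groth.Agent.Lib.Helper4.NNHartogs2

/-- the depth hypothesis passes to flat morphisms locally of finite type -/
theorem hyp_preimage {X S : Scheme.{u}} (p : X ⟶ S) [Flat p] [LocallyOfFiniteType p] (U : S.Opens)
    (h : ∀ s : S, s ∉ U → IsNoetherianRing (S.presheaf.stalk s) ∧
      (2 : ℕ∞) ≤ LocCoh.depth (S.presheaf.stalk s) (S.presheaf.stalk s))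
    (x : X) (hx : x ∉ p ⁻¹ᵁ U) :
    IsNoetherianRing (X.presheaf.stalk x) ∧
      (2 : ℕ∞) ≤ LocCoh.depth (X.presheaf.stalk x) (X.presheaf.stalk x) := by
  refine ⟨?_, Groth.Agent.Lib.Helper4.RelHartogs1.depth_preimage_of_flat p U (fun s hs => (h s hs).2) x hx⟩
  haveI : IsNoetherianRing (S.presheaf.stalk (p x)) := (h (p x) hx).1
  letI := (p.stalkMap x).hom.toAlgebra
  haveI : Algebra.EssFiniteType (S.presheaf.stalk (p x)) (X.presheaf.stalk x) :=
    LocallyOfFiniteType.stalkMap p x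
  exact Algebra.EssFiniteType.isNoetherianRing (S.presheaf.stalk (p x)) (X.presheaf.stalk x)

theorem quasiCompact_preimage_ι {X S : Scheme.{u}} (p : X ⟶ S) (U : S.Opens) [QuasiCompact U.ι] :
    QuasiCompact (p ⁻¹ᵁ U).ι :=
  MorphismProperty.of_isPullback (P := @QuasiCompact) (isPullback_morphismRestrict p U) inferInstance

/-- Relative Hartogs extension without noetherian hypotheses on the base. -/
theorem relHartogs_nn {X S Z U' : Scheme.{u}} (p : X ⟶ S) [Flat p] [LocallyOfFiniteType p]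
    (q : Z ⟶ S) [IsAffineHom q] (U : S.Opens) [QuasiCompact U.ι]
    (h : ∀ s : S, s ∉ U → IsNoetherianRing (S.presheaf.stalk s) ∧
      (2 : ℕ∞) ≤ LocCoh.depth (S.presheaf.stalk s) (S.presheaf.stalk s))
    (i : U' ⟶ X) [IsOpenImmersion i] (hi : i.opensRange = p ⁻¹ᵁ U)
    (ψ : U' ⟶ Z) (hψ : ψ ≫ q = i ≫ p) :
    ∃! g : X ⟶ Z, g ≫ q = p ∧ i ≫ g = ψ := by
  haveI := quasiCompact_preimage_ι p U
  have hb := Groth.Agent.Lib.Helper4.NNHartogs1.hbij (p ⁻¹ᵁ U) (hyp_preimage p U h)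
  rw [← hi] at hb
  have hψ' : (i.isoOpensRange.inv ≫ ψ) ≫ q = i.opensRange.ι ≫ p := by
    rw [Category.assoc, hψ, ← Category.assoc]
    congr 1
    rw [Iso.inv_comp_eq]
    exact (Scheme.Hom.isoOpensRange_hom_ι i).symm
  obtain ⟨g, ⟨hg1, hg2⟩, hguniq⟩ := Groth.Agent.Lib.Helper4.RelHartogs1.relHartogs i.opensRange hb p q
    (i.isoOpensRange.inv ≫ ψ) hψ'
  have hι : i.isoOpensRange.hom ≫ i.opensRange.ι = i := Scheme.Hom.isoOpensRange_hom_ι i
  refine ⟨g, ⟨hg1, ?_⟩, ?_⟩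
  · rw [← hι, Category.assoc, hg2, Iso.hom_inv_id_assoc]
  · rintro g' ⟨h1, h2⟩
    apply hguniq
    refine ⟨h1, ?_⟩
    rw [← h2, ← Category.assoc]
    congr 1
    rw [Iso.eq_inv_comp, hι]


section E
variable {X : Scheme.{u}} (U : X.Opens) [QuasiCompact U.ι]
  (h : ∀ s : X, s ∉ U → IsNoetherianRing (X.presheaf.stalk s) ∧
      (2 : ℕ∞) ≤ LocCoh.depth (X.presheaf.stalk s) (X.presheaf.stalk s))

include h in
/-- restriction to `U` of morphisms from a flat, locally finite type `X`-scheme to an affine one is bijective -/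
theorem pullback_map_bijective (Y Z : Over X) [Flat Y.hom] [LocallyOfFiniteType Y.hom] [IsAffineHom Z.hom] :
    Function.Bijective (fun g : Y ⟶ Z => (Over.pullback U.ι).map g) := by
  have hi : (pullback.fst Y.hom U.ι).opensRange = Y.hom ⁻¹ᵁ U := by
    rw [Scheme.Hom.opensRange_pullbackFst, Scheme.Opens.opensRange_ι]
  constructor
  · intro g₁ g₂ hg
    have hg' : pullback.fst Y.hom U.ι ≫ g₁.left = pullback.fst Y.hom U.ι ≫ g₂.left := by
      have := congrArg (fun k => k.left ≫ pullback.fst Z.hom U.ι) hg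
      exact (pullback.lift_fst _ _ _).symm.trans (this.trans (pullback.lift_fst _ _ _))
    have hψ : (pullback.fst Y.hom U.ι ≫ g₁.left) ≫ Z.hom = pullback.fst Y.hom U.ι ≫ Y.hom := by
      rw [Category.assoc, Over.w]
    obtain ⟨g, -, hu⟩ := relHartogs_nn Y.hom Z.hom U h (pullback.fst Y.hom U.ι) hi
      (pullback.fst Y.hom U.ι ≫ g₁.left) hψ
    apply Over.OverMorphism.ext
    rw [hu g₁.left ⟨Over.w g₁, rfl⟩, hu g₂.left ⟨Over.w g₂, hg'.symm⟩]
  · intro h'
    have hw : h'.left ≫ pullback.snd Z.hom U.ι = pullback.snd Y.hom U.ι := Over.w h'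
    have hψ : (h'.left ≫ pullback.fst Z.hom U.ι) ≫ Z.hom = pullback.fst Y.hom U.ι ≫ Y.hom := by
      rw [Category.assoc, pullback.condition, ← Category.assoc, hw, pullback.condition]
    obtain ⟨g, ⟨hg1, hg2⟩, -⟩ := relHartogs_nn Y.hom Z.hom U h (pullback.fst Y.hom U.ι) hi
      (h'.left ≫ pullback.fst Z.hom U.ι) hψ
    refine ⟨Over.homMk g hg1, ?_⟩
    apply Over.OverMorphism.ext
    apply pullback.hom_ext
    · exact (pullback.lift_fst _ _ _).trans hg2
    · exact (pullback.lift_snd _ _ _).trans hw.symm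

end E


section Main
open MonoidalCategory CartesianMonoidalCategory MonObj GrpObj

theorem hyp_of_regular {X : Scheme.{u}} (U : X.Opens)
    (hZ : ∀ z : X, z ∉ U → IsRegularLocalRing (X.presheaf.stalk z) ∧
      (2 : WithBot ℕ∞) ≤ ringKrullDim (X.presheaf.stalk z)) :
    ∀ s : X, s ∉ U → IsNoetherianRing (X.presheaf.stalk s) ∧
      (2 : ℕ∞) ≤ LocCoh.depth (X.presheaf.stalk s) (X.presheaf.stalk s) := by
  intro s hs
  obtain ⟨hreg, hdim⟩ := hZ s hs
  haveI := hreg
  refine ⟨inferInstance, ?_⟩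
  have := Groth.Agent.Helper8.ABS.depth_eq_dim_of_regular (X.presheaf.stalk s)
  rw [← this] at hdim
  have h2 : ((2 : ℕ∞) : WithBot ℕ∞) ≤ ((LocCoh.depth (X.presheaf.stalk s) (X.presheaf.stalk s) : ℕ∞) : WithBot ℕ∞) := hdim
  exact WithBot.coe_le_coe.mp h2

theorem main {X : Scheme.{u}} (G : Over X) [GrpObj G]
    [IsFinite G.hom] [Flat G.hom] [LocallyOfFinitePresentation G.hom]
    (U : X.Opens) [QuasiCompact U.ι]
    (hZ : ∀ z : X, z ∉ U → IsRegularLocalRing (X.presheaf.stalk z) ∧ (2 : WithBot ℕ∞) ≤ ringKrullDim (X.presheaf.stalk z))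
    (Q₁ Q₂ : Over X) (a₁ : AlgGrp.Action G Q₁) (a₂ : AlgGrp.Action G Q₂)
    (h₁ : NonAbH1.IsTorsorFor Scheme.fppfPrecoverage a₁) (h₂ : NonAbH1.IsTorsorFor Scheme.fppfPrecoverage a₂)
    (h' : (Over.pullback U.ι).obj Q₁ ⟶ (Over.pullback U.ι).obj Q₂)
    (hh' : (Functor.LaxMonoidal.μ (Over.pullback U.ι) G Q₁ ≫ (Over.pullback U.ι).map a₁.act) ≫ h' =
      ((Over.pullback U.ι).obj G ◁ h') ≫ (Functor.LaxMonoidal.μ (Over.pullback U.ι) G Q₂ ≫ (Over.pullback U.ι).map a₂.act)) :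
    ∃! h : Q₁ ⟶ Q₂, a₁.act ≫ h = (G ◁ h) ≫ a₂.act ∧ (Over.pullback U.ι).map h = h' := by
  have hd := hyp_of_regular U hZ
  haveI : MorphismProperty.IsLocalAtTarget (@Flat : MorphismProperty Scheme.{u}) Scheme.fppfPrecoverage :=
    haveI := Groth.Agent.Helper2.AlgSpBasic.flat_descendsAlong_fpqc.{u}
    Groth.Agent.Helper2.AlgSpBasic.isLocalAtTarget_fppf_of_fpqc _
  haveI : Flat Q₁.hom := Groth.Agent.Lib.Helper4.TorsNormal1.torsor_hom_prop @Flat G Q₁ inferInstance a₁ h₁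
  haveI : LocallyOfFinitePresentation Q₁.hom :=
    Groth.Agent.Lib.Helper4.TorsNormal1.torsor_hom_prop @LocallyOfFinitePresentation G Q₁ inferInstance a₁ h₁
  haveI : IsFinite Q₂.hom :=
    Groth.Agent.Lib.Helper4.TorsNormal1.torsor_hom_prop @IsFinite G Q₂ inferInstance a₂ h₂
  have hGQ : (G ⊗ Q₁).hom = pullback.snd G.hom Q₁.hom ≫ Q₁.hom := (Over.w (snd G Q₁)).symm
  haveI : Flat (G ⊗ Q₁).hom := by rw [hGQ]; infer_instance
  haveI : LocallyOfFiniteType (G ⊗ Q₁).hom := by rw [hGQ]; infer_instance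
  obtain ⟨hinj, hsurj⟩ := pullback_map_bijective U hd Q₁ Q₂
  have hinj2 := (pullback_map_bijective U hd (G ⊗ Q₁) Q₂).1
  obtain ⟨g, hg⟩ := hsurj h'
  have hg' : (Over.pullback U.ι).map g = h' := hg
  refine ⟨g, ⟨?_, hg'⟩, ?_⟩
  · apply hinj2
    show (Over.pullback U.ι).map (a₁.act ≫ g) = (Over.pullback U.ι).map ((G ◁ g) ≫ a₂.act)
    rw [← cancel_epi (Functor.LaxMonoidal.μ (Over.pullback U.ι) G Q₁), Functor.map_comp, Functor.map_comp,
      ← Category.assoc, hg', hh', ← hg', ← Functor.LaxMonoidal.μ_natural_right_assoc]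
  · rintro g₂ ⟨-, hg₂⟩
    exact hinj (hg₂.trans hg'.symm)

end Main

end Groth.Agent.Lib.Helper4.NNHartogs2
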