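import Mathlib
import Groth.Prelude.Def_Neron
import Groth.Prelude.Def_NonAbH2
import Groth.Prelude.Def_AlgGrp
import Groth.Agent.Lib.Helper4.NeronPow1
import Groth.Agent.Lib.Helper4.NeronTors1
import Groth.Agent.Lib.Helper2.AlgSp.Descent
import Groth.Agent.Lib.Helper2.AlgSp.Fpqc
import Groth.Agent.Lib.Helper2.LfpOfComp

/-!
# Néron mapping property for extensions of group schemes (S15958) (helper4)
-/

set_option backward.isDefEq.respectTransparency.types false
set_option synthInstance.maxHeartbeats 400000
set_option autoImplicit false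
set_option linter.unusedSectionVars false
set_option linter.style.haveILetI false
set_option linter.unusedSimpArgs false
universe u v w
open CategoryTheory CategoryTheory.Limits AlgebraicGeometry TopologicalSpace Opposite
open MonoidalCategory CartesianMonoidalCategory MonObj GrpObj

namespace Groth.Agent.Lib.Helper4.NeronExtn1

section General

variable {S T : Scheme.{u}} (j : T ⟶ S)

theorem map_left_fst {A B : Over S} (g : A ⟶ B) :
    ((Over.pullback j).map g).left ≫ pullback.fst B.hom j = pullback.fst A.hom j ≫ g.left := by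
  simp only [Over.pullback_map_left]
  exact pullback.lift_fst _ _ _

theorem isPullback_map_left {A B : Over S} (g : A ⟶ B) :
    IsPullback (pullback.fst A.hom j) ((Over.pullback j).map g).left g.left
      (pullback.fst B.hom j) := by
  refine IsPullback.of_bot (h₃₁ := j) (v₂₁ := pullback.snd B.hom j)
    (v₂₂ := B.hom) ?_ (map_left_fst j g).symm (IsPullback.of_hasPullback _ _)
  have h1 : ((Over.pullback j).map g).left ≫ pullback.snd B.hom j =
      pullback.snd A.hom j := Over.w ((Over.pullback j).map g)
  rw [h1, Over.w g]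
  exact IsPullback.of_hasPullback _ _

theorem epi_map {A B : Over S} (g : A ⟶ B) [Flat g.left] [Surjective g.left]
    [LocallyOfFinitePresentation g.left] : Epi ((Over.pullback j).map g) := by
  have hp := isPullback_map_left j g
  haveI : Flat ((Over.pullback j).map g).left :=
    MorphismProperty.of_isPullback (P := @Flat) hp ‹_›
  haveI : Surjective ((Over.pullback j).map g).left :=
    MorphismProperty.of_isPullback (P := @Surjective) hp ‹_›
  haveI : LocallyOfFinitePresentation ((Over.pullback j).map g).left :=
    MorphismProperty.of_isPullback (P := @LocallyOfFinitePresentation) hp ‹_›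
  haveI : EffectiveEpi ((Over.pullback j).map g).left := inferInstance
  haveI : Epi ((Over.pullback j).map g).left := inferInstance
  exact Over.epi_of_epi_left _

theorem faithful_of_flat [IsSchemeTheoreticallyDominant j] [QuasiCompact j]
    {X Y : Over S} [Flat X.hom] [IsSeparated Y.hom]
    (f g : X ⟶ Y) (h : (Over.pullback j).map f = (Over.pullback j).map g) : f = g := by
  apply Over.OverMorphism.ext
  refine Groth.Agent.Lib.Helper4.NeronPow1.ext_of_schDominant Y.hom (by rw [Over.w, Over.w])
    (pullback.fst X.hom j) ?_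
  rw [← map_left_fst j f, ← map_left_fst j g, h]

end General


section Ker

variable {S : Scheme.{u}} {G' G G'' : Over S} [GrpObj G'] [GrpObj G] [GrpObj G'']
  (i : G' ⟶ G) (q : G ⟶ G'') [IsMonHom i] [IsMonHom q] (hker : AlgGrp.IsKernel i q)

include hker in
theorem mono_of_isKernel : Mono i := by
  haveI : Mono η[G''] := by
    have : η[G''] ≫ toUnit G'' = 𝟙 _ := toUnit_unique _ _
    exact mono_of_mono_fac this
  exact hker.mono_fst_of_mono

include hker in
theorem exists_lift_of_comp_eq_one {T : Over S} (a : T ⟶ G) (ha : a ≫ q = 1) :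
    ∃ k : T ⟶ G', k ≫ i = a := by
  refine ⟨hker.lift a (toUnit T) (by rw [ha, Hom.one_def]), hker.lift_fst _ _ _⟩

include hker in
theorem comp_eq_one_of_isKernel : i ≫ q = 1 := by
  rw [hker.w, Hom.one_def]



open Groth.Agent.Helper2.AlgSpBasic in
include hker in
theorem smooth_of_isKernel [Smooth G'.hom] [Flat q.left] [Surjective q.left]
    [LocallyOfFinitePresentation q.left] : Smooth q.left := by
  haveI := mono_of_isKernel i q hker
  apply MorphismProperty.IsLocalAtTarget.of_forall_pullbackSnd (P := @Smooth)
    (K := Scheme.fppfPrecoverage) (Scheme.Hom.singleton_mem_fppfPrecoverage q.left)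
  rintro U g _ ⟨⟩
  have hw : pullback.snd q.left q.left ≫ G.hom = pullback.fst q.left q.left ≫ G.hom := by
    rw [← Over.w q, ← Category.assoc, ← pullback.condition, Category.assoc]
  let KO : Over S := Over.mk (pullback.fst q.left q.left ≫ G.hom)
  let a : KO ⟶ G := Over.homMk (pullback.fst q.left q.left) rfl
  let b : KO ⟶ G := Over.homMk (pullback.snd q.left q.left) hw
  have hab : a ≫ q = b ≫ q := by
    ext
    exact pullback.condition
  have hc : (a * b⁻¹) ≫ q = 1 := by
    rw [MonObj.mul_comp, GrpObj.inv_comp, hab, _root_.mul_inv_cancel]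
  obtain ⟨k, hk⟩ := exists_lift_of_comp_eq_one i q hker (a * b⁻¹) hc
  have hcond : ((fst G' G ≫ i) * snd G' G) ≫ q = snd G' G ≫ q := by
    rw [MonObj.mul_comp, Category.assoc, comp_eq_one_of_isKernel i q hker, MonObj.comp_one,
      _root_.one_mul]
  let φ : G' ⊗ G ⟶ KO := Over.homMk (pullback.lift ((fst G' G ≫ i) * snd G' G).left
    (snd G' G).left (congrArg CommaMorphism.left hcond)) (by
      show pullback.lift _ _ _ ≫ pullback.fst _ _ ≫ G.hom = (G' ⊗ G).hom
      rw [pullback.lift_fst_assoc, Over.w])
  have hφa : φ ≫ a = (fst G' G ≫ i) * snd G' G := by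
    ext
    exact pullback.lift_fst _ _ _
  have hφb : φ ≫ b = snd G' G := by
    ext
    exact pullback.lift_snd _ _ _
  have h1 : lift k b ≫ φ = 𝟙 KO := by
    have ha' : (lift k b ≫ φ) ≫ a = a := by
      rw [Category.assoc, hφa, MonObj.comp_mul, ← Category.assoc, lift_fst, lift_snd, hk,
        _root_.inv_mul_cancel_right]
    have hb' : (lift k b ≫ φ) ≫ b = b := by
      rw [Category.assoc, hφb, lift_snd]
    ext
    apply pullback.hom_ext
    · exact congrArg CommaMorphism.left ha'
    · exact congrArg CommaMorphism.left hb'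
  have h2 : φ ≫ lift k b = 𝟙 _ := by
    apply CartesianMonoidalCategory.hom_ext
    · rw [Category.assoc, lift_fst, Category.id_comp, ← cancel_mono i, Category.assoc, hk,
        MonObj.comp_mul, GrpObj.comp_inv, hφa, hφb, _root_.mul_inv_cancel_right]
    · rw [Category.assoc, lift_snd, hφb, Category.id_comp]
  haveI : IsIso φ := ⟨lift k b, h2, h1⟩
  haveI : IsIso φ.left := (Over.forget S).map_isIso φ
  have e : pullback.snd q.left q.left = inv φ.left ≫ (snd G' G).left := by
    rw [IsIso.eq_inv_comp]
    exact pullback.lift_snd _ _ _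
  rw [e]
  haveI : Smooth (snd G' G).left := by
    change Smooth (pullback.snd G'.hom G.hom)
    infer_instance
  infer_instance

end Ker


section Main

open scoped Obj

theorem nmp_of_extension {S T : Scheme.{u}} (j : T ⟶ S) [IsSchemeTheoreticallyDominant j]
    [QuasiCompact j]
    (G' G G'' : Over S) [GrpObj G'] [GrpObj G] [GrpObj G'']
    [Smooth G'.hom] [Smooth G.hom] [IsSeparated G.hom] [Smooth G''.hom]
    (i : G' ⟶ G) (q : G ⟶ G'') [IsMonHom i] [IsMonHom q]
    (hker : AlgGrp.IsKernel i q) [Flat q.left] [Surjective q.left]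
    (hG' : ∀ Y : Over S, Smooth Y.hom →
      Function.Bijective (fun g : Y ⟶ G' => (Over.pullback j).map g))
    (hG'' : ∀ Y : Over S, Smooth Y.hom →
      Function.Bijective (fun g : Y ⟶ G'' => (Over.pullback j).map g)) :
    ∀ Y : Over S, Smooth Y.hom →
      Function.Bijective (fun g : Y ⟶ G => (Over.pullback j).map g) := by
  intro Y hY
  haveI : LocallyOfFinitePresentation q.left := by
    haveI : LocallyOfFinitePresentation (q.left ≫ G''.hom) := by rw [Over.w]; infer_instance
    exact Groth.Agent.Helper2.locallyOfFinitePresentation_of_comp q.left G''.hom inferInstance inferInstance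
  haveI hqs : Smooth q.left := smooth_of_isKernel i q hker
  refine ⟨?_, ?_⟩
  · intro g₁ g₂ h
    haveI : Flat Y.hom := inferInstance
    exact faithful_of_flat j g₁ g₂ h
  · intro uK
    obtain ⟨v, hv⟩ := (hG'' Y hY).2 (uK ≫ (Over.pullback j).map q)
    have hw' : pullback.snd v.left q.left ≫ G.hom = pullback.fst v.left q.left ≫ Y.hom := by
      rw [← Over.w q, ← Category.assoc, ← pullback.condition, Category.assoc, Over.w]
    let Y' : Over S := Over.mk (pullback.fst v.left q.left ≫ Y.hom)
    let prY : Y' ⟶ Y := Over.homMk (pullback.fst v.left q.left) rfl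
    let prG : Y' ⟶ G := Over.homMk (pullback.snd v.left q.left) hw'
    have hpr : prY ≫ v = prG ≫ q := by
      ext
      exact pullback.condition
    haveI : Smooth prY.left := (inferInstance : Smooth (pullback.fst v.left q.left))
    haveI : Surjective prY.left := (inferInstance : Surjective (pullback.fst v.left q.left))
    haveI : Flat prY.left := inferInstance
    haveI : LocallyOfFinitePresentation prY.left := inferInstance
    have hY' : Smooth Y'.hom := (inferInstance : Smooth (pullback.fst v.left q.left ≫ Y.hom))
    have hv' : (Over.pullback j).map v = uK ≫ (Over.pullback j).map q := hv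
    have h12 : (Over.pullback j).map prG ≫ (Over.pullback j).map q =
        ((Over.pullback j).map prY ≫ uK) ≫ (Over.pullback j).map q := by
      rw [← Functor.map_comp, ← hpr, Functor.map_comp, hv', Category.assoc]
    have hδ : ((Over.pullback j).map prG * ((Over.pullback j).map prY ≫ uK)⁻¹) ≫
        (Over.pullback j).map q = 1 := by
      rw [MonObj.mul_comp, GrpObj.inv_comp, h12, _root_.mul_inv_cancel]
    haveI : PreservesLimitsOfSize.{0, 0} (Over.pullback j) :=
      (Over.mapPullbackAdj j).rightAdjoint_preservesLimits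
    have hkerK : IsPullback ((Over.pullback j).map i) ((Over.pullback j).map (toUnit G'))
        ((Over.pullback j).map q) ((Over.pullback j).map η[G'']) := hker.map (Over.pullback j)
    have hcondK : ((Over.pullback j).map prG * ((Over.pullback j).map prY ≫ uK)⁻¹) ≫
        (Over.pullback j).map q =
        (toUnit _ ≫ Functor.LaxMonoidal.ε (Over.pullback j)) ≫ (Over.pullback j).map η[G''] := by
      rw [hδ, Hom.one_def, Functor.obj.η_def, Category.assoc]
    obtain ⟨d, hd⟩ := (hG' Y' hY').2 (hkerK.lift _ _ hcondK)
    have hd' : (Over.pullback j).map d ≫ (Over.pullback j).map i =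
        (Over.pullback j).map prG * ((Over.pullback j).map prY ≫ uK)⁻¹ := by
      have : (Over.pullback j).map d = hkerK.lift _ _ hcondK := hd
      rw [this, hkerK.lift_fst]
    have hinv : (Over.pullback j).map ((d ≫ i)⁻¹) = ((Over.pullback j).map (d ≫ i))⁻¹ :=
      map_inv ((Over.pullback j).homMonoidHom (X := Y') (M := G)) (d ≫ i)
    have ht : (Over.pullback j).map ((d ≫ i)⁻¹ * prG) = (Over.pullback j).map prY ≫ uK := by
      rw [Functor.map_mul, hinv, Functor.map_comp, hd']
      group
    haveI : EffectiveEpi prY.left := inferInstance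
    have heq : ∀ {Z : Scheme.{u}} (g₁ g₂ : Z ⟶ Y'.left),
        g₁ ≫ prY.left = g₂ ≫ prY.left →
        g₁ ≫ ((d ≫ i)⁻¹ * prG).left = g₂ ≫ ((d ≫ i)⁻¹ * prG).left := by
      intro Z g₁ g₂ hg
      have hw2 : pullback.snd prY.left prY.left ≫ Y'.hom =
          pullback.fst prY.left prY.left ≫ Y'.hom := by
        rw [← Over.w prY, ← Category.assoc, ← pullback.condition, Category.assoc]
      let KP : Over S := Over.mk (pullback.fst prY.left prY.left ≫ Y'.hom)
      let π₁ : KP ⟶ Y' := Over.homMk (pullback.fst prY.left prY.left) rfl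
      let π₂ : KP ⟶ Y' := Over.homMk (pullback.snd prY.left prY.left) hw2
      have hπ : π₁ ≫ prY = π₂ ≫ prY := by
        ext
        exact pullback.condition
      haveI : Flat Y'.hom := inferInstance
      haveI : Flat KP.hom := by
        change Flat (pullback.fst prY.left prY.left ≫ Y'.hom)
        infer_instance
      have h3 : π₁ ≫ ((d ≫ i)⁻¹ * prG) = π₂ ≫ ((d ≫ i)⁻¹ * prG) := by
        apply faithful_of_flat j
        rw [(Over.pullback j).map_comp π₁, (Over.pullback j).map_comp π₂, ht,
          ← Category.assoc, ← Category.assoc,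
          ← (Over.pullback j).map_comp π₁, ← (Over.pullback j).map_comp π₂, hπ]
      have h4 : pullback.fst prY.left prY.left ≫ ((d ≫ i)⁻¹ * prG).left =
          pullback.snd prY.left prY.left ≫ ((d ≫ i)⁻¹ * prG).left :=
        congrArg CommaMorphism.left h3
      calc g₁ ≫ ((d ≫ i)⁻¹ * prG).left
          = pullback.lift g₁ g₂ hg ≫ pullback.fst _ _ ≫ ((d ≫ i)⁻¹ * prG).left := by
            rw [pullback.lift_fst_assoc]
        _ = pullback.lift g₁ g₂ hg ≫ pullback.snd _ _ ≫ ((d ≫ i)⁻¹ * prG).left := by
            rw [h4]
        _ = g₂ ≫ ((d ≫ i)⁻¹ * prG).left := by rw [pullback.lift_snd_assoc]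
    have hul : prY.left ≫ EffectiveEpi.desc prY.left ((d ≫ i)⁻¹ * prG).left heq =
        ((d ≫ i)⁻¹ * prG).left := EffectiveEpi.fac _ _ _
    have hw : EffectiveEpi.desc prY.left ((d ≫ i)⁻¹ * prG).left heq ≫ G.hom = Y.hom := by
      rw [← cancel_epi prY.left, ← Category.assoc, hul, Over.w, Over.w]
    refine ⟨Over.homMk (EffectiveEpi.desc prY.left ((d ≫ i)⁻¹ * prG).left heq) hw, ?_⟩
    haveI : Epi ((Over.pullback j).map prY) := epi_map j prY
    have hpu : prY ≫ Over.homMk (EffectiveEpi.desc prY.left ((d ≫ i)⁻¹ * prG).left heq) hw =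
        (d ≫ i)⁻¹ * prG := by
      ext
      exact hul
    show (Over.pullback j).map _ = uK
    rw [← cancel_epi ((Over.pullback j).map prY), ← Functor.map_comp, hpu, ht]

end Main


section Final

theorem isDominant_fromSpecStalk_generic (S : Scheme.{u}) [IsIntegral S] :
    IsDominant (S.fromSpecStalk (genericPoint S)) := by
  constructor
  have h1 : genericPoint S ∈ Set.range (S.fromSpecStalk (genericPoint S)) := by
    rw [Scheme.range_fromSpecStalk]
    exact specializes_rfl
  intro x
  have h2 : x ∈ closure ({genericPoint S} : Set S) := by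
    rw [show closure ({genericPoint S} : Set S) = Set.univ from genericPoint_spec S]; trivial
  exact closure_mono (Set.singleton_subset_iff.mpr h1) h2

theorem main15958
    {S : Scheme.{u}} [IsIntegral S] [IsNoetherian S]
    (G' G G'' : Over S) [GrpObj G'] [GrpObj G] [GrpObj G'']
    [Smooth G'.hom] [IsSeparated G'.hom] [Smooth G.hom] [IsSeparated G.hom] [Smooth G''.hom]
    [IsSeparated G''.hom]
    (i : G' ⟶ G) (q : G ⟶ G'') [IsMonHom i] [IsMonHom q]
    (hker : AlgGrp.IsKernel i q) [Flat q.left] [Surjective q.left]
    (hG' : ∀ Y : Over S, Smooth Y.hom →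
        Function.Bijective (fun g : Y ⟶ G' =>
          (Over.pullback (S.fromSpecStalk (genericPoint S))).map g))
    (hG'' : ∀ Y : Over S, Smooth Y.hom →
        Function.Bijective (fun g : Y ⟶ G'' =>
          (Over.pullback (S.fromSpecStalk (genericPoint S))).map g)) :
    ∀ Y : Over S, Smooth Y.hom →
        Function.Bijective (fun g : Y ⟶ G =>
          (Over.pullback (S.fromSpecStalk (genericPoint S))).map g) := by
  haveI := isDominant_fromSpecStalk_generic S
  haveI : IsSchemeTheoreticallyDominant (S.fromSpecStalk (genericPoint S)) :=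
    IsSchemeTheoreticallyDominant.of_isDominant _
  haveI : QuasiCompact (S.fromSpecStalk (genericPoint S)) := inferInstance
  exact nmp_of_extension (S.fromSpecStalk (genericPoint S)) G' G G'' i q hker hG' hG''

end Final

end Groth.Agent.Lib.Helper4.NeronExtn1
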