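import Mathlib
import Groth.Prelude.Def_Neron
import Groth.Agent.Lib.Helper4.NeronExtn1

/-!
# Néron models and finite étale base change (S11103) (helper4)
-/

set_option backward.isDefEq.respectTransparency.types false
set_option synthInstance.maxHeartbeats 400000
set_option autoImplicit false
set_option linter.unusedSectionVars false
set_option linter.style.haveILetI false
set_option linter.unusedSimpArgs false
universe u v w
open CategoryTheory CategoryTheory.Limits AlgebraicGeometry TopologicalSpace Opposite

namespace Groth.Agent.Lib.Helper4.NeronBC1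

section Alg

variable (R R' : Type u) [CommRing R] [IsDomain R] [CommRing R'] [IsDomain R'] [Algebra R R']
  [FaithfulSMul R R'] [Algebra.IsIntegral R R']

noncomputable instance : Algebra (FractionRing R) (FractionRing R') :=
  FractionRing.liftAlgebra R (FractionRing R')

instance : IsScalarTower R (FractionRing R) (FractionRing R') :=
  FractionRing.isScalarTower_liftAlgebra R (FractionRing R')

theorem isPushout_fractionRing :
    Algebra.IsPushout R (FractionRing R) R' (FractionRing R') := by
  haveI : Algebra.IsAlgebraic R R' := inferInstance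
  constructor
  exact Algebra.IsAlgebraic.isBaseChange_of_isFractionRing R R' (FractionRing R) (FractionRing R')

end Alg


section BC

open Groth.Agent.Lib.Helper4.NeronExtn1 in
theorem nmp_baseChange {S S' T T' : Scheme.{u}} (f : S' ⟶ S) (j : T ⟶ S) (j' : T' ⟶ S')
    (fT : T' ⟶ T) (hsq : IsPullback fT j' j f) [Smooth f]
    [IsSchemeTheoreticallyDominant j'] [QuasiCompact j']
    (N : Over S) [IsSeparated N.hom]
    (hN : ∀ Y : Over S, Smooth Y.hom →
      Function.Surjective (fun g : Y ⟶ N => (Over.pullback j).map g))
    (Y' : Over S') (hY' : Smooth Y'.hom) :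
    Function.Bijective (fun g : Y' ⟶ (Over.pullback f).obj N => (Over.pullback j').map g) := by
  refine ⟨?_, ?_⟩
  · intro g₁ g₂ h
    haveI : Flat Y'.hom := inferInstance
    haveI : IsSeparated ((Over.pullback f).obj N).hom := by
      change IsSeparated (pullback.snd N.hom f)
      infer_instance
    exact faithful_of_flat j' g₁ g₂ h
  · intro u'
    obtain ⟨ul, hul⟩ : ∃ ul : pullback Y'.hom j' ⟶ pullback (pullback.snd N.hom f) j',
        ul = u'.left := ⟨_, rfl⟩
    have hu'w : ul ≫ pullback.snd (pullback.snd N.hom f) j' = pullback.snd Y'.hom j' := by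
      rw [hul]; exact Over.w u'
    have hpaste : IsPullback (pullback.fst Y'.hom j') (pullback.snd Y'.hom j' ≫ fT)
        (Y'.hom ≫ f) j :=
      ((IsPullback.of_hasPullback Y'.hom j').flip.paste_horiz hsq).flip
    have hθ₁ : hpaste.isoPullback.hom ≫ pullback.fst (Y'.hom ≫ f) j = pullback.fst Y'.hom j' :=
      hpaste.isoPullback_hom_fst
    have hθ₂ : hpaste.isoPullback.hom ≫ pullback.snd (Y'.hom ≫ f) j =
        pullback.snd Y'.hom j' ≫ fT := hpaste.isoPullback_hom_snd
    have hρc : (pullback.fst (pullback.snd N.hom f) j' ≫ pullback.fst N.hom f) ≫ N.hom =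
        (pullback.snd (pullback.snd N.hom f) j' ≫ fT) ≫ j := by
      rw [Category.assoc, pullback.condition, ← Category.assoc, pullback.condition,
        Category.assoc, Category.assoc, hsq.w]
    have hY₀ : Smooth (Over.mk (Y'.hom ≫ f)).hom := by
      change Smooth (Y'.hom ≫ f)
      infer_instance
    have hKw : (hpaste.isoPullback.inv ≫ ul ≫ pullback.lift _ _ hρc) ≫
        pullback.snd N.hom j = pullback.snd (Y'.hom ≫ f) j := by
      rw [Category.assoc, Category.assoc, pullback.lift_snd, ← Category.assoc ul, hu'w,
        Iso.inv_comp_eq]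
      exact hθ₂.symm
    obtain ⟨uK, huK⟩ : ∃ uK : (Over.pullback j).obj (Over.mk (Y'.hom ≫ f)) ⟶
        (Over.pullback j).obj N,
        uK.left = hpaste.isoPullback.inv ≫ ul ≫ pullback.lift _ _ hρc :=
      ⟨Over.homMk (hpaste.isoPullback.inv ≫ ul ≫ pullback.lift _ _ hρc) hKw, rfl⟩
    obtain ⟨u₀, hu₀⟩ := hN (Over.mk (Y'.hom ≫ f)) hY₀ uK
    have hu₀' : (Over.pullback j).map u₀ = uK := hu₀
    have hu₀w : u₀.left ≫ N.hom = Y'.hom ≫ f := Over.w u₀
    refine ⟨Over.homMk (pullback.lift u₀.left Y'.hom hu₀w) (pullback.lift_snd _ _ _), ?_⟩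
    ext
    show ((Over.pullback j').map (Over.homMk (pullback.lift u₀.left Y'.hom hu₀w)
      (pullback.lift_snd _ _ _) : Y' ⟶ (Over.pullback f).obj N)).left = u'.left
    rw [← hul]
    apply pullback.hom_ext
    · refine (map_left_fst j' _).trans ?_
      apply pullback.hom_ext
      · have h1 := map_left_fst j u₀
        rw [hu₀', huK] at h1
        have h2 : (hpaste.isoPullback.inv ≫ ul ≫ pullback.lift _ _ hρc) ≫
            pullback.fst N.hom j = pullback.fst (Y'.hom ≫ f) j ≫ u₀.left := h1
        rw [Category.assoc, Category.assoc, pullback.lift_fst, Iso.inv_comp_eq,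
          reassoc_of% hθ₁] at h2
        simp only [Category.assoc, Over.homMk_left, pullback.lift_fst]
        exact h2.symm
      · simp only [Category.assoc, Over.homMk_left, pullback.lift_snd]
        have hc : pullback.fst (pullback.snd N.hom f) j' ≫ pullback.snd N.hom f =
            pullback.snd (pullback.snd N.hom f) j' ≫ j' := pullback.condition
        show pullback.fst Y'.hom j' ≫ Y'.hom =
          ul ≫ pullback.fst (pullback.snd N.hom f) j' ≫ pullback.snd N.hom f
        rw [hc, ← Category.assoc, hu'w]
        exact pullback.condition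
    · exact (Over.w ((Over.pullback j').map _)).trans hu'w.symm

end BC


section Final

theorem faithfulSMul_of_flat (R R' : Type u) [CommRing R] [IsDomain R] [CommRing R']
    [Nontrivial R'] [Algebra R R'] [Module.Flat R R'] : FaithfulSMul R R' := by
  rw [faithfulSMul_iff_algebraMap_injective, injective_iff_map_eq_zero]
  intro a ha
  by_contra hne
  have hreg : IsSMulRegular R' a :=
    Module.Flat.isSMulRegular_of_nonZeroDivisors (mem_nonZeroDivisors_of_ne_zero hne)
  have h1 : a • (1 : R') = a • (0 : R') := by
    rw [Algebra.smul_def, mul_one, ha, smul_zero]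
  exact one_ne_zero (hreg h1)

theorem main11103 (R R' : Type u) [CommRing R] [IsDedekindDomain R]
    [CommRing R'] [IsDedekindDomain R'] [Algebra R R'] [Module.Finite R R'] [Algebra.Etale R R']
    (N : Over (Spec (CommRingCat.of R)))
    (hN : Neron.IsNeronModelOf R N ((Neron.genericFibre R).obj N) (Iso.refl _)) :
    Neron.IsNeronModelOf R'
      ((Over.pullback (Spec.map (CommRingCat.ofHom (algebraMap R R')))).obj N)
      ((Neron.genericFibre R').obj
        ((Over.pullback (Spec.map (CommRingCat.ofHom (algebraMap R R')))).obj N))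
      (Iso.refl _) := by
  obtain ⟨hsm, hsep, hft, hqc, hbij⟩ := hN
  haveI : Etale (Spec.map (CommRingCat.ofHom (algebraMap R R'))) := by
    rw [HasRingHomProperty.Spec_iff (P := @Etale)]
    exact RingHom.etale_algebraMap.mpr inferInstance
  haveI : Module.Flat R R' := inferInstance
  haveI : FaithfulSMul R R' := faithfulSMul_of_flat R R'
  haveI : Algebra.IsIntegral R R' := inferInstance
  have hpo := isPushout_fractionRing R R'
  have hsq : IsPullback
      (Spec.map (CommRingCat.ofHom (algebraMap (FractionRing R) (FractionRing R'))))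
      (Neron.genPt R') (Neron.genPt R) (Spec.map (CommRingCat.ofHom (algebraMap R R'))) := by
    refine isPullback_SpecMap_of_isPushout _ _ _ _ ?_
    exact CommRingCat.isPushout_iff_isPushout.mpr hpo
  haveI := Groth.Agent.Lib.Helper4.NeronPow1.schDominant_genPt R'
  haveI : QuasiCompact (Neron.genPt R') := inferInstance
  refine ⟨?_, ?_, ?_, ?_, fun Y' hY' => ?_⟩
  · change Smooth (pullback.snd N.hom _)
    infer_instance
  · change IsSeparated (pullback.snd N.hom _)
    infer_instance
  · change LocallyOfFiniteType (pullback.snd N.hom _)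
    infer_instance
  · change QuasiCompact (pullback.snd N.hom _)
    infer_instance
  · have h := nmp_baseChange (Spec.map (CommRingCat.ofHom (algebraMap R R'))) (Neron.genPt R)
      (Neron.genPt R') _ hsq N (fun Y hY u => by
        obtain ⟨g, hg⟩ := (hbij Y hY).2 u
        exact ⟨g, by simpa using hg⟩) Y' hY'
    convert h using 2
    simp

end Final

end Groth.Agent.Lib.Helper4.NeronBC1
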