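import Mathlib
import Groth.Prelude.Def_SGA3x
import Groth.Agent.Lib.Helper4.FibreGrp1
import Groth.Agent.Lib.Helper4.GrpIrr3

/-!
# quasi-compact open containing the neutral components; quasi-compactness of group with connected lft fibres (S5323, S5324) (helper4) (helper4)
-/

set_option backward.isDefEq.respectTransparency.types false
set_option synthInstance.maxHeartbeats 400000
set_option autoImplicit false
set_option linter.unusedSectionVars false
set_option linter.style.haveILetI false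
set_option linter.unusedSimpArgs false
universe u v w
open CategoryTheory CategoryTheory.Limits AlgebraicGeometry TopologicalSpace Opposite
open MonoidalCategory CartesianMonoidalCategory MonObj GrpObj
open Groth.Agent.Lib.Helper4.GrpIrr1 Groth.Agent.Lib.Helper4.GrpOpenSub1 Groth.Agent.Lib.Helper4.GrpIrr3
open Groth.Agent.Lib.Helper4.FibreGrp1

namespace Groth.Agent.Lib.Helper4.NeutralSet3

/-- compact set inside an open: squeezed quasi-compact open -/
lemma exists_compact_open {X : Scheme.{u}} (K : Set X) (hK : IsCompact K) (O : X.Opens)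
    (hKO : K ⊆ O) : ∃ U : X.Opens, IsCompact (U : Set X) ∧ K ⊆ U ∧ U ≤ O := by
  choose! A hA hxA hAO using fun x (hx : x ∈ K) =>
    exists_isAffineOpen_mem_and_subset (x := x) (U := O) (hKO hx)
  obtain ⟨t, htK, hcover⟩ := hK.elim_nhds_subcover (fun x => (A x : Set X))
    (fun x hx => (A x).isOpen.mem_nhds (hxA x hx))
  refine ⟨⨆ x ∈ t, A x, ?_, ?_, ?_⟩
  · have : ((⨆ x ∈ t, A x : X.Opens) : Set X) = ⋃ x ∈ t, (A x : Set X) := by simp
    rw [this]
    exact t.isCompact_biUnion (fun x hx => (hA x (htK x hx)).isCompact)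
  · intro x hx
    have := hcover hx
    simpa using this
  · exact iSup₂_le fun x hx => hAO x (htK x hx)

variable {S : Scheme.{u}} (G : Over S) [GrpObj G]

lemma inv_inv_apply' (y : G.left) : ι[G].left (ι[G].left y) = y := by
  rw [← Scheme.Hom.comp_apply, ← Over.comp_left, GrpObj.inv_comp_inv]
  rfl

lemma hom_inv_apply (y : G.left) : G.hom (ι[G].left y) = G.hom y := by
  rw [← Scheme.Hom.comp_apply, Over.w]

theorem fibre_mem (hG : ∀ s : S, LocallyOfFiniteType (G.hom.fiberToSpecResidueField s))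
    (U : G.left.Opens) (hUsymm : ∀ x ∈ U, ι[G].left x ∈ U) (s : S) (hes : η[G].left s ∈ U)
    (y : (Gs G s).left) (hy : y ∈ connectedComponent (ept (Gs G s))) :
    ∃ z : (G ⊗ G).left, (fst G G).left z ∈ U ∧ (snd G G).left z ∈ U ∧
      μ[G].left z = πs G s y := by
  haveI : LocallyOfFiniteType (Gs G s).hom := hG s
  obtain ⟨Us, hUs⟩ : ∃ Us : (Gs G s).left.Opens, Us = πs G s ⁻¹ᵁ U := ⟨_, rfl⟩
  have hmemUs : ∀ y' : (Gs G s).left, y' ∈ Us ↔ πs G s y' ∈ U := by
    intro y'; rw [hUs]; rfl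
  have he : ept (Gs G s) ∈ Us := by rw [hmemUs, πs_ept]; exact hes
  have hsymm : ∀ y' ∈ Us, ι[Gs G s].left y' ∈ Us := by
    intro y' hy'
    rw [hmemUs] at hy' ⊢
    rw [inv_πs_apply]; exact hUsymm _ hy'
  have hCo : IsOpen (connectedComponent (ept (Gs G s))) := by
    rw [connectedComponent_eq_irreducibleComponent]; exact isOpen_irreducibleComponent _ _
  have hirr : IsIrreducible (connectedComponent (ept (Gs G s))) := by
    rw [connectedComponent_eq_irreducibleComponent]; exact isIrreducible_irreducibleComponent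
  obtain ⟨A, hA⟩ : ∃ A : (Gs G s).left.Opens, A = Us ⊓ ⟨_, hCo⟩ := ⟨_, rfl⟩
  have hsub : connectedComponent (ept (Gs G s)) ⊆ closure (A : Set (Gs G s).left) := by
    have := subset_closure_inter_of_isPreirreducible_of_isOpen hirr.isPreirreducible Us.isOpen
      ⟨ept _, mem_connectedComponent, he⟩
    refine this.trans (closure_mono ?_)
    rw [hA]; rintro x ⟨h1, h2⟩; exact ⟨h2, h1⟩
  have h2 := closure_subset_mulOpens (Gs G s) A Us he hsymm
  obtain ⟨z, hz1, hz2, hz3⟩ := (mem_mulOpens_iff (Gs G s) A Us y).mp (h2 (hsub hy))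
  refine ⟨ρs G s z, ?_, ?_, ?_⟩
  · rw [ρs_fst_apply]
    refine (hmemUs _).mp ?_
    rw [hA] at hz1; exact hz1.1
  · rw [ρs_snd_apply]; exact (hmemUs _).mp hz2
  · rw [ρs_mul_apply, hz3]

theorem exists_compact_superset
    (hG : ∀ s : S, LocallyOfFiniteType (G.hom.fiberToSpecResidueField s))
    (V : Scheme.{u}) (j : V ⟶ S) [IsOpenImmersion j] [CompactSpace V] [QuasiSeparatedSpace V] :
    ∃ W : Set G.left, IsCompact W ∧ W ⊆ G.hom ⁻¹' Set.range j ∧
      SGA3x.neutralSet G ∩ G.hom ⁻¹' Set.range j ⊆ W := by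
  obtain ⟨O, hO⟩ : ∃ O : G.left.Opens, (O : Set G.left) = G.hom ⁻¹' Set.range j :=
    ⟨G.hom ⁻¹ᵁ j.opensRange, rfl⟩
  have hK₀ : IsCompact (η[G].left '' Set.range j) :=
    (isCompact_range j.continuous).image η[G].left.continuous
  have hK₀O : η[G].left '' Set.range j ⊆ O := by
    rintro _ ⟨p, hp, rfl⟩
    show _ ∈ (O : Set G.left)
    rw [hO]
    show G.hom (η[G].left p) ∈ Set.range j
    rw [← Scheme.Hom.comp_apply, Over.w]; exact hp
  obtain ⟨U₀, hU₀c, hK₀U₀, hU₀O⟩ := exists_compact_open _ hK₀ O hK₀O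
  have hiso : IsIso ι[G].left := inferInstanceAs (IsIso ((Over.forget _).map ι[G]))
  obtain ⟨U, hUdef⟩ : ∃ U : G.left.Opens, U = U₀ ⊔ ι[G].left ⁻¹ᵁ U₀ := ⟨_, rfl⟩
  have hUc : IsCompact (U : Set G.left) := by
    rw [hUdef]
    have h2 : IsCompact ((ι[G].left ⁻¹ᵁ U₀ : G.left.Opens) : Set G.left) :=
      ι[G].left.isCompact_preimage hU₀c
    simpa using hU₀c.union h2
  have hUO : (U : Set G.left) ⊆ O := by
    rw [hUdef]
    rintro x (hx | hx)
    · exact hU₀O hx
    · have h3 : ι[G].left x ∈ (O : Set G.left) := hU₀O hx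
      show x ∈ (O : Set G.left)
      rw [hO] at h3 ⊢
      show G.hom x ∈ Set.range j
      rw [← hom_inv_apply]; exact h3
  have hUsymm : ∀ x ∈ U, ι[G].left x ∈ U := by
    intro y hy
    rw [hUdef] at hy ⊢
    rcases hy with hy | hy
    · refine Or.inr ?_
      show ι[G].left (ι[G].left y) ∈ U₀
      rw [inv_inv_apply']; exact hy
    · exact Or.inl hy
  have hK₀U : ∀ p ∈ Set.range j, η[G].left p ∈ U := fun p hp => by
    rw [hUdef]; exact Or.inl (hK₀U₀ ⟨p, hp, rfl⟩)
  have hrange : Set.range (U.ι ≫ G.hom) ⊆ Set.range j := by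
    rintro _ ⟨w, rfl⟩
    have : U.ι w ∈ (O : Set G.left) := hUO w.2
    rw [hO] at this; exact this
  obtain ⟨u, hu⟩ : ∃ u : U.toScheme ⟶ V, u ≫ j = U.ι ≫ G.hom :=
    ⟨IsOpenImmersion.lift j _ hrange, IsOpenImmersion.lift_fac _ _ _⟩
  haveI : CompactSpace ↥U.toScheme := isCompact_iff_compactSpace.mp hUc
  haveI : QuasiCompact u := inferInstance
  haveI : CompactSpace ↥(pullback u u) := inferInstance
  obtain ⟨m, hm⟩ : ∃ m : pullback u u ⟶ (G ⊗ G).left,
      Set.range m = (fst G G).left ⁻¹' (U : Set G.left) ∩ (snd G G).left ⁻¹' (U : Set G.left) := by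
    refine ⟨pullback.map u u G.hom G.hom U.ι U.ι j hu hu, ?_⟩
    rw [Scheme.Pullback.range_map, Scheme.Opens.range_ι]; rfl
  refine ⟨Set.range (m ≫ μ[G].left), isCompact_range (m ≫ μ[G].left).continuous, ?_, ?_⟩
  · rintro _ ⟨w, rfl⟩
    have h1 : (fst G G).left (m w) ∈ (U : Set G.left) := by
      have : m w ∈ Set.range m := ⟨w, rfl⟩
      rw [hm] at this; exact this.1
    have h2 : ∀ z : (G ⊗ G).left, G.hom (μ[G].left z) = G.hom ((fst G G).left z) := by
      intro z
      have e1 : μ[G].left ≫ G.hom = (G ⊗ G).hom := Over.w μ[G]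
      have e2 : (fst G G).left ≫ G.hom = (G ⊗ G).hom := Over.w (fst G G)
      rw [← Scheme.Hom.comp_apply, ← Scheme.Hom.comp_apply, e1, e2]
    rw [Scheme.Hom.comp_apply]
    show G.hom (μ[G].left (m w)) ∈ Set.range j
    rw [h2 (m w)]
    have := hUO h1
    rw [hO] at this; exact this
  · rintro x ⟨hx, hxV⟩
    obtain ⟨y, hy⟩ := exists_fibre_pt G x
    rw [← hy] at hx
    have hxV' : G.hom x ∈ Set.range j := hxV
    obtain ⟨z, hz1, hz2, hz3⟩ := fibre_mem G hG U hUsymm (G.hom x) (hK₀U _ hxV') y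
      ((mem_neutralSet_iff G _ y).mp hx)
    have hz : z ∈ Set.range m := by rw [hm]; exact ⟨hz1, hz2⟩
    obtain ⟨w, hw⟩ := hz
    refine ⟨w, ?_⟩
    rw [Scheme.Hom.comp_apply, hw, hz3, hy]

theorem main_S5323 (S : Scheme.{u}) [CompactSpace S] [QuasiSeparatedSpace S]
    (G : Over S) [GrpObj G] (hG : ∀ s : S, LocallyOfFiniteType (G.hom.fiberToSpecResidueField s)) :
    ∃ U : G.left.Opens, IsCompact (U : Set G.left) ∧ SGA3x.neutralSet G ⊆ U := by
  obtain ⟨W, hWc, -, hW⟩ := exists_compact_superset G hG S (𝟙 S)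
  obtain ⟨U, hUc, hWU, -⟩ := exists_compact_open W hWc ⊤ (fun _ _ => trivial)
  refine ⟨U, hUc, fun x hx => hWU (hW ⟨hx, ?_⟩)⟩
  exact ⟨G.hom x, rfl⟩

theorem main_S5324 (S : Scheme.{u}) (G : Over S) [GrpObj G]
    (hG : ∀ s : S, LocallyOfFiniteType (G.hom.fiberToSpecResidueField s))
    (hconn : ∀ s : S, _root_.IsConnected (G.hom.base ⁻¹' {s})) : QuasiCompact G.hom := by
  rw [quasiCompact_iff_forall_isAffineOpen]
  intro V hV
  haveI : IsAffine V.toScheme := hV
  obtain ⟨W, hWc, hWsub, hW⟩ := exists_compact_superset G hG V.toScheme V.ι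
  have huniv : SGA3x.neutralSet G = Set.univ := by
    apply Set.eq_univ_of_forall
    intro x
    unfold SGA3x.neutralSet
    rw [Set.mem_iUnion]
    refine ⟨G.hom x, ?_⟩
    have hmem : η[G].left (G.hom x) ∈ G.hom ⁻¹' {G.hom x} := by
      show G.hom (η[G].left (G.hom x)) = _
      rw [← Scheme.Hom.comp_apply, Over.w]; rfl
    have := (hconn (G.hom x)).isPreconnected.connectedComponentIn hmem
    show x ∈ connectedComponentIn (G.hom ⁻¹' {G.hom x}) (η[G].left (G.hom x))
    rw [this]; rfl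
  have : ((G.hom ⁻¹ᵁ V : G.left.Opens) : Set G.left) = W := by
    apply Set.Subset.antisymm
    · intro x hx
      refine hW ⟨huniv ▸ Set.mem_univ x, ?_⟩
      show G.hom x ∈ Set.range V.ι
      rw [V.range_ι]; exact hx
    · intro x hx
      have := hWsub hx
      rw [Set.mem_preimage, V.range_ι] at this
      exact this
  rw [this]; exact hWc

end Groth.Agent.Lib.Helper4.NeutralSet3
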