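import Mathlib
import Groth.Prelude.Def_ega3
import Groth.Agent.Lib.Helper4.ChartPkg1
import Groth.Agent.Lib.Helper4.FFMain3
import Groth.Agent.Lib.Lead.SD1
import Groth.Agent.Lib.Helper5.RpushCl.RpushClassic

/-!
# Flat base change to the local ring: the stalk of a higher direct image is the cohomology over the local ring; formal functions at a point (helper4)
-/

set_option backward.isDefEq.respectTransparency.types false
set_option synthInstance.maxHeartbeats 400000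
set_option autoImplicit false
set_option linter.unusedSectionVars false
set_option linter.style.haveILetI false
set_option linter.unusedSimpArgs false
universe u v w
open CategoryTheory
open CategoryTheory.Limits
open AlgebraicGeometry
open TopologicalSpace
open Opposite
open TensorProduct
open MonoidalCategory
open Groth.Agent.Helper1.RpushLoc
open Groth.Agent.Lib.Helper4.ChartSq1
open Groth.Agent.Lib.Helper4.BCSec2

namespace Groth.Agent.Lib.Helper4.StalkFF1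

section StalkSq
variable {X Y : Scheme.{u}} (f : X ⟶ Y) {V : Y.Opens} (hV : IsAffineOpen V) {y : Y} (hyV : y ∈ V)
  (X₁ : Scheme.{u}) [X₁.Over (Spec (CommRingCat.of (Y.presheaf.stalk y)))] (g : X₁ ⟶ X)
  (hsq : IsPullback g (X₁ ↘ Spec (CommRingCat.of (Y.presheaf.stalk y))) f (Y.fromSpecStalk y))

/-- the germ map -/
noncomputable def phiS : Γ(Y, V) →+* Y.presheaf.stalk y := (Y.presheaf.germ V y hyV).hom

include hV in
theorem map_phiS : Spec.map (CommRingCat.ofHom (phiS hyV)) ≫ hV.fromSpec = Y.fromSpecStalk y :=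
  hV.fromSpecStalk_eq_fromSpecStalk hyV

include hsq in
theorem exists_stalk_square :
    ∃ g₁ : X₁ ⟶ (↑(f ⁻¹ᵁ V) : Scheme.{u}), g₁ ≫ (f ⁻¹ᵁ V).ι = g ∧
      IsPullback g₁ (X₁ ↘ Spec (CommRingCat.of (Y.presheaf.stalk y))) (strMap f hV)
        (Spec.map (CommRingCat.ofHom (phiS hyV))) := by
  have hc := isPullback_chart f hV
  have hbig : IsPullback g (X₁ ↘ Spec (CommRingCat.of (Y.presheaf.stalk y))) f
      (Spec.map (CommRingCat.ofHom (phiS hyV)) ≫ hV.fromSpec) :=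
    (congrArg (fun z => IsPullback g (X₁ ↘ Spec (CommRingCat.of (Y.presheaf.stalk y))) f z)
      (map_phiS hV hyV)).mpr hsq
  let g₁ := hc.lift g ((X₁ ↘ Spec (CommRingCat.of (Y.presheaf.stalk y))) ≫
    Spec.map (CommRingCat.ofHom (phiS hyV))) (by rw [Category.assoc]; exact hbig.w)
  have hg1 : g₁ ≫ (f ⁻¹ᵁ V).ι = g := hc.lift_fst _ _ _
  have hg2 : g₁ ≫ strMap f hV = (X₁ ↘ Spec (CommRingCat.of (Y.presheaf.stalk y))) ≫
      Spec.map (CommRingCat.ofHom (phiS hyV)) := hc.lift_snd _ _ _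
  refine ⟨g₁, hg1, ?_⟩
  refine IsPullback.of_right ?_ hg2 hc
  rw [hg1]
  exact hbig

end StalkSq

section Alg
variable {A : Type u} [CommRing A] {ι : Type} {c : ComplexShape ι}

instance pfc_tensorRight (N : ModuleCat.{u} A) : PreservesFiniteColimits (tensorRight N) :=
  preservesFiniteColimits_of_natIso (BraidedCategory.tensorLeftIsoTensorRight N)

/-- homology commutes with tensoring with a flat module -/
noncomputable def flatHomologyIso (C : HomologicalComplex (ModuleCat.{u} A) c) (N : ModuleCat.{u} A)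
    [Module.Flat A N] (p : ι) :
    (CohIII.TFun C p).obj N ≅ (tensorRight N).obj (C.homology p) :=
  (C.sc p).mapHomologyIso (tensorRight N)

/-- homology commutes with tensoring with a flat module, as a linear equivalence -/
noncomputable def flatHomologyEquiv (C : HomologicalComplex (ModuleCat.{u} A) c) (N : ModuleCat.{u} A)
    [Module.Flat A N] (p : ι) :
    ((CohIII.TFun C p).obj N) ≃ₗ[A] (C.homology p) ⊗[A] N :=
  (flatHomologyIso C N p).toLinearEquiv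

end Alg

section Main
variable {X Y : Scheme.{u}} (f : X ⟶ Y) [IsProper f] [IsLocallyNoetherian Y]
  [HasInjectiveResolutions X.Modules]
  (F : X.Modules) (hF : Coh.IsCoh F) (p : ℕ)

attribute [local instance] Groth.Agent.Lib.Helper4.TenSec2.secMod
attribute [local instance] Groth.Agent.Lead.SD.stalkModule

include hF in
theorem nonempty_stalk_equiv_aux {V : Y.Opens} (hV : IsAffineOpen V) (x : V)
    (X₁ : Scheme.{u}) [X₁.Over (Spec (CommRingCat.of (Y.presheaf.stalk x.1)))] (g : X₁ ⟶ X)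
    (hsq : IsPullback g (X₁ ↘ Spec (CommRingCat.of (Y.presheaf.stalk x.1))) f
      (Y.fromSpecStalk x.1)) :
    Nonempty (((Coh.Rpush f p).obj F).presheaf.stalk x.1 ≃ₗ[Y.presheaf.stalk x.1]
      Coh.HH X₁ ((Scheme.Modules.pullback g).obj F) p) := by
  letI : (↑(f ⁻¹ᵁ V) : Scheme.{u}).Over (Spec (CommRingCat.of Γ(Y, V))) := ⟨strMap f hV⟩
  haveI : IsProper ((↑(f ⁻¹ᵁ V) : Scheme.{u}) ↘ Spec (CommRingCat.of Γ(Y, V))) :=
    Groth.Agent.Lib.Helper4.RpushCoh1.isProper_strMap f hV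
  haveI : F.IsQuasicoherent := hF.1
  have hFV : Coh.IsCoh (F.restrict (f ⁻¹ᵁ V).ι) :=
    Groth.Agent.Helper1.FinPush.isCoh_restrict _ F hF
  haveI : (F.restrict (f ⁻¹ᵁ V).ι).IsQuasicoherent := hFV.1
  obtain ⟨g₁, hg1, hsq1⟩ := exists_stalk_square f hV x.2 X₁ g hsq
  haveI : CompactSpace (↑(f ⁻¹ᵁ V) : Scheme.{u}) :=
    QuasiCompact.compactSpace_of_compactSpace
      ((↑(f ⁻¹ᵁ V) : Scheme.{u}) ↘ Spec (CommRingCat.of Γ(Y, V)))
  obtain ⟨ι, hfin, U, hcov, haff⟩ := Groth.Agent.Lib.Helper4.SepCover1.exists_cover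
    ((↑(f ⁻¹ᵁ V) : Scheme.{u}) ↘ Spec (CommRingCat.of Γ(Y, V)))
  haveI := hfin
  haveI hloc : IsLocalization.AtPrime (Y.presheaf.stalk x.1) (hV.primeIdealOf x).asIdeal :=
    hV.isLocalization_stalk x
  let R := (Coh.Rpush f p).obj F
  haveI : R.IsQuasicoherent := Groth.Agent.Lib.Helper5.RpushClassic.isQuasicoherent_rpush f F p
  haveI := Groth.Agent.Lead.SD.isLocalizedModule_germ R hV x
  let C := Groth.Agent.Lib.Helper4.CechTen2.CZ Γ(Y, V) (F.restrict (f ⁻¹ᵁ V).ι) U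
  let N : ModuleCat.{u} Γ(Y, V) := rs (phiS x.2) (𝟙_ (ModuleCat.{u} (Y.presheaf.stalk x.1)))
  -- `N` is the local ring as a module
  let eN : (Y.presheaf.stalk x.1) ≃ₗ[Γ(Y, V)] N :=
    { toFun := fun b => b
      invFun := fun b => b
      map_add' := fun _ _ => rfl
      map_smul' := fun a b => rfl
      left_inv := fun _ => rfl
      right_inv := fun _ => rfl }
  haveI : Module.Flat Γ(Y, V) (Y.presheaf.stalk x.1) :=
    IsLocalization.flat _ (hV.primeIdealOf x).asIdeal.primeCompl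
  haveI : Module.Flat Γ(Y, V) N := Module.Flat.of_linearEquiv eN.symm
  -- step 1: the stalk is the base change of the sections
  have hbc : IsBaseChange (Y.presheaf.stalk x.1) (Groth.Agent.Lead.SD.germₗ R x) :=
    IsLocalizedModule.isBaseChange (hV.primeIdealOf x).asIdeal.primeCompl _ _
  let e1 : R.presheaf.stalk x.1 ≃ₗ[Γ(Y, V)] Γ(R, V) ⊗[Γ(Y, V)] (Y.presheaf.stalk x.1) :=
    (hbc.equiv.restrictScalars Γ(Y, V)).symm ≪≫ₗ TensorProduct.comm _ _ _
  obtain ⟨ea⟩ := Groth.Agent.Lib.Helper4.RpushSec1.nonempty_sections_equiv f F hV p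
  let eb : C.homology (p : ℤ) ≃ₗ[Γ(Y, V)] Coh.HH (↑(f ⁻¹ᵁ V)) (F.restrict (f ⁻¹ᵁ V).ι) p :=
    ((Groth.Agent.Lib.Helper4.CechTen1.CAN Γ(Y, V) (F.restrict (f ⁻¹ᵁ V).ι) U).extendHomologyIso
      ComplexShape.embeddingUpNat (j := p) (j' := (p : ℤ)) rfl).toLinearEquiv ≪≫ₗ
    Groth.Agent.Lib.Helper4.CechTen3.linHH Γ(Y, V) (F.restrict (f ⁻¹ᵁ V).ι) U haff hcov p
  let e2 : Γ(R, V) ⊗[Γ(Y, V)] (Y.presheaf.stalk x.1) ≃ₗ[Γ(Y, V)]
      (C.homology (p : ℤ)) ⊗[Γ(Y, V)] N :=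
    TensorProduct.congr (ea ≪≫ₗ eb.symm) eN
  let e3 := (flatHomologyEquiv C N (p : ℤ)).symm
  -- the target, as a module over the coordinate ring
  letI mT' : Module Γ(Y, V) (Coh.HH X₁ (Fp g₁ (F.restrict (f ⁻¹ᵁ V).ι)) p) :=
    Module.compHom _ (algebraMap Γ(Y, V) (Y.presheaf.stalk x.1))
  haveI : IsScalarTower Γ(Y, V) (Y.presheaf.stalk x.1)
      (Coh.HH X₁ (Fp g₁ (F.restrict (f ⁻¹ᵁ V).ι)) p) :=
    IsScalarTower.of_algebraMap_smul (fun _ _ => rfl)
  let ec := Groth.Agent.Lib.Helper4.MumBC1.hhBC (phiS x.2) g₁ (F.restrict (f ⁻¹ᵁ V).ι) U hsq1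
    haff hcov p
  let e4 : (Coh.HH X₁ (Fp g₁ (F.restrict (f ⁻¹ᵁ V).ι)) p) ≃ₗ[Γ(Y, V)]
      ((CohIII.TFun C (p : ℤ)).obj N) :=
    { ec with
      map_smul' := fun a w => Groth.Agent.Lib.Helper4.FibLin1.hhBC_smul (phiS x.2) g₁
        (F.restrict (f ⁻¹ᵁ V).ι) U hsq1 haff hcov p a w }
  let eA : R.presheaf.stalk x.1 ≃ₗ[Γ(Y, V)] Coh.HH X₁ (Fp g₁ (F.restrict (f ⁻¹ᵁ V).ι)) p :=
    e1 ≪≫ₗ e2 ≪≫ₗ e3 ≪≫ₗ e4.symm
  let eB : R.presheaf.stalk x.1 ≃ₗ[Y.presheaf.stalk x.1]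
      Coh.HH X₁ (Fp g₁ (F.restrict (f ⁻¹ᵁ V).ι)) p :=
    LinearEquiv.extendScalarsOfIsLocalization (hV.primeIdealOf x).asIdeal.primeCompl
      (Y.presheaf.stalk x.1) eA
  let iso : Fp g₁ (F.restrict (f ⁻¹ᵁ V).ι) ≅ (Scheme.Modules.pullback g).obj F :=
    (Scheme.Modules.pullback g₁).mapIso
      ((Scheme.Modules.restrictFunctorIsoPullback (f ⁻¹ᵁ V).ι).app F) ≪≫
    (Scheme.Modules.pullbackComp g₁ (f ⁻¹ᵁ V).ι).app F ≪≫
    (Scheme.Modules.pullbackCongr hg1).app F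
  exact ⟨eB ≪≫ₗ ((Groth.Agent.Lib.Helper4.HModDelta1.HModF (Y.presheaf.stalk x.1) X₁ p).mapIso
    iso).toLinearEquiv⟩

include hF in
/-- **S4467**: finiteness of the stalk of a higher direct image and the theorem on formal
functions at a point -/
theorem s4467 (y : Y)
    (X₁ : Scheme.{u}) [X₁.Over (Spec (CommRingCat.of (Y.presheaf.stalk y)))] (g : X₁ ⟶ X)
    (hsq : IsPullback g (X₁ ↘ Spec (CommRingCat.of (Y.presheaf.stalk y))) f (Y.fromSpecStalk y)) :
    Module.Finite (Y.presheaf.stalk y) (((Coh.Rpush f p).obj F).presheaf.stalk y) ∧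
    Nonempty (AdicCompletion (IsLocalRing.maximalIdeal (Y.presheaf.stalk y))
        (((Coh.Rpush f p).obj F).presheaf.stalk y) ≃+
      Formal.HHlim (IsLocalRing.maximalIdeal (Y.presheaf.stalk y))
        ((Scheme.Modules.pullback g).obj F) p) := by
  obtain ⟨_, ⟨V, hV, rfl⟩, hyV, -⟩ := Y.isBasis_affineOpens.exists_subset_of_mem_open
    (Set.mem_univ y) isOpen_univ
  obtain ⟨e⟩ := nonempty_stalk_equiv_aux f F hF p hV ⟨y, hyV⟩ X₁ g hsq
  haveI : F.IsQuasicoherent := hF.1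
  haveI : IsProper (X₁ ↘ Spec (CommRingCat.of (Y.presheaf.stalk y))) :=
    MorphismProperty.of_isPullback hsq (inferInstance : IsProper f)
  have hF₁ : Coh.IsCoh ((Scheme.Modules.pullback g).obj F) :=
    ⟨Groth.Agent.Lead.PB.isQuasicoherent_pullback g F, Groth.Agent.Lead.PB.isFT_pullback g F hF.2⟩
  haveI : Module.Finite (Y.presheaf.stalk y) (Coh.HH X₁ ((Scheme.Modules.pullback g).obj F) p) :=
    Groth.Agent.Lib.Helper4.T2Main1.t2 _ X₁ _ hF₁ p
  refine ⟨Module.Finite.equiv e.symm, ?_⟩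
  obtain ⟨e'⟩ := Groth.Agent.Lib.Helper4.FFMain3.s0059
    (IsLocalRing.maximalIdeal (Y.presheaf.stalk y)) ((Scheme.Modules.pullback g).obj F) p hF₁
  exact ⟨(AdicCompletion.congr (IsLocalRing.maximalIdeal (Y.presheaf.stalk y)) e).toAddEquiv.trans e'⟩

end Main

end Groth.Agent.Lib.Helper4.StalkFF1
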