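import Mathlib
import Groth.Prelude.Def_Coh
import Groth.Prelude.Def_FlatMod2
import Groth.Prelude.Def_Formal
import Groth.Agent.S4467
import Groth.Agent.Lib.Helper4.Grauert3
import Groth.Agent.Lib.Helper4.RpushCoh1
import Groth.Agent.Lib.Lead.SD1

/-!
# vanishing of R^p f_* near a point from vanishing of the formal limit (S7844) (helper4)
-/

set_option backward.isDefEq.respectTransparency.types false
set_option synthInstance.maxHeartbeats 400000
set_option autoImplicit false
set_option linter.unusedSectionVars false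
set_option linter.style.haveILetI false
set_option linter.unusedSimpArgs false
universe u v w
open CategoryTheory
open CategoryTheory.Limits
open AlgebraicGeometry
open TopologicalSpace

namespace Groth.Agent.Lib.Helper4.NhdVan1

attribute [local instance] Groth.Agent.Lead.SD.stalkModule

theorem s7844 {X S : Scheme.{u}} (f : X ⟶ S)
    [IsProper f] [IsLocallyNoetherian S] [CategoryTheory.HasInjectiveResolutions X.Modules]
    (F : X.Modules) (hF : Coh.IsCoh F) (s : S) (p : ℕ)
    (X₁ : Scheme.{u}) [X₁.Over (Spec (CommRingCat.of (S.presheaf.stalk s)))] (g : X₁ ⟶ X)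
    (hsq : IsPullback g (X₁ ↘ Spec (CommRingCat.of (S.presheaf.stalk s))) f (S.fromSpecStalk s))
    (hlim : Formal.HHlim (IsLocalRing.maximalIdeal (S.presheaf.stalk s)) ((Scheme.Modules.pullback g).obj F) p = ⊥) :
    ∃ V : S.Opens, s ∈ V ∧ Limits.IsZero ((((Coh.Rpush f p).obj F)).restrict V.ι) := by
  obtain ⟨hfin, ⟨e⟩⟩ := Groth.Agent.S4467.result f F hF s p X₁ g hsq
  haveI := hfin
  have hsub : Subsingleton (Formal.HHlim (IsLocalRing.maximalIdeal (S.presheaf.stalk s))
      ((Scheme.Modules.pullback g).obj F) p) := by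
    rw [hlim]; infer_instance
  have hsubC : Subsingleton (AdicCompletion (IsLocalRing.maximalIdeal (S.presheaf.stalk s))
      (((Coh.Rpush f p).obj F).presheaf.stalk s)) := e.toEquiv.subsingleton
  have hN : Subsingleton (((Coh.Rpush f p).obj F).presheaf.stalk s) :=
    (AdicCompletion.of_injective (I := IsLocalRing.maximalIdeal (S.presheaf.stalk s))
      (M := ((Coh.Rpush f p).obj F).presheaf.stalk s)).subsingleton
  obtain ⟨_, ⟨V, hV, rfl⟩, hsV, -⟩ := S.isBasis_affineOpens.exists_subset_of_mem_open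
    (Set.mem_univ s) isOpen_univ
  have hR : Coh.IsCoh ((Coh.Rpush f p).obj F) := Groth.Agent.Lib.Helper4.RpushCoh1.s0036 f F hF p
  haveI : ((Coh.Rpush f p).obj F).IsQuasicoherent := hR.1
  haveI : Module.Finite Γ(S, V) Γ((Coh.Rpush f p).obj F, V) :=
    Groth.Agent.Helper1.FinPush.finite_sections _ hR hV
  obtain ⟨x, rfl⟩ : ∃ x : V, x.1 = s := ⟨⟨s, hsV⟩, rfl⟩
  haveI := Groth.Agent.Lead.SD.isLocalizedModule_germ ((Coh.Rpush f p).obj F) hV x
  obtain ⟨r, hr, hsr⟩ := IsLocalizedModule.exists_subsingleton_away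
    (Groth.Agent.Lead.SD.germₗ ((Coh.Rpush f p).obj F) x) (hV.primeIdealOf x).asIdeal
  refine ⟨S.basicOpen r, ?_, Groth.Agent.Lib.Helper4.Grauert3.isZero_restrict_basicOpen _ hV r hsr⟩
  exact (Groth.Agent.Lead.SD.mem_basicOpen_iff hV x r).2 hr

end Groth.Agent.Lib.Helper4.NhdVan1
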