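import Mathlib
import Groth.Agent.Lib.Helper7.ConsPair.LimLocus
import Groth.Agent.Lib.Helper7.LimProps
import Groth.Agent.Lib.Helper7.LimDesc6
import Groth.Agent.Lib.Helper7.FGSub2
import Groth.Agent.Lib.Helper7.GeomFib

/-!
# Noetherian approximation of affine morphisms of finite presentation preserving a fibrewise property with ind-constructible locus (helper4) (helper4)
-/

set_option backward.isDefEq.respectTransparency.types false
set_option synthInstance.maxHeartbeats 400000
set_option autoImplicit false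
set_option linter.unusedSectionVars false
set_option linter.style.haveILetI false
set_option linter.unusedSimpArgs false
universe u v w
open CategoryTheory CategoryTheory.Limits AlgebraicGeometry TopologicalSpace Topology Opposite
open Groth.Agent.Helper7 Groth.Agent.Helper7.ConsPair Groth.Agent.Helper7.LimDesc

namespace Groth.Agent.Lib.Helper4.NoethApprox1

/-- the set of points of the target whose fibre has the property `P` -/
def fibLocus (P : MorphismProperty Scheme.{u}) {X Y : Scheme.{u}} (f : X ⟶ Y) : Set Y :=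
  {y | P (f.fiberToSpecResidueField y)}

/-- a fibrewise property satisfying base change invariance and spreading out from generic points -/
structure FibProp (P : MorphismProperty Scheme.{u}) : Prop where
  loc : ∀ {X Y X' Y' : Scheme.{u}} (f : X ⟶ Y) (g : Y' ⟶ Y) (f' : X' ⟶ Y') (g' : X' ⟶ X),
    IsPullback g' f' f g → fibLocus P f' = g ⁻¹' fibLocus P f
  fib : ∀ {X Y : Scheme.{u}} (f : X ⟶ Y), P f ↔ ∀ y, P (f.fiberToSpecResidueField y)
  gen : ∀ {X Y : Scheme.{u}} (f : X ⟶ Y) [IrreducibleSpace Y] [LocallyOfFiniteType f]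
    [QuasiCompact f], P (f.fiberToSpecResidueField (genericPoint Y)) →
    ∃ V : Y.Opens, (V : Set Y).Nonempty ∧ P (f ∣_ V)

theorem isIndConstructible_fibLocus {P : MorphismProperty Scheme.{u}} (hP : FibProp P)
    (A₀ : Type u) [CommRing A₀] [IsNoetherianRing A₀] {X₀ : Scheme.{u}}
    (f₀ : X₀ ⟶ Spec (CommRingCat.of A₀)) [LocallyOfFiniteType f₀] [QuasiCompact f₀] :
    ProCons.IsIndConstructible (fibLocus P f₀) := by
  apply isIndConstructible_of_forall_prime
  intro x hx
  haveI : x.asIdeal.IsPrime := x.isPrime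
  have sq : IsPullback (pullback.fst f₀ (primeIncl A₀ x)) (pullback.snd f₀ (primeIncl A₀ x)) f₀
      (primeIncl A₀ x) := IsPullback.of_hasPullback _ _
  have hE := hP.loc f₀ (primeIncl A₀ x) _ _ sq
  haveI : IrreducibleSpace ↥(Spec (CommRingCat.of (A₀ ⧸ x.asIdeal))) :=
    inferInstanceAs (IrreducibleSpace (PrimeSpectrum (A₀ ⧸ x.asIdeal)))
  have hη : genericPoint ↥(Spec (CommRingCat.of (A₀ ⧸ x.asIdeal))) ∈
      fibLocus P (pullback.snd f₀ (primeIncl A₀ x)) := by
    rw [hE, Set.mem_preimage, primeIncl_genericPoint]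
    exact hx
  obtain ⟨V, hVne, hPV⟩ := hP.gen (pullback.snd f₀ (primeIncl A₀ x)) hη
  have hsub : (V : Set ↥(Spec (CommRingCat.of (A₀ ⧸ x.asIdeal)))) ⊆
      (primeIncl A₀ x) ⁻¹' fibLocus P f₀ := by
    intro v hv
    rw [← hE]
    have h1 := (hP.fib _).mp hPV ⟨v, hv⟩
    have h2 := hP.loc (pullback.snd f₀ (primeIncl A₀ x)) V.ι _ _
      (isPullback_morphismRestrict (pullback.snd f₀ (primeIncl A₀ x)) V).flip
    have h3 : (⟨v, hv⟩ : ↥(V : Scheme.{u})) ∈
        fibLocus P (pullback.snd f₀ (primeIncl A₀ x) ∣_ V) := h1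
    rw [h2] at h3
    exact h3
  exact hVne.mono (interior_maximal hsub V.isOpen)

set_option backward.isDefEq.respectTransparency false in
/-- Noetherian approximation of affine morphisms of finite presentation with a fibrewise property -/
theorem exists_affine_model {P : MorphismProperty Scheme.{u}} (hP : FibProp P)
    (A : Type u) [CommRing A] {X : Scheme.{u}} [IsAffine X]
    (f : X ⟶ Spec (CommRingCat.of A)) [LocallyOfFinitePresentation f] (hf : P f) :
    ∃ A₀ : Subalgebra ℤ A, A₀.FG ∧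
      ∃ (X₀ : Scheme.{u}) (f₀ : X₀ ⟶ Spec (CommRingCat.of ↥A₀)) (q : X ⟶ X₀),
        IsAffine X₀ ∧ LocallyOfFinitePresentation f₀ ∧ P f₀ ∧
          IsPullback q f f₀ (Spec.map (CommRingCat.ofHom (algebraMap (↥A₀) A))) := by
  have hc := (FGSub.isLimit_specCone A).some
  haveI : IsAffineHom f := inferInstance
  obtain ⟨j₀, ⟨M⟩⟩ := desc_of_finitePresentation hc f
  haveI : CompactSpace ↥M.Zj := QuasiCompact.compactSpace_of_compactSpace M.zj
  haveI : QuasiSeparatedSpace ↥M.Zj := quasiSeparatedSpace_of_quasiSeparated M.zj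
  -- affineness at a later stage
  obtain ⟨j₁, φ₁, h₁⟩ := M.exists_stage_property @IsAffineHom
    (fun h => LimProps.exists_stage_isAffineHom (FGSub.specDiag A) (FGSub.specCone A) hc M.zj
      (𝟙 _) h) inferInstance
  -- the locus at stage `j₁`
  have hN₁ : IsNoetherianRing ↥j₁.unop.1 := by
    have : Algebra.FiniteType ℤ ↥j₁.unop.1 := (Subalgebra.fg_iff_finiteType _).mp j₁.unop.2
    exact Algebra.FiniteType.isNoetherianRing ℤ _
  have hE : ProCons.IsIndConstructible (fibLocus P (M.stage φ₁).zj) :=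
    isIndConstructible_fibLocus hP (↥j₁.unop.1) (M.stage φ₁).zj
  have hall : ∀ s : ↥(FGSub.specCone A).pt,
      (FGSub.specCone A).π.app j₁ s ∈ fibLocus P (M.stage φ₁).zj := by
    intro s
    have h1 := hP.loc (M.stage φ₁).zj ((FGSub.specCone A).π.app j₁) f (M.stage φ₁).q
      (M.stage φ₁).isPullback
    have h2 : s ∈ fibLocus P f := (hP.fib f).mp hf s
    rw [h1] at h2
    exact h2
  obtain ⟨j₂, φ₂, h₂⟩ := exists_stage_preimage_eq_univ (FGSub.specDiag A) (FGSub.specCone A) hc j₁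
    hE hall
  -- the model at stage `j₂`
  have hP₂ : P ((M.stage φ₁).stage φ₂).zj := by
    rw [hP.fib]
    intro t
    have h1 := hP.loc (M.stage φ₁).zj ((FGSub.specDiag A).map φ₂) ((M.stage φ₁).stage φ₂).zj
      (pullback.fst (M.stage φ₁).zj ((FGSub.specDiag A).map φ₂))
      (IsPullback.of_hasPullback (M.stage φ₁).zj ((FGSub.specDiag A).map φ₂))
    have h2 : t ∈ fibLocus P ((M.stage φ₁).stage φ₂).zj := by
      rw [h1]
      exact h₂ t
    exact h2
  haveI : IsAffineHom (M.stage φ₁).zj := h₁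
  haveI : IsAffineHom ((M.stage φ₁).stage φ₂).zj :=
    MorphismProperty.pullback_snd (P := @IsAffineHom) _ _ h₁
  haveI : IsAffine ((FGSub.specDiag A).obj j₂) :=
    inferInstanceAs (IsAffine (Spec (CommRingCat.of ↥j₂.unop.1)))
  have hAff : IsAffine ((M.stage φ₁).stage φ₂).Zj :=
    isAffine_of_isAffineHom ((M.stage φ₁).stage φ₂).zj
  exact ⟨j₂.unop.1, j₂.unop.2, ((M.stage φ₁).stage φ₂).Zj, ((M.stage φ₁).stage φ₂).zj,
    ((M.stage φ₁).stage φ₂).q, hAff, ((M.stage φ₁).stage φ₂).lfp, hP₂,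
    ((M.stage φ₁).stage φ₂).isPullback⟩

/-- Noetherian approximation, final form -/
theorem approx_final {P : MorphismProperty Scheme.{u}} [P.RespectsIso] (hP : FibProp P)
    {X S : Scheme.{u}} (f : X ⟶ S) [IsAffine X] [IsAffine S] [LocallyOfFinitePresentation f]
    (hf : P f) :
    ∃ (X₀ S₀ : Scheme.{u}) (f₀ : X₀ ⟶ S₀) (g : S ⟶ S₀) (g' : X ⟶ X₀), IsAffine X₀ ∧ IsAffine S₀ ∧
      IsPullback g' f f₀ g ∧ Algebra.FiniteType ℤ Γ(S₀, ⊤) ∧ LocallyOfFiniteType f₀ ∧ P f₀ := by
  have hPf' : P (f ≫ S.isoSpec.hom) := (P.cancel_right_of_respectsIso f S.isoSpec.hom).mpr hf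
  obtain ⟨A₀, hfg, X₀, f₀, q, hAff, hlfp, hP₀, hpb⟩ :=
    exists_affine_model hP Γ(S, ⊤) (f ≫ S.isoSpec.hom) hPf'
  haveI := hlfp
  have s1 : IsPullback (𝟙 X) f (f ≫ S.isoSpec.hom) S.isoSpec.hom :=
    IsPullback.of_horiz_isIso ⟨by simp⟩
  have s2 := s1.paste_horiz hpb
  rw [Category.id_comp] at s2
  have hft : Algebra.FiniteType ℤ ↥A₀ := (Subalgebra.fg_iff_finiteType _).mp hfg
  refine ⟨X₀, Spec (CommRingCat.of ↥A₀), f₀, _, q, hAff, inferInstance, s2, ?_, inferInstance, hP₀⟩
  exact Algebra.FiniteType.equiv hft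
    (Scheme.ΓSpecIso (CommRingCat.of ↥A₀)).symm.commRingCatIsoToRingEquiv.toIntAlgEquiv

end Groth.Agent.Lib.Helper4.NoethApprox1
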