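import Mathlib
import Groth.Agent.Lib.Helper4.NoethApprox1
import Groth.Agent.Lib.Helper7.GeomRedGen.Main
import Groth.Agent.Lib.Helper4.GIMain1
import Groth.Agent.Lib.Helper4.GCMain1

/-!
# Noetherian approximation preserving geometrically reduced, irreducible, connected fibres (helper4) (helper4)
-/

set_option backward.isDefEq.respectTransparency.types false
set_option synthInstance.maxHeartbeats 400000
set_option autoImplicit false
set_option linter.unusedSectionVars false
set_option linter.style.haveILetI false
set_option linter.unusedSimpArgs false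
universe u v w
open CategoryTheory CategoryTheory.Limits AlgebraicGeometry TopologicalSpace Topology Opposite
open Groth.Agent.Helper7 Groth.Agent.Lib.Helper4.NoethApprox1

namespace Groth.Agent.Lib.Helper4.NoethApprox2

theorem fibProp_geometricallyReduced : FibProp @GeometricallyReduced.{u} where
  loc f g f' g' hc := GeomFib.main9735 f g f' g' hc
  fib f := by
    rw [GeometricallyReduced.eq_geometrically]
    exact geometrically_iff_forall_fiberToSpecResidueField
  gen f _ _ _ h := GeomRedGen.geometricallyReduced_morphismRestrict_near_generic f h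

theorem fibProp_geometricallyIrreducible : FibProp @GeometricallyIrreducible.{u} where
  loc f g f' g' hc := GeomFib.main9764 f g f' g' hc
  fib f := by
    rw [GeometricallyIrreducible.eq_geometrically]
    exact geometrically_iff_forall_fiberToSpecResidueField
  gen f _ _ _ h := Groth.Agent.Lib.Helper4.GIMain1.main f h

theorem fibProp_geometricallyConnected : FibProp @GeometricallyConnected.{u} where
  loc f g f' g' hc := GeomFib.main9765 f g f' g' hc
  fib f := by
    rw [GeometricallyConnected.eq_geometrically]
    exact geometrically_iff_forall_fiberToSpecResidueField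
  gen f _ _ _ h := Groth.Agent.Lib.Helper4.GCMain1.main f h

theorem approx_geometricallyReduced {X S : Scheme.{u}} (f : X ⟶ S) [IsAffine X] [IsAffine S]
    [LocallyOfFinitePresentation f] [GeometricallyReduced f] :
    ∃ (X₀ S₀ : Scheme.{u}) (f₀ : X₀ ⟶ S₀) (g : S ⟶ S₀) (g' : X ⟶ X₀), IsAffine X₀ ∧ IsAffine S₀ ∧
      IsPullback g' f f₀ g ∧ Algebra.FiniteType ℤ Γ(S₀, ⊤) ∧ LocallyOfFiniteType f₀ ∧
      GeometricallyReduced f₀ :=
  approx_final fibProp_geometricallyReduced f inferInstance

theorem approx_geometricallyIrreducible {X S : Scheme.{u}} (f : X ⟶ S) [IsAffine X] [IsAffine S]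
    [LocallyOfFinitePresentation f] [GeometricallyIrreducible f] :
    ∃ (X₀ S₀ : Scheme.{u}) (f₀ : X₀ ⟶ S₀) (g : S ⟶ S₀) (g' : X ⟶ X₀), IsAffine X₀ ∧ IsAffine S₀ ∧
      IsPullback g' f f₀ g ∧ Algebra.FiniteType ℤ Γ(S₀, ⊤) ∧ LocallyOfFiniteType f₀ ∧
      GeometricallyIrreducible f₀ :=
  approx_final fibProp_geometricallyIrreducible f inferInstance

theorem approx_geometricallyConnected {X S : Scheme.{u}} (f : X ⟶ S) [IsAffine X] [IsAffine S]
    [LocallyOfFinitePresentation f] [GeometricallyConnected f] :
    ∃ (X₀ S₀ : Scheme.{u}) (f₀ : X₀ ⟶ S₀) (g : S ⟶ S₀) (g' : X ⟶ X₀), IsAffine X₀ ∧ IsAffine S₀ ∧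
      IsPullback g' f f₀ g ∧ Algebra.FiniteType ℤ Γ(S₀, ⊤) ∧ LocallyOfFiniteType f₀ ∧
      GeometricallyConnected f₀ :=
  approx_final fibProp_geometricallyConnected f inferInstance

end Groth.Agent.Lib.Helper4.NoethApprox2
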