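import Mathlib
import Groth.Agent.S9254
import Groth.Agent.S9147
import Groth.Agent.S2235
import Groth.Agent.Lib.Helper3.KosBC6

/-!
# Noether different of a quasi-finite global complete intersection is generated by the Jacobian determinant (via Wiebe S2235 and RelGCI S9254/S9147) (helper4)
-/

set_option backward.isDefEq.respectTransparency.types false
set_option synthInstance.maxHeartbeats 400000
set_option autoImplicit false
set_option linter.unusedSectionVars false
set_option linter.style.haveILetI false
set_option linter.unusedSimpArgs false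
universe u v w
open TensorProduct MvPolynomial

namespace Groth.Agent.Lib.Helper4.NoethDiff1

section EvalKer
variable {B : Type u} [CommRing B] {n : ℕ} (b : Fin n → B)

theorem sub_C_aeval_mem (p : MvPolynomial (Fin n) B) :
    p - C (aeval b p) ∈ Ideal.span (Set.range fun j => (X j - C (b j) : MvPolynomial (Fin n) B)) := by
  induction p using MvPolynomial.induction_on with
  | C a => simp
  | add p q hp hq =>
    have : p + q - C (aeval b (p + q)) = (p - C (aeval b p)) + (q - C (aeval b q)) := by
      simp only [map_add]; ring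
    rw [this]; exact Ideal.add_mem _ hp hq
  | mul_X p i hp =>
    have : p * X i - C (aeval b (p * X i)) = (p - C (aeval b p)) * X i + C (aeval b p) * (X i - C (b i)) := by
      simp only [map_mul, aeval_X]; ring
    rw [this]
    exact Ideal.add_mem _ (Ideal.mul_mem_right _ _ hp)
      (Ideal.mul_mem_left _ _ (Ideal.subset_span ⟨i, rfl⟩))

theorem ker_aeval : RingHom.ker (aeval b : MvPolynomial (Fin n) B →ₐ[B] B) =
    Ideal.span (Set.range fun j => (X j - C (b j) : MvPolynomial (Fin n) B)) := by
  apply le_antisymm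
  · intro p hp
    have h := sub_C_aeval_mem b p
    rw [RingHom.mem_ker] at hp
    have hp' : aeval b p = 0 := hp
    rwa [hp', map_zero, sub_zero] at h
  · rw [Ideal.span_le]
    rintro _ ⟨j, rfl⟩
    simp [RingHom.mem_ker]

/-- `X_j - b_j` is a relative global complete intersection presentation of `B` over `B`. -/
theorem isRelGCI_X_sub_C : Synt.IsRelGCI B n n (fun j => (X j - C (b j) : MvPolynomial (Fin n) B)) := by
  intro p hnt
  refine ⟨le_rfl, ?_⟩
  set Q := Synt.RelGCIRing B n n (fun j => (X j - C (b j) : MvPolynomial (Fin n) B)) with hQ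
  have hsurj : Function.Surjective (algebraMap B Q) := by
    intro q
    obtain ⟨p', rfl⟩ := Ideal.Quotient.mk_surjective q
    refine ⟨aeval b p', ?_⟩
    have h := sub_C_aeval_mem b p'
    rw [← Ideal.Quotient.eq] at h
    rw [h]; rfl
  haveI : Module.Finite B Q := Module.Finite.of_surjective (Algebra.linearMap B Q) hsurj
  have hart : IsArtinianRing (p.asIdeal.Fiber Q) := inferInstance
  have h1 := ((isArtinianRing_iff_isNoetherianRing_krullDimLE_zero (R := p.asIdeal.Fiber Q)).mp hart).2
  rw [Nat.sub_self]
  have h2 := (ringKrullDimZero_iff_ringKrullDim_eq_zero (R := p.asIdeal.Fiber Q)).mp h1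
  simpa using h2

end EvalKer


section Main
variable {A : Type u} [CommRing A] {n : ℕ} (f : Fin n → MvPolynomial (Fin n) A)

local notation "P" => MvPolynomial (Fin n) A
local notation "Bq" => (MvPolynomial (Fin n) A ⧸ Ideal.span (Set.range f))

/-- The coordinate classes. -/
noncomputable def xb : Fin n → Bq := fun j => Ideal.Quotient.mk _ (X j)

/-- The ring isomorphism `P ⊗[A] B ≃ B[X]`. -/
noncomputable def Phi : (P ⊗[A] Bq) ≃+* MvPolynomial (Fin n) Bq :=
  (Algebra.TensorProduct.comm A P Bq).toRingEquiv.trans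
    (MvPolynomial.algebraTensorAlgEquiv (σ := Fin n) A Bq).toRingEquiv

/-- The inverse as a ring hom. -/
noncomputable def PhiInv : MvPolynomial (Fin n) Bq →+* (P ⊗[A] Bq) := (Phi f).symm.toRingHom

theorem PhiInv_Phi (x : P ⊗[A] Bq) : PhiInv f (Phi f x) = x := (Phi f).symm_apply_apply x
theorem Phi_PhiInv (y : MvPolynomial (Fin n) Bq) : Phi f (PhiInv f y) = y := (Phi f).apply_symm_apply y
theorem PhiInv_surjective : Function.Surjective (PhiInv f) := (Phi f).symm.surjective

theorem Phi_tmul (p : P) (b : Bq) : Phi f (p ⊗ₜ[A] b) = b • MvPolynomial.map (algebraMap A Bq) p := by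
  simp [Phi]

theorem aeval_xb_map (p : P) :
    aeval (xb f) (MvPolynomial.map (algebraMap A Bq) p) = Ideal.Quotient.mk _ p := by
  rw [MvPolynomial.aeval_map_algebraMap]
  induction p using MvPolynomial.induction_on with
  | C a => simp; rfl
  | add p q hp hq => simp [hp, hq]
  | mul_X p i hp => simp [hp, xb]

/-- `ε ∘ Φ⁻¹ = eval at xb`. -/
theorem productMap_eq (x : P ⊗[A] Bq) :
    Algebra.TensorProduct.productMap (Ideal.Quotient.mkₐ A (Ideal.span (Set.range f))) (AlgHom.id A Bq) x
      = aeval (xb f) (Phi f x) := by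
  induction x using TensorProduct.induction_on with
  | zero => simp
  | tmul p b =>
    rw [Phi_tmul, Algebra.TensorProduct.productMap_apply_tmul, map_smul, aeval_xb_map]
    simp [mul_comm]
  | add x y hx hy => simp only [map_add, hx, hy]


/-- any expression of `F` in terms of `X_j - b_j` has coefficients evaluating to the partials -/
theorem aeval_coeff_eq {B : Type u} [CommRing B] (b : Fin n → B) (F : MvPolynomial (Fin n) B)
    (c : Fin n → MvPolynomial (Fin n) B) (hF : F = ∑ j, c j * (X j - C (b j))) (k : Fin n) :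
    aeval b (c k) = aeval b (pderiv k F) := by
  rw [hF, map_sum, map_sum]
  simp only [Derivation.leibniz, map_sub, pderiv_C, sub_zero, smul_eq_mul, map_add, map_mul,
    aeval_X, aeval_C, Algebra.algebraMap_self, RingHom.id_apply, sub_self, zero_mul, add_zero]
  rw [Finset.sum_eq_single k]
  · simp
  · intro j _ hjk
    rw [pderiv_X_of_ne hjk]; simp
  · simp

theorem isRelGCI_of_quasiFinite [Algebra.QuasiFinite A Bq] : Synt.IsRelGCI A n n f := by
  intro p hnt
  refine ⟨le_rfl, ?_⟩
  have hart : IsArtinianRing (p.asIdeal.Fiber Bq) := inferInstance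
  have h1 := ((isArtinianRing_iff_isNoetherianRing_krullDimLE_zero (R := p.asIdeal.Fiber Bq)).mp hart).2
  rw [Nat.sub_self]
  have h2 := (ringKrullDimZero_iff_ringKrullDim_eq_zero (R := p.asIdeal.Fiber Bq)).mp h1
  simpa using h2

/-- the sequence `X_j - x̄_j` in `B[X]` -/
noncomputable def g' : Fin n → MvPolynomial (Fin n) Bq := fun j => X j - C (xb f j)

/-- its transport to `P ⊗ B` -/
noncomputable def gg : Fin n → P ⊗[A] Bq := fun j => PhiInv f (g' f j)

theorem gg_kr : LCI.IsKoszulRegularSeq (P ⊗[A] Bq) (List.ofFn (gg f)) := by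
  have hg'kr := Groth.Agent.S9254.result Bq n n (g' f) (isRelGCI_X_sub_C (xb f))
  have := Groth.Agent.Helper3.KosBC.isKoszulRegularSeq_of_ringEquiv
    (S := MvPolynomial (Fin n) Bq) (S' := P ⊗[A] Bq) (Phi f).symm _ hg'kr
  rw [List.map_ofFn] at this
  exact this

theorem gg_ker : Ideal.span (Set.range (gg f)) = RingHom.ker (Algebra.TensorProduct.productMap
    (Ideal.Quotient.mkₐ A (Ideal.span (Set.range f))) (AlgHom.id A Bq)) := by
  ext x
  rw [RingHom.mem_ker, productMap_eq, ← RingHom.mem_ker, ker_aeval]
  have : Set.range (gg f) = (PhiInv f) '' (Set.range (g' f)) := by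
    rw [← Set.range_comp]; rfl
  rw [this, ← Ideal.map_span]
  constructor
  · intro hx
    obtain ⟨y, hy, rfl⟩ := (Ideal.mem_map_iff_of_surjective _ (PhiInv_surjective f)).mp hx
    rwa [Phi_PhiInv]
  · intro hx
    have := Ideal.mem_map_of_mem (PhiInv f) hx
    rwa [PhiInv_Phi] at this

theorem exists_coeff (i : Fin n) : ∃ c : Fin n → MvPolynomial (Fin n) Bq,
    MvPolynomial.map (algebraMap A Bq) (f i) = ∑ j, c j * g' f j := by
  have hFmem : MvPolynomial.map (algebraMap A Bq) (f i) ∈ Ideal.span (Set.range (g' f)) := by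
    have := ker_aeval (xb f)
    rw [show (Set.range fun j => (X j - C (xb f j) : MvPolynomial (Fin n) Bq)) = Set.range (g' f) from rfl] at this
    rw [← this, RingHom.mem_ker]
    show aeval (xb f) _ = 0
    rw [aeval_xb_map]
    exact Ideal.Quotient.eq_zero_iff_mem.mpr (Ideal.subset_span ⟨i, rfl⟩)
  obtain ⟨c, hc⟩ := (Ideal.mem_span_range_iff_exists_fun).mp hFmem
  exact ⟨c, hc.symm⟩


/-- chosen coefficient matrix in `B[X]` -/
noncomputable def cM' : Matrix (Fin n) (Fin n) (MvPolynomial (Fin n) Bq) :=
  Matrix.of fun i => (exists_coeff f i).choose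

theorem cM'_spec (i : Fin n) : MvPolynomial.map (algebraMap A Bq) (f i) = ∑ j, cM' f i j * g' f j :=
  (exists_coeff f i).choose_spec

/-- transported coefficient matrix -/
noncomputable def cM : Matrix (Fin n) (Fin n) (P ⊗[A] Bq) := (PhiInv f).mapMatrix (cM' f)

theorem cM_spec (i : Fin n) : f i ⊗ₜ[A] (1 : Bq) = ∑ j, cM f i j * gg f j := by
  apply (Phi f).injective
  rw [Phi_tmul, one_smul, cM'_spec f i, map_sum]
  refine Finset.sum_congr rfl fun j _ => ?_
  simp only [cM, gg, RingHom.mapMatrix_apply, Matrix.map_apply, map_mul, Phi_PhiInv]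

theorem det_cM : Matrix.det (cM f) = PhiInv f (Matrix.det (cM' f)) := by
  unfold cM
  exact (RingHom.map_det (R := MvPolynomial (Fin n) Bq) (S := P ⊗[A] Bq) (PhiInv f) (cM' f)).symm

theorem productMap_det_cM :
    Algebra.TensorProduct.productMap (Ideal.Quotient.mkₐ A (Ideal.span (Set.range f))) (AlgHom.id A Bq)
      (Matrix.det (cM f)) =
    Ideal.Quotient.mk (Ideal.span (Set.range f))
          (Matrix.det (Matrix.of fun i j => MvPolynomial.pderiv j (f i))) := by
  rw [productMap_eq, det_cM, Phi_PhiInv]
  rw [AlgHom.map_det (R := Bq) (S := MvPolynomial (Fin n) Bq) (T := Bq) (aeval (xb f)) (cM' f)]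
  rw [RingHom.map_det (R := P) (S := Bq) (Ideal.Quotient.mk (Ideal.span (Set.range f)))]
  congr 1
  ext i j
  simp only [AlgHom.mapMatrix_apply, RingHom.mapMatrix_apply, Matrix.map_apply, Matrix.of_apply]
  rw [aeval_coeff_eq (xb f) _ (cM' f i) (cM'_spec f i) j, pderiv_map]
  exact aeval_xb_map f _

theorem main [Algebra.QuasiFinite A Bq] :
    Module.Flat A Bq ∧
      Disc.noetherDifferent A Bq =
        Ideal.span {Ideal.Quotient.mk (Ideal.span (Set.range f))
          (Matrix.det (Matrix.of fun i j => MvPolynomial.pderiv j (f i)))} := by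
  have hgci : Synt.IsRelGCI A n n f := isRelGCI_of_quasiFinite f
  have hflat : Module.Flat A Bq := (Groth.Agent.S9147.result A n n f hgci).1
  refine ⟨hflat, ?_⟩
  haveI := hflat
  have hf := Groth.Agent.S9254.result A n n f hgci
  have key := Groth.Agent.S2235.result f hf (gg f) (gg_kr f) (gg_ker f) (cM f) (cM_spec f)
  unfold Disc.noetherDifferent
  rw [key, Ideal.map_span, Set.image_singleton]
  congr 2
  rw [← productMap_det_cM f, Algebra.TensorProduct.productMap_eq_comp_map]
  rfl

end Main

end Groth.Agent.Lib.Helper4.NoethDiff1
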