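import Mathlib
import Groth.Agent.Lib.Helper4.NoethDiff1
import Groth.Agent.Lib.Helper6.FrobDual.FDh
import Groth.Agent.Lib.Helper6.FrobDual.FDd
import Groth.Agent.S2215

/-!
# Finite free global complete intersections: omega is invertible, generated by the Bezoutian Delta; B = omega sending the Jacobian to the trace (helper4)
-/

set_option backward.isDefEq.respectTransparency.types false
set_option synthInstance.maxHeartbeats 400000
set_option autoImplicit false
set_option linter.unusedSectionVars false
set_option linter.style.haveILetI false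
set_option linter.unusedSimpArgs false
universe u v w
open TensorProduct MvPolynomial
open Groth.Agent.Lib.Helper4.NoethDiff1 Groth.Agent.Lib.Helper6.FrobDual

namespace Groth.Agent.Lib.Helper4.NoethDiff2

section
variable {A : Type u} [CommRing A] {n : ℕ} (f : Fin n → MvPolynomial (Fin n) A)

local notation "P" => MvPolynomial (Fin n) A
local notation "Bq" => (MvPolynomial (Fin n) A ⧸ Ideal.span (Set.range f))

/-- The generator `Δ` of the annihilator of the diagonal ideal. -/
noncomputable def Delta : Bq ⊗[A] Bq :=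
  Algebra.TensorProduct.map (Ideal.Quotient.mkₐ A (Ideal.span (Set.range f))) (AlgHom.id A Bq)
    (Matrix.det (cM f))

theorem ann_eq [Algebra.QuasiFinite A Bq] :
    Submodule.annihilator (RingHom.ker (Algebra.TensorProduct.lmul' (S := Bq) A)) =
      Ideal.span {Delta f} := by
  have hgci := isRelGCI_of_quasiFinite f
  haveI : Module.Flat A Bq := (Groth.Agent.S9147.result A n n f hgci).1
  have hf := Groth.Agent.S9254.result A n n f hgci
  exact Groth.Agent.S2235.result f hf (gg f) (gg_kr f) (gg_ker f) (cM f) (cM_spec f)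

theorem lmul'_Delta : Algebra.TensorProduct.lmul' (S := Bq) A (Delta f) =
    Ideal.Quotient.mk (Ideal.span (Set.range f))
      (Matrix.det (Matrix.of fun i j => MvPolynomial.pderiv j (f i))) := by
  rw [← productMap_det_cM f, Algebra.TensorProduct.productMap_eq_comp_map]
  rfl


/-- Every fibre of a finite free global complete intersection carries a nondegenerate functional. -/
theorem exists_nondeg_fiber [Module.Finite A Bq] (p : Ideal A) [p.IsPrime] :
    ∃ l : p.Fiber Bq →ₗ[p.ResidueField] p.ResidueField, Nondeg (κ := p.ResidueField) (F := p.Fiber Bq) l := by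
  classical
  by_cases hnt : Nontrivial (p.Fiber Bq)
  · let P0 : Algebra.Presentation A Bq (Fin n) (Fin n) := Algebra.Presentation.naive (v := f)
    let P1 := P0.baseChange p.ResidueField
    set fbar : Fin n → MvPolynomial (Fin n) p.ResidueField :=
      fun i => MvPolynomial.map (algebraMap A p.ResidueField) (f i) with hfbar
    have hker : Ideal.span (Set.range fbar) = P1.ker := P1.span_range_relation_eq_ker
    let e1 : (MvPolynomial (Fin n) p.ResidueField ⧸ Ideal.span (Set.range fbar)) ≃ₐ[p.ResidueField]
        P1.Quotient := Ideal.quotientEquivAlgOfEq p.ResidueField hker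
    let e2 : P1.Quotient ≃ₐ[p.ResidueField] p.Fiber Bq := P1.quotientEquiv.restrictScalars p.ResidueField
    let e := e1.trans e2
    haveI : Module.Finite p.ResidueField (p.Fiber Bq) := inferInstance
    haveI : IsArtinianRing (p.Fiber Bq) := IsArtinianRing.of_finite p.ResidueField (p.Fiber Bq)
    have h1 := ((isArtinianRing_iff_isNoetherianRing_krullDimLE_zero (R := p.Fiber Bq)).mp inferInstance).2
    have h2 : ringKrullDim (p.Fiber Bq) = 0 :=
      (ringKrullDimZero_iff_ringKrullDim_eq_zero (R := p.Fiber Bq)).mp h1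
    have h0 : ringKrullDim (MvPolynomial (Fin n) p.ResidueField ⧸ Ideal.span (Set.range fbar)) = 0 := by
      rw [ringKrullDim_eq_of_ringEquiv (R := MvPolynomial (Fin n) p.ResidueField ⧸ Ideal.span (Set.range fbar)) (S := p.Fiber Bq) e.toRingEquiv]; exact h2
    haveI : Module.Finite p.ResidueField
        (MvPolynomial (Fin n) p.ResidueField ⧸ Ideal.span (Set.range fbar)) :=
      Module.Finite.equiv e.symm.toLinearEquiv
    have h3 := omega_equiv_of_ci p.ResidueField n fbar h0
    have h4 := (nonempty_omega_equiv_iff (κ := p.ResidueField)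
      (F := MvPolynomial (Fin n) p.ResidueField ⧸ Ideal.span (Set.range fbar))).mp h3
    exact exists_nondeg_of_algEquiv (κ := p.ResidueField) (G := p.Fiber Bq)
      (F := MvPolynomial (Fin n) p.ResidueField ⧸ Ideal.span (Set.range fbar)) e.symm h4
  · rw [not_nontrivial_iff_subsingleton] at hnt
    exact ⟨0, fun r _ => Subsingleton.elim _ _⟩

theorem omega_invertible [Module.Finite A Bq] [Module.Free A Bq] :
    Module.Invertible Bq (Disc.Omega A Bq) := by
  refine (gorenstein_fibers_iff_omega_invertible (A := A) (B := Bq)).mp ?_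
  intro p _
  haveI : Module.Finite p.ResidueField (p.Fiber Bq) := inferInstance
  exact (isGorensteinRing_iff_exists_nondeg p.ResidueField (p.Fiber Bq)).mpr (exists_nondeg_fiber f p)


open Groth.Agent.S2215 in
/-- multiplying an element of the annihilator by `t` is the same as multiplying by `1 ⊗ μ(t)` -/
theorem mul_eq_of_mem_ann {B : Type u} [CommRing B] [Algebra A B] (ξ : B ⊗[A] B)
    (hξ : ξ ∈ Submodule.annihilator (RingHom.ker (Algebra.TensorProduct.lmul' (S := B) A)))
    (t : B ⊗[A] B) :
    t * ξ = ((1 : B) ⊗ₜ[A] (Algebra.TensorProduct.lmul' (S := B) A t)) * ξ := by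
  have h := (mem_ann_iff ξ).mp hξ
  induction t with
  | zero => simp
  | tmul x y =>
    have e1 : x ⊗ₜ[A] y = ((1 : B) ⊗ₜ[A] y) * (x ⊗ₜ[A] (1 : B)) := by
      simp [Algebra.TensorProduct.tmul_mul_tmul]
    have e2 : (1 : B) ⊗ₜ[A] (x * y) = ((1 : B) ⊗ₜ[A] y) * ((1 : B) ⊗ₜ[A] x) := by
      simp [Algebra.TensorProduct.tmul_mul_tmul, mul_comm]
    rw [Algebra.TensorProduct.lmul'_apply_tmul, e2, e1, mul_assoc, mul_assoc, h x]
  | add x y hx hy => rw [add_mul, hx, hy, map_add, TensorProduct.tmul_add, add_mul]

open Groth.Agent.S2215 in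
theorem main [Module.Finite A Bq] [Module.Free A Bq] :
    ∃ e : Bq ≃ₗ[Bq] Disc.Omega A Bq,
      e (Ideal.Quotient.mk (Ideal.span (Set.range f))
        (Matrix.det (Matrix.of fun i j : Fin n => MvPolynomial.pderiv j (f i)))) =
      Disc.Omega.trace A Bq := by
  classical
  haveI : Algebra.QuasiFinite A Bq := inferInstance
  haveI hinv : Module.Invertible Bq (Disc.Omega A Bq) := omega_invertible f
  let b := Module.Free.chooseBasis A Bq
  have hΔ : Delta f ∈ Submodule.annihilator
      (RingHom.ker (Algebra.TensorProduct.lmul' (S := Bq) A)) := by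
    rw [ann_eq]; exact Ideal.subset_span rfl
  have hΔ' := (mem_ann_iff (Delta f)).mp hΔ
  let Φ0 : Disc.Omega A Bq →ₗ[Bq] Bq :=
    { toFun := fun l => Th l.toLinearMap (Delta f)
      map_add' := by
        intro l l'
        have : (l + l').toLinearMap = l.toLinearMap + l'.toLinearMap := rfl
        rw [this, Th_add]
      map_smul' := by
        intro s l
        have : (s • l).toLinearMap = l.toLinearMap ∘ₗ LinearMap.mulLeft A s := rfl
        rw [this, ← Th_left, ← hΔ', Th_right, RingHom.id_apply, smul_eq_mul] }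
  have hΦ0 : ∀ l, Φ0 l = Th l.toLinearMap (Delta f) := fun _ => rfl
  have hgen : ∀ φ : Disc.Omega A Bq →ₗ[Bq] Bq, ∃ s : Bq, ∀ l, φ l = s * Φ0 l := by
    intro φ
    obtain ⟨ξ, ⟨hξ1, hξ2⟩, -⟩ := main28 φ
    rw [ann_eq, Ideal.mem_span_singleton'] at hξ1
    obtain ⟨t, rfl⟩ := hξ1
    refine ⟨Algebra.TensorProduct.lmul' (S := Bq) A t, fun l => ?_⟩
    rw [hξ2 l, hΦ0]
    change Th l.toLinearMap (t * Delta f) = _
    rw [mul_eq_of_mem_ann (Delta f) hΔ t, Th_right]
  have hsurj : Function.Surjective Φ0 := by
    have hrange : ∀ z : Module.Dual Bq (Disc.Omega A Bq) ⊗[Bq] Disc.Omega A Bq,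
        contractLeft Bq (Disc.Omega A Bq) z ∈ LinearMap.range Φ0 := by
      intro z
      induction z with
      | zero => simp
      | tmul φ m =>
        obtain ⟨s, hs⟩ := hgen φ
        rw [contractLeft_apply, hs m]
        exact ⟨s • m, by rw [map_smul, smul_eq_mul]⟩
      | add x y hx hy => rw [map_add]; exact Submodule.add_mem _ hx hy
    obtain ⟨z, hz⟩ := (Module.Invertible.bijective (R := Bq) (M := Disc.Omega A Bq)).2 1
    obtain ⟨m, hm⟩ := hrange z
    rw [hz] at hm
    intro y
    exact ⟨y • m, by rw [map_smul, hm, smul_eq_mul, mul_one]⟩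
  have hbij := Module.Invertible.bijective_of_surjective hsurj
  refine ⟨(LinearEquiv.ofBijective Φ0 hbij).symm, ?_⟩
  rw [LinearEquiv.symm_apply_eq]
  change _ = Φ0 (Disc.Omega.trace A Bq)
  rw [hΦ0]
  change _ = Th (Algebra.trace A Bq) (Delta f)
  rw [Th_trace b (Delta f) hΔ, lmul'_Delta]

end

end Groth.Agent.Lib.Helper4.NoethDiff2
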