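import Mathlib
import Groth.Agent.Lib.Helper4.NoethDiff2
import Groth.Agent.Lib.Helper4.Fitting8
import Groth.Agent.Lib.Helper4.Fitting10
import Groth.Agent.Lib.Helper2.Synt.SyntLift
import Groth.Agent.S2220
import Groth.Agent.S2221
import Groth.Agent.S8931
import Groth.Agent.S8964

/-!
# Finite free syntomic algebras: different = Noether different = Kaehler different (Fitt_0 of differentials); local-to-global via relative global complete intersection charts (helper4)
-/

set_option backward.isDefEq.respectTransparency.types false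
set_option synthInstance.maxHeartbeats 400000
set_option autoImplicit false
set_option linter.unusedSectionVars false
set_option linter.style.haveILetI false
set_option linter.unusedSimpArgs false
universe u v w
open TensorProduct MvPolynomial CategoryTheory AlgebraicGeometry
open Groth.Agent.Lib.Helper4.NoethDiff1 Groth.Agent.Lib.Helper4.NoethDiff2

namespace Groth.Agent.Lib.Helper4.NoethDiff3

section General

/-- Fitting ideal of Kähler differentials along a formally étale extension. -/
theorem fitt_kaehler_map (A S T : Type u) [CommRing A] [CommRing S] [CommRing T] [Algebra A S]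
    [Algebra A T] [Algebra S T] [IsScalarTower A S T] [Algebra.FiniteType A S]
    [Algebra.FormallyEtale S T] (k : ℕ) :
    Fitt.ideal T (Ω[T⁄A]) k = (Fitt.ideal S (Ω[S⁄A]) k).map (algebraMap S T) := by
  rw [← Groth.Agent.Helper4.Fitting.ideal_baseChange (R := S) (R' := T) (M := Ω[S⁄A]) k]
  exact (Groth.Agent.Helper4.Fitting.ideal_congr (KaehlerDifferential.tensorKaehlerEquivOfFormallyEtale A S T) k).symm

/-- local equality of ideals -/
theorem ideal_eq_of_locally {B : Type u} [CommRing B] (I J : Ideal B)
    (h : ∀ q : Ideal B, q.IsPrime → ∃ g : B, g ∉ q ∧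
      I.map (algebraMap B (Localization.Away g)) = J.map (algebraMap B (Localization.Away g))) :
    I = J := by
  have key : ∀ I J : Ideal B, (∀ q : Ideal B, q.IsPrime → ∃ g : B, g ∉ q ∧
      I.map (algebraMap B (Localization.Away g)) = J.map (algebraMap B (Localization.Away g))) →
      I ≤ J := by
    intro I J h x hx
    let K : Ideal B := Submodule.colon J ({x} : Set B)
    have hK : K = ⊤ := by
      apply Groth.Agent.Helper4.Fitting.eq_top_of_forall_prime_not_le
      intro q hq hle
      obtain ⟨g, hg, hIJ⟩ := h q hq
      have hx' : algebraMap B (Localization.Away g) x ∈ J.map (algebraMap B (Localization.Away g)) := by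
        rw [← hIJ]; exact Ideal.mem_map_of_mem _ hx
      rw [IsLocalization.mem_map_algebraMap_iff (Submonoid.powers g)] at hx'
      obtain ⟨⟨j, s⟩, hjs⟩ := hx'
      rw [← map_mul, ] at hjs
      obtain ⟨c, hc⟩ := (IsLocalization.eq_iff_exists (Submonoid.powers g) _).mp hjs
      obtain ⟨m1, hm1⟩ := s.2
      obtain ⟨m2, hm2⟩ := c.2
      have hmem : g ^ (m2 + m1) ∈ K := by
        rw [Submodule.mem_colon_singleton]
        have : g ^ (m2 + m1) • x = (c : B) * (x * (s : B)) := by
          rw [← hm1, ← hm2, smul_eq_mul]; ring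
        rw [this, hc]
        exact Ideal.mul_mem_left _ _ j.2
      exact hg (hq.mem_of_pow_mem _ (hle hmem))
    have : (1 : B) ∈ K := by rw [hK]; trivial
    rw [Submodule.mem_colon_singleton] at this
    simpa using this
  exact le_antisymm (key I J h) (key J I (fun q hq => by
    obtain ⟨g, hg, h1⟩ := h q hq; exact ⟨g, hg, h1.symm⟩))

end General


section Inv

/-- `ω_{B/A}` is invertible for a finite syntomic algebra over a Noetherian ring (from S8964). -/
theorem omega_invertible_of_syntomic (A B : Type u) [CommRing A] [CommRing B] [Algebra A B]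
    [IsNoetherianRing A] [Module.Finite A B] (h : Synt.IsSyntomic A B) :
    Module.Invertible B (Disc.Omega A B) := by
  have hf : QFDual.IsQFFactor A B B := by
    refine ⟨inferInstance, ?_⟩
    have : CommRingCat.ofHom (algebraMap B B) = 𝟙 (CommRingCat.of B) := rfl
    rw [this, Spec.map_id]
    infer_instance
  haveI := Groth.Agent.S8964.result A B B hf h
  exact Module.Invertible.congr (TensorProduct.lid B (Disc.Omega A B))

end Inv

section Local
variable {A : Type u} [CommRing A]

/-- A nontrivial quasi-finite relative global complete intersection is square, and its Noether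
different is the zeroth Fitting ideal of its Kähler differentials. -/
theorem local_eq (n c : ℕ) (F : Fin c → MvPolynomial (Fin n) A) (hrel : Synt.IsRelGCI A n c F)
    [Algebra.QuasiFinite A (Synt.RelGCIRing A n c F)] [Nontrivial (Synt.RelGCIRing A n c F)] :
    Disc.noetherDifferent A (Synt.RelGCIRing A n c F) =
      Fitt.ideal (Synt.RelGCIRing A n c F) (Ω[Synt.RelGCIRing A n c F⁄A]) 0 := by
  obtain ⟨m, hm⟩ := Ideal.exists_maximal (Synt.RelGCIRing A n c F)
  haveI := hm.isPrime
  have hle : Ideal.span (Set.range F) ≤ m.comap (Ideal.Quotient.mk (Ideal.span (Set.range F))) := by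
    intro x hx
    rw [Ideal.mem_comap, Ideal.Quotient.eq_zero_iff_mem.mpr hx]
    exact Ideal.zero_mem _
  obtain ⟨hcn, hdim⟩ := Groth.Agent.Helper2.Synt.fibre_dim_of_isRelGCI A n c F _ hrel hle
  set p : Ideal A := (m.comap (Ideal.Quotient.mk (Ideal.span (Set.range F)))).comap
    (algebraMap A (MvPolynomial (Fin n) A)) with hp
  have hart : IsArtinianRing (p.Fiber (Synt.RelGCIRing A n c F)) := inferInstance
  have h1 := ((isArtinianRing_iff_isNoetherianRing_krullDimLE_zero
    (R := p.Fiber (Synt.RelGCIRing A n c F))).mp hart).2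
  have hnt : Nontrivial (p.Fiber (Synt.RelGCIRing A n c F)) := by
    by_contra hcon
    rw [not_nontrivial_iff_subsingleton] at hcon
    have h0 : ringKrullDim (p.Fiber (Synt.RelGCIRing A n c F)) = ⊥ := ringKrullDim_eq_bot_of_subsingleton
    rw [h0] at hdim
    exact absurd hdim (by simp)
  have h2 := (ringKrullDimZero_iff_ringKrullDim_eq_zero
    (R := p.Fiber (Synt.RelGCIRing A n c F))).mp h1
  rw [h2] at hdim
  have hnc : n = c := by
    have : ((n - c : ℕ) : WithBot ℕ∞) = 0 := hdim.symm
    have h3 : n - c = 0 := by exact_mod_cast this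
    omega
  subst hnc
  have hND := (Groth.Agent.Lib.Helper4.NoethDiff1.main F).2
  rw [hND]
  by_cases hn : 1 ≤ n
  · exact (Groth.Agent.S8931.result A n hn F).symm
  · have hn0 : n = 0 := by omega
    subst hn0
    have hsurj : Function.Surjective (algebraMap A (Synt.RelGCIRing A 0 0 F)) := by
      intro x
      obtain ⟨y, rfl⟩ := Ideal.Quotient.mk_surjective x
      refine ⟨y.coeff 0, ?_⟩
      conv_rhs => rw [MvPolynomial.eq_C_of_isEmpty y]
      rfl
    haveI : Subsingleton (Ω[Synt.RelGCIRing A 0 0 F⁄A]) :=
      KaehlerDifferential.subsingleton_of_surjective A _ hsurj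
    have hF : Fitt.ideal (Synt.RelGCIRing A 0 0 F) (Ω[Synt.RelGCIRing A 0 0 F⁄A]) 0 = ⊤ := by
      refine Groth.Agent.Helper4.Fitting.ideal_eq_top_of_span (n := 0) (fun i => i.elim0) ?_ 0 le_rfl
      exact Subsingleton.elim _ _
    rw [hF, Ideal.eq_top_iff_one]
    apply Ideal.subset_span
    simp [Matrix.det_isEmpty]

end Local


section Main

/-- transport along an algebra isomorphism: equality `noetherDifferent = Fitt₀ Ω` -/
theorem eq_of_algEquiv {A C T : Type u} [CommRing A] [CommRing C] [CommRing T] [Algebra A C]
    [Algebra A T] [Algebra.FiniteType A C] (e : T ≃ₐ[A] C)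
    (h : Disc.noetherDifferent A C = Fitt.ideal C (Ω[C⁄A]) 0) :
    Disc.noetherDifferent A T = Fitt.ideal T (Ω[T⁄A]) 0 := by
  letI : Algebra C T := e.symm.toRingHom.toAlgebra
  haveI : IsScalarTower A C T := IsScalarTower.of_algebraMap_eq (fun x => (e.symm.commutes x).symm)
  have hbij : Function.Bijective (algebraMap C T) := e.symm.bijective
  haveI : Algebra.FormallyEtale C T :=
    Algebra.FormallyEtale.of_equiv (AlgEquiv.ofBijective (Algebra.ofId C T) hbij)
  have hoi : IsOpenImmersion (Spec.map (CommRingCat.ofHom (algebraMap C T))) := by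
    haveI : IsIso (CommRingCat.ofHom (algebraMap C T)) :=
      (ConcreteCategory.isIso_iff_bijective (CommRingCat.ofHom (algebraMap C T))).mpr hbij
    infer_instance
  rw [Groth.Agent.S2220.result (A := A) (B' := C) (B := T) hoi, fitt_kaehler_map A C T 0, h]

theorem noetherDifferent_eq_fitt (A B : Type u) [CommRing A] [CommRing B] [Algebra A B]
    [Module.Finite A B] (h : Synt.IsSyntomic A B) :
    Disc.noetherDifferent A B = Fitt.ideal B (Ω[B⁄A]) 0 := by
  apply ideal_eq_of_locally
  intro q hq
  obtain ⟨g, hg, n, c, F, hrel, ⟨e⟩⟩ :=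
    Groth.Agent.Helper2.Synt.exists_away_isRelGCI_of_isSyntomic A B h q
  refine ⟨g, hg, ?_⟩
  haveI : Nontrivial (Localization.Away g) :=
    Groth.Agent.Helper4.Fitting.nontrivial_away_of_notMem q g hg
  haveI : Nontrivial (Synt.RelGCIRing A n c F) := e.injective.nontrivial
  haveI : Algebra.QuasiFinite A (Localization.Away g) := inferInstance
  haveI : Algebra.QuasiFinite A (Synt.RelGCIRing A n c F) :=
    Algebra.QuasiFinite.of_surjective_algHom e.toAlgHom e.surjective
  have hloc := local_eq n c F hrel
  have hT := eq_of_algEquiv e hloc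
  have hoi : IsOpenImmersion (Spec.map (CommRingCat.ofHom (algebraMap B (Localization.Away g)))) :=
    inferInstance
  rw [← Groth.Agent.S2220.result (A := A) (B' := B) (B := Localization.Away g) hoi,
    ← fitt_kaehler_map A B (Localization.Away g) 0, hT]

theorem main (A B : Type u) [CommRing A] [CommRing B] [Algebra A B] [IsNoetherianRing A]
    [Module.Finite A B] [Module.Free A B] (h : Synt.IsSyntomic A B) :
    Disc.differentSet A B = (Fitt.ideal B (KaehlerDifferential A B) 0 : Set B) := by
  haveI := omega_invertible_of_syntomic A B h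
  rw [Groth.Agent.S2221.result, noetherDifferent_eq_fitt A B h]

end Main

end Groth.Agent.Lib.Helper4.NoethDiff3
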