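import Mathlib
import Groth.Prelude.Def_AlgGrp
import Groth.Agent.Lib.Helper4.ContentRep6
import Groth.Agent.Lib.Helper4.GenSubComm1

/-!
# normal core of a closed subgroup scheme over a field is a closed subgroup scheme; commutator subgroup of normal subgroups is normal (S5364) (helper4)
-/

set_option backward.isDefEq.respectTransparency.types false
set_option synthInstance.maxHeartbeats 400000
set_option autoImplicit false
set_option linter.unusedSectionVars false
set_option linter.style.haveILetI false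
set_option linter.unusedSimpArgs false
universe u v w
open CategoryTheory CategoryTheory.Limits AlgebraicGeometry TopologicalSpace Opposite
open MonoidalCategory CartesianMonoidalCategory MonObj GrpObj
open Groth.Agent.Lib.Helper4

namespace Groth.Agent.Lib.Helper4.NormalCore1

section Main
variable (k : Type u) [Field k] (G : Over (Spec (CommRingCat.of k))) [GrpObj G]

theorem inv_comp_hom {Γ T : Over (Spec (CommRingCat.of k))} [GrpObj Γ] (i : Γ ⟶ G) [IsMonHom i]
    (x : T ⟶ Γ) : x⁻¹ ≫ i = (x ≫ i)⁻¹ := by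
  rw [Hom.inv_def, Hom.inv_def, Category.assoc, GrpObj.inv_hom, Category.assoc]

/-- the normal core of `i : Γ ⟶ G` on `T`-points: points all of whose conjugates lie in `Γ` -/
def core {Γ : Over (Spec (CommRingCat.of k))} [GrpObj Γ] (i : Γ ⟶ G) [IsMonHom i]
    (T : Over (Spec (CommRingCat.of k))) : Subgroup (T ⟶ G) where
  carrier := {x | ∀ (T' : Over (Spec (CommRingCat.of k))) (s : T' ⟶ T) (g : T' ⟶ G),
      ∃ x' : T' ⟶ Γ, g * (s ≫ x) * g⁻¹ = x' ≫ i}
  mul_mem' := by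
    intro x y hx hy T' s g
    obtain ⟨x', hx'⟩ := hx T' s g
    obtain ⟨y', hy'⟩ := hy T' s g
    refine ⟨x' * y', ?_⟩
    rw [MonObj.mul_comp, ← hx', ← hy', MonObj.comp_mul]
    group
  one_mem' := by
    intro T' s g
    refine ⟨1, ?_⟩
    rw [MonObj.comp_one, MonObj.one_comp]
    group
  inv_mem' := by
    intro x hx T' s g
    obtain ⟨x', hx'⟩ := hx T' s g
    refine ⟨x'⁻¹, ?_⟩
    rw [inv_comp_hom, ← hx', GrpObj.comp_inv]
    group

theorem mem_core {Γ : Over (Spec (CommRingCat.of k))} [GrpObj Γ] (i : Γ ⟶ G) [IsMonHom i]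
    (T : Over (Spec (CommRingCat.of k))) (x : T ⟶ G) :
    x ∈ core k G i T ↔ ∀ (T' : Over (Spec (CommRingCat.of k))) (s : T' ⟶ T) (g : T' ⟶ G),
      ∃ x' : T' ⟶ Γ, g * (s ≫ x) * g⁻¹ = x' ≫ i := Iff.rfl

/-- the normal core of a closed subgroup scheme of a group scheme over a field is a closed
subgroup scheme -/
theorem exists_core {Γ : Over (Spec (CommRingCat.of k))} [GrpObj Γ] (i : Γ ⟶ G) [IsMonHom i]
    [IsClosedImmersion i.left] :
    ∃ (M : Over (Spec (CommRingCat.of k))) (_ : GrpObj M) (m : M ⟶ G), IsMonHom m ∧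
      IsClosedImmersion m.left ∧
      ∀ (T : Over (Spec (CommRingCat.of k))) (x : T ⟶ G),
        (∃ z : T ⟶ M, z ≫ m = x) ↔ x ∈ core k G i T := by
  let cj : G ⊗ G ⟶ G := (fst G G) * (snd G G) * (fst G G)⁻¹
  haveI : IsClosedImmersion (pullback.snd i.left cj.left) :=
    MorphismProperty.pullback_snd (P := @IsClosedImmersion) _ _ inferInstance
  obtain ⟨M, m, hm, hrep⟩ := ContentRep2.field_rep k G G (pullback.snd i.left cj.left)
  have hmem : ∀ (T : Over (Spec (CommRingCat.of k))) (x : T ⟶ G),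
      (∃ z : T ⟶ M, z ≫ m = x) ↔ x ∈ core k G i T := by
    intro T x
    rw [← hrep T x, ContentRep6.lift_pullback_iff, ContentRep6.forall_iff_whisker, mem_core]
    have e : ∀ (T' : Over (Spec (CommRingCat.of k))) (s : T' ⟶ T) (g : T' ⟶ G),
        lift g (s ≫ x) ≫ cj = g * (s ≫ x) * g⁻¹ := by
      intro T' s g
      show lift g (s ≫ x) ≫ ((fst G G) * (snd G G) * (fst G G)⁻¹) = _
      rw [MonObj.comp_mul, MonObj.comp_mul, GrpObj.comp_inv, lift_snd, lift_fst]
    constructor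
    · intro h T' s g
      obtain ⟨x', hx'⟩ := h T' s g
      exact ⟨x', by rw [← hx', e]⟩
    · intro h T' s g
      obtain ⟨x', hx'⟩ := h T' s g
      exact ⟨x', by rw [← hx', e]⟩
  haveI := hm
  haveI : Mono m.left := inferInstance
  haveI : Mono m := Over.mono_of_mono_left m
  obtain ⟨inst, hmon⟩ := GenSubComm1.exists_grpObj m (core k G i) (fun T f => (hmem T f).symm)
  exact ⟨M, inst, m, hmon, hm, hmem⟩

theorem main_S5364 (A B : Over (Spec (CommRingCat.of k))) [GrpObj A] [GrpObj B]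
    (a : A ⟶ G) [IsMonHom a] (b : B ⟶ G) [IsMonHom b]
    (hA : AlgGrp.IsNormalHom a) (hB : AlgGrp.IsNormalHom b)
    (Γ : Over (Spec (CommRingCat.of k))) [GrpObj Γ] (i : Γ ⟶ G) [IsMonHom i] [IsClosedImmersion i.left]
    (hf : ∃ f' : A ⊗ B ⟶ Γ, f' ≫ i = (((fst A B) ≫ a) * ((snd A B) ≫ b) * ((fst A B) ≫ a)⁻¹ * ((snd A B) ≫ b)⁻¹))
    (hmin : ∀ (Γ' : Over (Spec (CommRingCat.of k))) (_ : GrpObj Γ') (i' : Γ' ⟶ G), IsMonHom i' → IsClosedImmersion i'.left →
        (∃ f'' : A ⊗ B ⟶ Γ', f'' ≫ i' = (((fst A B) ≫ a) * ((snd A B) ≫ b) * ((fst A B) ≫ a)⁻¹ * ((snd A B) ≫ b)⁻¹)) → ∃ j : Γ ⟶ Γ', j ≫ i' = i) :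
    AlgGrp.IsNormalHom i := by
  obtain ⟨f', hf'⟩ := hf
  obtain ⟨M, inst, m, hmon, hcl, hrep⟩ := exists_core k G i
  have hfac : ∃ f'' : A ⊗ B ⟶ M, f'' ≫ m =
      (((fst A B) ≫ a) * ((snd A B) ≫ b) * ((fst A B) ≫ a)⁻¹ * ((snd A B) ≫ b)⁻¹) := by
    rw [hrep, mem_core]
    intro T' s g
    obtain ⟨α', hα'⟩ := hA T' g (s ≫ fst A B)
    obtain ⟨β', hβ'⟩ := hB T' g (s ≫ snd A B)
    refine ⟨lift α' β' ≫ f', ?_⟩
    rw [Category.assoc, hf']
    simp only [MonObj.comp_mul, GrpObj.comp_inv, lift_fst_assoc, lift_snd_assoc]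
    rw [← hα', ← hβ']
    simp only [Category.assoc]
    group
  obtain ⟨j, hj⟩ := hmin M inst m hmon hcl hfac
  intro T g n
  have hn : (n ≫ i) ∈ core k G i T := by
    rw [← hrep]
    exact ⟨n ≫ j, by rw [Category.assoc, hj]⟩
  obtain ⟨x', hx'⟩ := (mem_core k G i T (n ≫ i)).1 hn T (𝟙 T) g
  rw [Category.id_comp] at hx'
  exact ⟨x', hx'⟩

end Main

end Groth.Agent.Lib.Helper4.NormalCore1
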