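import Mathlib
import Groth.Prelude.Def_W4bk4git07Quot
import Groth.Prelude.Def_Pi1

/-!
# Geometric quotient of a normal integral scheme is normal (S18505) (helper4)
-/

set_option backward.isDefEq.respectTransparency.types false
set_option synthInstance.maxHeartbeats 400000
set_option autoImplicit false
set_option linter.unusedSectionVars false
set_option linter.style.haveILetI false
set_option linter.unusedSimpArgs false
universe u v w
open CategoryTheory CategoryTheory.Limits AlgebraicGeometry TopologicalSpace Opposite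
open MonoidalCategory CartesianMonoidalCategory MonObj GrpObj

namespace Groth.Agent.Lib.Helper4.NormalQuot1

section Alg
open Polynomial

/-- the "cleared denominators" integrality relation: `b / c` is integral -/
def Rel (R : Type*) [CommRing R] (b c : R) : Prop :=
  ∃ p : R[X], p.Monic ∧ (scaleRoots p c).eval b = 0

theorem Rel.map {R R' : Type*} [CommRing R] [CommRing R'] [Nontrivial R'] (g : R →+* R')
    {b c : R} (h : Rel R b c) : Rel R' (g b) (g c) := by
  obtain ⟨p, hp, h0⟩ := h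
  refine ⟨p.map g, hp.map g, ?_⟩
  rw [← map_scaleRoots p c g (by rw [hp.leadingCoeff, map_one]; exact one_ne_zero), Polynomial.eval_map,
    Polynomial.eval₂_at_apply, h0, map_zero]

theorem exists_mul_eq_of_rel {R : Type*} [CommRing R] [IsDomain R] [IsIntegrallyClosed R]
    {b c : R} (hc : c ≠ 0) (h : Rel R b c) : ∃ a, a * c = b := by
  obtain ⟨p, hp, h0⟩ := h
  have hinj := IsFractionRing.injective R (FractionRing R)
  have hfc : algebraMap R (FractionRing R) c ≠ 0 := fun h0 => hc (hinj (by rw [h0, map_zero]))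
  have h1 := scaleRoots_eval₂_mul (p := p) (algebraMap R (FractionRing R))
    (algebraMap R (FractionRing R) b / algebraMap R (FractionRing R) c) c
  rw [mul_div_cancel₀ _ hfc, eval₂_at_apply, h0, map_zero] at h1
  have h3 : eval₂ (algebraMap R (FractionRing R))
      (algebraMap R (FractionRing R) b / algebraMap R (FractionRing R) c) p = 0 := by
    rcases mul_eq_zero.1 h1.symm with h | h
    · exact absurd h (pow_ne_zero _ hfc)
    · exact h
  have hint : IsIntegral R
      (algebraMap R (FractionRing R) b / algebraMap R (FractionRing R) c) := ⟨p, hp, h3⟩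
  obtain ⟨a, ha⟩ := IsIntegrallyClosed.algebraMap_eq_of_integral hint
  refine ⟨a, hinj ?_⟩
  rw [map_mul, ha, div_mul_cancel₀ _ hfc]

theorem isIntegrallyClosed_of_rel {R : Type*} [CommRing R] [IsDomain R]
    (H : ∀ b c : R, c ≠ 0 → Rel R b c → ∃ a, a * c = b) : IsIntegrallyClosed R := by
  rw [isIntegrallyClosed_iff (FractionRing R)]
  intro x hx
  obtain ⟨p, hp, hpx⟩ := hx
  have hinj := IsFractionRing.injective R (FractionRing R)
  obtain ⟨b, c, hc, rfl⟩ := IsFractionRing.div_surjective (A := R) x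
  have hc0 : c ≠ 0 := nonZeroDivisors.ne_zero hc
  have hfc : algebraMap R (FractionRing R) c ≠ 0 := fun h0 => hc0 (hinj (by rw [h0, map_zero]))
  have h1 := scaleRoots_eval₂_eq_zero_of_eval₂_div_eq_zero hinj hpx hc
  rw [eval₂_at_apply] at h1
  have h2 : (scaleRoots p c).eval b = 0 := hinj (by rw [h1, map_zero])
  obtain ⟨a, ha⟩ := H b c hc0 ⟨p, hp, h2⟩
  refine ⟨a, ?_⟩
  rw [← ha, map_mul, mul_div_cancel_right₀ _ hfc]

end Alg

section Sch

theorem res_res {X : Scheme.{u}} {A B C : X.Opens} (i : A ⟶ B) (j : B ⟶ C) (k : A ⟶ C)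
    (x : Γ(X, C)) :
    X.presheaf.map i.op (X.presheaf.map j.op x) = X.presheaf.map k.op x := by
  have : i ≫ j = k := Subsingleton.elim _ _
  rw [← this, op_comp, Functor.map_comp, CommRingCat.comp_apply]

/-- on a normal integral scheme, sections over any open satisfy the integral-closedness criterion -/
theorem exists_section_mul_eq {X : Scheme.{u}} [IsIntegral X]
    (hX : ∀ x : X, IsIntegrallyClosed (X.presheaf.stalk x)) (V : X.Opens)
    (b c : Γ(X, V)) (hc : c ≠ 0) (h : Rel Γ(X, V) b c) : ∃ a : Γ(X, V), a * c = b := by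
  have hloc : ∀ x : V, ∃ (W : X.Opens) (hWV : W ≤ V) (_ : x.1 ∈ W) (s : Γ(X, W)),
      s * X.presheaf.map (homOfLE hWV).op c = X.presheaf.map (homOfLE hWV).op b := by
    intro x
    haveI := hX x.1
    have hinj := germ_injective_of_isIntegral X x.1 x.2
    have hrel : Rel (X.presheaf.stalk x.1) (X.presheaf.germ V x.1 x.2 b)
        (X.presheaf.germ V x.1 x.2 c) := Rel.map (X.presheaf.germ V x.1 x.2).hom h
    have hc' : X.presheaf.germ V x.1 x.2 c ≠ 0 := fun h0 => hc (hinj (by rw [h0, map_zero]))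
    obtain ⟨α, hα⟩ := exists_mul_eq_of_rel hc' hrel
    obtain ⟨W, hWV, hxW, s, hs⟩ := X.presheaf.exists_le_germ_eq α x.2
    refine ⟨W, hWV, hxW, s, ?_⟩
    apply germ_injective_of_isIntegral X x.1 hxW
    rw [map_mul, hs, TopCat.Presheaf.germ_res_apply, TopCat.Presheaf.germ_res_apply]
    exact hα
  choose W hWV hxW s hs using hloc
  have huniq : ∀ (O : X.Opens) (hO : O ≤ V) (t t' : Γ(X, O)),
      t * X.presheaf.map (homOfLE hO).op c = X.presheaf.map (homOfLE hO).op b →
      t' * X.presheaf.map (homOfLE hO).op c = X.presheaf.map (homOfLE hO).op b → t = t' := by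
    intro O hO t t' ht ht'
    apply TopCat.Presheaf.section_ext X.sheaf O
    intro x hx
    show X.presheaf.germ O x hx t = X.presheaf.germ O x hx t'
    have hc' : X.presheaf.germ O x hx (X.presheaf.map (homOfLE hO).op c) ≠ 0 := by
      rw [TopCat.Presheaf.germ_res_apply]
      exact fun h0 => hc (germ_injective_of_isIntegral X x (hO hx) (by rw [h0, map_zero]))
    have e := congrArg (fun z => X.presheaf.germ O x hx z) (ht.trans ht'.symm)
    simp only [map_mul] at e
    exact mul_right_cancel₀ hc' e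
  have hcover : V ≤ iSup W := fun y hy => Opens.mem_iSup.2 ⟨⟨y, hy⟩, hxW ⟨y, hy⟩⟩
  have hcompat : TopCat.Presheaf.IsCompatible X.sheaf.1 W s := by
    intro i j
    apply huniq (W i ⊓ W j) (inf_le_left.trans (hWV i))
    · have e := congrArg (fun z => X.presheaf.map (Opens.infLELeft (W i) (W j)).op z) (hs i)
      simp only [map_mul] at e
      rw [res_res _ _ (homOfLE (inf_le_left.trans (hWV i))),
        res_res _ _ (homOfLE (inf_le_left.trans (hWV i)))] at e
      exact e
    · have e := congrArg (fun z => X.presheaf.map (Opens.infLERight (W i) (W j)).op z) (hs j)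
      simp only [map_mul] at e
      rw [res_res _ _ (homOfLE (inf_le_left.trans (hWV i))),
        res_res _ _ (homOfLE (inf_le_left.trans (hWV i)))] at e
      exact e
  obtain ⟨a, ha, -⟩ : ∃! a : Γ(X, V), ∀ x, X.presheaf.map (homOfLE (hWV x)).op a = s x :=
    X.sheaf.existsUnique_gluing' W V (fun x => homOfLE (hWV x)) hcover s hcompat
  refine ⟨a, ?_⟩
  apply X.sheaf.eq_of_locally_eq' W V (fun x => homOfLE (hWV x)) hcover
  intro x
  have := ha x
  show X.presheaf.map (homOfLE (hWV x)).op (a * c) = X.presheaf.map (homOfLE (hWV x)).op b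
  rw [map_mul]
  exact (congrArg (· * X.presheaf.map (homOfLE (hWV x)).op c) this).trans (hs x)

/-- pulling back a nonzero function along a flat morphism to an integral scheme gives a
nonzerodivisor -/
theorem eq_zero_of_mul_appLE_eq_zero {P X : Scheme.{u}} [IsIntegral X] (p : P ⟶ X) [Flat p]
    (V : X.Opens) (W : P.Opens) (e : W ≤ p ⁻¹ᵁ V) (c : Γ(X, V)) (hc : c ≠ 0)
    (s : Γ(P, W)) (hs : s * p.appLE V W e c = 0) : s = 0 := by
  apply TopCat.Presheaf.section_ext P.sheaf W
  intro w hw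
  show P.presheaf.germ W w hw s = P.presheaf.germ W w hw 0
  rw [map_zero]
  have hpw : p.base w ∈ V := e hw
  have hc' : X.presheaf.germ V (p.base w) hpw c ≠ 0 := fun h0 =>
    hc (germ_injective_of_isIntegral X _ hpw (by rw [h0, map_zero]))
  have hflat := Flat.stalkMap p w
  algebraize [(p.stalkMap w).hom]
  have hreg : IsSMulRegular (P.presheaf.stalk w) (X.presheaf.germ V (p.base w) hpw c) :=
    Module.Flat.isSMulRegular_of_nonZeroDivisors (mem_nonZeroDivisors_of_ne_zero hc')
  have h1 : P.presheaf.germ W w hw (p.appLE V W e c) =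
      (p.stalkMap w) (X.presheaf.germ V (p.base w) hpw c) := by
    rw [Scheme.Hom.germ_stalkMap_apply, Scheme.Hom.appLE, CommRingCat.comp_apply,
      TopCat.Presheaf.germ_res_apply]
  have key : (X.presheaf.germ V (p.base w) hpw c) • (P.presheaf.germ W w hw s) =
      (X.presheaf.germ V (p.base w) hpw c) • (0 : P.presheaf.stalk w) := by
    rw [smul_zero, Algebra.smul_def, RingHom.algebraMap_toAlgebra, mul_comm]
    have := congrArg (fun z => P.presheaf.germ W w hw z) hs
    simp only [map_mul, map_zero] at this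
    rw [h1] at this
    exact this
  exact hreg key

theorem isIntegral_of_surjective_of_injective {X Y : Scheme.{u}} [IsIntegral X] (f : X ⟶ Y)
    (hsurj : Function.Surjective f.base)
    (hinj : ∀ U : Y.Opens, Function.Injective (f.app U)) : IsIntegral Y := by
  haveI : IsReduced Y := ⟨fun U => isReduced_of_injective (f.app U).hom (hinj U)⟩
  haveI : IrreducibleSpace Y := by
    have h1 : IsIrreducible (Set.univ : Set Y) := by
      have := (IrreducibleSpace.isIrreducible_univ X).image f.base f.continuous.continuousOn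
      rwa [Set.image_univ_of_surjective hsurj] at this
    exact { isPreirreducible_univ := h1.isPreirreducible
            toNonempty := ⟨f.base (Nonempty.some inferInstance)⟩ }
  exact isIntegral_of_irreducibleSpace_of_isReduced Y

end Sch

section Quot
variable {S : Scheme.{u}} {G X Y : Over S} [GrpObj G]

theorem sections_integrallyClosed [IsIntegral X.left] [IsIntegral Y.left]
    (hX : ∀ x : X.left, IsIntegrallyClosed (X.left.presheaf.stalk x))
    [Flat (snd G X).left]
    (a : AlgGrp.Action G X) (φ : X ⟶ Y)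
    (hsec : ∀ U : Y.left.Opens, Function.Injective (φ.left.app U) ∧
      Set.range (φ.left.app U) = {f | GIT.IsInvSection a φ U f})
    (U : Y.left.Opens) [Nonempty U] : IsIntegrallyClosed Γ(Y.left, U) := by
  apply isIntegrallyClosed_of_rel
  intro b c hc hrel
  have hinj := (hsec U).1
  have hc' : φ.left.app U c ≠ 0 := fun h0 => hc (hinj (by rw [h0, map_zero]))
  haveI : Nontrivial Γ(X.left, φ.left ⁻¹ᵁ U) := ⟨⟨_, _, hc'⟩⟩
  have hrel' : Rel Γ(X.left, φ.left ⁻¹ᵁ U) (φ.left.app U b) (φ.left.app U c) :=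
    Rel.map (φ.left.app U).hom hrel
  obtain ⟨a₁, ha₁⟩ := exists_section_mul_eq hX (φ.left ⁻¹ᵁ U) _ _ hc' hrel'
  have hb : GIT.IsInvSection a φ U (φ.left.app U b) := by
    have : φ.left.app U b ∈ Set.range (φ.left.app U) := ⟨b, rfl⟩
    rw [(hsec U).2] at this
    exact this
  have hcI : GIT.IsInvSection a φ U (φ.left.app U c) := by
    have : φ.left.app U c ∈ Set.range (φ.left.app U) := ⟨c, rfl⟩
    rw [(hsec U).2] at this
    exact this
  have hinv₁ : GIT.IsInvSection a φ U a₁ := by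
    have e1 := congrArg (fun z => a.act.left.appLE (φ.left ⁻¹ᵁ U)
      (a.act.left ⁻¹ᵁ (φ.left ⁻¹ᵁ U) ⊓ (snd G X).left ⁻¹ᵁ (φ.left ⁻¹ᵁ U)) inf_le_left z) ha₁
    have e2 := congrArg (fun z => (snd G X).left.appLE (φ.left ⁻¹ᵁ U)
      (a.act.left ⁻¹ᵁ (φ.left ⁻¹ᵁ U) ⊓ (snd G X).left ⁻¹ᵁ (φ.left ⁻¹ᵁ U)) inf_le_right z) ha₁
    simp only [map_mul] at e1 e2
    have hcI' : a.act.left.appLE (φ.left ⁻¹ᵁ U)
        (a.act.left ⁻¹ᵁ (φ.left ⁻¹ᵁ U) ⊓ (snd G X).left ⁻¹ᵁ (φ.left ⁻¹ᵁ U)) inf_le_left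
          (φ.left.app U c) =
        (snd G X).left.appLE (φ.left ⁻¹ᵁ U)
        (a.act.left ⁻¹ᵁ (φ.left ⁻¹ᵁ U) ⊓ (snd G X).left ⁻¹ᵁ (φ.left ⁻¹ᵁ U)) inf_le_right
          (φ.left.app U c) := hcI
    have hb' : a.act.left.appLE (φ.left ⁻¹ᵁ U)
        (a.act.left ⁻¹ᵁ (φ.left ⁻¹ᵁ U) ⊓ (snd G X).left ⁻¹ᵁ (φ.left ⁻¹ᵁ U)) inf_le_left
          (φ.left.app U b) =
        (snd G X).left.appLE (φ.left ⁻¹ᵁ U)
        (a.act.left ⁻¹ᵁ (φ.left ⁻¹ᵁ U) ⊓ (snd G X).left ⁻¹ᵁ (φ.left ⁻¹ᵁ U)) inf_le_right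
          (φ.left.app U b) := hb
    rw [hcI', hb', ← e2] at e1
    have e3 : (a.act.left.appLE (φ.left ⁻¹ᵁ U)
        (a.act.left ⁻¹ᵁ (φ.left ⁻¹ᵁ U) ⊓ (snd G X).left ⁻¹ᵁ (φ.left ⁻¹ᵁ U)) inf_le_left a₁ -
        (snd G X).left.appLE (φ.left ⁻¹ᵁ U)
        (a.act.left ⁻¹ᵁ (φ.left ⁻¹ᵁ U) ⊓ (snd G X).left ⁻¹ᵁ (φ.left ⁻¹ᵁ U)) inf_le_right a₁) *
        (snd G X).left.appLE (φ.left ⁻¹ᵁ U)
        (a.act.left ⁻¹ᵁ (φ.left ⁻¹ᵁ U) ⊓ (snd G X).left ⁻¹ᵁ (φ.left ⁻¹ᵁ U)) inf_le_right
          (φ.left.app U c) = 0 := by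
      rw [sub_mul, e1, sub_self]
    have e4 := eq_zero_of_mul_appLE_eq_zero (snd G X).left _ _ inf_le_right (φ.left.app U c) hc' _ e3
    exact sub_eq_zero.1 e4
  have hmem : a₁ ∈ Set.range (φ.left.app U) := by
    rw [(hsec U).2]
    exact hinv₁
  obtain ⟨a₀, ha₀⟩ := hmem
  refine ⟨a₀, hinj ?_⟩
  rw [map_mul, ha₀, ha₁]

end Quot

theorem main (k : Type u) [Field k] [IsAlgClosed k] [CharZero k]
    (G X Y : Over (Spec (CommRingCat.of k))) [GrpObj G] [IsAffine G.left] [LocallyOfFiniteType G.hom]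
    [LocallyOfFiniteType X.hom] [QuasiCompact X.hom] [IsSeparated X.hom] [IsIntegral X.left]
    (hX : Pi1.IsNormalScheme X.left)
    [LocallyOfFiniteType Y.hom] [QuasiCompact Y.hom] [IsSeparated Y.hom]
    (a : AlgGrp.Action G X) (φ : X ⟶ Y) (h : GIT.IsGeomQuot a φ) :
    Pi1.IsNormalScheme Y.left := by
  haveI : Subsingleton ↥(Spec (CommRingCat.of k)) :=
    inferInstanceAs (Subsingleton (PrimeSpectrum k))
  haveI : Flat G.hom := inferInstance
  haveI : Flat (snd G X).left := by rw [Over.snd_left]; infer_instance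
  haveI : IsIntegral Y.left :=
    isIntegral_of_surjective_of_injective φ.left h.surj (fun U => (h.sections U).1)
  intro y
  refine ⟨inferInstance, ?_⟩
  obtain ⟨U, hU, hyU, -⟩ := exists_isAffineOpen_mem_and_subset (x := y) (U := ⊤) trivial
  haveI : Nonempty U := ⟨⟨y, hyU⟩⟩
  haveI hB : IsIntegrallyClosed Γ(Y.left, U) :=
    sections_integrallyClosed (fun x => (hX x).2) a φ h.sections U
  letI : Algebra Γ(Y.left, U) (Y.left.presheaf.stalk y) :=
    Y.left.presheaf.algebra_section_stalk ⟨y, hyU⟩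
  haveI : IsLocalization.AtPrime (Y.left.presheaf.stalk y)
      (hU.primeIdealOf ⟨y, hyU⟩).asIdeal := hU.isLocalization_stalk ⟨y, hyU⟩
  exact isIntegrallyClosed_of_isLocalization (Y.left.presheaf.stalk y)
    (hU.primeIdealOf ⟨y, hyU⟩).asIdeal.primeCompl (Ideal.primeCompl_le_nonZeroDivisors _)

end Groth.Agent.Lib.Helper4.NormalQuot1
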