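import Mathlib
import Groth.Prelude.Def_Red
import Groth.Prelude.Def_Red2
import Groth.Prelude.Def_AlgGrp
import Groth.Prelude.Def_VecGrp
import Groth.Prelude.Def_W4bk4grossh111Obs
import Groth.Prelude.Def_W4bk4grossh1223Act
import Groth.Agent.Lib.Helper4.MultTypeRigid1
import Groth.Agent.Lib.Helper6.DS.ExactGen

/-!
# invariants of a subgroup are fixed by its observable hull (matrix coefficients via universal points) (helper4)
-/

set_option backward.isDefEq.respectTransparency.types false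
set_option synthInstance.maxHeartbeats 400000
set_option autoImplicit false
set_option linter.unusedSectionVars false
set_option linter.style.haveILetI false
set_option linter.unusedSimpArgs false
universe u v w
open CategoryTheory CategoryTheory.Limits AlgebraicGeometry TopologicalSpace Opposite
open MonoidalCategory CartesianMonoidalCategory MonObj GrpObj
open scoped TensorProduct
open Groth.Agent.Lib.Helper4.MultTypeRigid1
open Groth.Agent.Lib.Helper6.DS

namespace Groth.Agent.Lib.Helper4.ObsHullFix1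

section Univ

variable {R : Type u} [CommRing R] (G : Over (Spec (CommRingCat.of R))) [IsAffine G.left]
  [Algebra R Γ(G.left, ⊤)]
  (halg : algebraMap R Γ(G.left, ⊤) =
    (G.hom.appTop.hom).comp (Scheme.ΓSpecIso (CommRingCat.of R)).inv.hom)

include halg in
theorem uPt_w : G.left.isoSpec.inv ≫ G.hom = (VecGrp.pt R Γ(G.left, ⊤)).hom := by
  show G.left.isoSpec.inv ≫ G.hom = Spec.map (CommRingCat.ofHom (algebraMap R Γ(G.left, ⊤)))
  rw [halg, ← Scheme.isoSpec_inv_naturality, Scheme.isoSpec_Spec_inv, ← Spec.map_comp]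
  rfl

/-- the universal point -/
noncomputable def uPt : VecGrp.pt R Γ(G.left, ⊤) ⟶ G :=
  Over.homMk G.left.isoSpec.inv (uPt_w G halg)

theorem uPt_left : (uPt G halg).left = G.left.isoSpec.inv := rfl

theorem ev_uPt (c : Γ(G.left, ⊤)) :
    (Scheme.ΓSpecIso (CommRingCat.of Γ(G.left, ⊤))).hom ((uPt G halg).left.appTop c) = c := by
  rw [uPt_left, isoSpec_inv_appTop']
  exact congrArg (fun F => F.hom c) (Scheme.ΓSpecIso Γ(G.left, ⊤)).inv_hom_id

theorem exists_factor {B : Type u} [CommRing B] [Algebra R B] (x : VecGrp.pt R B ⟶ G) :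
    ∃ φ : Γ(G.left, ⊤) →ₐ[R] B, VecGrp.ptMap φ ≫ uPt G halg = x ∧
      ∀ f, φ f = (Scheme.ΓSpecIso (CommRingCat.of B)).hom (x.left.appTop f) := by
  let φ₀ : Γ(G.left, ⊤) →+* B :=
    ((Scheme.ΓSpecIso (CommRingCat.of B)).hom.hom).comp x.left.appTop.hom
  have hw : x.left ≫ G.hom = Spec.map (CommRingCat.ofHom (algebraMap R B)) := Over.w x
  have h1 : G.hom.appTop ≫ x.left.appTop =
      (Spec.map (CommRingCat.ofHom (algebraMap R B))).appTop := by
    rw [← Scheme.Hom.comp_appTop, hw]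
  have h2 := Scheme.ΓSpecIso_inv_naturality (CommRingCat.ofHom (algebraMap R B))
  have h3 : (Scheme.ΓSpecIso (CommRingCat.of R)).inv ≫ G.hom.appTop ≫ x.left.appTop ≫
      (Scheme.ΓSpecIso (CommRingCat.of B)).hom = CommRingCat.ofHom (algebraMap R B) := by
    rw [← Category.assoc G.hom.appTop, h1, ← Category.assoc, ← h2, Category.assoc,
      Iso.inv_hom_id, Category.comp_id]
  have hcomm : ∀ r : R, φ₀ (algebraMap R Γ(G.left, ⊤) r) = algebraMap R B r := by
    intro r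
    rw [halg]
    exact congrArg (fun F => F.hom r) h3
  refine ⟨{ φ₀ with commutes' := hcomm }, ?_, fun f => rfl⟩
  apply Over.OverMorphism.ext
  show Spec.map (CommRingCat.ofHom φ₀) ≫ G.left.isoSpec.inv = x.left
  have e1 : CommRingCat.ofHom φ₀ = x.left.appTop ≫ (Scheme.ΓSpecIso (CommRingCat.of B)).hom := rfl
  have hn : Spec.map x.left.appTop ≫ G.left.isoSpec.inv =
      (Spec (CommRingCat.of B)).isoSpec.inv ≫ x.left :=
    Scheme.isoSpec_inv_naturality (X := Spec (CommRingCat.of B)) x.left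
  rw [e1, Spec.map_comp, Category.assoc, hn, Scheme.isoSpec_Spec_inv,
    ← Category.assoc, ← Spec.map_comp, Iso.inv_hom_id, Spec.map_id, Category.id_comp]

end Univ

section LL

variable {k : Type u} [Field k] {M : Type u} [AddCommGroup M] [Module k M]

/-- contraction with a linear form -/
noncomputable def LL (lam : M →ₗ[k] k) (B : Type u) [CommRing B] [Algebra k B] :
    B ⊗[k] M →ₗ[k] B :=
  (TensorProduct.rid k B).toLinearMap ∘ₗ (LinearMap.lTensor B lam)

theorem LL_tmul (lam : M →ₗ[k] k) (B : Type u) [CommRing B] [Algebra k B] (b : B) (m : M) :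
    LL lam B (b ⊗ₜ[k] m) = lam m • b := by
  simp [LL]

theorem LL_nat (lam : M →ₗ[k] k) {B B' : Type u} [CommRing B] [Algebra k B] [CommRing B']
    [Algebra k B'] (φ : B →ₐ[k] B') (w : B ⊗[k] M) :
    φ (LL lam B w) = LL lam B' (VecGrp.Wmap φ w) := by
  induction w using TensorProduct.induction_on with
  | zero => simp
  | tmul b m => simp [LL_tmul]
  | add x y hx hy => simp only [map_add, hx, hy]

theorem LL_lid (lam : M →ₗ[k] k) (w : k ⊗[k] M) :
    LL lam k w = lam (TensorProduct.lid k M w) := by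
  induction w using TensorProduct.induction_on with
  | zero => simp
  | tmul b m => simp [LL_tmul, mul_comm]
  | add x y hx hy => simp only [map_add, hx, hy]

end LL

section Main

variable {k : Type u} [Field k] {G : Over (Spec (CommRingCat.of k))} [GrpObj G]
  {M : Type u} [AddCommGroup M] [Module k M] (ρ : VecGrp.GMod G M)

theorem whiskerLeft_mul' {T : Over (Spec (CommRingCat.of k))} (u : T ⟶ G) :
    (G ◁ u) ≫ μ[G] = fst G T * (snd G T ≫ u) := by
  rw [Hom.mul_def]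
  congr 1

theorem rho_mul_apply {B : Type u} [CommRing B] [Algebra k B] (x y : VecGrp.pt k B ⟶ G)
    (z : B ⊗[k] M) : ρ.ρ B (x * y) z = ρ.ρ B x (ρ.ρ B y z) := by
  rw [(ρ.ρ B).map_mul]
  rfl

theorem rho_one_apply {B : Type u} [CommRing B] [Algebra k B]
    (z : B ⊗[k] M) : ρ.ρ B (1 : VecGrp.pt k B ⟶ G) z = z := by
  rw [(ρ.ρ B).map_one]
  rfl

variable [IsAffine G.left] [Algebra k Γ(G.left, ⊤)]
  (halg : algebraMap k Γ(G.left, ⊤) =
    (G.hom.appTop.hom).comp (Scheme.ΓSpecIso (CommRingCat.of k)).inv.hom)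

/-- the matrix coefficient function -/
noncomputable def mc (a : M) (lam : M →ₗ[k] k) : Γ(G.left, ⊤) :=
  LL lam Γ(G.left, ⊤) (ρ.ρ Γ(G.left, ⊤) (uPt G halg) ((1 : Γ(G.left, ⊤)) ⊗ₜ[k] a))

theorem star (a : M) (lam : M →ₗ[k] k) (B : Type u) [CommRing B] [Algebra k B]
    (x : VecGrp.pt k B ⟶ G) :
    (Scheme.ΓSpecIso (CommRingCat.of B)).hom (x.left.appTop (mc ρ halg a lam)) =
      LL lam B (ρ.ρ B x ((1 : B) ⊗ₜ[k] a)) := by
  obtain ⟨φ, hφx, hφ⟩ := exists_factor G halg x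
  unfold mc
  rw [← hφ, LL_nat lam φ]
  congr 1
  rw [ρ.naturality φ, hφx, VecGrp.Wmap_tmul, map_one]

theorem comp_appTop_apply {X : Over (Spec (CommRingCat.of k))} {B : Type u} [CommRing B]
    [Algebra k B] (p : VecGrp.pt k B ⟶ X) (m : X ⟶ G) (f : Γ(G.left, ⊤)) :
    p.left.appTop (m.left.appTop f) = (p ≫ m).left.appTop f := by
  rw [Over.comp_left, Scheme.Hom.comp_appTop]
  rfl

theorem hinv (H : Over (Spec (CommRingCat.of k))) [GrpObj H] (i : H ⟶ G) [IsMonHom i]
    [IsAffine (G ⊗ H).left] [Algebra k Γ((G ⊗ H).left, ⊤)]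
    (halgC : algebraMap k Γ((G ⊗ H).left, ⊤) =
      ((G ⊗ H).hom.appTop.hom).comp (Scheme.ΓSpecIso (CommRingCat.of k)).inv.hom)
    (a : M) (ha : ∀ (B : Type u) [CommRing B] [Algebra k B] (h : VecGrp.pt k B ⟶ H),
      ρ.ρ B (h ≫ i) ((1 : B) ⊗ₜ[k] a) = (1 : B) ⊗ₜ[k] a) (lam : M →ₗ[k] k) :
    AGF.IsRTransInv i (mc ρ halg a lam) := by
  have key : ∀ c c' : Γ((G ⊗ H).left, ⊤),
      (Scheme.ΓSpecIso (CommRingCat.of Γ((G ⊗ H).left, ⊤))).hom
        ((uPt (G ⊗ H) halgC).left.appTop c) =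
      (Scheme.ΓSpecIso (CommRingCat.of Γ((G ⊗ H).left, ⊤))).hom
        ((uPt (G ⊗ H) halgC).left.appTop c') → c = c' := by
    intro c c' h
    rw [ev_uPt, ev_uPt] at h
    exact h
  unfold AGF.IsRTransInv
  apply key
  rw [comp_appTop_apply, comp_appTop_apply, star, star]
  have e1 : uPt (G ⊗ H) halgC ≫ (G ◁ i) ≫ μ[G] =
      (uPt (G ⊗ H) halgC ≫ fst G H) * ((uPt (G ⊗ H) halgC ≫ snd G H) ≫ i) := by
    rw [whiskerLeft_mul', MonObj.comp_mul, Category.assoc]
  rw [e1]
  rw [rho_mul_apply]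
  have h3 := ha Γ((G ⊗ H).left, ⊤) (uPt (G ⊗ H) halgC ≫ snd G H)
  exact congrArg (fun z => LL lam Γ((G ⊗ H).left, ⊤)
    (ρ.ρ Γ((G ⊗ H).left, ⊤) (uPt (G ⊗ H) halgC ≫ fst G H) z)) h3

theorem hfin (g : VecGrp.pt k k ⟶ G) (a : M) (lam : M →ₗ[k] k)
    (h : AGF.IsRTransInv g (mc ρ halg a lam)) :
    LL lam k (ρ.ρ k g ((1 : k) ⊗ₜ[k] a)) = LL lam k ((1 : k) ⊗ₜ[k] a) := by
  unfold AGF.IsRTransInv at h
  have h' := congrArg
    (fun c => (Scheme.ΓSpecIso (CommRingCat.of k)).hom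
      ((lift (1 : VecGrp.pt k k ⟶ G) (𝟙 (VecGrp.pt k k))).left.appTop c)) h
  simp only at h'
  rw [comp_appTop_apply, comp_appTop_apply, star, star] at h'
  have e1 : lift (1 : VecGrp.pt k k ⟶ G) (𝟙 (VecGrp.pt k k)) ≫ (G ◁ g) ≫ μ[G] = g := by
    rw [whiskerLeft_mul', MonObj.comp_mul, ← Category.assoc, lift_fst, lift_snd,
      Category.id_comp, _root_.one_mul]
  have e2 : lift (1 : VecGrp.pt k k ⟶ G) (𝟙 (VecGrp.pt k k)) ≫ fst G (VecGrp.pt k k) = 1 :=
    lift_fst _ _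
  rw [e1, e2, rho_one_apply] at h'
  exact h'

end Main

section Final

theorem main (k : Type u) [Field k]
    (G : Over (Spec (CommRingCat.of k))) [GrpObj G] [IsAffine G.left]
    (H : Over (Spec (CommRingCat.of k))) [GrpObj H] (i : H ⟶ G) [IsMonHom i]
    [IsClosedImmersion i.left]
    (M : Type u) [AddCommGroup M] [Module k M] (ρ : VecGrp.GMod G M)
    (g : VecGrp.pt k k ⟶ G)
    (hg : ∀ f : Γ(G.left, ⊤), AGF.IsRTransInv i f → AGF.IsRTransInv g f)
    (a : M) (ha : a ∈ ρ.fixedUnder i) :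
    ρ.ρ k g ((1 : k) ⊗ₜ[k] a) = (1 : k) ⊗ₜ[k] a := by
  classical
  letI algA : Algebra k Γ(G.left, ⊤) :=
    ((G.hom.appTop.hom).comp (Scheme.ΓSpecIso (CommRingCat.of k)).inv.hom).toAlgebra
  have halg : algebraMap k Γ(G.left, ⊤) =
      (G.hom.appTop.hom).comp (Scheme.ΓSpecIso (CommRingCat.of k)).inv.hom := rfl
  haveI : IsAffine H.left := isAffine_of_isAffineHom i.left
  haveI : IsAffine (G ⊗ H).left := by
    show IsAffine (pullback G.hom H.hom)
    infer_instance
  letI algC : Algebra k Γ((G ⊗ H).left, ⊤) :=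
    (((G ⊗ H).hom.appTop.hom).comp (Scheme.ΓSpecIso (CommRingCat.of k)).inv.hom).toAlgebra
  have halgC : algebraMap k Γ((G ⊗ H).left, ⊤) =
      ((G ⊗ H).hom.appTop.hom).comp (Scheme.ΓSpecIso (CommRingCat.of k)).inv.hom := rfl
  have hz : TensorProduct.lid k M (ρ.ρ k g ((1 : k) ⊗ₜ[k] a)) =
      TensorProduct.lid k M ((1 : k) ⊗ₜ[k] a) := by
    rw [← sub_eq_zero]
    apply (Module.forall_dual_apply_eq_zero_iff k _).mp
    intro lam
    have ha' : ∀ (B : Type u) [CommRing B] [Algebra k B] (h : VecGrp.pt k B ⟶ H),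
        ρ.ρ B (h ≫ i) ((1 : B) ⊗ₜ[k] a) = (1 : B) ⊗ₜ[k] a := ha
    have := hfin ρ halg g a lam (hg _ (hinv ρ halg H i halgC a ha' lam))
    rw [LL_lid, LL_lid] at this
    rw [map_sub, this, sub_self]
  exact (TensorProduct.lid k M).injective hz

end Final

end Groth.Agent.Lib.Helper4.ObsHullFix1
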