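import Mathlib
set_option autoImplicit false

namespace Groth.Agent.Helper4.OpenGen

/-- Domain lemma: in a Noetherian domain in which every nonzero prime contains a fixed `f ≠ 0`,
every nonzero prime is minimal over `(f)`. -/
theorem mem_minimalPrimes_of_forall_mem {D : Type*} [CommRing D] [IsDomain D] [IsNoetherianRing D]
    (f : D) (hf : f ≠ 0) (h : ∀ P : Ideal D, P.IsPrime → P ≠ ⊥ → f ∈ P)
    (P : Ideal D) [hP : P.IsPrime] (hP0 : P ≠ ⊥) : P ∈ (Ideal.span {f}).minimalPrimes := by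
  classical
  have hfP : Ideal.span {f} ≤ P := (Ideal.span_singleton_le_iff_mem _).mpr (h P hP hP0)
  obtain ⟨P₀, hP₀, hP₀P⟩ := Ideal.exists_minimalPrimes_le hfP
  by_contra hPS
  have hne : P ≠ P₀ := fun e => hPS (e ▸ hP₀)
  have hfin : (Ideal.span {f}).minimalPrimes.Finite :=
    Ideal.finite_minimalPrimes_of_isNoetherianRing _ _
  have havoid : ¬ ((P : Set D) ⊆ ⋃ Q ∈ (hfin.toFinset : Set (Ideal D)), ((id Q : Ideal D) : Set D)) := by
    rw [Ideal.subset_union_prime (f := id) ⊥ ⊥ (fun Q hQ _ _ => by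
      rw [Set.Finite.mem_toFinset] at hQ; exact hQ.1.1)]
    rintro ⟨Q, hQ, hPQ⟩
    rw [Set.Finite.mem_toFinset] at hQ
    have h1 : Q ≤ P₀ := hQ.2 hP₀.1 (hP₀P.trans hPQ)
    exact hne (le_antisymm (hPQ.trans h1) hP₀P)
  rw [Set.not_subset] at havoid
  obtain ⟨g, hgP, hg⟩ := havoid
  have hg' : ∀ Q ∈ (Ideal.span {f}).minimalPrimes, g ∉ Q := by
    intro Q hQ hgQ
    apply hg
    simp only [Set.mem_iUnion]
    exact ⟨Q, by simpa using hQ, hgQ⟩
  have hgP' : Ideal.span {g} ≤ P := (Ideal.span_singleton_le_iff_mem _).mpr hgP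
  obtain ⟨P₁, hP₁, hP₁P⟩ := Ideal.exists_minimalPrimes_le hgP'
  have hP₁prime : P₁.IsPrime := hP₁.1.1
  have hgP₁ : g ∈ P₁ := (Ideal.span_singleton_le_iff_mem _).mp hP₁.1.2
  have hg0 : g ≠ 0 := fun e => hg' P₀ hP₀ (e ▸ P₀.zero_mem)
  have hP₁0 : P₁ ≠ ⊥ := fun e => hg0 (by simpa [e] using hgP₁)
  have hfP₁ : Ideal.span {f} ≤ P₁ := (Ideal.span_singleton_le_iff_mem _).mpr (h P₁ hP₁prime hP₁0)
  obtain ⟨Q, hQ, hQP₁⟩ := Ideal.exists_minimalPrimes_le hfP₁
  have hQprime : Q.IsPrime := hQ.1.1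
  have hQ0 : Q ≠ ⊥ := fun e =>
    hf (by simpa [e] using (Ideal.span_singleton_le_iff_mem _).mp hQ.1.2)
  have hht : P₁.height ≤ 1 := Ideal.height_le_one_of_isPrincipal_of_mem_minimalPrimes _ P₁ hP₁
  have hQht : 1 ≤ Q.height := by
    rw [Order.one_le_iff_ne_zero, Ne, Ideal.height_eq_zero_iff_eq_bot]
    exact hQ0
  have : Q.FiniteHeight := Ideal.finiteHeight_of_le hQP₁ hP₁prime.ne_top
  have hQP₁' : Q = P₁ := Ideal.eq_of_le_of_height_le (I := Q) (h := hQP₁) (h_height := hht.trans hQht)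
  exact hg' Q hQ (hQP₁' ▸ hgP₁)

end Groth.Agent.Helper4.OpenGen

namespace Groth.Agent.Helper4.OpenGen

theorem finite_and_no_chain_aux {A D : Type*} [CommRing A] [CommRing D] [IsDomain D]
    [IsNoetherianRing D] (mk : A →+* D) (hmk : Function.Surjective mk)
    (q : Ideal A) (hker : RingHom.ker mk = q) (f : A) (hf : f ∉ q)
    (h : ∀ P : Ideal A, P.IsPrime → q < P → f ∈ P) :
    {P : PrimeSpectrum A | q ≤ P.asIdeal}.Finite ∧
      ∀ P₁ P₂ : Ideal A, P₁.IsPrime → P₂.IsPrime → q < P₁ → P₁ ≤ P₂ → P₁ = P₂ := by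
  classical
  have hf' : mk f ≠ 0 := by
    rw [Ne, ← RingHom.mem_ker, hker]; exact hf
  have hD : ∀ P' : Ideal D, P'.IsPrime → P' ≠ ⊥ → mk f ∈ P' := by
    intro P' hP' hP'0
    have h1 : q ≤ P'.comap mk := by
      rw [← hker]; exact Ideal.ker_le_comap mk
    have h2 : q ≠ P'.comap mk := by
      intro e
      apply hP'0
      rw [← Ideal.map_comap_of_surjective mk hmk P', ← e, ← hker, Ideal.map_eq_bot_iff_le_ker]
    exact h (P'.comap mk) (Ideal.comap_isPrime mk P') (lt_of_le_of_ne h1 h2)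
  have key := fun (P' : Ideal D) (hP' : P'.IsPrime) (hP'0 : P' ≠ ⊥) =>
    mem_minimalPrimes_of_forall_mem (mk f) hf' hD P' hP'0
  have hfin : (Ideal.span {mk f}).minimalPrimes.Finite :=
    Ideal.finite_minimalPrimes_of_isNoetherianRing _ _
  have hcm : ∀ P : Ideal A, q ≤ P → (P.map mk).comap mk = P := by
    intro P hP
    rw [Ideal.comap_map_of_surjective mk hmk, ← RingHom.ker_eq_comap_bot, hker]
    exact sup_eq_left.mpr hP
  have hmapne : ∀ P : Ideal A, q < P → P.map mk ≠ ⊥ := by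
    intro P hP e
    have := hcm P hP.le
    rw [e, ← RingHom.ker_eq_comap_bot, hker] at this
    exact hP.ne this
  refine ⟨?_, ?_⟩
  · have hfinD : (Set.univ : Set (PrimeSpectrum D)).Finite := by
      have : (Set.univ : Set (PrimeSpectrum D)) ⊆
          {⊥} ∪ PrimeSpectrum.asIdeal ⁻¹' (Ideal.span {mk f}).minimalPrimes := by
        intro P' _
        by_cases hP' : P'.asIdeal = ⊥
        · left
          exact PrimeSpectrum.ext hP'
        · right
          exact key P'.asIdeal P'.2 hP'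
      refine Set.Finite.subset ((Set.finite_singleton _).union
        (hfin.preimage (fun a _ b _ hab => PrimeSpectrum.ext hab))) this
    refine Set.Finite.subset (hfinD.image (PrimeSpectrum.comap mk)) ?_
    intro P hP
    refine ⟨⟨P.asIdeal.map mk, Ideal.map_isPrime_of_surjective hmk (by rw [hker]; exact hP)⟩,
      Set.mem_univ _, ?_⟩
    exact PrimeSpectrum.ext (hcm P.asIdeal hP)
  · intro P₁ P₂ hP₁ hP₂ h1 h12
    have hP₁' : (P₁.map mk).IsPrime :=
      Ideal.map_isPrime_of_surjective hmk (by rw [hker]; exact h1.le)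
    have hP₂' : (P₂.map mk).IsPrime :=
      Ideal.map_isPrime_of_surjective hmk (by rw [hker]; exact h1.le.trans h12)
    have m1 := key (P₁.map mk) hP₁' (hmapne P₁ h1)
    have m2 := key (P₂.map mk) hP₂' (hmapne P₂ (lt_of_lt_of_le h1 h12))
    have hle : P₂.map mk ≤ P₁.map mk := m2.2 m1.1 (Ideal.map_mono h12)
    have : P₁.map mk = P₂.map mk := le_antisymm (Ideal.map_mono h12) hle
    rw [← hcm P₁ h1.le, ← hcm P₂ (h1.le.trans h12), this]

/-- Ring lemma: if `f ∉ q` and every prime strictly containing `q` contains `f`, then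
there are finitely many primes over `q` and no chains `q < P₁ < P₂`. -/
theorem finite_and_no_chain {A : Type*} [CommRing A] [IsNoetherianRing A]
    (q : Ideal A) [hq : q.IsPrime] (f : A) (hf : f ∉ q)
    (h : ∀ P : Ideal A, P.IsPrime → q < P → f ∈ P) :
    {P : PrimeSpectrum A | q ≤ P.asIdeal}.Finite ∧
      ∀ P₁ P₂ : Ideal A, P₁.IsPrime → P₂.IsPrime → q < P₁ → P₁ ≤ P₂ → P₁ = P₂ :=
  finite_and_no_chain_aux (Ideal.Quotient.mk q) Ideal.Quotient.mk_surjective q Ideal.mk_ker f hf h

end Groth.Agent.Helper4.OpenGen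

namespace Groth.Agent.Helper4.OpenGen
open AlgebraicGeometry CategoryTheory

universe u

/-- Scheme lemma: a point `x` of an affine open `U` with Noetherian sections, such that `{x}` is
cut out of `closure {x}` by an open set `W`, has finite closure in `U`, and no chains of proper
specializations `x ⤳ y ⤳ z` inside `U`. -/
theorem finite_closure_inter_affine {X : Scheme.{u}} {U : X.Opens} (hU : IsAffineOpen U)
    [IsNoetherianRing Γ(X, U)] (x : X) (hx : x ∈ U) (W : Set X) (hWo : IsOpen W)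
    (hW : W ∩ closure {x} = {x}) :
    (closure {x} ∩ (U : Set X)).Finite ∧
      ∀ y z : X, y ∈ U → z ∈ U → x ⤳ y → y ⤳ z → y ≠ x → y = z := by
  let e : PrimeSpectrum Γ(X, U) → X := fun P => hU.fromSpec P
  have he : Topology.IsOpenEmbedding e := hU.fromSpec.isOpenEmbedding
  have hrange : Set.range e = U := hU.range_fromSpec
  let q : PrimeSpectrum Γ(X, U) := hU.primeIdealOf ⟨x, hx⟩
  have heq : e q = x := hU.fromSpec_primeIdealOf ⟨x, hx⟩
  have hqW : q ∈ e ⁻¹' W := by
    show e q ∈ W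
    rw [heq]
    have : x ∈ W ∩ closure {x} := by rw [hW]; rfl
    exact this.1
  obtain ⟨_, ⟨f, rfl⟩, hqf, hfW⟩ :=
    PrimeSpectrum.isTopologicalBasis_basic_opens.exists_subset_of_mem_open hqW
      (hWo.preimage he.continuous)
  have hf : f ∉ q.asIdeal := hqf
  have hspec : ∀ P P' : PrimeSpectrum Γ(X, U), P.asIdeal ≤ P'.asIdeal ↔ e P ⤳ e P' := by
    intro P P'
    rw [he.isInducing.specializes_iff, ← PrimeSpectrum.le_iff_specializes]
    rfl
  have h : ∀ P : Ideal Γ(X, U), P.IsPrime → q.asIdeal < P → f ∈ P := by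
    intro P hP hqP
    by_contra hfP
    let P' : PrimeSpectrum Γ(X, U) := ⟨P, hP⟩
    have h1 : e P' ∈ W := hfW (show P' ∈ (PrimeSpectrum.basicOpen f : Set _) from hfP)
    have h2 : e P' ∈ closure {x} := by
      rw [← specializes_iff_mem_closure, ← heq]
      exact (hspec q P').mp hqP.le
    have h3 : e P' = x := by
      have : e P' ∈ W ∩ closure {x} := ⟨h1, h2⟩
      rw [hW] at this
      exact this
    have h4 : P' = q := he.injective (h3.trans heq.symm)
    exact hqP.ne (congrArg PrimeSpectrum.asIdeal h4).symm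
  obtain ⟨hfin, hchain⟩ := finite_and_no_chain q.asIdeal f hf h
  refine ⟨?_, ?_⟩
  · refine Set.Finite.subset (hfin.image e) ?_
    rintro y ⟨hy1, hy2⟩
    rw [← hrange] at hy2
    obtain ⟨P', rfl⟩ := hy2
    refine ⟨P', ?_, rfl⟩
    rw [← specializes_iff_mem_closure, ← heq] at hy1
    exact (hspec q P').mpr hy1
  · intro y z hy hz hxy hyz hyx
    have hy' : y ∈ Set.range e := by rw [hrange]; exact hy
    have hz' : z ∈ Set.range e := by rw [hrange]; exact hz
    obtain ⟨Py, rfl⟩ := hy'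
    obtain ⟨Pz, rfl⟩ := hz'
    rw [← heq] at hxy
    have h1 : q.asIdeal ≤ Py.asIdeal := (hspec q Py).mpr hxy
    have h2 : Py.asIdeal ≤ Pz.asIdeal := (hspec Py Pz).mpr hyz
    have h3 : q.asIdeal ≠ Py.asIdeal := by
      intro e1
      apply hyx
      rw [← heq]
      exact congrArg e (PrimeSpectrum.ext e1).symm
    have := hchain Py.asIdeal Pz.asIdeal Py.2 Pz.2 (lt_of_le_of_ne h1 h3) h2
    exact congrArg e (PrimeSpectrum.ext this)

end Groth.Agent.Helper4.OpenGen

namespace Groth.Agent.Helper4.OpenGen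
open AlgebraicGeometry CategoryTheory

universe u

theorem exists_affine_mem {X : Scheme.{u}} (z : X) : ∃ U : X.affineOpens, z ∈ U.1 := by
  obtain ⟨_, ⟨U, hU, rfl⟩, hz, -⟩ :=
    X.isBasis_affineOpens.exists_subset_of_mem_open (Set.mem_univ z) isOpen_univ
  exact ⟨⟨U, hU⟩, hz⟩

/-- Global finiteness: in a Noetherian scheme, a point which is open in its closure has finite
closure. -/
theorem finite_closure {X : Scheme.{u}} [IsNoetherian X] (x : X) (W : Set X) (hWo : IsOpen W)
    (hW : W ∩ closure {x} = {x}) : (closure ({x} : Set X)).Finite := by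
  obtain ⟨t, ht⟩ := isCompact_univ.elim_finite_subcover
    (fun U : X.affineOpens => ((U.1 : X.Opens) : Set X)) (fun U => U.1.2)
    (fun z _ => by
      obtain ⟨U, hz⟩ := exists_affine_mem z
      exact Set.mem_iUnion.mpr ⟨U, hz⟩)
  have hsub : closure ({x} : Set X) ⊆ ⋃ U ∈ t, (closure {x} ∩ ((U.1 : X.Opens) : Set X)) := by
    intro y hy
    have := ht (Set.mem_univ y)
    simp only [Set.mem_iUnion] at this ⊢
    obtain ⟨U, hUt, hyU⟩ := this
    exact ⟨U, hUt, hy, hyU⟩
  refine Set.Finite.subset (Set.Finite.biUnion t.finite_toSet fun U _ => ?_) hsub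
  by_cases hxU : x ∈ U.1
  · have : IsNoetherianRing Γ(X, U.1) := IsLocallyNoetherian.component_noetherian U
    exact (finite_closure_inter_affine U.2 x hxU W hWo hW).1
  · convert Set.finite_empty
    rw [Set.eq_empty_iff_forall_notMem]
    rintro y ⟨hy1, hy2⟩
    rw [← specializes_iff_mem_closure] at hy1
    exact hxU (hy1.mem_open U.1.2 hy2)

/-- Global absence of chains. -/
theorem no_chain {X : Scheme.{u}} [IsLocallyNoetherian X] (x : X) (W : Set X) (hWo : IsOpen W)
    (hW : W ∩ closure {x} = {x}) (y z : X) (hxy : x ⤳ y) (hyz : y ⤳ z) (hyx : y ≠ x) : y = z := by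
  obtain ⟨U, hz⟩ := exists_affine_mem z
  have hy : y ∈ U.1 := hyz.mem_open U.1.2 hz
  have hx : x ∈ U.1 := hxy.mem_open U.1.2 hy
  have : IsNoetherianRing Γ(X, U.1) := IsLocallyNoetherian.component_noetherian U
  exact (finite_closure_inter_affine U.2 x hx W hWo hW).2 y z hy hz hxy hyz hyx

/-- In a finite T0 irreducible space the generic point is open. -/
theorem isOpen_singleton_genericPoint_of_finite (T : Type*) [TopologicalSpace T] [T0Space T]
    [QuasiSober T] [IrreducibleSpace T] [Finite T] : IsOpen ({genericPoint T} : Set T) := by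
  have h : ({genericPoint T} : Set T)ᶜ = ⋃ y ∈ {y : T | y ≠ genericPoint T}, closure {y} := by
    ext z
    simp only [Set.mem_compl_iff, Set.mem_singleton_iff, Set.mem_iUnion, Set.mem_ofPred_eq,
      exists_prop]
    constructor
    · intro hz
      exact ⟨z, hz, subset_closure rfl⟩
    · rintro ⟨y, hy, hzy⟩ rfl
      apply hy
      have h1 : y ⤳ genericPoint T := specializes_iff_mem_closure.mpr hzy
      have h2 : genericPoint T ⤳ y := genericPoint_specializes y
      exact (h1.antisymm h2).eq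
  rw [← isClosed_compl_iff, h]
  exact (Set.toFinite _).isClosed_biUnion fun _ _ => isClosed_closure

end Groth.Agent.Helper4.OpenGen
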