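import Mathlib
import Groth.Prelude.Def_FDesc
import Groth.Prelude.Def_EGA43
import Groth.Prelude.Def_MoreMor
import Groth.Agent.S4952
import Groth.Agent.Lib.Helper4.SecComp2

/-!
# EGA IV 15.6.3: semicontinuity of the dimension of the section components (S3419) (helper4)
-/

set_option backward.isDefEq.respectTransparency.types false
set_option synthInstance.maxHeartbeats 400000
set_option autoImplicit false
set_option linter.unusedSectionVars false
set_option linter.style.haveILetI false
set_option linter.unusedSimpArgs false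
universe u v w
open CategoryTheory CategoryTheory.Limits AlgebraicGeometry TopologicalSpace Topology TensorProduct

namespace Groth.Agent.Lib.Helper4.SecComp4

/-- EGA IV 15.6.3 -/
theorem S3419_main {X Y : Scheme.{u}} [IsLocallyNoetherian Y] (f : X ⟶ Y)
    [LocallyOfFiniteType f] (g : Y ⟶ X) (hg : g ≫ f = 𝟙 Y)
    (hirr : ∀ y : Y, IsIrreducible (connectedComponentIn (f.base ⁻¹' {y}) (g.base y))) :
    UpperSemicontinuous (fun y : Y => topologicalKrullDim ↥(connectedComponentIn (f.base ⁻¹' {y}) (g.base y))) ∧
      ∀ y : Y, (∃ V ∈ nhds y, ∀ z ∈ V, topologicalKrullDim ↥(connectedComponentIn (f.base ⁻¹' {z}) (g.base z)) = topologicalKrullDim ↥(connectedComponentIn (f.base ⁻¹' {y}) (g.base y))) →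
        ∀ y' : Y, y' ⤳ y → connectedComponentIn (f.base ⁻¹' {y}) (g.base y) ⊆ closure (connectedComponentIn (f.base ⁻¹' {y'}) (g.base y')) := by
  have hfg : ∀ t : Y, f (g t) = t := by
    intro t
    rw [← Scheme.Hom.comp_apply, hg]
    rfl
  constructor
  · have heq : (fun y : Y =>
        topologicalKrullDim ↥(connectedComponentIn (f.base ⁻¹' {y}) (g.base y))) =
        fun y : Y => FlatMor.fibreDimAt f (g y) := by
      funext y
      exact Groth.Agent.Lib.Helper4.SecComp2.dim_sectionComponent_eq_fibreDimAt f g hg y (hirr y)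
    rw [heq]
    exact Groth.Agent.Lib.Helper4.SecComp2.upperSemicontinuous_fibreDimAt_comp f g
  · rintro y ⟨V, hV, hVeq⟩ y' hy'
    have hy'V : y' ∈ V := mem_of_mem_nhds (hy' hV)
    have key := Groth.Agent.S4952.result f g hg y y' hy'
      ⟨connectedComponentIn (f.base ⁻¹' {y'}) (g.base y'), connectedComponentIn_subset _ _, hirr y',
        ?_, mem_connectedComponentIn (hfg y'), rfl⟩
    · exact key.2 (hirr y) (hVeq y' hy'V).symm
    · intro Z' hZ'irr hZ'y hsub
      apply subset_antisymm _ hsub
      apply hZ'irr.isPreirreducible.isPreconnected.subset_connectedComponentIn _ hZ'y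
      exact hsub (mem_connectedComponentIn (hfg y'))

end Groth.Agent.Lib.Helper4.SecComp4
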