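import Mathlib
import Groth.Agent.Lib.Helper4.SecNbhd1
import Groth.Agent.Lib.Helper4.DVRSec3
import Groth.Prelude.Def_EGA43

/-!
# EGA IV 15.6.7, quasi-compact case: section components are a neighbourhood of a geometrically reduced component along which the morphism is universally open (helper4) (helper4)
-/

set_option backward.isDefEq.respectTransparency.types false
set_option synthInstance.maxHeartbeats 400000
set_option autoImplicit false
set_option linter.unusedSectionVars false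
set_option linter.style.haveILetI false
set_option linter.unusedSimpArgs false
universe u v w
open CategoryTheory CategoryTheory.Limits AlgebraicGeometry TopologicalSpace Topology
open Groth.Agent.Helper7.GeomConn Groth.Agent.Lib.Helper4.SecNbhd1

namespace Groth.Agent.Lib.Helper4.SecNbhd2

/-- EGA IV 15.6.7 (quasi-compact case) -/
theorem nuo {X Y : Scheme.{u}} [IsLocallyNoetherian Y] (f : X ⟶ Y)
    [LocallyOfFiniteType f] [QuasiCompact f] (g : Y ⟶ X) (hg : g ≫ f = 𝟙 Y) (y : Y)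
    (hred : ∀ x' : ↥(f.fiber y), (f.fiberι y) x' ∈ connectedComponentIn (f ⁻¹' {y}) (g y) →
      FBase.IsGeomReducedAt (f.fiberToSpecResidueField y) x')
    (huo : ∀ x ∈ connectedComponentIn (f ⁻¹' {y}) (g y), EGA43.IsUnivOpenAt f x) :
    connectedComponentIn (f ⁻¹' {y}) (g y) ⊆ interior (MoreMor.sectionComponents f g) := by
  haveI : IsLocallyNoetherian X := LocallyOfFiniteType.isLocallyNoetherian f
  haveI : LocallyOfFinitePresentation f :=
    LocallyOfFinitePresentation.iff_locallyOfFiniteType.mpr inferInstance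
  have hLC := Groth.Agent.Lib.Helper4.GCSec5.isLocallyConstructible_sectionComponents f g hg
  intro x hx
  rw [mem_interior_iff_mem_nhds]
  apply Groth.Agent.Lib.Helper4.OpenNoeth1.mem_nhds_of_isLocallyConstructible _ hLC
  intro x' hsp
  have hfx : f x = y := (connectedComponentIn_subset (f ⁻¹' {y}) (g y)) hx
  by_cases hne : x' = x
  · subst hne
    exact (mem_sectionComponents_of_eq f g x' y hfx).mpr hx
  obtain ⟨A, _, _, _, h, hcl, hgen⟩ :=
    Groth.Agent.Lib.Helper4.UOp.exists_dvr_of_specializes x' x hsp hne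
  -- base change to the DVR
  have hc : IsPullback (pullback.fst f (h ≫ f)) (pullback.snd f (h ≫ f)) f (h ≫ f) :=
    IsPullback.of_hasPullback f (h ≫ f)
  have hgA' : (h ≫ f ≫ g) ≫ f = 𝟙 _ ≫ (h ≫ f) := by
    rw [Category.assoc, Category.assoc, hg]; simp
  have hgA : pullback.lift (h ≫ f ≫ g) (𝟙 _) hgA' ≫ pullback.snd f (h ≫ f) = 𝟙 _ :=
    pullback.lift_snd _ _ _
  have hgApr : pullback.lift (h ≫ f ≫ g) (𝟙 _) hgA' ≫ pullback.fst f (h ≫ f) = (h ≫ f) ≫ g := by
    rw [pullback.lift_fst, Category.assoc]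
  have hτ' : h ≫ f = 𝟙 _ ≫ (h ≫ f) := by simp
  have hτpr : pullback.lift h (𝟙 _) hτ' ≫ pullback.fst f (h ≫ f) = h := pullback.lift_fst _ _ _
  have hτf : pullback.lift h (𝟙 _) hτ' ≫ pullback.snd f (h ≫ f) = 𝟙 _ := pullback.lift_snd _ _ _
  have hbc := sectionComponents_baseChange f g hg (pullback.snd f (h ≫ f))
    (pullback.fst f (h ≫ f)) (h ≫ f) hc _ hgA hgApr
  have hlift : ∀ ξ : ↥(pullback f (h ≫ f)),
      (pullback.fst f (h ≫ f)) ξ ∈ connectedComponentIn (f ⁻¹' {y}) (g y) →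
      ∃ z' : ↥(pullback f (h ≫ f)), z' ⤳ ξ ∧
        (pullback.snd f (h ≫ f)) z' = (⟨⊥, Ideal.isPrime_bot⟩ : PrimeSpectrum A) := fun ξ hξ =>
    Groth.Agent.Lib.Helper4.UOp.dvr_lifting_of_isUnivOpenAt f _ (huo _ hξ) A (h ≫ f) ξ rfl
  have hlft : LocallyOfFiniteType (pullback.snd f (h ≫ f)) := inferInstance
  generalize hfA : pullback.snd f (h ≫ f) = fA at *
  generalize hpr : pullback.fst f (h ≫ f) = pr at *
  generalize hgAd : pullback.lift (h ≫ f ≫ g) (𝟙 _) hgA' = gA at *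
  generalize hτd : pullback.lift h (𝟙 _) hτ' = τ at *
  obtain ⟨s₀, hs₀⟩ : ∃ s₀ : ↥(Spec (CommRingCat.of A)), s₀ = IsLocalRing.closedPoint A := ⟨_, rfl⟩
  have hts₀ : (h ≫ f) s₀ = y := by rw [Scheme.Hom.comp_apply, hs₀, hcl, hfx]
  subst hts₀
  have hfAτ : ∀ a, fA (τ a) = a := fun a => by rw [← Scheme.Hom.comp_apply, hτf]; rfl
  have hprτ : ∀ a, pr (τ a) = h a := fun a => by rw [← Scheme.Hom.comp_apply, hτpr]
  have hxX0 : x ∈ MoreMor.sectionComponents f g :=
    (mem_sectionComponents_of_eq f g x _ hfx).mpr hx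
  have hxA : τ s₀ ∈ connectedComponentIn (fA ⁻¹' {s₀}) (gA s₀) := by
    rw [← mem_sectionComponents_of_eq fA gA (τ s₀) s₀ (hfAτ s₀), hbc, Set.mem_preimage, hprτ,
      hs₀, hcl]
    exact hxX0
  have hsp' : τ (⟨⊥, Ideal.isPrime_bot⟩ : PrimeSpectrum A) ⤳ τ s₀ := by
    apply Specializes.map _ τ.continuous
    exact (PrimeSpectrum.le_iff_specializes (⟨⊥, Ideal.isPrime_bot⟩ : PrimeSpectrum A) s₀).mp
      bot_le
  have hprmem : ∀ ξ : ↥(pullback f (h ≫ f)), ξ ∈ connectedComponentIn (fA ⁻¹' {s₀}) (gA s₀) →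
      pr ξ ∈ connectedComponentIn (f ⁻¹' {(h ≫ f) s₀}) (g ((h ≫ f) s₀)) := by
    intro ξ hξ
    have h1 : fA ξ = s₀ := (connectedComponentIn_subset (fA ⁻¹' {s₀}) (gA s₀)) hξ
    have h2 : ξ ∈ MoreMor.sectionComponents fA gA :=
      (mem_sectionComponents_of_eq fA gA _ s₀ h1).mpr hξ
    rw [hbc, Set.mem_preimage] at h2
    refine (mem_sectionComponents_of_eq f g _ _ ?_).mp h2
    rw [← Scheme.Hom.comp_apply, hc.w, Scheme.Hom.comp_apply, h1]
  have key := Groth.Agent.Lib.Helper4.DVRSec3.dvr_uo fA gA hgA s₀ hs₀ ?_ ?_ (τ s₀)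
    (τ (⟨⊥, Ideal.isPrime_bot⟩ : PrimeSpectrum A)) hxA hsp'
  · rw [hbc, Set.mem_preimage, hprτ, hgen] at key
    exact key
  rotate_left
  · intro ξ hξ
    obtain ⟨z', hz', hfz'⟩ := hlift ξ (hprmem ξ hξ)
    refine ⟨z', hz', ?_⟩
    rw [hfz', hs₀]
    exact Groth.Agent.Lib.Helper4.UOp.dvr_bot_ne_closedPoint A
  · intro z hz
    have h1 : fA (fA.fiberι s₀ z) = s₀ := by
      have h0 : fA.fiberι s₀ z ∈ fA ⁻¹' {s₀} := by
        rw [← fA.range_fiberι s₀]
        exact Set.mem_range_self z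
      exact h0
    have h2 : fA.fiberι s₀ z ∈ MoreMor.sectionComponents fA gA :=
      (mem_sectionComponents_of_eq fA gA _ s₀ h1).mpr hz
    rw [hbc, Set.mem_preimage] at h2
    refine isReduced_stalk_of_isGeomReducedAt (f.fiberToSpecResidueField ((h ≫ f) s₀))
      ((h ≫ f).residueFieldMap s₀) (fibreMap f fA pr (h ≫ f) hc s₀)
      (fA.fiberToSpecResidueField s₀) (isPullback_fibreMap f fA pr (h ≫ f) hc s₀) z (hred _ ?_)
    have h3 : f.fiberι ((h ≫ f) s₀) (fibreMap f fA pr (h ≫ f) hc s₀ z) = pr (fA.fiberι s₀ z) := by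
      rw [← Scheme.Hom.comp_apply, fibreMap_fiberι, Scheme.Hom.comp_apply]
    rw [h3]
    refine (mem_sectionComponents_of_eq f g _ _ ?_).mp h2
    rw [← Scheme.Hom.comp_apply, hc.w, Scheme.Hom.comp_apply, h1]

end Groth.Agent.Lib.Helper4.SecNbhd2
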