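import Mathlib
import Groth.Agent.Lib.Helper4.SecNbhd2
import Groth.Agent.Lib.Helper4.QCRed1
import Groth.Agent.Lib.Helper4.OpenTransfer1
import Groth.Agent.Lib.Helper4.SecRestrict1
import Groth.Agent.Lib.Helper6.RedFib.Sch

/-!
# EGA IV 15.6.7: section components are a neighbourhood of a geometrically reduced component along which the morphism is universally open (helper4) (helper4)
-/

set_option backward.isDefEq.respectTransparency.types false
set_option synthInstance.maxHeartbeats 400000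
set_option autoImplicit false
set_option linter.unusedSectionVars false
set_option linter.style.haveILetI false
set_option linter.unusedSimpArgs false
universe u v w
open CategoryTheory CategoryTheory.Limits AlgebraicGeometry TopologicalSpace Topology
open Groth.Agent.Helper7.GeomConn Groth.Agent.Lib.Helper4.SecNbhd1 Groth.Agent.Lib.Helper4.SecNbhd2
open Groth.Agent.Lib.Helper4.QCRed1 Groth.Agent.Lib.Helper4.OpenTransfer1
open Groth.Agent.Lib.Helper4.SecRestrict1

namespace Groth.Agent.Lib.Helper4.SecNbhd3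

/-- EGA IV 15.6.7 -/
theorem main1 {X Y : Scheme.{u}} [IsLocallyNoetherian Y] (f : X ⟶ Y) [LocallyOfFiniteType f]
    (g : Y ⟶ X) (hg : g ≫ f = 𝟙 Y) (y : Y)
    (H : ∀ x ∈ connectedComponentIn (f ⁻¹' {y}) (g y), EGA43.IsUnivOpenAt f x ∧
      FBase.IsGeomReducedAt (f.fiberToSpecResidueField (f x)) (f.asFiber x)) :
    connectedComponentIn (f ⁻¹' {y}) (g y) ⊆ interior (MoreMor.sectionComponents f g) := by
  intro x hx
  rw [mem_interior_iff_mem_nhds]
  obtain ⟨W, hWc, hgW, hxW⟩ := exists_compact_open_connectedComponentIn f y (g y) x hx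
  obtain ⟨V, U, f', g', hV, hU, hf', hg', hgf'⟩ := exists_restrict f g hg W
  have hyV : y ∈ V := by
    apply hV.ge
    exact hgW
  obtain ⟨v, rfl⟩ : ∃ v : ↥(V : Scheme.{u}), V.ι v = y := ⟨⟨y, hyV⟩, rfl⟩
  have hUW : (U : Set X) ∩ f ⁻¹' {V.ι v} = (W : Set X) ∩ f ⁻¹' {V.ι v} := by
    ext w
    constructor
    · rintro ⟨hw, hfw⟩
      exact ⟨(hU.le hw).1, hfw⟩
    · rintro ⟨hw, hfw⟩
      refine ⟨hU.ge ⟨hw, ?_⟩, hfw⟩
      show f w ∈ V
      rw [hfw]
      exact hyV
  obtain ⟨u, hux, hu⟩ := mem_connectedComponentIn_restrict f g U V f' g' hf' hg' v x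
    (by rw [hUW]; exact hxW)
  haveI : LocallyOfFiniteType (f' ≫ V.ι) := by rw [hf']; infer_instance
  haveI : LocallyOfFiniteType f' := locallyOfFiniteType_of_comp f' V.ι
  haveI : QuasiCompact f' := quasiCompact_restrict f W hWc U V f' hf' hU
  -- the component of the restriction maps into the component
  have hK : ∀ w : ↥(U : Scheme.{u}), w ∈ connectedComponentIn (f' ⁻¹' {v}) (g' v) →
      U.ι w ∈ connectedComponentIn (f ⁻¹' {V.ι v}) (g (V.ι v)) := by
    intro w hw
    have h1 : f' w = v := (connectedComponentIn_subset (f' ⁻¹' {v}) (g' v)) hw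
    have h2 : w ∈ MoreMor.sectionComponents f' g' :=
      (mem_sectionComponents_of_eq f' g' w v h1).mpr hw
    have h3 := mem_sectionComponents_of_restrict f g U V f' g' hf' hg' w h2
    refine (mem_sectionComponents_of_eq f g _ _ ?_).mp h3
    rw [← Scheme.Hom.comp_apply, ← hf', Scheme.Hom.comp_apply, h1]
  have key := nuo f' g' hgf' v ?_ ?_ hu
  · rw [mem_interior_iff_mem_nhds] at key
    have h1 : U.ι '' (MoreMor.sectionComponents f' g') ∈ nhds (U.ι u) :=
      U.ι.isOpenEmbedding.image_mem_nhds.mpr key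
    rw [hux] at h1
    refine Filter.mem_of_superset h1 ?_
    rintro _ ⟨w, hw, rfl⟩
    exact mem_sectionComponents_of_restrict f g U V f' g' hf' hg' w hw
  · intro z hz
    obtain ⟨ψ, hψo, hψ1, hψ2⟩ :=
      Groth.Agent.Lib.Helper6.RedFib.exists_fiber_chart f U.ι V.ι f' hf' v
    haveI := hψo
    haveI : IsIso (Spec.map (V.ι.residueFieldMap v)) := inferInstance
    have hmono : Mono (Spec.map (V.ι.residueFieldMap v)) := inferInstance
    refine @isGeomReducedAt_of_isOpenImmersion _ _ _ _ _ _ (f.fiberToSpecResidueField (V.ι v))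
      (f'.fiberToSpecResidueField v) ψ hψo (V.ι.residueFieldMap v) hmono hψ1.symm z ?_
    refine isGeomReducedAt_fiber_of_asFiber f (V.ι v)
      (connectedComponentIn (f ⁻¹' {V.ι v}) (g (V.ι v))) (fun x hx _ => (H x hx).2) (ψ z) ?_
    have h5 : f.fiberι (V.ι v) (ψ z) = U.ι (f'.fiberι v z) := by
      rw [← Scheme.Hom.comp_apply, hψ2, Scheme.Hom.comp_apply]
    rw [h5]
    exact hK _ hz
  · intro w hw
    exact isUnivOpenAt_of_isOpenImmersion f U.ι V.ι f' hf' w (H _ (hK w hw)).1

/-- EGA IV 15.6.7, second part -/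
theorem main2 {X Y : Scheme.{u}} [IsLocallyNoetherian Y] (f : X ⟶ Y) [LocallyOfFiniteType f]
    (g : Y ⟶ X) (hg : g ≫ f = 𝟙 Y) [UniversallyOpen f]
    (H : ∀ x ∈ MoreMor.sectionComponents f g,
      FBase.IsGeomReducedAt (f.fiberToSpecResidueField (f x)) (f.asFiber x)) :
    IsOpen (MoreMor.sectionComponents f g) := by
  rw [← subset_interior_iff_isOpen]
  intro x hx
  have hx' : x ∈ connectedComponentIn (f ⁻¹' {f x}) (g (f x)) := hx
  refine main1 f g hg (f x) ?_ hx'
  intro x₁ hx₁
  refine ⟨?_, ?_⟩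
  · intro Y' g' x' _ N hN
    exact (pullback.snd f g').isOpenMap.image_mem_nhds hN
  · apply H
    have h1 : f x₁ = f x := (connectedComponentIn_subset (f ⁻¹' {f x}) (g (f x))) hx₁
    exact (mem_sectionComponents_of_eq f g x₁ (f x) h1).mpr hx₁

end Groth.Agent.Lib.Helper4.SecNbhd3
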