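import Mathlib
import Groth.Prelude.Def_Cyc
import Groth.Agent.Lib.Helper4.JacDim1
import Groth.Prelude.Def_EGA43
import Groth.Agent.Lib.Helper4.FibreStalkDim1
import Groth.Agent.Lib.Helper4.DimFT1
import Groth.Agent.Lib.Helper4.DimFT2
import Groth.Agent.Lib.Helper4.Chev8
import Groth.Agent.Lib.Helper4.FibDim7
import Groth.Agent.Lib.Helper4.EffCartierDim1
import Groth.Agent.Lib.Helper4.JacDim4
import Groth.Agent.Lib.Helper4.Chev9
import Groth.Agent.Lib.Helper4.Chev10
import Groth.Agent.Lib.Helper4.Chev11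
import Groth.Agent.Lib.Helper4.Equi1
import Groth.Agent.Lib.Helper4.Equi2
import Groth.Agent.Lib.Helper4.Equi3
import Groth.Agent.Lib.Helper4.Equi4
import Groth.Agent.Lib.Helper4.Equi5
import Groth.Agent.Lib.Helper4.Equi6
import Groth.Agent.Lib.Helper4.Equi7
import Groth.Agent.Lib.Helper4.Aff1
import Groth.Agent.Lib.Helper4.Aff2
import Groth.Agent.Lib.Helper4.Equi10
import Groth.Agent.Lib.Helper4.Val1
import Groth.Agent.Lib.Helper4.BaseChg1
import Groth.Agent.Lib.Helper4.UnivOpen1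
import Groth.Agent.Lib.Helper4.FibClosure1
import Groth.Agent.Lib.Helper4.OpenNoeth1
import Groth.Agent.Lib.Helper4.SecComp1
import Groth.Agent.Lib.Helper4.SecComp2
import Groth.Agent.Lib.Helper4.UnivOpen2
import Groth.Agent.Lib.Helper4.UnivOpenAt
import Groth.Agent.Lib.Helper4.RegularLocalCopy
import Groth.Agent.Lib.Helper4.ZMTNormalPt1
import Groth.Agent.Lib.Helper4.LocFinComp1
import Groth.Agent.Lib.Helper4.SecComp3
import Groth.Agent.Lib.Helper4.PropDim1
import Groth.Prelude.Def_FDesc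
import Groth.Prelude.Def_MoreMor
import Groth.Agent.Lib.Helper4.ChevCrit1
import Groth.Agent.Lib.Helper4.ChevCrit2
import Groth.Agent.Lib.Helper4.ChevCrit3
import Groth.Agent.Lib.Helper4.IrrCompDomain1
import Groth.Agent.Lib.Helper4.ChevCrit4
import Groth.Agent.Lib.Helper4.ChevCrit5
import Groth.Agent.Lib.Helper4.ChevCrit6
import Groth.Agent.Lib.Helper4.ChevCrit7
import Groth.Agent.Lib.Helper4.DedekindOpen1
import Groth.Agent.Lib.Helper4.UnivOpenT1
import Groth.Agent.Lib.Helper4.DvrFlat1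
import Groth.Agent.Lib.Helper4.SatChain1
import Groth.Agent.Lib.Helper4.FlatDimK1
import Groth.Agent.Lib.Helper4.BaseChgMax1
import Groth.Agent.Lib.Helper4.ProdDim1
import Groth.Agent.Lib.Helper4.FibDimBC1
import Groth.Agent.Lib.Helper4.FibMap1
import Groth.Agent.Lib.Helper4.GenFib1
import Groth.Agent.Lib.Helper4.EquiBC1
import Groth.Agent.Lib.Helper4.ValFlat15
import Groth.Agent.S3407
import Groth.Agent.S3420
import Groth.Agent.Lib.Helper4.SecRestrict1
import Groth.Agent.Lib.Helper4.ValFlat12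
import Groth.Agent.Lib.Helper4.ValFlat13
import Groth.Agent.Lib.Helper4.SecComp4

/-!
# EGA IV 14.2: the set of dimensions of the components of the fibres of an open morphism (S4923) (helper4) (helper4)
-/

set_option backward.isDefEq.respectTransparency.types false
set_option synthInstance.maxHeartbeats 400000
set_option autoImplicit false
set_option linter.unusedSectionVars false
set_option linter.style.haveILetI false
set_option linter.unusedSimpArgs false
universe u v w
open CategoryTheory CategoryTheory.Limits AlgebraicGeometry TopologicalSpace IsLocalRing Opposite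
open Cardinal AffineSpace MvPolynomial
open Groth.Agent.Lib.Helper4.DimIneq1 Groth.Agent.Lib.Helper4.DimFT2 Groth.Agent.Lib.Helper4.Catenary1
open Groth.Agent.Lib.Helper4.DimEq1 Groth.Agent.Lib.Helper4.DimIneq2 Groth.Agent.Lib.Helper4.DimEq2
open Groth.Agent.Lib.Helper4.DimIneq3 Groth.Agent.Lib.Helper4.DimIneq4
open Groth.Agent.Lib.Helper4.NormFibre2 Groth.Agent.Lib.Helper4.RadBir3 Groth.Agent.Lib.Helper4.DimFT3
open Groth.Agent.Lib.Helper4.FibDim1 Groth.Agent.Lib.Helper4.FibDim2 Groth.Agent.Lib.Helper4.LocUC1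
open Groth.Agent.Lib.Helper4.FibDim3 Groth.Agent.Lib.Helper4.FibDim4 Groth.Agent.Lib.Helper4.FibDim5
open Groth.Agent.Lib.Helper4.FibDim6 Groth.Agent.Lib.Helper4.FibDim7 Groth.Agent.Lib.Helper4.JacDim1
open Groth.Agent.Lib.Helper4.DimFT1
open Groth.Agent.Lib.Helper4.Chev2 Groth.Agent.Lib.Helper4.Chev5 Groth.Agent.Lib.Helper4.Chev6 Groth.Agent.Lib.Helper4.Chev8
open Groth.Agent.Lib.Helper4.JacDim4 Groth.Agent.Lib.Helper4.EffCartierDim1
open Groth.Agent.Lib.Helper4.Chev9 Groth.Agent.Lib.Helper4.Chev4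
open Groth.Agent.Lib.Helper4.Chev10 Groth.Agent.Lib.Helper4.Chev11 Groth.Agent.Lib.Helper4.Chev3 Groth.Agent.Lib.Helper4.Equi1 Groth.Agent.Lib.Helper4.Equi2 Groth.Agent.Lib.Helper4.OpenAt1 Groth.Agent.Lib.Helper4.Equi3 Groth.Agent.Lib.Helper4.Equi4 Groth.Agent.Lib.Helper4.Equi5 Groth.Agent.Lib.Helper4.Equi6 Groth.Agent.Lib.Helper4.Equi7 Groth.Agent.Lib.Helper4.Aff1 Groth.Agent.Lib.Helper4.Aff2 Groth.Agent.Lib.Helper4.Equi10 Groth.Agent.Lib.Helper4.Val1 Groth.Agent.Lib.Helper4.BaseChg1 Groth.Agent.Lib.Helper4.UnivOpen1 Groth.Agent.Lib.Helper4.FibClosure1 Groth.Agent.Lib.Helper4.OpenNoeth1 Groth.Agent.Lib.Helper4.SecComp1 Groth.Agent.Lib.Helper4.SecComp2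
open Groth.Agent.Lib.Helper4.SecComp3 Groth.Agent.Lib.Helper4.PropDim1 Groth.Agent.Lib.Helper4.ZMTNormalPt1 Groth.Agent.Lib.Helper4.UO Groth.Agent.Lib.Helper4.UOp
open Groth.Agent.Lib.Helper4.ChevCrit1 Groth.Agent.Lib.Helper4.ChevCrit2 Groth.Agent.Lib.Helper4.ChevCrit3
open Groth.Agent.Lib.Helper4.IrrCompDomain1 Groth.Agent.Lib.Helper4.RadBir1
open Groth.Agent.Lib.Helper4.ChevCrit4
open Groth.Agent.Lib.Helper4.ChevCrit5
open Groth.Agent.Lib.Helper4.DedekindOpen1 Groth.Agent.Lib.Helper4.UnivOpenT1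
open Groth.Agent.Lib.Helper4.ChevCrit7
open Groth.Agent.Lib.Helper4.DvrFlat1 Groth.Agent.Lib.Helper4.FlatDimK1 Groth.Agent.Lib.Helper4.BaseChgMax1 Groth.Agent.Lib.Helper4.ProdDim1 Groth.Agent.Lib.Helper4.FibDimBC1 Groth.Agent.Lib.Helper4.FibMap1 Groth.Agent.Lib.Helper4.GenFib1

namespace Groth.Agent.Lib.Helper4.OpenNoeth2
open Topology

section A
variable {X Y : Scheme.{u}} (f : X ⟶ Y) [LocallyOfFiniteType f]

/-- the dimension of the closure of a point of a fibre is its residual transcendence degree -/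
theorem dim_closure_eq_tr [IsLocallyNoetherian Y] (y : Y) (w : f.fiber y) :
    topologicalKrullDim ↥(closure ({w} : Set ↥(f.fiber y))) =
      ((tr f (f.fiberι y w) : ℕ) : WithBot ℕ∞) := by
  rw [← tr_fiber f y w, dim_closure_singleton (f.fiber y) w]
  have hall : ∀ w' : f.fiber y, (f.fiberToSpecResidueField y) w' = (f.fiberToSpecResidueField y) w := by
    intro w'
    rw [Scheme.Hom.fiberToSpecResidueField_apply, Scheme.Hom.fiberToSpecResidueField_apply]
  let ψ : ↥(f.fiber y) ≃o {w' : ↥(f.fiber y) // (f.fiberToSpecResidueField y) w' =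
      (f.fiberToSpecResidueField y) w} :=
    { toFun := fun w' => ⟨w', hall w'⟩
      invFun := fun w' => w'.1
      left_inv := fun _ => rfl
      right_inv := fun _ => rfl
      map_rel_iff' := Iff.rfl }
  have h4 := height_fib_eq' (f.fiberToSpecResidueField y) ((f.fiberToSpecResidueField y) w) w rfl
  have h5 : Order.height w = Order.height (ψ w) := (Order.height_orderIso ψ w).symm
  have h6 : ψ w = ⟨w, rfl⟩ := rfl
  rw [h5, h6, h4]
  rfl

/-- the dimensions of the irreducible components of a fibre are the residual transcendence degrees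
of its maximal points -/
theorem mem_compDims_iff [IsLocallyNoetherian Y] (z : Y) (d : WithBot ℕ∞) :
    d ∈ (fun Z : Set ↥(f.fiber z) => topologicalKrullDim ↥Z) '' irreducibleComponents ↥(f.fiber z) ↔
      ∃ ξ : X, f ξ = z ∧ (∀ ξ' : X, f ξ' = f ξ → ξ' ⤳ ξ → ξ' = ξ) ∧
        ((tr f ξ : ℕ) : WithBot ℕ∞) = d := by
  have hemb := (f.fiberι z).isEmbedding
  constructor
  · rintro ⟨Z, hZ, rfl⟩
    obtain ⟨w, hwmax, hw⟩ := exists_isMax_closure_eq (f.fiber z) Z hZ
    refine ⟨f.fiberι z w, fiberι_mem f z w, ?_, ?_⟩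
    · intro ξ' h1 h2
      obtain ⟨w', rfl⟩ : ξ' ∈ Set.range (f.fiberι z) := by
        rw [f.range_fiberι]
        exact h1.trans (fiberι_mem f z w)
      have h3 : w' ⤳ w := hemb.isInducing.specializes_iff.mp h2
      have h4 : w ⤳ w' := hwmax h3
      rw [(h3.antisymm h4).eq]
    · show _ = topologicalKrullDim ↥Z
      rw [← hw, dim_closure_eq_tr]
  · rintro ⟨ξ, rfl, hmax, rfl⟩
    obtain ⟨w, hw⟩ : ξ ∈ Set.range (f.fiberι (f ξ)) := by
      rw [f.range_fiberι]; rfl
    have hwmax : IsMax w := by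
      intro b hb
      have hb' : b ⤳ w := hb
      have h1 : f.fiberι (f ξ) b ⤳ ξ := by
        have := hb'.map (f.fiberι (f ξ)).continuous
        rwa [hw] at this
      have h2 := hmax _ (fiberι_mem f _ b) h1
      have : b = w := hemb.injective (h2.trans hw.symm)
      rw [this]
    refine ⟨closure {w}, closure_mem_irreducibleComponents_of_isMax (f.fiber (f ξ)) w hwmax, ?_⟩
    show topologicalKrullDim ↥(closure ({w} : Set ↥(f.fiber (f ξ)))) = _
    rw [dim_closure_eq_tr, hw]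

end A


section B
variable {X Y : Scheme.{u}} (f : X ⟶ Y) [LocallyOfFiniteType f]

theorem isOpenAt_of_isOpenMap (hf : IsOpenMap f.base) (x : X) : EGA43.IsOpenAt f.base x := by
  intro W hW
  obtain ⟨O, hOW, hO, hzO⟩ := mem_nhds_iff.mp hW
  exact Filter.mem_of_superset ((hf O hO).mem_nhds ⟨x, hzO, rfl⟩) (Set.image_mono hOW)

/-- for an open morphism, the set of dimensions of the components of the fibres grows under
generization -/
theorem compDims_subset_of_specializes [IsLocallyNoetherian Y] (hf : IsOpenMap f.base)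
    (w t : Y) (h : t ⤳ w) :
    (fun Z : Set ↥(f.fiber w) => topologicalKrullDim ↥Z) '' irreducibleComponents ↥(f.fiber w) ⊆
      (fun Z : Set ↥(f.fiber t) => topologicalKrullDim ↥Z) '' irreducibleComponents ↥(f.fiber t) := by
  intro d hd
  rw [mem_compDims_iff] at hd ⊢
  obtain ⟨ξ, rfl, hmax, rfl⟩ := hd
  obtain ⟨ξ₁, h1, h2, h3, h4⟩ := exists_generization_tr_eq_of_isOpenAt f ξ hmax
    (isOpenAt_of_isOpenMap f hf ξ) t h
  exact ⟨ξ₁, h1, h3, by rw [h4]⟩

/-- the locus where the fibre has a component of dimension `n` is the image of the locus where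
the local dimension of the fibre is `n` -/
theorem setOf_mem_compDims_eq [IsLocallyNoetherian Y] (n : ℕ) :
    {z : Y | ((n : ℕ) : WithBot ℕ∞) ∈ (fun Z : Set ↥(f.fiber z) => topologicalKrullDim ↥Z) ''
      irreducibleComponents ↥(f.fiber z)} =
    f.base '' ({x : X | FlatMor.fibreDimAt f x ≤ (n : WithBot ℕ∞)} ∩
      {x : X | ((n : ℕ) : WithBot ℕ∞) ≤ FlatMor.fibreDimAt f x}) := by
  ext z
  rw [Set.mem_ofPred_eq, mem_compDims_iff]
  constructor
  · rintro ⟨ξ, rfl, hmax, hd⟩
    have h1 := fibreDimAt_eq_tr_of_max_nn f ξ hmax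
    refine ⟨ξ, ⟨?_, ?_⟩, rfl⟩
    · show FlatMor.fibreDimAt f ξ ≤ _
      rw [h1, hd]
    · show _ ≤ FlatMor.fibreDimAt f ξ
      rw [h1, hd]
  · rintro ⟨x, ⟨h1, h2⟩, rfl⟩
    obtain ⟨z, hz1, hz2, hz3, hz4⟩ := exists_max_tr_eq_fibreDimAt f x
    refine ⟨z, hz1, hz3, ?_⟩
    rw [hz4]
    exact le_antisymm h1 h2

theorem isLocallyConstructible_setOf_mem_compDims [IsLocallyNoetherian Y] [QuasiCompact f]
    (n : ℕ) :
    IsLocallyConstructible {z : Y | ((n : ℕ) : WithBot ℕ∞) ∈
      (fun Z : Set ↥(f.fiber z) => topologicalKrullDim ↥Z) '' irreducibleComponents ↥(f.fiber z)} := by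
  haveI : IsLocallyNoetherian X := LocallyOfFiniteType.isLocallyNoetherian f
  haveI : LocallyOfFinitePresentation f :=
    LocallyOfFinitePresentation.iff_locallyOfFiniteType.mpr inferInstance
  rw [setOf_mem_compDims_eq]
  apply f.isLocallyConstructible_image
  exact isLocallyConstructible_of_isOpen_inter_isClosed _ _ (S0402_main f n)
    (isClosed_setOf_le_fibreDimAt f _)

theorem finite_compDims [QuasiCompact f] (y : Y) :
    ((fun Z : Set ↥(f.fiber y) => topologicalKrullDim ↥Z) '' irreducibleComponents ↥(f.fiber y)).Finite := by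
  haveI : QuasiCompact (f.fiberToSpecResidueField y) := by
    unfold Scheme.Hom.fiberToSpecResidueField
    infer_instance
  haveI : CompactSpace ↥(f.fiber y) := by
    have := QuasiCompact.isCompact_preimage (f := f.fiberToSpecResidueField y) Set.univ isOpen_univ
      isCompact_univ
    rw [Set.preimage_univ] at this
    exact isCompact_univ_iff.mp this
  haveI : IsLocallyNoetherian (f.fiber y) :=
    LocallyOfFiniteType.isLocallyNoetherian (f.fiberToSpecResidueField y)
  haveI : IsNoetherian (f.fiber y) := {}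
  haveI : NoetherianSpace ↥(f.fiber y) := inferInstance
  exact (TopologicalSpace.NoetherianSpace.finite_irreducibleComponents).image _

end B

/-- maximal points of an open subscheme are maximal -/
theorem max_of_isMax_opens {Y : Scheme.{u}} (W₀ : Y.Opens) (σ : ↥(W₀ : Scheme.{u})) (hσ : IsMax σ)
    (y'' : Y) (hy'' : y'' ⤳ W₀.ι σ) : y'' = W₀.ι σ := by
  have hy''W : y'' ∈ (W₀ : Set Y) := by
    have : (W₀ : Set Y) ∈ nhds (W₀.ι σ) := W₀.2.mem_nhds (by
      have := Set.mem_range_self (f := W₀.ι) σ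
      rwa [Scheme.Opens.range_ι] at this)
    exact mem_of_mem_nhds (hy'' this)
  obtain ⟨σ'', rfl⟩ : y'' ∈ Set.range W₀.ι := by
    rw [Scheme.Opens.range_ι]; exact hy''W
  have hsp : σ'' ⤳ σ := W₀.ι.isOpenEmbedding.isInducing.specializes_iff.mp hy''
  have h2 : σ ⤳ σ'' := hσ hsp
  rw [(hsp.antisymm h2).eq]

/-- EGA IV 14.2.x -/
theorem S4923_main {X Y : Scheme.{u}}
    [IsLocallyNoetherian Y] (f : X ⟶ Y) [LocallyOfFiniteType f] [QuasiCompact f] (hf : IsOpenMap f.base) (y : Y) :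
    letI E : Y → Set (WithBot ℕ∞) := fun z =>
      (fun Z : Set ↥(f.fiber z) => topologicalKrullDim ↥Z) '' irreducibleComponents ↥(f.fiber z)
    (∀ η : Y, y ∈ closure {η} → closure {η} ∈ irreducibleComponents (Y : Type u) → E y = E η) →
      ∃ V ∈ nhds y, ∀ z ∈ V, E z = E y := by
  intro hE
  let E : Y → Set (WithBot ℕ∞) := fun z =>
      (fun Z : Set ↥(f.fiber z) => topologicalKrullDim ↥Z) '' irreducibleComponents ↥(f.fiber z)
  change ∀ η : Y, y ∈ closure {η} → closure {η} ∈ irreducibleComponents (Y : Type u) →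
    E y = E η at hE
  change ∃ V ∈ nhds y, ∀ z ∈ V, E z = E y
  obtain ⟨W₀, hW₀, hyW₀, -⟩ := exists_isAffineOpen_mem_and_subset (U := (⊤ : Y.Opens))
    (x := y) trivial
  haveI : IsNoetherianRing Γ(Y, W₀) := IsLocallyNoetherian.component_noetherian ⟨W₀, hW₀⟩
  haveI : NoetherianSpace ↥(W₀ : Scheme.{u}) := noetherianSpace_of_isAffineOpen W₀ hW₀
  obtain ⟨U, hUo, hyU, hU⟩ := exists_nhd_max_gen (W₀ : Scheme.{u}) (fun w => W₀.ι w)
    W₀.ι.continuous y
  have hfin : (E y).Finite := finite_compDims f y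
  have hS : ∀ d ∈ E y, {z : Y | d ∈ E z} ∈ nhds y := by
    intro d hd
    obtain ⟨ξ, -, -, rfl⟩ := (mem_compDims_iff f y d).mp hd
    apply mem_nhds_of_isLocallyConstructible _ (isLocallyConstructible_setOf_mem_compDims f _)
    intro y' hy'
    exact compDims_subset_of_specializes f hf y y' hy' hd
  refine ⟨(U ∩ (W₀ : Set Y)) ∩ ⋂ d ∈ E y, {z : Y | d ∈ E z},
    Filter.inter_mem (Filter.inter_mem (hUo.mem_nhds hyU) (W₀.2.mem_nhds hyW₀))
      ((Filter.biInter_mem hfin).mpr hS), ?_⟩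
  rintro z ⟨⟨hzU, hzW⟩, hz2⟩
  apply subset_antisymm
  · obtain ⟨w, rfl⟩ : z ∈ Set.range W₀.ι := by
      rw [Scheme.Opens.range_ι]; exact hzW
    obtain ⟨σ, hσw, hσy, hσmax⟩ := hU w hzU
    have hmax := max_of_isMax_opens W₀ σ hσmax
    have hcomp : closure ({W₀.ι σ} : Set Y) ∈ irreducibleComponents (Y : Type u) :=
      closure_mem_irreducibleComponents_of_isMax Y _ (isMax_of_forall _ hmax)
    rw [hE _ hσy.mem_closure hcomp]
    exact compDims_subset_of_specializes f hf _ _ (hσw.map W₀.ι.continuous)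
  · intro d hd
    simp only [Set.mem_iInter] at hz2
    exact hz2 d hd

end Groth.Agent.Lib.Helper4.OpenNoeth2
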