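import Mathlib
import Groth.Prelude.Def_W4c6brauerbgmalleOrbPic

namespace Groth.Agent.Helper4.OP

open Groth W4c6brauerbgmalle

universe u v

variable {G : Type u} [Group G]

theorem char_eq_of_eqOn_closure (C : Set G) (hC : Subgroup.closure C = ⊤)
    (χ χ' : Additive G →+ QmodZ)
    (h : ∀ g ∈ C, χ (Additive.ofMul g) = χ' (Additive.ofMul g)) : χ = χ' := by
  let S : Subgroup G :=
    { carrier := {g | χ (Additive.ofMul g) = χ' (Additive.ofMul g)}
      one_mem' := by simp
      mul_mem' := fun {a b} ha hb => by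
        simp only [Set.mem_ofPred_eq] at ha hb ⊢
        rw [ofMul_mul, map_add, map_add, ha, hb]
      inv_mem' := fun {a} ha => by
        simp only [Set.mem_ofPred_eq] at ha ⊢
        rw [ofMul_inv, map_neg, map_neg, ha] }
  have hS : Subgroup.closure C ≤ S := (Subgroup.closure_le S).mpr h
  rw [hC] at hS
  ext g
  exact hS (Subgroup.mem_top (Additive.toMul g))

theorem toQmodZ_eq_zero_iff (q : ℚ) : toQmodZ q = 0 ↔ ∃ n : ℤ, q = n := by
  rw [QuotientAddGroup.mk'_apply, QuotientAddGroup.eq_zero_iff, AddSubgroup.mem_zmultiples_iff]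
  constructor
  · rintro ⟨n, hn⟩
    exact ⟨n, by rw [← hn]; simp⟩
  · rintro ⟨n, rfl⟩
    exact ⟨n, by simp⟩

/-- S18951 -/
theorem weight_injective (C : Set G) (hC : Subgroup.closure C = ⊤) :
    Set.InjOn (fun p : (Additive G →+ QmodZ) × (G → ℚ) => p.2) (picOrb G C) ∧
      (∀ w ∈ intWeights G C, ((0 : Additive G →+ QmodZ), w) ∈ picOrb G C) ∧
      ∀ (n : ℕ) (p : (Additive G →+ QmodZ) × (G → ℚ)), p ∈ picOrb G C → n ≠ 0 →
        n • p = 0 → p = 0 := by
  have hinj : Set.InjOn (fun p : (Additive G →+ QmodZ) × (G → ℚ) => p.2) (picOrb G C) := by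
    rintro ⟨χ, w⟩ ⟨_, _, _, h4⟩ ⟨χ', w'⟩ ⟨_, _, _, h4'⟩ (hw : w = w')
    subst hw
    have : χ = χ' := char_eq_of_eqOn_closure C hC χ χ' fun g hg => by
      rw [← h4 g hg, ← h4' g hg]
    rw [this]
  refine ⟨hinj, ?_, ?_⟩
  · rintro w ⟨h1, h2, h3, h4⟩
    refine ⟨h1, h2, h3, fun g _ => ?_⟩
    change toQmodZ (w g) = (0 : Additive G →+ QmodZ) (Additive.ofMul g)
    rw [AddMonoidHom.zero_apply, toQmodZ_eq_zero_iff]
    exact h4 g
  · intro n p hp hn hnp
    apply hinj hp (picOrb G C).zero_mem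
    have h2 : n • p.2 = 0 := congrArg Prod.snd hnp
    change p.2 = 0
    funext g
    have h3 : n • p.2 g = 0 := congrFun h2 g
    rw [nsmul_eq_mul] at h3
    rcases mul_eq_zero.mp h3 with h | h
    · exact absurd (by exact_mod_cast h) hn
    · exact h

/-- S18952 -/
theorem character_surjective_and_kernel (C : Set G)
    (hC : ∀ g h : G, g ∈ C → h * g * h⁻¹ ∈ C) :
    (∀ χ : Additive G →+ QmodZ, ∃ w : G → ℚ, (χ, w) ∈ picOrb G C) ∧
      (∀ p : (Additive G →+ QmodZ) × (G → ℚ), p ∈ picOrb G C → p.1 = 0 →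
        p.2 ∈ intWeights G C) := by
  classical
  constructor
  · intro χ
    refine ⟨fun g => if g ∈ C ∧ g ≠ 1 then Quotient.out (χ (Additive.ofMul g)) else 0,
      ?_, ?_, ?_, ?_⟩
    · simp
    · intro g hg
      simp [hg]
    · intro g h
      have h1 : (h * g * h⁻¹ ∈ C ∧ h * g * h⁻¹ ≠ 1) ↔ (g ∈ C ∧ g ≠ 1) := by
        constructor
        · rintro ⟨h1, h2⟩
          refine ⟨?_, fun hg => h2 (by rw [hg]; group)⟩
          have := hC _ h⁻¹ h1
          simpa [mul_assoc] using this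
        · rintro ⟨h1, h2⟩
          refine ⟨hC g h h1, fun hg => h2 ?_⟩
          have : g = h⁻¹ * (h * g * h⁻¹) * h := by group
          rw [this, hg]; group
      have h2 : χ (Additive.ofMul (h * g * h⁻¹)) = χ (Additive.ofMul g) := by
        rw [ofMul_mul, ofMul_mul, ofMul_inv, map_add, map_add, map_neg]
        abel
      simp only [h1, h2]
    · intro g hg
      by_cases h1 : g = 1
      · subst h1
        simp
      · simp only [hg, h1, ne_eq, not_false_eq_true, and_self, if_true]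
        exact Quotient.out_eq' _
  · rintro ⟨χ, w⟩ ⟨h1, h2, h3, h4⟩ (hχ : χ = 0)
    subst hχ
    refine ⟨h1, h2, h3, fun g => ?_⟩
    by_cases hg : g ∈ C
    · have := h4 g hg
      rw [AddMonoidHom.zero_apply, toQmodZ_eq_zero_iff] at this
      exact this
    · exact ⟨0, by rw [h2 g hg]; simp⟩

end Groth.Agent.Helper4.OP
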