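import Mathlib
import Groth.Prelude.Def_W4c6brauerbgmalleOrbPic

namespace Groth.Agent.Helper4.OP

open Groth W4c6brauerbgmalle

universe u v

variable (G₁ : Type u) (G₂ : Type v) [Group G₁] [Group G₂] (C₁ : Set G₁) (C₂ : Set G₂)

/-- The union set. -/
def prodSet : Set (G₁ × G₂) :=
  (fun g => (g, (1 : G₂))) '' C₁ ∪ (fun g => ((1 : G₁), g)) '' C₂

variable {G₁ G₂ C₁ C₂}

theorem mem_prodSet_iff (g₁ : G₁) (g₂ : G₂) :
    (g₁, g₂) ∈ prodSet G₁ G₂ C₁ C₂ ↔ (g₁ ∈ C₁ ∧ g₂ = 1) ∨ (g₁ = 1 ∧ g₂ ∈ C₂) := by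
  simp only [prodSet, Set.mem_union, Set.mem_image, Prod.mk.injEq]
  constructor
  · rintro (⟨g, hg, rfl, rfl⟩ | ⟨g, hg, rfl, rfl⟩)
    · exact Or.inl ⟨hg, rfl⟩
    · exact Or.inr ⟨rfl, hg⟩
  · rintro (⟨hg, rfl⟩ | ⟨rfl, hg⟩)
    · exact Or.inl ⟨g₁, hg, rfl, rfl⟩
    · exact Or.inr ⟨g₂, hg, rfl, rfl⟩

theorem ofMul_pair (g₁ : G₁) (g₂ : G₂) :
    Additive.ofMul (g₁, g₂) = Additive.ofMul ((g₁, (1 : G₂))) + Additive.ofMul (((1 : G₁), g₂)) := by
  rw [← ofMul_mul]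
  simp

/-- S18953 -/
theorem prod_bijOn :
    Set.BijOn
      (fun p : (Additive (G₁ × G₂) →+ QmodZ) × (G₁ × G₂ → ℚ) =>
        ((p.1.comp (MonoidHom.toAdditive (MonoidHom.inl G₁ G₂)), fun g => p.2 (g, 1)),
          (p.1.comp (MonoidHom.toAdditive (MonoidHom.inr G₁ G₂)), fun g => p.2 (1, g))))
      (picOrb (G₁ × G₂) (prodSet G₁ G₂ C₁ C₂))
      ((picOrb G₁ C₁ : Set _) ×ˢ (picOrb G₂ C₂ : Set _)) := by
  classical
  refine ⟨?_, ?_, ?_⟩
  · rintro ⟨χ, w⟩ ⟨h1, h2, h3, h4⟩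
    dsimp only at h1 h2 h3 h4
    refine ⟨⟨h1, fun g hg => ?_, fun g h => ?_, fun g hg => ?_⟩,
      ⟨h1, fun g hg => ?_, fun g h => ?_, fun g hg => ?_⟩⟩
    · by_cases hg1 : g = 1
      · subst hg1; exact h1
      · apply h2
        rw [mem_prodSet_iff]
        rintro (⟨h, _⟩ | ⟨h, _⟩)
        · exact hg h
        · exact hg1 h
    · have := h3 (g, 1) (h, 1)
      simpa using this
    · have := h4 (g, 1) ((mem_prodSet_iff _ _).mpr (Or.inl ⟨hg, rfl⟩))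
      exact this
    · by_cases hg1 : g = 1
      · subst hg1; exact h1
      · apply h2
        rw [mem_prodSet_iff]
        rintro (⟨_, h⟩ | ⟨_, h⟩)
        · exact hg1 h
        · exact hg h
    · have := h3 (1, g) (1, h)
      simpa using this
    · have := h4 (1, g) ((mem_prodSet_iff _ _).mpr (Or.inr ⟨rfl, hg⟩))
      exact this
  · rintro ⟨χ, w⟩ ⟨h1, h2, h3, h4⟩ ⟨χ', w'⟩ ⟨h1', h2', h3', h4'⟩ heq
    dsimp only at h1 h2 h3 h4 h1' h2' h3' h4'
    simp only [Prod.mk.injEq] at heq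
    obtain ⟨⟨e1, e2⟩, e3, e4⟩ := heq
    have hχ : χ = χ' := by
      ext g
      obtain ⟨g₁, g₂⟩ := g
      change χ (Additive.ofMul (g₁, g₂)) = χ' (Additive.ofMul (g₁, g₂))
      rw [ofMul_pair, map_add, map_add]
      have a1 := DFunLike.congr_fun e1 (Additive.ofMul g₁)
      have a2 := DFunLike.congr_fun e3 (Additive.ofMul g₂)
      simp only [AddMonoidHom.comp_apply] at a1 a2
      change χ (Additive.ofMul (g₁, 1)) = χ' (Additive.ofMul (g₁, 1)) at a1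
      change χ (Additive.ofMul (1, g₂)) = χ' (Additive.ofMul (1, g₂)) at a2
      rw [a1, a2]
    have hw : w = w' := by
      funext g
      obtain ⟨g₁, g₂⟩ := g
      by_cases hg : (g₁, g₂) ∈ prodSet G₁ G₂ C₁ C₂
      · rcases (mem_prodSet_iff _ _).mp hg with ⟨_, rfl⟩ | ⟨rfl, _⟩
        · exact congrFun e2 g₁
        · exact congrFun e4 g₂
      · rw [h2 _ hg, h2' _ hg]
    rw [hχ, hw]
  · rintro ⟨⟨χ₁, w₁⟩, ⟨χ₂, w₂⟩⟩ ⟨⟨a1, a2, a3, a4⟩, ⟨b1, b2, b3, b4⟩⟩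
    dsimp only at a1 a2 a3 a4 b1 b2 b3 b4
    let χ : Additive (G₁ × G₂) →+ QmodZ :=
      χ₁.comp (MonoidHom.toAdditive (MonoidHom.fst G₁ G₂)) +
        χ₂.comp (MonoidHom.toAdditive (MonoidHom.snd G₁ G₂))
    let w : G₁ × G₂ → ℚ := fun g => if g.2 = 1 then w₁ g.1 else if g.1 = 1 then w₂ g.2 else 0
    have hχ : ∀ g₁ g₂, χ (Additive.ofMul (g₁, g₂)) =
        χ₁ (Additive.ofMul g₁) + χ₂ (Additive.ofMul g₂) := fun g₁ g₂ => rfl
    refine ⟨(χ, w), ⟨?_, ?_, ?_, ?_⟩, ?_⟩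
    · simp [w, a1]
    · rintro ⟨g₁, g₂⟩ hg
      rw [mem_prodSet_iff] at hg
      push Not at hg
      simp only [w]
      split_ifs with h1 h2
      · exact a2 _ fun h => hg.1 h h1
      · exact b2 _ fun h => hg.2 h2 h
      · rfl
    · rintro ⟨g₁, g₂⟩ ⟨k₁, k₂⟩
      have e1 : k₂ * g₂ * k₂⁻¹ = 1 ↔ g₂ = 1 := by
        constructor
        · intro h
          have : g₂ = k₂⁻¹ * (k₂ * g₂ * k₂⁻¹) * k₂ := by group
          rw [this, h]; group
        · rintro rfl; group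
      have e2 : k₁ * g₁ * k₁⁻¹ = 1 ↔ g₁ = 1 := by
        constructor
        · intro h
          have : g₁ = k₁⁻¹ * (k₁ * g₁ * k₁⁻¹) * k₁ := by group
          rw [this, h]; group
        · rintro rfl; group
      simp only [w, Prod.mk_mul_mk, Prod.inv_mk, e1, e2, a3, b3]
    · rintro ⟨g₁, g₂⟩ hg
      rw [hχ]
      rcases (mem_prodSet_iff _ _).mp hg with ⟨hg1, rfl⟩ | ⟨rfl, hg2⟩
      · simp only [w, if_true]
        rw [a4 g₁ hg1]
        simp
      · by_cases h2 : g₂ = 1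
        · subst h2
          simp [w, a1]
        · simp only [w, h2, if_false, if_true]
          rw [b4 g₂ hg2]
          simp
    · simp only [Prod.mk.injEq]
      refine ⟨⟨?_, ?_⟩, ?_, ?_⟩
      · ext g
        change χ (Additive.ofMul (Additive.toMul g, 1)) = _
        rw [hχ]
        simp only [ofMul_one, map_zero, add_zero]
        rfl
      · funext g
        simp [w]
      · ext g
        change χ (Additive.ofMul (1, Additive.toMul g)) = _
        rw [hχ]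
        simp only [ofMul_one, map_zero, zero_add]
        rfl
      · funext g
        by_cases h2 : g = 1
        · subst h2; simp [w, a1, b1]
        · simp [w, h2]

end Groth.Agent.Helper4.OP
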