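import Mathlib
import Groth.Prelude.Def_AlgGrp
import Groth.Prelude.Def_W4bk4git07Quot
import Groth.Agent.Lib.Helper2.Sch.OrbitQuotient
import Groth.Agent.Lib.Helper4.SchClosGrp1
import Groth.Agent.Lib.Helper4.GRedSub1
import Groth.Agent.Lib.Helper4.SepSub1
import Groth.Agent.Lib.Helper1.RedOpenImm

/-!
# orbit map proper iff orbit closed and stabilizer proper (S11435): universally closed orbit map via helper2 S8022 quotient + fpqc descent, reduction to G_red over alg. closed field (helper4)
-/

set_option backward.isDefEq.respectTransparency.types false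
set_option synthInstance.maxHeartbeats 400000
set_option autoImplicit false
set_option linter.unusedSectionVars false
set_option linter.style.haveILetI false
set_option linter.unusedSimpArgs false
universe u v w
open CategoryTheory CategoryTheory.Limits AlgebraicGeometry TopologicalSpace Opposite
open MonoidalCategory CartesianMonoidalCategory MonObj GrpObj
open Groth.Agent.Helper2.Orbit

namespace Groth.Agent.Lib.Helper4.OrbitProper1

section Smooth

variable (k : Type u) [Field k] {G X Go : Over (Spec (CommRingCat.of k))} [GrpObj G]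
  [LocallyOfFiniteType G.hom] [QuasiCompact G.hom] [Smooth G.hom] [LocallyOfFiniteType X.hom]
  [QuasiCompact X.hom]
  (act : G ⊗ X ⟶ X)
  (one_act : (η[G] ▷ X) ≫ act = (λ_ X).hom)
  (mul_act : (μ[G] ▷ X) ≫ act = (α_ G G X).hom ≫ (G ◁ act) ≫ act)
  (o : 𝟙_ (Over (Spec (CommRingCat.of k))) ⟶ X) (i : Go ⟶ G)
  (hGo : IsPullback i (toUnit Go) (orbit act o) o)

include one_act mul_act hGo in
/-- smooth case: closed orbit and proper stabilizer give a universally closed orbit map -/
theorem univClosed_orbit_of_smooth (hcl : IsClosed (Set.range (orbit act o).left))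
    [IsProper Go.hom] : UniversallyClosed (orbit act o).left := by
  obtain ⟨Y, act', one', mul', y, f, hYlft, hflat, hsurj, hpb, hact, hy, himm⟩ :=
    Groth.Agent.Helper2.OrbitQuot.exists_quotient_immersion k act one_act mul_act o i hGo
  have horb : orbit act' y ≫ f = orbit act o := by
    rw [orbit, orbit, Category.assoc, ← hact, ← Category.assoc, lift_whiskerLeft, Category.assoc, hy]
  have horbl : (orbit act' y).left ≫ f.left = (orbit act o).left := by
    rw [← Over.comp_left, horb]
  have hrange : Set.range f.left = Set.range (orbit act o).left := by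
    rw [← horbl, Scheme.Hom.comp_base, TopCat.coe_comp, Set.range_comp,
      Set.range_eq_univ.mpr hsurj.surj, Set.image_univ]
  haveI : IsClosedImmersion f.left := IsClosedImmersion.of_isPreimmersion f.left (hrange ▸ hcl)
  haveI : IsLocallyNoetherian Y.left := LocallyOfFiniteType.isLocallyNoetherian Y.hom
  haveI : QuasiCompact (orbit act' y).left := by
    haveI : QuasiCompact ((orbit act' y).left ≫ Y.hom) := by rw [Over.w]; infer_instance
    exact QuasiCompact.of_comp (orbit act' y).left Y.hom
  haveI hπ : UniversallyClosed (orbit act' y).left := by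
    have sq := hpb.map (Over.forget _)
    refine MorphismProperty.of_isPullback_of_descendsAlong (P := @UniversallyClosed)
      (Q := @Surjective ⊓ @Flat ⊓ @QuasiCompact) sq
      ⟨⟨hsurj, hflat⟩, ‹QuasiCompact (orbit act' y).left›⟩ ?_
    change UniversallyClosed (pullback.fst G.hom Go.hom)
    infer_instance
  rw [← horbl]
  infer_instance

end Smooth


section Restrict

variable {C : Type*} [Category C] [CartesianMonoidalCategory C] {F G X : C} [GrpObj F] [GrpObj G]
  (j : F ⟶ G) [IsMonHom j] (act : G ⊗ X ⟶ X)
  (one_act : (η[G] ▷ X) ≫ act = (λ_ X).hom)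
  (mul_act : (μ[G] ▷ X) ≫ act = (α_ G G X).hom ≫ (G ◁ act) ≫ act)

include one_act in
theorem restrict_one : (η[F] ▷ X) ≫ (j ▷ X) ≫ act = (λ_ X).hom := by
  rw [← comp_whiskerRight_assoc, IsMonHom.one_hom (f := j), one_act]

include mul_act in
theorem restrict_mul : (μ[F] ▷ X) ≫ (j ▷ X) ≫ act =
    (α_ F F X).hom ≫ (F ◁ ((j ▷ X) ≫ act)) ≫ (j ▷ X) ≫ act := by
  rw [← comp_whiskerRight_assoc, IsMonHom.mul_hom (f := j), comp_whiskerRight_assoc, mul_act]
  have h0 : ((j ⊗ₘ j) ▷ X) ≫ (α_ G G X).hom = (α_ F F X).hom ≫ (j ⊗ₘ (j ▷ X)) := by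
    rw [← tensorHom_id, associator_naturality, tensorHom_id]
  have h1 : (j ⊗ₘ (j ▷ X)) ≫ (G ◁ act) = (F ◁ ((j ▷ X) ≫ act)) ≫ (j ▷ X) := by
    rw [tensorHom_def', Category.assoc, ← whisker_exchange, ← MonoidalCategory.whiskerLeft_comp_assoc]
  rw [← Category.assoc ((j ⊗ₘ j) ▷ X), h0, Category.assoc, ← Category.assoc (j ⊗ₘ (j ▷ X)), h1]
  simp only [Category.assoc]

theorem restrict_orbit (o : 𝟙_ C ⟶ X) : orbit ((j ▷ X) ≫ act) o = j ≫ orbit act o := by
  rw [comp_orbit, orbit, lift_whiskerRight_assoc, Category.id_comp]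

end Restrict


section General

variable (k : Type u) [Field k] [IsAlgClosed k] {G X Go : Over (Spec (CommRingCat.of k))} [GrpObj G]
  [LocallyOfFiniteType G.hom] [QuasiCompact G.hom] [LocallyOfFiniteType X.hom]
  [QuasiCompact X.hom]
  (act : G ⊗ X ⟶ X)
  (one_act : (η[G] ▷ X) ≫ act = (λ_ X).hom)
  (mul_act : (μ[G] ▷ X) ≫ act = (α_ G G X).hom ≫ (G ◁ act) ≫ act)
  (o : 𝟙_ (Over (Spec (CommRingCat.of k))) ⟶ X) (i : Go ⟶ G)
  (hGo : IsPullback i (toUnit Go) (orbit act o) o)

include one_act mul_act hGo in
/-- general case over an algebraically closed field, through `G_red` -/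
theorem univClosed_orbit (hcl : IsClosed (Set.range (orbit act o).left))
    [IsProper Go.hom] : UniversallyClosed (orbit act o).left := by
  let F : Over (Spec (CommRingCat.of k)) := Over.mk (G.left.nilradical.subschemeι ≫ G.hom)
  let j : F ⟶ G := Over.homMk G.left.nilradical.subschemeι rfl
  haveI hjc : IsClosedImmersion j.left :=
    inferInstanceAs (IsClosedImmersion (Scheme.IdealSheafData.subschemeι _))
  haveI hjs : Surjective j.left :=
    Groth.Agent.Helper1.RedOpenImm.surjective_nilradical_subschemeι G.left
  haveI : IsReduced F.left := Groth.Agent.Helper1.RedOpenImm.isReduced_nilradical_subscheme G.left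
  obtain ⟨⟨m, hm⟩, ⟨iv, hiv⟩, ⟨e, he⟩⟩ := Groth.Agent.Lib.Helper4.GRedSub1.main_S11936 k G F j
  haveI : Mono j.left := inferInstance
  haveI : Mono j := (Over.forget _).mono_of_mono_map ‹Mono j.left›
  letI : GrpObj F := Groth.Agent.Lib.Helper4.SchClosGrp1.grpObjOfMono j e m iv he hm hiv
  haveI : IsMonHom j := ⟨he, hm⟩
  haveI : LocallyOfFiniteType F.hom := by
    change LocallyOfFiniteType (j.left ≫ G.hom); infer_instance
  haveI : QuasiCompact F.hom := by
    change QuasiCompact (j.left ≫ G.hom); infer_instance
  haveI : GeometricallyReduced F.hom :=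
    Groth.Agent.Lib.Helper4.GRedSub1.geometricallyReduced_of_perfect F.hom
  letI inst2 : GrpObj (Over.mk F.hom) := (inferInstance : GrpObj F)
  haveI : Smooth F.hom :=
    Groth.Agent.Lib.Helper4.SepSub1.smooth_of_grpObj_of_geometricallyReduced F.hom
  have one' := restrict_one j act one_act
  have mul' := restrict_mul j act mul_act
  have horb := restrict_orbit j act o
  -- the stabilizer in `F`
  have top : IsPullback (pullback.snd i j) (pullback.fst i j) j i :=
    (IsPullback.of_hasPullback i j).flip
  have hGo' : IsPullback (pullback.snd i j) (toUnit (pullback i j))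
      (orbit ((j ▷ X) ≫ act) o) o := by
    rw [horb]
    have := top.paste_vert hGo
    rwa [show pullback.fst i j ≫ toUnit Go = toUnit (pullback i j) from toUnit_unique _ _] at this
  haveI : IsClosedImmersion (pullback.fst i j).left :=
    MorphismProperty.of_isPullback (P := @IsClosedImmersion) (top.map (Over.forget _)) hjc
  haveI : IsProper (pullback i j).hom := by
    rw [← Over.w (pullback.fst i j)]; infer_instance
  have hcl' : IsClosed (Set.range (orbit ((j ▷ X) ≫ act) o).left) := by
    rw [horb, Over.comp_left, Scheme.Hom.comp_base, TopCat.coe_comp, Set.range_comp,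
      Set.range_eq_univ.mpr hjs.surj, Set.image_univ]
    exact hcl
  haveI := univClosed_orbit_of_smooth k ((j ▷ X) ≫ act) one' mul' o (pullback.snd i j) hGo' hcl'
  haveI : UniversallyClosed (j.left ≫ (orbit act o).left) := by
    rw [← Over.comp_left, ← horb]; infer_instance
  exact UniversallyClosed.of_comp_surjective j.left (orbit act o).left

end General


/-- **S11435** -/
theorem main_S11435 (k : Type u) [Field k] [IsAlgClosed k]
    (G X : Over (Spec (CommRingCat.of k))) [GrpObj G] [LocallyOfFiniteType G.hom] [QuasiCompact G.hom]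
    [LocallyOfFiniteType X.hom] [QuasiCompact X.hom] (a : AlgGrp.Action G X)
    (x : 𝟙_ (Over (Spec (CommRingCat.of k))) ⟶ X) :
    IsProper (GIT.psi a x).left ↔
      IsClosed (Set.range (GIT.psi a x).left.base) ∧
        IsProper (Limits.pullback.snd (GIT.psi a x).left (lift x (𝟙 (𝟙_ (Over (Spec (CommRingCat.of k)))))).left ≫
          (𝟙_ (Over (Spec (CommRingCat.of k)))).hom) := by
  haveI : Subsingleton ↥(Spec (CommRingCat.of k)) := inferInstanceAs (Subsingleton (PrimeSpectrum k))
  constructor
  · intro hp
    refine ⟨(GIT.psi a x).left.isClosedMap.isClosed_range, ?_⟩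
    haveI : IsProper (𝟙_ (Over (Spec (CommRingCat.of k)))).hom := by
      change IsProper (𝟙 _); infer_instance
    infer_instance
  · rintro ⟨hcl, hst⟩
    -- relation with the orbit map
    have hψ : GIT.psi a x ≫ fst X (𝟙_ _) = fst G (𝟙_ _) ≫ orbit a.act x := by
      rw [GIT.psi, lift_fst, comp_orbit]
      congr 1
      apply CartesianMonoidalCategory.hom_ext
      · rw [whiskerLeft_fst, lift_fst]
      · rw [whiskerLeft_snd, lift_snd]
        congr 1
        exact toUnit_unique _ _
    have hψl : (GIT.psi a x).left ≫ (fst X (𝟙_ _)).left =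
        (fst G (𝟙_ _)).left ≫ (orbit a.act x).left := by
      rw [← Over.comp_left, ← Over.comp_left, hψ]
    haveI : IsIso (fst X (𝟙_ (Over (Spec (CommRingCat.of k))))) := by
      rw [← rightUnitor_hom]; infer_instance
    haveI : IsIso (fst G (𝟙_ (Over (Spec (CommRingCat.of k))))) := by
      rw [← rightUnitor_hom]; infer_instance
    haveI : IsIso (fst X (𝟙_ (Over (Spec (CommRingCat.of k))))).left :=
      inferInstanceAs (IsIso ((Over.forget _).map (fst X _)))
    haveI : IsIso (fst G (𝟙_ (Over (Spec (CommRingCat.of k))))).left :=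
      inferInstanceAs (IsIso ((Over.forget _).map (fst G _)))
    -- closed range of the orbit map
    have hcl' : IsClosed (Set.range (orbit a.act x).left) := by
      have h1 : Set.range (orbit a.act x).left =
          (fst X (𝟙_ _)).left '' Set.range (GIT.psi a x).left := by
        rw [← Set.range_comp, ← TopCat.coe_comp, ← Scheme.Hom.comp_base, hψl,
          Scheme.Hom.comp_base, TopCat.coe_comp, Set.range_comp,
          Set.range_eq_univ.mpr (fst G (𝟙_ _)).left.surjective, Set.image_univ]
      rw [h1]
      exact (fst X (𝟙_ _)).left.homeomorph.isClosedMap _ hcl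
    -- the stabilizer as an object over `k`
    have hunit : (𝟙_ (Over (Spec (CommRingCat.of k)))).hom = 𝟙 _ := rfl
    have hp₀ : (lift x (𝟙 (𝟙_ (Over (Spec (CommRingCat.of k)))))).left ≫ (fst X (𝟙_ _)).left = x.left := by
      rw [← Over.comp_left, lift_fst]
    have hcond : pullback.fst (GIT.psi a x).left (lift x (𝟙 (𝟙_ _))).left ≫ (GIT.psi a x).left =
        pullback.snd (GIT.psi a x).left (lift x (𝟙 (𝟙_ _))).left ≫ (lift x (𝟙 (𝟙_ _))).left :=
      pullback.condition
    have hiw : (pullback.fst (GIT.psi a x).left (lift x (𝟙 (𝟙_ _))).left ≫ (fst G (𝟙_ _)).left) ≫ G.hom =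
        pullback.snd (GIT.psi a x).left (lift x (𝟙 (𝟙_ _))).left ≫
          (𝟙_ (Over (Spec (CommRingCat.of k)))).hom := by
      rw [Category.assoc, Over.w (fst G (𝟙_ _)), ← Over.w (GIT.psi a x), ← Category.assoc, hcond,
        Category.assoc, Over.w (lift x (𝟙 (𝟙_ _)))]
    let Go : Over (Spec (CommRingCat.of k)) :=
      Over.mk (pullback.snd (GIT.psi a x).left (lift x (𝟙 (𝟙_ _))).left ≫
        (𝟙_ (Over (Spec (CommRingCat.of k)))).hom)
    let i : Go ⟶ G := Over.homMk
      (pullback.fst (GIT.psi a x).left (lift x (𝟙 (𝟙_ _))).left ≫ (fst G (𝟙_ _)).left) hiw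
    have hil : i.left = pullback.fst (GIT.psi a x).left (lift x (𝟙 (𝟙_ _))).left ≫
        (fst G (𝟙_ _)).left := rfl
    have hGohom : Go.hom = pullback.snd (GIT.psi a x).left (lift x (𝟙 (𝟙_ _))).left ≫ 𝟙 _ := rfl
    have hGo : IsPullback i (toUnit Go) (orbit a.act x) x := by
      refine Groth.Agent.Lib.Helper4.GrpKer2.isPullback_of_points _ _ _ _ ?_ ?_ ?_
      · apply Over.OverMorphism.ext
        rw [Over.comp_left, Over.comp_left, hil, Category.assoc, ← hψl, ← Category.assoc, hcond,
          Category.assoc, hp₀, Over.toUnit_left, hGohom, Category.comp_id]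
      · intro T a' b hab
        have habl : a'.left ≫ (orbit a.act x).left = b.left ≫ x.left := by
          rw [← Over.comp_left, ← Over.comp_left, hab]
        have hc : (a'.left ≫ inv (fst G (𝟙_ _)).left) ≫ (GIT.psi a x).left =
            b.left ≫ (lift x (𝟙 (𝟙_ _))).left := by
          rw [← cancel_mono (fst X (𝟙_ _)).left, Category.assoc, Category.assoc, hψl,
            IsIso.inv_hom_id_assoc, habl, Category.assoc, hp₀]
        refine ⟨Over.homMk (pullback.lift (a'.left ≫ inv (fst G (𝟙_ _)).left) b.left hc) ?_, ?_, ?_⟩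
        · rw [hGohom, ← Category.assoc, pullback.lift_snd, Category.comp_id]
          have := Over.w b
          rw [hunit, Category.comp_id] at this
          exact this
        · apply Over.OverMorphism.ext
          change pullback.lift (a'.left ≫ inv (fst G (𝟙_ _)).left) b.left hc ≫ i.left = a'.left
          rw [hil, ← Category.assoc, pullback.lift_fst,
            Category.assoc, IsIso.inv_hom_id, Category.comp_id]
        · exact toUnit_unique _ _
      · intro T s t h1 _
        apply Over.OverMorphism.ext
        have h1l : s.left ≫ i.left = t.left ≫ i.left := by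
          rw [← Over.comp_left, ← Over.comp_left, h1]
        rw [hil, ← Category.assoc, ← Category.assoc, cancel_mono] at h1l
        refine pullback.hom_ext h1l ?_
        have hs := Over.w s
        have ht := Over.w t
        rw [hGohom, Category.comp_id] at hs ht
        rw [hs, ht]
    haveI : IsProper Go.hom := hst
    haveI huc : UniversallyClosed (orbit a.act x).left :=
      univClosed_orbit k a.act a.one_act a.mul_act x i hGo hcl'
    have hψeq : (GIT.psi a x).left =
        (fst G (𝟙_ _)).left ≫ (orbit a.act x).left ≫ inv (fst X (𝟙_ _)).left := by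
      rw [← Category.assoc, ← hψl, Category.assoc, IsIso.hom_inv_id, Category.comp_id]
    haveI : UniversallyClosed (GIT.psi a x).left := by
      rw [hψeq]; infer_instance
    haveI : IsSeparated G.hom := Groth.Agent.Lib.Helper6.GrpSch.Sep.isSeparated_of_subsingleton G
    haveI : IsSeparated ((GIT.psi a x).left ≫ (X ⊗ 𝟙_ _).hom) := by
      rw [Over.w (GIT.psi a x), ← Over.w (fst G (𝟙_ _))]; infer_instance
    haveI : LocallyOfFiniteType ((GIT.psi a x).left ≫ (X ⊗ 𝟙_ _).hom) := by
      rw [Over.w (GIT.psi a x), ← Over.w (fst G (𝟙_ _))]; infer_instance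
    haveI : IsSeparated (GIT.psi a x).left := IsSeparated.of_comp (GIT.psi a x).left (X ⊗ 𝟙_ _).hom
    haveI : LocallyOfFiniteType (GIT.psi a x).left :=
      locallyOfFiniteType_of_comp (GIT.psi a x).left (X ⊗ 𝟙_ _).hom
    exact {}

end Groth.Agent.Lib.Helper4.OrbitProper1
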