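import Mathlib
import Groth.Agent.Lib.Helper4.StalkEtale1

/-!
# Order of vanishing: locally finite support (S1692) (helper4)
-/

set_option backward.isDefEq.respectTransparency.types false
set_option synthInstance.maxHeartbeats 400000
set_option autoImplicit false
set_option linter.unusedSectionVars false
set_option linter.style.haveILetI false
set_option linter.unusedSimpArgs false
universe u v w
open CategoryTheory CategoryTheory.Limits AlgebraicGeometry TopologicalSpace
open Groth.Agent.Lib.Helper4.StalkEtale1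

namespace Groth.Agent.Lib.Helper4.OrdLocFin1

/-- On the basic open of `a * b`, the rational function `a / b` has order zero. -/
theorem ord_eq_zero_of_mem_basicOpen {X : Scheme.{u}} [IsIntegral X] [IsLocallyNoetherian X]
    {U : X.Opens} [Nonempty U] (a b : Γ(X, U)) (f : X.functionField)
    (hab : f * algebraMap Γ(X, U) X.functionField b = algebraMap Γ(X, U) X.functionField a)
    (ξ : X) (hξ : ξ ∈ X.basicOpen (a * b)) : Scheme.ord f ξ = 0 := by
  set W := X.basicOpen (a * b) with hW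
  have hWU : W ≤ U := X.basicOpen_le _
  haveI : Nonempty W := ⟨⟨ξ, hξ⟩⟩
  let r : Γ(X, U) ⟶ Γ(X, W) := X.presheaf.map (homOfLE hWU).op
  have hunit : IsUnit (r.hom (a * b)) := X.toRingedSpace.isUnit_res_basicOpen (a * b)
  rw [map_mul] at hunit
  have hua : IsUnit (r.hom a) := isUnit_of_mul_isUnit_left hunit
  have hub : IsUnit (r.hom b) := isUnit_of_mul_isUnit_right hunit
  have hgerm : ∀ c : Γ(X, U), algebraMap Γ(X, U) X.functionField c =
      X.germToFunctionField W (r.hom c) := by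
    intro c
    exact (X.presheaf.germ_res_apply (homOfLE hWU) _ _ c).symm
  have hf : f = X.germToFunctionField W (r.hom a * ↑hub.unit⁻¹) := by
    rw [map_mul, ← hgerm, ← hab, hgerm b, mul_assoc, ← map_mul]
    rw [IsUnit.mul_val_inv, map_one, mul_one]
  rw [hf]
  exact Scheme.ord_of_isUnit (hua.mul (Units.isUnit _)) hξ



/-- the height of the prime of a point in an affine open is its coheight -/
theorem height_primeIdealOf {X : Scheme.{u}} {U : X.Opens} (hU : IsAffineOpen U) (ξ : X)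
    (hξ : ξ ∈ U) : (hU.primeIdealOf ⟨ξ, hξ⟩).asIdeal.height = Order.coheight ξ := by
  rw [idealHeight_eq_coheight, IsAffineOpen.primeIdealOf,
    coheight_eq_of_isOpenImmersion hU.isoSpec.hom,
    ← coheight_eq_of_isOpenImmersion U.ι]
  rfl

theorem S1692_main (X : Scheme.{u}) [IsIntegral X] [IsLocallyNoetherian X]
    (f : X.functionField) (hf : f ≠ 0) :
    LocallyFinite (fun ξ : {ξ : X // Order.coheight ξ = 1 ∧ Scheme.ord f ξ ≠ 0} =>
      closure ({ξ.1} : Set X)) := by
  intro x₀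
  obtain ⟨_, ⟨U, hU, rfl⟩, hxU, -⟩ :=
    X.isBasis_affineOpens.exists_subset_of_mem_open (Set.mem_univ x₀) isOpen_univ
  refine ⟨U, U.isOpen.mem_nhds hxU, ?_⟩
  haveI : Nonempty U := ⟨⟨x₀, hxU⟩⟩
  haveI : IsNoetherianRing Γ(X, U) := IsLocallyNoetherian.component_noetherian ⟨U, hU⟩
  haveI := functionField_isFractionRing_of_isAffineOpen X U hU
  obtain ⟨a, b, hb, hab⟩ := IsFractionRing.div_surjective (A := Γ(X, U)) f
  have hb0 : algebraMap Γ(X, U) X.functionField b ≠ 0 :=
    IsFractionRing.to_map_ne_zero_of_mem_nonZeroDivisors hb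
  have hab' : f * algebraMap Γ(X, U) X.functionField b = algebraMap Γ(X, U) X.functionField a := by
    rw [← hab, div_mul_cancel₀ _ hb0]
  have ha : a ≠ 0 := by
    rintro rfl
    rw [map_zero, zero_div] at hab
    exact hf hab.symm
  have hc : a * b ∈ nonZeroDivisors Γ(X, U) :=
    mul_mem (mem_nonZeroDivisors_of_ne_zero ha) hb
  have hfin : (Ideal.span {a * b}).minimalPrimes.Finite :=
    Ideal.finite_minimalPrimes_of_isNoetherianRing _ _
  classical
  let φ : {ξ : X // Order.coheight ξ = 1 ∧ Scheme.ord f ξ ≠ 0} → Ideal Γ(X, U) := fun ξ =>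
    if h : ξ.1 ∈ U then (hU.primeIdealOf ⟨ξ.1, h⟩).asIdeal else ⊥
  have hmemU : ∀ ξ : {ξ : X // Order.coheight ξ = 1 ∧ Scheme.ord f ξ ≠ 0},
      (closure ({ξ.1} : Set X) ∩ (U : Set X)).Nonempty → ξ.1 ∈ U := by
    rintro ξ ⟨y, hy1, hy2⟩
    have hsp : ξ.1 ⤳ y := specializes_iff_mem_closure.mpr hy1
    exact hsp.mem_open U.isOpen hy2
  refine Set.Finite.of_injOn (f := φ) (t := (Ideal.span {a * b}).minimalPrimes) ?_ ?_ hfin
  · intro ξ hξ
    have hξU : ξ.1 ∈ U := hmemU ξ hξ
    simp only [φ, dif_pos hξU]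
    have hnot : ξ.1 ∉ X.basicOpen (a * b) := fun hmem =>
      ξ.2.2 (ord_eq_zero_of_mem_basicOpen a b f hab' ξ.1 hmem)
    have hmem : a * b ∈ (hU.primeIdealOf ⟨ξ.1, hξU⟩).asIdeal := by
      by_contra hcon
      exact hnot ((mem_basicOpen_iff_notMem_primeIdealOf hU (a * b) ξ.1 hξU).mpr hcon)
    have hht : (hU.primeIdealOf ⟨ξ.1, hξU⟩).asIdeal.height = 1 := by
      rw [height_primeIdealOf hU ξ.1 hξU, ξ.2.1]
    haveI : (hU.primeIdealOf ⟨ξ.1, hξU⟩).asIdeal.FiniteHeight :=
      ⟨Or.inr (by rw [hht]; exact ENat.one_ne_top)⟩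
    refine Ideal.mem_minimalPrimes_of_height_le ?_ ?_
    · rw [Ideal.span_le]
      intro z hz
      rw [Set.mem_singleton_iff] at hz
      rw [hz]; exact hmem
    · rw [hht]
      exact Ideal.one_le_height_span_singleton_of_mem_nonZeroDivisors hc
  · intro ξ₁ h₁ ξ₂ h₂ h12
    have h1U : ξ₁.1 ∈ U := hmemU ξ₁ h₁
    have h2U : ξ₂.1 ∈ U := hmemU ξ₂ h₂
    simp only [φ, dif_pos h1U, dif_pos h2U] at h12
    have h3 : hU.primeIdealOf ⟨ξ₁.1, h1U⟩ = hU.primeIdealOf ⟨ξ₂.1, h2U⟩ :=
      PrimeSpectrum.ext h12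
    have h4 : (⟨ξ₁.1, h1U⟩ : U) = ⟨ξ₂.1, h2U⟩ := by
      have hinj : Function.Injective hU.isoSpec.hom :=
        (ConcreteCategory.bijective_of_isIso (C := TopCat) hU.isoSpec.hom.base).1
      exact hinj h3
    exact Subtype.ext (congrArg (fun z : U => (z : X)) h4)


end Groth.Agent.Lib.Helper4.OrdLocFin1
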