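import Mathlib
import Groth.Prelude.Def_ModSite2
import Groth.Prelude.Def_FSch5
import Groth.Agent.Lib.Helper4.ComplFlat
import Groth.Agent.Lib.Helper9.ThickAff

/-!
# surjectivity of the projections of the structure sheaf of a formal scheme over affine opens (helper4)
-/

set_option backward.isDefEq.respectTransparency.types false
set_option synthInstance.maxHeartbeats 400000
set_option autoImplicit false
set_option linter.unusedSectionVars false
set_option linter.style.haveILetI false
set_option linter.unusedSimpArgs false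
universe u v w
open CategoryTheory CategoryTheory.Limits Opposite AlgebraicGeometry TopologicalSpace

namespace Groth.Agent.Lib.Helper4.OshSurj
open Groth.Agent.Lib.Helper4.ComplFlat

section Seq

variable (F : ℕᵒᵖ ⥤ Type u)
  (hF : ∀ n, Function.Surjective (F.map (homOfLE (Nat.le_add_right n 1)).op)) (i : ℕ)
  (y : F.obj (op i))

/-- successive lifts -/
noncomputable def lifts : ∀ k : ℕ, F.obj (op (i + k))
  | 0 => y
  | k + 1 => (hF (i + k) (lifts k)).choose

lemma lifts_succ (k : ℕ) :
    F.map (homOfLE (Nat.le_add_right (i + k) 1)).op (lifts F hF i y (k + 1)) = lifts F hF i y k :=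
  (hF (i + k) (lifts F hF i y k)).choose_spec

lemma lifts_down (k : ℕ) :
    F.map (homOfLE (Nat.le_add_right i k)).op (lifts F hF i y k) = y := by
  induction k with
  | zero =>
    have : (homOfLE (Nat.le_add_right i 0)).op = 𝟙 (op i) := Subsingleton.elim _ _
    rw [this]
    exact F.map_id_apply (op i) y
  | succ k ih =>
    have : (homOfLE (Nat.le_add_right i (k + 1))).op =
        (homOfLE (Nat.le_add_right (i + k) 1)).op ≫ (homOfLE (Nat.le_add_right i k)).op :=
      Subsingleton.elim _ _
    rw [this, Functor.map_comp_apply]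
    show F.map _ (F.map _ (lifts F hF i y (k + 1))) = y
    rw [lifts_succ, ih]

include hF in
/-- every element of a level of a tower of surjections is a component of a compatible family -/
lemma exists_section : ∃ s ∈ F.sections, s (op i) = y := by
  refine ⟨fun j => F.map (homOfLE (Nat.le_add_left j.unop i)).op (lifts F hF i y j.unop),
    sections_of_succ F (fun n => F.map (homOfLE (Nat.le_add_left n i)).op (lifts F hF i y n))
      (fun n => ?_), lifts_down F hF i y i⟩
  show F.map _ (F.map _ (lifts F hF i y (n + 1))) = F.map _ (lifts F hF i y n)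
  rw [← Functor.map_comp_apply]
  have : (homOfLE (Nat.le_add_left (n + 1) i)).op ≫ (homOfLE (Nat.le_add_right n 1)).op =
      (homOfLE (Nat.le_add_right (i + n) 1)).op ≫ (homOfLE (Nat.le_add_left n i)).op :=
    Subsingleton.elim _ _
  rw [this, Functor.map_comp_apply]
  show F.map _ (F.map _ (lifts F hF i y (n + 1))) = _
  rw [lifts_succ]

end Seq

variable (𝔛 : FSch.Sys.{u}) (h : 𝔛.IsFormal) (U : (𝔛.X 0).Opens)

lemma toX_preimage_lvU (n : ℕ) : (𝔛.toX n) ⁻¹ᵁ (𝔛.lvU h n U) = U := by
  change (Opens.map ((𝔛.toX n).base ≫ 𝔛.gInv h n)).obj U = U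
  rw [𝔛.toX_base_gInv h n]
  rfl

/-- the opens of the levels over an affine open are affine -/
theorem isAffineOpen_lvU (hU : IsAffineOpen U) (n : ℕ) : IsAffineOpen (𝔛.lvU h n U) := by
  haveI := 𝔛.toX_isClosedImmersion h n
  haveI : IsClosedImmersion ((𝔛.toX n) ∣_ (𝔛.lvU h n U)) :=
    IsZariskiLocalAtTarget.restrict ‹_› _
  have hA : IsAffineOpen ((𝔛.toX n) ⁻¹ᵁ (𝔛.lvU h n U)) := by
    rw [toX_preimage_lvU]
    exact hU
  haveI : IsAffine ((𝔛.toX n) ⁻¹ᵁ (𝔛.lvU h n U)).toScheme := hA
  refine H9ThickAff.isAffine_of_thickening ((𝔛.toX n) ∣_ (𝔛.lvU h n U)) ?_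
  rintro ⟨y, hy⟩
  obtain ⟨x, rfl⟩ := 𝔛.toX_surjective h n y
  refine ⟨⟨x, hy⟩, ?_⟩
  apply Subtype.ext
  exact morphismRestrict_base_coe _ _ _

/-- the transition maps are surjective on sections over an affine open -/
theorem levelMap_app_surjective (hU : IsAffineOpen U) (n : ℕ) :
    Function.Surjective ((𝔛.levelMap h n).hom.app (op U)) := by
  haveI := (h n).1
  have h1 := (𝔛.ι n).app_surjective _ (isAffineOpen_lvU 𝔛 h U hU (n + 1))
  have h2 := map_bijective_of_eq (Z := 𝔛.X n) (𝔛.lvU_succ h n U).symm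
    (homOfLE (𝔛.lvU_le h n U))
  exact h2.surjective.comp h1

/-- **the projections `O_𝔛 ⟶ O_{X i}` are surjective on sections over affine opens** -/
theorem main (i : ℕ) (hU : IsAffineOpen U) :
    Function.Surjective ((𝔛.OshProj h i).hom.app (op U)) := by
  intro y
  have hl : IsLimit ((secF 𝔛 U).mapCone (limit.cone (𝔛.levelRing h))) :=
    isLimitOfPreserves _ (limit.isLimit _)
  have key := (Types.isLimit_iff _).1 ⟨hl⟩
  obtain ⟨s, hs, hsi⟩ := exists_section (𝔛.levelRing h ⋙ secF 𝔛 U) (fun n => by
    show Function.Surjective (((𝔛.levelRing h).map (homOfLE (Nat.le_add_right n 1)).op).hom.app (op U))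
    rw [FSch.Sys.levelRing_map_succ]
    exact levelMap_app_surjective 𝔛 h U hU n) i y
  obtain ⟨z, hz, -⟩ := key s hs
  exact ⟨z, (hz (op i)).trans hsi⟩

end Groth.Agent.Lib.Helper4.OshSurj
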