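import Mathlib
import Groth.Prelude.Def_PLie

namespace Groth.Agent.Helper4.PL

open Groth

universe u v w

variable {k : Type u} [CommRing k] {p : ℕ} [CharP k p]
variable {L : Type v} [LieRing L] [LieAlgebra k L] {L' : Type w} [LieRing L'] [LieAlgebra k L']

theorem lie_pmap (φ : PLie.PMap k p L) (x y : L) :
    ⁅φ x, y⁆ = ((LieAlgebra.ad k L x) ^ p) y := by
  have := φ.ad_map x
  rw [← this]; rfl

theorem map_ad_pow (f : L →ₗ⁅k⁆ L') (x y : L) (n : ℕ) :
    f (((LieAlgebra.ad k L x) ^ n) y) = ((LieAlgebra.ad k L' (f x)) ^ n) (f y) := by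
  induction n generalizing y with
  | zero => simp
  | succ n ih =>
    rw [pow_succ, Module.End.mul_apply, ih, pow_succ, Module.End.mul_apply]
    simp

theorem ad_pow_mem_ideal (I : LieIdeal k L) (x : L) (hx : x ∈ I) (y : L) {n : ℕ} (hn : n ≠ 0) :
    ((LieAlgebra.ad k L x) ^ n) y ∈ I := by
  obtain ⟨m, rfl⟩ := Nat.exists_eq_succ_of_ne_zero hn
  rw [pow_succ', Module.End.mul_apply]
  simp only [LieAlgebra.ad_apply]
  exact lie_mem_left k L I x _ hx

/-- S14870 -/
theorem map_pmap_eq_zero (hp : p ≠ 0) (φ : PLie.PMap k p L) (f : L →ₗ⁅k⁆ L')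
    (hf : Function.Surjective f)
    (hz : LieAlgebra.center k L' = ⊥) (x : L) (hx : f x = 0) :
    f (φ x) = 0 := by
  have hmem : f (φ x) ∈ LieAlgebra.center k L' := by
    rw [LieModule.mem_maxTrivSubmodule]
    intro y'
    obtain ⟨y, rfl⟩ := hf y'
    rw [← lie_skew, ← LieHom.map_lie, lie_pmap, map_ad_pow, hx, neg_eq_zero]
    obtain ⟨m, rfl⟩ := Nat.exists_eq_succ_of_ne_zero hp
    rw [pow_succ, Module.End.mul_apply]
    simp
  rw [hz] at hmem
  simpa using hmem

/-- The ideal of elements bracketing `L` into `A`. -/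
def centMod (A : LieIdeal k L) : LieIdeal k L :=
  { carrier := {z | ∀ y, ⁅z, y⁆ ∈ A}
    add_mem' := fun {a b} ha hb y => by rw [add_lie]; exact add_mem (ha y) (hb y)
    zero_mem' := fun y => by simp
    smul_mem' := fun c z hz y => by rw [smul_lie]; exact A.smul_mem c (hz y)
    lie_mem := fun {w z} hz y => by
      have h1 : ⁅w, z⁆ ∈ A := by
        rw [← lie_skew]; exact neg_mem (hz w)
      exact lie_mem_left k L A _ _ h1 }

theorem mem_centMod (A : LieIdeal k L) (z : L) : z ∈ centMod A ↔ ∀ y, ⁅z, y⁆ ∈ A := Iff.rfl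

theorem pmap_mem_centMod (hp : p ≠ 0) (φ : PLie.PMap k p L) (A : LieIdeal k L) (x : L)
    (hx : x ∈ A) : φ x ∈ centMod A := by
  intro y
  rw [lie_pmap]
  exact ad_pow_mem_ideal A x hx y hp

theorem derived_centMod_le (A : LieIdeal k L) :
    LieAlgebra.derivedSeriesOfIdeal k L 1 (centMod A) ≤ A := by
  rw [LieAlgebra.derivedSeriesOfIdeal_succ, LieAlgebra.derivedSeriesOfIdeal_zero,
    LieSubmodule.lieIdeal_oper_eq_span, LieSubmodule.lieSpan_le]
  rintro _ ⟨⟨z, hz⟩, ⟨y, _⟩, rfl⟩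
  exact hz y

theorem isSolvable_centMod (A : LieIdeal k L) [hA : LieAlgebra.IsSolvable A] :
    LieAlgebra.IsSolvable (centMod A) := by
  obtain ⟨n, hn⟩ := (LieAlgebra.isSolvable_iff (R := k) (L := A)).mp hA
  rw [LieIdeal.derivedSeries_eq_bot_iff] at hn
  refine LieAlgebra.IsSolvable.mk (R := k) (k := n + 1) ?_
  rw [LieIdeal.derivedSeries_eq_bot_iff, LieAlgebra.derivedSeriesOfIdeal_add, eq_bot_iff, ← hn]
  exact LieAlgebra.derivedSeriesOfIdeal_mono (derived_centMod_le A) n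

/-- S14871 -/
theorem pmap_mem_radical [IsNoetherian k L] (hp : p ≠ 0) (φ : PLie.PMap k p L) (x : L)
    (hx : x ∈ LieAlgebra.radical k L) : φ x ∈ LieAlgebra.radical k L := by
  have h1 : LieAlgebra.IsSolvable (centMod (LieAlgebra.radical k L)) := isSolvable_centMod _
  have h2 := (LieAlgebra.LieIdeal.solvable_iff_le_radical (R := k) (L := L)
    (centMod (LieAlgebra.radical k L))).mp h1
  exact h2 (pmap_mem_centMod hp φ _ x hx)

end Groth.Agent.Helper4.PL
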