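import Mathlib
import Groth.Prelude.Def_PLie
import Groth.Agent.Lib.Helper4.PLie1

namespace Groth.Agent.Helper4.PL

open Groth

universe u v w

variable {k : Type u} [CommRing k] {p : ℕ} [CharP k p]
variable {L : Type v} [LieRing L] [LieAlgebra k L]

theorem ad_iterate_pmap (φ : PLie.PMap k p L) (x : L) (n : ℕ) :
    LieAlgebra.ad k L (φ.toFun^[n] x) = (LieAlgebra.ad k L x) ^ (p ^ n) := by
  induction n with
  | zero => simp
  | succ n ih =>
    rw [Function.iterate_succ_apply', φ.ad_map, ih, ← pow_mul, pow_succ]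

theorem isNilpotent_ad_of_isPNilpotent (φ : PLie.PMap k p L) (x : L)
    (h : PLie.IsPNilpotent φ x) : IsNilpotent (LieAlgebra.ad k L x) := by
  obtain ⟨n, hn⟩ := h
  refine ⟨p ^ n, ?_⟩
  rw [← ad_iterate_pmap, hn, map_zero]

theorem coe_ad_pow_ideal (I : LieIdeal k L) (x y : I) (m : ℕ) :
    ((((LieAlgebra.ad k I x) ^ m) y : I) : L) = ((LieAlgebra.ad k L (x : L)) ^ m) (y : L) := by
  induction m generalizing y with
  | zero => simp
  | succ m ih =>
    rw [pow_succ, Module.End.mul_apply, ih, pow_succ, Module.End.mul_apply]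
    simp

theorem isNilpotent_ad_ideal (I : LieIdeal k L) (x : I)
    (h : IsNilpotent (LieAlgebra.ad k L (x : L))) : IsNilpotent (LieAlgebra.ad k I x) := by
  obtain ⟨m, hm⟩ := h
  refine ⟨m, ?_⟩
  ext y
  rw [coe_ad_pow_ideal, hm]
  simp

/-- S14873 -/
theorem isNilpotent_of_forall_isPNilpotent [IsNoetherian k L] (φ : PLie.PMap k p L)
    (I : LieIdeal k L) (hnil : ∀ x ∈ I, PLie.IsPNilpotent φ x) : LieRing.IsNilpotent I := by
  rw [LieAlgebra.isNilpotent_iff_forall (R := k)]
  intro x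
  exact isNilpotent_ad_ideal I x (isNilpotent_ad_of_isPNilpotent φ x (hnil x x.2))

end Groth.Agent.Helper4.PL
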