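import Mathlib
import Groth.Prelude.Def_PLie
import Groth.Agent.Lib.Helper4.PLie1
import Groth.Agent.Lib.Helper4.PLie2

namespace Groth.Agent.Helper4.PL

open Groth

universe u v w

variable {k : Type u} [CommRing k] {p : ℕ} [CharP k p]
variable {L : Type v} [LieRing L] [LieAlgebra k L]

theorem isNilpotent_ad_of_mem_nilpotent_ideal [IsNoetherian k L] (N : LieIdeal k L)
    (hN : LieRing.IsNilpotent N) (n : L) (hn : n ∈ N) : IsNilpotent (LieAlgebra.ad k L n) := by
  obtain ⟨m, hm⟩ := (LieAlgebra.isNilpotent_iff_forall (R := k) (L := N)).mp hN ⟨n, hn⟩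
  refine ⟨m + 1, ?_⟩
  ext y
  rw [pow_succ, Module.End.mul_apply]
  have h1 : ⁅n, y⁆ ∈ N := lie_mem_left k L N n y hn
  have h2 := coe_ad_pow_ideal N ⟨n, hn⟩ ⟨⁅n, y⁆, h1⟩ m
  rw [hm] at h2
  simpa using h2.symm

theorem module_isNilpotent_of_nilpotent_ideal [IsNoetherian k L] (N : LieIdeal k L)
    (hN : LieRing.IsNilpotent N) : LieModule.IsNilpotent N L := by
  rw [LieModule.isNilpotent_iff_forall' (R := k)]
  intro n'
  obtain ⟨m, hm⟩ := isNilpotent_ad_of_mem_nilpotent_ideal N hN n'.1 n'.2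
  refine ⟨m, ?_⟩
  ext y
  have : ∀ (j : ℕ) (y : L), ((LieModule.toEnd k N L n') ^ j) y =
      ((LieAlgebra.ad k L (n' : L)) ^ j) y := by
    intro j
    induction j with
    | zero => intro y; simp
    | succ j ih =>
      intro y
      rw [pow_succ, Module.End.mul_apply, ih, pow_succ, Module.End.mul_apply]
      rfl
  rw [this, hm]

theorem ad_mem_lcs (N : LieIdeal k L) (n : L) (hn : n ∈ N) (j : ℕ) (y : L)
    (hy : y ∈ LieModule.lowerCentralSeries k N L j) :
    ⁅n, y⁆ ∈ LieModule.lowerCentralSeries k N L (j + 1) := by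
  rw [LieModule.lowerCentralSeries_succ]
  exact LieSubmodule.lie_mem_lie (x := (⟨n, hn⟩ : N)) (LieSubmodule.mem_top _) hy

theorem ad_pow_mem_lcs (N : LieIdeal k L) (n : L) (hn : n ∈ N) (i j : ℕ) (y : L)
    (hy : y ∈ LieModule.lowerCentralSeries k N L j) :
    ((LieAlgebra.ad k L n) ^ i) y ∈ LieModule.lowerCentralSeries k N L (j + i) := by
  induction i with
  | zero => simpa using hy
  | succ i ih =>
    rw [pow_succ', Module.End.mul_apply, ← add_assoc]
    exact ad_mem_lcs N n hn _ _ ih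

/-- An endomorphism shifting the filtration is nilpotent. -/
theorem pow_mem_lcs_of_shift (N : LieIdeal k L) (T : Module.End k L)
    (hT : ∀ j y, y ∈ LieModule.lowerCentralSeries k N L j →
      T y ∈ LieModule.lowerCentralSeries k N L (j + 1)) (i : ℕ) (y : L) :
    (T ^ i) y ∈ LieModule.lowerCentralSeries k N L i := by
  induction i with
  | zero => simp
  | succ i ih =>
    rw [pow_succ', Module.End.mul_apply]
    exact hT _ _ ih

/-- The ideal `N + k • z` when `[z, L] ⊆ N`. -/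
def addSpan (N : LieIdeal k L) (z : L) (hz : ∀ y, ⁅z, y⁆ ∈ N) : LieIdeal k L :=
  { (N.toSubmodule ⊔ Submodule.span k {z}) with
    lie_mem := fun {y m} hm => by
      change m ∈ N.toSubmodule ⊔ Submodule.span k {z} at hm
      change ⁅y, m⁆ ∈ N.toSubmodule ⊔ Submodule.span k {z}
      obtain ⟨n, hn, w, hw, rfl⟩ := Submodule.mem_sup.mp hm
      obtain ⟨c, rfl⟩ := Submodule.mem_span_singleton.mp hw
      refine Submodule.mem_sup_left ?_
      rw [lie_add, lie_smul]
      refine add_mem (lie_mem_right k L N y n hn) (N.smul_mem c ?_)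
      rw [← lie_skew]
      exact neg_mem (hz y) }

theorem mem_addSpan (N : LieIdeal k L) (z : L) (hz : ∀ y, ⁅z, y⁆ ∈ N) (w : L) :
    w ∈ addSpan N z hz ↔ ∃ n ∈ N, ∃ c : k, w = n + c • z := by
  change w ∈ N.toSubmodule ⊔ Submodule.span k {z} ↔ _
  rw [Submodule.mem_sup]
  constructor
  · rintro ⟨n, hn, w', hw', rfl⟩
    obtain ⟨c, rfl⟩ := Submodule.mem_span_singleton.mp hw'
    exact ⟨n, hn, c, rfl⟩
  · rintro ⟨n, hn, c, rfl⟩
    exact ⟨n, hn, c • z, Submodule.mem_span_singleton.mpr ⟨c, rfl⟩, rfl⟩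

/-- S14872 -/
theorem pmap_mem_nilradical [IsNoetherian k L] (hp : p ≠ 0) (φ : PLie.PMap k p L)
    (N : LieIdeal k L) (hN : LieRing.IsNilpotent N)
    (hmax : ∀ I : LieIdeal k L, LieRing.IsNilpotent I → I ≤ N)
    (x : L) (hx : x ∈ N) : φ x ∈ N := by
  have hz : ∀ y, ⁅φ x, y⁆ ∈ N := pmap_mem_centMod hp φ N x hx
  have hmod := module_isNilpotent_of_nilpotent_ideal N hN
  obtain ⟨c, hc⟩ := LieModule.IsNilpotent.nilpotent k N L
  have hI : LieRing.IsNilpotent (addSpan N (φ x) hz) := by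
    rw [LieAlgebra.isNilpotent_iff_forall (R := k)]
    intro w
    apply isNilpotent_ad_ideal
    obtain ⟨n, hn, a, hw⟩ := (mem_addSpan N (φ x) hz w).mp w.2
    refine ⟨c, ?_⟩
    ext y
    have := pow_mem_lcs_of_shift N (LieAlgebra.ad k L (w : L)) (fun j y hy => by
      rw [hw, map_add, map_smul, LinearMap.add_apply, LinearMap.smul_apply]
      refine add_mem (ad_mem_lcs N n hn j y hy) (Submodule.smul_mem (LieModule.lowerCentralSeries k N L (j + 1)).toSubmodule a ?_)
      rw [LieAlgebra.ad_apply, lie_pmap]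
      have h1 := ad_pow_mem_lcs N x hx p j y hy
      have h2 : j + 1 ≤ j + p := by omega
      exact LieModule.antitone_lowerCentralSeries k N L h2 h1) c y
    rw [hc] at this
    simpa using this
  apply hmax _ hI
  rw [mem_addSpan]
  exact ⟨0, N.zero_mem, 1, by simp⟩

end Groth.Agent.Helper4.PL
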