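import Mathlib
import Groth.Prelude.Def_PLie
import Groth.Agent.Lib.Helper4.PLie1
import Groth.Agent.Lib.Helper4.PLie2
import Groth.Agent.Lib.Helper4.PLie3

namespace Groth.Agent.Helper4.PL

open Groth

universe u v w

variable {k : Type u} [CommRing k] {p : ℕ} [CharP k p]
variable {L : Type v} [LieRing L] [LieAlgebra k L]

theorem isPNilpotent_of_iterate (φ : PLie.PMap k p L) (x : L) (m : ℕ)
    (h : PLie.IsPNilpotent φ (φ.toFun^[m] x)) : PLie.IsPNilpotent φ x := by
  obtain ⟨j, hj⟩ := h
  exact ⟨j + m, by rw [Function.iterate_add_apply]; exact hj⟩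

/-- S14874 -/
theorem nilradical_eq_pRadical_iff [IsNoetherian k L] (hp : 2 ≤ p) (φ : PLie.PMap k p L)
    (N : LieIdeal k L) (hN : LieRing.IsNilpotent N)
    (hNmax : ∀ I : LieIdeal k L, LieRing.IsNilpotent I → I ≤ N)
    (P : LieIdeal k L) (hPsub : ∀ x ∈ P, φ x ∈ P) (hPnil : ∀ x ∈ P, PLie.IsPNilpotent φ x)
    (hPmax : ∀ J : LieIdeal k L, (∀ x ∈ J, φ x ∈ J) → (∀ x ∈ J, PLie.IsPNilpotent φ x) → J ≤ P) :
    N = P ↔ LieAlgebra.center k L ≤ P := by
  constructor
  · rintro rfl
    apply hNmax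
    infer_instance
  · intro hc
    apply le_antisymm
    · apply hPmax N (fun x hx => pmap_mem_nilradical (by omega) φ N hN hNmax x hx)
      intro x hx
      obtain ⟨m, hm⟩ := isNilpotent_ad_of_mem_nilpotent_ideal N hN x hx
      apply isPNilpotent_of_iterate φ x m
      apply hPnil
      apply hc
      rw [LieModule.mem_maxTrivSubmodule]
      intro y
      have h1 : LieAlgebra.ad k L (φ.toFun^[m] x) = 0 := by
        rw [ad_iterate_pmap]
        have hle : m ≤ p ^ m := (Nat.lt_pow_self hp).le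
        exact pow_eq_zero_of_le hle hm
      rw [← lie_skew, ← LieAlgebra.ad_apply (R := k), h1]
      simp
    · exact hNmax P (isNilpotent_of_forall_isPNilpotent φ P hPnil)

end Groth.Agent.Helper4.PL
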