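import Mathlib
import Groth.Prelude.Def_PLie
import Groth.Agent.Lib.Helper4.PLie1

namespace Groth.Agent.Helper4.PL

open Groth

universe u v w

variable {k : Type u} [CommRing k] {p : ℕ} [CharP k p]
variable {L : Type v} [LieRing L] [LieAlgebra k L] {L' : Type w} [LieRing L'] [LieAlgebra k L']

/-- S13780 -/
theorem isPHom_lieEquiv (γ : PLie.PMap k p L) (γ' : PLie.PMap k p L')
    (hZ : LieAlgebra.center k L' = ⊥) (e : L ≃ₗ⁅k⁆ L') : PLie.IsPHom γ γ' e.toLieHom := by
  intro x
  have hmem : e.toLieHom (γ x) - γ' (e.toLieHom x) ∈ LieAlgebra.center k L' := by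
    rw [LieModule.mem_maxTrivSubmodule]
    intro y'
    obtain ⟨y, rfl⟩ := e.surjective y'
    change ⁅e.toLieHom y, _⁆ = 0
    have h1 : ⁅e.toLieHom y, e.toLieHom (γ x)⁆ = -⁅e.toLieHom (γ x), e.toLieHom y⁆ :=
      (lie_skew _ _).symm
    have h2 : ⁅e.toLieHom y, γ' (e.toLieHom x)⁆ = -⁅γ' (e.toLieHom x), e.toLieHom y⁆ :=
      (lie_skew _ _).symm
    rw [lie_sub, h1, h2, ← LieHom.map_lie, lie_pmap, lie_pmap, map_ad_pow]
    simp
  rw [hZ] at hmem
  rw [LieSubmodule.mem_bot, sub_eq_zero] at hmem
  exact hmem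

theorem mem_center_iff_ad_eq_zero (z : L) : z ∈ LieAlgebra.center k L ↔ LieAlgebra.ad k L z = 0 := by
  rw [LieModule.mem_maxTrivSubmodule]
  constructor
  · intro h
    ext y
    rw [LieAlgebra.ad_apply, ← lie_skew, h y]; simp
  · intro h y
    rw [← lie_skew, ← LieAlgebra.ad_apply (R := k), h]; simp

/-- S13772 -/
theorem exists_pmap_eq_add_iff (γ : PLie.PMap k p L) (g : L → L) :
    (∃ γ' : PLie.PMap k p L, ∀ x : L, γ' x = γ x + g x) ↔
      ((∀ x y : L, g (x + y) = g x + g y) ∧ (∀ (c : k) (x : L), g (c • x) = c ^ p • g x) ∧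
        ∀ x : L, g x ∈ LieAlgebra.center k L) := by
  constructor
  · rintro ⟨γ', h⟩
    have hg : ∀ x, g x = γ' x - γ x := fun x => by rw [h x]; abel
    refine ⟨fun x y => ?_, fun c x => ?_, fun x => ?_⟩
    · rw [hg, hg, hg]
      have h1 := γ'.map_add x y
      have h2 := γ.map_add x y
      change γ' (x + y) = _ at h1
      change γ (x + y) = _ at h2
      rw [h1, h2]
      change γ' x + γ' y - _ - (γ x + γ y - _) = _
      abel
    · rw [hg, hg]
      have h1 := γ'.map_smul c x
      have h2 := γ.map_smul c x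
      change γ' (c • x) = _ at h1
      change γ (c • x) = _ at h2
      rw [h1, h2, smul_sub]
    · rw [mem_center_iff_ad_eq_zero, hg, map_sub]
      have h1 := γ'.ad_map x
      have h2 := γ.ad_map x
      change LieAlgebra.ad k L (γ' x) = _ at h1
      change LieAlgebra.ad k L (γ x) = _ at h2
      rw [h1, h2, sub_self]
  · rintro ⟨hadd, hsmul, hcen⟩
    refine ⟨{ toFun := fun x => γ x + g x
              map_smul := fun c x => ?_
              ad_map := fun x => ?_
              map_add := fun x y => ?_ }, fun x => rfl⟩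
    · have h2 := γ.map_smul c x
      change γ (c • x) = c ^ p • γ x at h2
      change γ (c • x) + g (c • x) = c ^ p • (γ x + g x)
      rw [h2, hsmul, smul_add]
    · have h2 := γ.ad_map x
      change LieAlgebra.ad k L (γ x) = _ at h2
      change LieAlgebra.ad k L (γ x + g x) = _
      rw [map_add, h2, (mem_center_iff_ad_eq_zero (g x)).mp (hcen x), add_zero]
    · have h2 := γ.map_add x y
      change γ (x + y) = γ x + γ y - _ at h2
      change γ (x + y) + g (x + y) = (γ x + g x) + (γ y + g y) - _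
      rw [h2, hadd]
      abel

end Groth.Agent.Helper4.PL
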