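import Mathlib
import Groth.Prelude.Def_PLie
import Groth.Agent.Lib.Helper4.PLie1

namespace Groth.Agent.Helper4.PL

open Groth

universe u v w

variable {k : Type u} [CommRing k]
variable {L : Type v} [LieRing L] [LieAlgebra k L]

/-- S13775 -/
theorem isEmpty_pmap_r3 {p : ℕ} [hp : Fact p.Prime] [CharP k p]
    (bs : Module.Basis (Fin 3) k L)
    (hxy : ⁅bs 0, bs 1⁆ = bs 1) (hxz : ⁅bs 0, bs 2⁆ = bs 1 + bs 2) (hyz : ⁅bs 1, bs 2⁆ = 0) :
    IsEmpty (PLie.PMap k p L) := by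
  have : Nontrivial k := CharP.nontrivial_of_char_ne_one (v := p) hp.out.ne_one
  refine ⟨fun γ => ?_⟩
  have hz : ∀ n : ℕ, ((LieAlgebra.ad k L (bs 0)) ^ n) (bs 2) = (n : k) • bs 1 + bs 2 := by
    intro n
    induction n with
    | zero => simp
    | succ n ih =>
      rw [pow_succ', Module.End.mul_apply, ih, map_add, map_smul, LieAlgebra.ad_apply,
        LieAlgebra.ad_apply, hxy, hxz]
      push_cast
      rw [add_smul, one_smul]
      abel
  have h1 := lie_pmap γ (bs 0) (bs 2)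
  rw [hz, CharP.cast_eq_zero, zero_smul, zero_add] at h1
  have h2 := bs.sum_repr (γ (bs 0))
  rw [Fin.sum_univ_three] at h2
  rw [← h2, add_lie, add_lie, smul_lie, smul_lie, smul_lie, hxz, hyz, lie_self, smul_zero,
    smul_zero, add_zero, add_zero, smul_add] at h1
  have e1 := congrArg (fun v => bs.repr v 1) h1
  have e2 := congrArg (fun v => bs.repr v 2) h1
  simp at e1 e2
  rw [e1] at e2
  exact zero_ne_one e2

/-- S13777 -/
theorem isEmpty_pmap_s3_charTwo [CharP k 2]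
    (bs : Module.Basis (Fin 3) k L)
    (hxy : ⁅bs 0, bs 1⁆ = bs 2) (hxz : ⁅bs 0, bs 2⁆ = -bs 0) (hyz : ⁅bs 1, bs 2⁆ = bs 1) :
    IsEmpty (PLie.PMap k 2 L) := by
  have : Nontrivial k := CharP.nontrivial_of_char_ne_one (v := 2) (by norm_num)
  refine ⟨fun γ => ?_⟩
  have h1 := lie_pmap γ (bs 0) (bs 1)
  rw [pow_two, Module.End.mul_apply, LieAlgebra.ad_apply, LieAlgebra.ad_apply, hxy, hxz] at h1
  have h2 := bs.sum_repr (γ (bs 0))
  rw [Fin.sum_univ_three] at h2
  have hzy : ⁅bs 2, bs 1⁆ = -bs 1 := by rw [← lie_skew, hyz]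
  rw [← h2, add_lie, add_lie, smul_lie, smul_lie, smul_lie, hxy, hzy, lie_self, smul_zero,
    add_zero] at h1
  have e1 := congrArg (fun v => bs.repr v 0) h1
  simp at e1

end Groth.Agent.Helper4.PL
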