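import Mathlib
import Groth.Prelude.Def_PLie
import Groth.Agent.Lib.Helper4.PLie1

namespace Groth.Agent.Helper4.PL

open Groth

universe u v w

variable {k : Type u} [CommRing k] {p : ℕ} [CharP k p]
variable {L : Type v} [LieRing L] [LieAlgebra k L] {L' : Type w} [LieRing L'] [LieAlgebra k L']

theorem map_bracketWord (g : L →ₗ⁅k⁆ L') (x₀ x₁ : L) (l : List Bool) :
    g (PLie.bracketWord (PLie.pair x₀ x₁) x₁ l) =
      PLie.bracketWord (PLie.pair (g x₀) (g x₁)) (g x₁) l := by
  induction l with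
  | nil => rfl
  | cons b l ih =>
    rw [PLie.bracketWord_cons, PLie.bracketWord_cons, LieHom.map_lie, ih]
    congr 1
    cases b <;> simp [PLie.pair]

theorem map_jacobson (g : L →ₗ⁅k⁆ L') (x₀ x₁ : L) :
    g (PLie.jacobson k p x₀ x₁) = PLie.jacobson k p (g x₀) (g x₁) := by
  unfold PLie.jacobson
  rw [map_sum]
  refine Finset.sum_congr rfl fun t _ => ?_
  rw [map_smul, map_bracketWord]

theorem bracketWord_zero (x : Bool → L) (l : List Bool) : PLie.bracketWord x (0 : L) l = 0 := by
  induction l with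
  | nil => rfl
  | cons b l ih => rw [PLie.bracketWord_cons, ih, lie_zero]

theorem jacobson_zero_right (x₀ : L) : PLie.jacobson k p x₀ (0 : L) = 0 := by
  unfold PLie.jacobson
  refine Finset.sum_eq_zero fun t _ => ?_
  rw [bracketWord_zero, smul_zero]

theorem pmap_ext (ψ ψ' : PLie.PMap k p L) (h : ∀ x, ψ x = ψ' x) : ψ = ψ' := by
  cases ψ; cases ψ'
  congr
  funext x
  exact h x

theorem map_pmap_congr (φ : PLie.PMap k p L) (g : L →ₗ⁅k⁆ L')
    (hker : ∀ x : L, g x = 0 → g (φ x) = 0) (x x' : L) (h : g x = g x') :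
    g (φ x) = g (φ x') := by
  have hd : g (x' - x) = 0 := by rw [map_sub, h, sub_self]
  have h1 := φ.map_add x (x' - x)
  rw [add_sub_cancel] at h1
  change φ x' = φ x + φ (x' - x) - _ at h1
  rw [h1, map_sub, map_add, hker _ hd, map_jacobson, hd, jacobson_zero_right]
  simp

/-- Pushing a `p`-map forward along a surjection with `p`-stable kernel. -/
theorem exists_pmap_of_surjective (φ : PLie.PMap k p L) (g : L →ₗ⁅k⁆ L')
    (hg : Function.Surjective g) (hker : ∀ x : L, g x = 0 → g (φ x) = 0) :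
    ∃ ψ : PLie.PMap k p L', PLie.IsPHom φ ψ g := by
  have key : ∀ x, g (φ (Function.surjInv hg (g x))) = g (φ x) := fun x =>
    map_pmap_congr φ g hker _ _ (Function.surjInv_eq hg (g x))
  refine ⟨{ toFun := fun y => g (φ (Function.surjInv hg y))
            map_smul := fun c y => ?_
            ad_map := fun y => ?_
            map_add := fun y₀ y₁ => ?_ }, fun x => (key x).symm⟩
  · obtain ⟨x, rfl⟩ := hg y
    have h1 := φ.map_smul c x
    change φ (c • x) = c ^ p • φ x at h1
    rw [← map_smul, key, key, h1, map_smul]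
  · obtain ⟨x, rfl⟩ := hg y
    ext y'
    obtain ⟨x', rfl⟩ := hg y'
    rw [key, LieAlgebra.ad_apply, ← LieHom.map_lie, lie_pmap, map_ad_pow]
  · obtain ⟨x₀, rfl⟩ := hg y₀
    obtain ⟨x₁, rfl⟩ := hg y₁
    have h1 := φ.map_add x₀ x₁
    change φ (x₀ + x₁) = φ x₀ + φ x₁ - _ at h1
    rw [← map_add, key, key, key, h1, map_sub, map_add, map_jacobson]

/-- S13771 -/
theorem existsUnique_pmap_range (φ : PLie.PMap k p L) (f : L →ₗ⁅k⁆ L')
    (hker : ∀ x : L, f x = 0 → f (φ x) = 0) :
    ∃! ψ : PLie.PMap k p f.range, PLie.IsPHom φ ψ f.rangeRestrict := by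
  have hs : Function.Surjective f.rangeRestrict := LieHom.surjective_rangeRestrict f
  obtain ⟨ψ, hψ⟩ := exists_pmap_of_surjective φ f.rangeRestrict hs (fun x hx => by
    apply Subtype.ext
    have : f x = 0 := congrArg Subtype.val hx
    exact hker x this)
  refine ⟨ψ, hψ, fun ψ' hψ' => ?_⟩
  apply pmap_ext
  intro y
  obtain ⟨x, rfl⟩ := hs y
  rw [← hψ x, ← hψ' x]

end Groth.Agent.Helper4.PL
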