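import Mathlib
import Groth.Prelude.Def_AbDual

/-!
# p-rank is an isogeny invariant (S16673): counting torsion in a surjection with finite kernel; finite surjective homs are surjective with finite fibres on kbar-points (helper4)
-/

set_option backward.isDefEq.respectTransparency.types false
set_option synthInstance.maxHeartbeats 400000
set_option autoImplicit false
set_option linter.unusedSectionVars false
set_option linter.style.haveILetI false
set_option linter.unusedSimpArgs false
universe u v w
open CategoryTheory CategoryTheory.Limits AlgebraicGeometry Opposite MonObj MonoidalCategory CartesianMonoidalCategory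

namespace Groth.Agent.Lib.Helper4.PRankIsog1

section grp

variable {A B : Type*} [CommGroup A] [CommGroup B]

/-- `N`-torsion -/
abbrev tors (G : Type*) [CommGroup G] (N : ℕ) : Subgroup G := (powMonoidHom N : G →* G).ker

lemma mem_tors {G : Type*} [CommGroup G] {N : ℕ} {g : G} : g ∈ tors G N ↔ g ^ N = 1 := Iff.rfl

lemma card_target (p m i : ℕ) [Fact p.Prime] :
    Nat.card (Multiplicative (Fin i → ZMod (p ^ m))) = (p ^ m) ^ i := by
  haveI : NeZero (p ^ m) := ⟨pow_ne_zero _ (Fact.out : p.Prime).ne_zero⟩
  rw [Nat.card_eq_fintype_card]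
  simp [ZMod.card]

lemma le_of_forall_pow_le (p i j c : ℕ) (hp : 1 < p) (h : ∀ m : ℕ, (p ^ m) ^ i ≤ c * (p ^ m) ^ j) :
    i ≤ j := by
  by_contra hij
  push Not at hij
  have h1 := h c
  have h2 : (p ^ c) ^ (j + 1) ≤ (p ^ c) ^ i :=
    Nat.pow_le_pow_right (Nat.pos_of_ne_zero (pow_ne_zero _ (by omega))) hij
  have h3 : (p ^ c) ^ (j + 1) = p ^ c * (p ^ c) ^ j := by ring
  have h4 : 0 < (p ^ c) ^ j := Nat.pos_of_ne_zero (pow_ne_zero _ (pow_ne_zero _ (by omega)))
  have h5 : p ^ c * (p ^ c) ^ j ≤ c * (p ^ c) ^ j := by rw [← h3]; exact le_trans h2 h1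
  have h6 : p ^ c ≤ c := Nat.le_of_mul_le_mul_right h5 h4
  have h7 : c < p ^ c := Nat.lt_pow_self hp
  omega

theorem rank_eq_of_isogeny (p : ℕ) [Fact p.Prime] (φ : A →* B) (hs : Function.Surjective φ)
    (hfin : Finite φ.ker) (i j : ℕ)
    (hi : ∀ m, Nonempty (tors A (p ^ m) ≃* Multiplicative (Fin i → ZMod (p ^ m))))
    (hj : ∀ m, Nonempty (tors B (p ^ m) ≃* Multiplicative (Fin j → ZMod (p ^ m)))) : i = j := by
  have hp : p.Prime := Fact.out
  have hne : ∀ m, NeZero (p ^ m) := fun m => ⟨pow_ne_zero _ hp.ne_zero⟩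
  have finA : ∀ m, Finite (tors A (p ^ m)) := fun m => by
    obtain ⟨e⟩ := hi m
    haveI := hne m
    exact Finite.of_equiv _ e.symm.toEquiv
  have finB : ∀ m, Finite (tors B (p ^ m)) := fun m => by
    obtain ⟨e⟩ := hj m
    haveI := hne m
    exact Finite.of_equiv _ e.symm.toEquiv
  have cardA : ∀ m, Nat.card (tors A (p ^ m)) = (p ^ m) ^ i := fun m => by
    obtain ⟨e⟩ := hi m
    rw [Nat.card_congr e.toEquiv, card_target]
  have cardB : ∀ m, Nat.card (tors B (p ^ m)) = (p ^ m) ^ j := fun m => by
    obtain ⟨e⟩ := hj m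
    rw [Nat.card_congr e.toEquiv, card_target]
  set c := Nat.card φ.ker with hc
  have hc0 : c ≠ 0 := Nat.card_ne_zero.mpr ⟨⟨1, one_mem _⟩, hfin⟩
  apply le_antisymm
  · -- i ≤ j
    apply le_of_forall_pow_le p i j c hp.one_lt
    intro m
    haveI := finA m
    haveI := finB m
    let ψ : tors A (p ^ m) →* tors B (p ^ m) :=
      MonoidHom.codRestrict (φ.comp (tors A (p ^ m)).subtype) (tors B (p ^ m)) (fun a => by
        rw [mem_tors, MonoidHom.comp_apply, ← map_pow]
        have := a.2
        rw [mem_tors] at this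
        rw [Subgroup.subtype_apply, this, map_one])
    have h1 : Nat.card (tors A (p ^ m)) = Nat.card ψ.ker * Nat.card ψ.range := by
      rw [← Subgroup.index_ker, Subgroup.card_mul_index]
    have h2 : Nat.card ψ.ker ≤ c := by
      let emb : ψ.ker → φ.ker := fun x => ⟨x.1.1, by
        have := x.2
        rw [MonoidHom.mem_ker] at this ⊢
        exact congrArg Subtype.val this⟩
      apply Nat.card_le_card_of_injective emb
      intro x y hxy
      apply Subtype.ext
      apply Subtype.ext
      exact congrArg (fun z : φ.ker => (z : A)) hxy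
    have h3 : Nat.card ψ.range ≤ Nat.card (tors B (p ^ m)) :=
      Nat.card_le_card_of_injective Subtype.val Subtype.val_injective
    rw [← cardA, ← cardB, h1]
    exact Nat.mul_le_mul h2 h3
  · -- j ≤ i
    obtain ⟨s, c', hc', hcs⟩ := Nat.exists_eq_pow_mul_and_not_dvd hc0 p hp.ne_one
    have key : ∀ m, (p ^ m) ^ j ≤ (p ^ (m + s)) ^ i := by
      intro m
      haveI := finA (m + s)
      haveI := finB m
      choose lift hlift using hs
      have hmem : ∀ b : tors B (p ^ m), (lift b.1) ^ c' ∈ tors A (p ^ (m + s)) := by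
        intro b
        rw [mem_tors]
        have h1 : (lift b.1) ^ (p ^ m) ∈ φ.ker := by
          rw [MonoidHom.mem_ker, map_pow, hlift]
          exact b.2
        have h2 : (⟨(lift b.1) ^ (p ^ m), h1⟩ : φ.ker) ^ c = 1 := pow_card_eq_one'
        have h3 := congrArg Subtype.val h2
        rw [Subgroup.coe_pow, Subgroup.coe_one] at h3
        rw [← h3, ← pow_mul, ← pow_mul, hcs]
        congr 1
        ring
      let emb : tors B (p ^ m) → tors A (p ^ (m + s)) := fun b => ⟨(lift b.1) ^ c', hmem b⟩
      have hemb : Function.Injective emb := by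
        intro b1 b2 h12
        have h1 : (lift b1.1) ^ c' = (lift b2.1) ^ c' := congrArg Subtype.val h12
        have h2 : b1.1 ^ c' = b2.1 ^ c' := by
          have := congrArg φ h1
          rwa [map_pow, map_pow, hlift, hlift] at this
        have h3 : (b1.1 / b2.1) ^ c' = 1 := by rw [div_pow, h2, div_self']
        have h4 : (b1.1 / b2.1) ^ (p ^ m) = 1 := by
          rw [div_pow]
          have e1 : b1.1 ^ (p ^ m) = 1 := b1.2
          have e2 : b2.1 ^ (p ^ m) = 1 := b2.2
          rw [e1, e2, div_self']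
        have h5 : Nat.gcd c' (p ^ m) = 1 :=
          Nat.Coprime.pow_right m ((Nat.Prime.coprime_iff_not_dvd hp).mpr hc').symm
        have h6 := pow_gcd_eq_one.mpr ⟨h3, h4⟩
        rw [h5, pow_one] at h6
        exact Subtype.ext (div_eq_one.mp h6)
      have := Nat.card_le_card_of_injective emb hemb
      rwa [cardA, cardB] at this
    by_contra hji
    push Not at hji
    have h1 := key (s * i + 1)
    rw [← pow_mul, ← pow_mul] at h1
    have h2 := (Nat.pow_le_pow_iff_right hp.one_lt).mp h1
    have h3 : (s * i + 1) * (i + 1) ≤ (s * i + 1) * j := Nat.mul_le_mul_left _ hji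
    nlinarith

end grp

section sch

variable {K : Type u} [Field K] [IsAlgClosed K]

lemma exists_section {P : Scheme.{u}} (f : P ⟶ Spec (.of K)) [LocallyOfFiniteType f]
    [Nonempty P] : ∃ s : Spec (.of K) ⟶ P, s ≫ f = 𝟙 _ := by
  haveI : JacobsonSpace P := LocallyOfFiniteType.jacobsonSpace f
  obtain ⟨x, -, hx⟩ := nonempty_inter_closedPoints (X := P) (Z := Set.univ) Set.univ_nonempty
    isOpen_univ.isLocallyClosed
  exact ⟨_, ((pointEquivClosedPoint f).symm ⟨x, hx⟩).2⟩

lemma finite_sections {P : Scheme.{u}} (f : P ⟶ Spec (.of K)) [IsFinite f] :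
    Finite {s : Spec (.of K) ⟶ P // s ≫ f = 𝟙 _} := by
  haveI : Finite P := by
    have h1 := f.finite_preimage_singleton (IsLocalRing.closedPoint K)
    have h2 : f ⁻¹' {IsLocalRing.closedPoint K} = Set.univ := by
      ext x
      simp only [Set.mem_preimage, Set.mem_singleton_iff, Set.mem_univ, iff_true]
      exact Subsingleton.elim _ _
    exact Set.finite_univ_iff.mp (by rw [← h2]; exact h1)
  exact Finite.of_equiv _ (pointEquivClosedPoint f).symm

end sch

section overK

variable {k : Type u} [Field k] (X Y : Over (Spec (CommRingCat.of k))) (h : X ⟶ Y)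

/-- the geometric point `Spec k̄` -/
noncomputable abbrev Tk (k : Type u) [Field k] : Over (Spec (CommRingCat.of k)) :=
  Over.mk (Spec.map (CommRingCat.ofHom (algebraMap k (AlgebraicClosure k))))

variable {X Y}

lemma exists_lift [IsFinite h.left] [Surjective h.left] (y : Tk k ⟶ Y) :
    ∃ x : Tk k ⟶ X, x ≫ h = y := by
  haveI : Nonempty ↥(pullback h.left y.left) := by
    obtain ⟨z, -⟩ := (pullback.snd h.left y.left).surjective (IsLocalRing.closedPoint _)
    exact ⟨z⟩
  obtain ⟨s, hs⟩ := exists_section (K := AlgebraicClosure k) (pullback.snd h.left y.left)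
  refine ⟨Over.homMk (s ≫ pullback.fst h.left y.left) ?_, ?_⟩
  · have h1 : pullback.fst h.left y.left ≫ X.hom = pullback.snd h.left y.left ≫ (Tk k).hom := by
      rw [← Over.w h, ← Over.w y, ← Category.assoc, ← Category.assoc, pullback.condition]
    rw [Category.assoc, h1, ← Category.assoc, hs]
    exact Category.id_comp _
  · apply Over.OverMorphism.ext
    simp only [Over.comp_left, Over.homMk_left, Category.assoc]
    rw [pullback.condition, ← Category.assoc, hs]
    exact Category.id_comp _

lemma finite_lifts [IsFinite h.left] (y : Tk k ⟶ Y) :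
    Finite {x : Tk k ⟶ X // x ≫ h = y} := by
  haveI := finite_sections (K := AlgebraicClosure k) (pullback.snd h.left y.left)
  let emb : {x : Tk k ⟶ X // x ≫ h = y} →
      {s : Spec (.of (AlgebraicClosure k)) ⟶ pullback h.left y.left //
        s ≫ pullback.snd h.left y.left = 𝟙 _} := fun x =>
    ⟨pullback.lift x.1.left (𝟙 _) (by
      have := congrArg (fun g : Tk k ⟶ Y => g.left) x.2
      simpa using this), pullback.lift_snd _ _ _⟩
  apply Finite.of_injective emb
  intro x1 x2 h12
  apply Subtype.ext
  apply Over.OverMorphism.ext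
  have h1 := congrArg (fun s => s.1 ≫ pullback.fst h.left y.left) h12
  simp only [emb] at h1
  rw [pullback.lift_fst, pullback.lift_fst] at h1
  exact h1

theorem main (k : Type u) [Field k] (p : ℕ) [Fact p.Prime]
    (X Y : Over (Spec (CommRingCat.of k)))
    [GrpObj X] [IsCommMonObj X] [GrpObj Y] [IsCommMonObj Y]
    (h : X ⟶ Y) [IsMonHom h] [IsFinite h.left] [Surjective h.left]
    (i j : ℕ)
    (hi : ∀ m : ℕ, Nonempty (AbDual.torsPts X (p ^ m)
      (Over.mk (Spec.map (CommRingCat.ofHom (algebraMap k (AlgebraicClosure k))))) ≃*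
      Multiplicative (Fin i → ZMod (p ^ m))))
    (hj : ∀ m : ℕ, Nonempty (AbDual.torsPts Y (p ^ m)
      (Over.mk (Spec.map (CommRingCat.ofHom (algebraMap k (AlgebraicClosure k))))) ≃*
      Multiplicative (Fin j → ZMod (p ^ m)))) :
    i = j := by
  let φ : (Tk k ⟶ X) →* (Tk k ⟶ Y) := IsMonHom.monoidHom h (Tk k)
  have hφ : ∀ x, φ x = x ≫ h := fun _ => rfl
  have hsurj : Function.Surjective φ := fun y => exists_lift h y
  have hfin : Finite φ.ker := by
    haveI := finite_lifts h (1 : Tk k ⟶ Y)
    let emb : φ.ker → {x : Tk k ⟶ X // x ≫ h = 1} := fun x => ⟨x.1, by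
      have := x.2
      rw [MonoidHom.mem_ker, hφ] at this
      exact this⟩
    apply Finite.of_injective emb
    intro x1 x2 h12
    apply Subtype.ext
    exact congrArg (fun z : {x : Tk k ⟶ X // x ≫ h = 1} => z.1) h12
  exact rank_eq_of_isogeny p φ hsurj hfin i j hi hj

end overK

end Groth.Agent.Lib.Helper4.PRankIsog1
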