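import Groth.Prelude.Def_W4c1limliniiiiRamP1
import Mathlib
set_option autoImplicit false
set_option linter.unusedSectionVars false

namespace Groth.Agent.Lib.Helper4.Pencil
open Polynomial W4c1limliniiii

variable {k : Type*} [Field k]

theorem wronskian_smul_left (c : k) (F G : k[X]) : wronskian (c • F) G = c • wronskian F G := by
  unfold wronskian
  rw [derivative_smul, smul_mul_assoc, smul_mul_assoc, smul_sub]

theorem wronskian_smul_right (c : k) (F G : k[X]) : wronskian F (c • G) = c • wronskian F G := by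
  unfold wronskian
  rw [derivative_smul, mul_smul_comm, mul_smul_comm, smul_sub]

theorem wronskian_comb (α β γ δ : k) (F G : k[X]) :
    wronskian (α • F + β • G) (γ • F + δ • G) = (α * δ - β * γ) • wronskian F G := by
  rw [wronskian_add_left, wronskian_add_right, wronskian_add_right]
  simp only [wronskian_smul_left, wronskian_smul_right, wronskian_self_eq_zero, smul_zero, zero_add,
    add_zero]
  rw [← wronskian_neg_eq F G]
  simp only [smul_neg, smul_smul]
  rw [sub_smul, mul_comm δ α, mul_comm γ β]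
  abel

theorem linInd_of_finrank (F G : k[X]) (h : Module.finrank k (Submodule.span k {F, G}) = 2) :
    ∀ α β : k, α • F + β • G = 0 → α = 0 ∧ β = 0 := by
  have hli : LinearIndependent k ![F, G] := by
    rw [linearIndependent_iff_card_eq_finrank_span]
    have : Set.range ![F, G] = {F, G} := by simp [Matrix.range_cons, Set.pair_comm]
    rw [this, Set.finrank, h]; simp
  exact LinearIndependent.pair_iff.1 hli

theorem finrank_of_linInd (F G : k[X]) (h : ∀ α β : k, α • F + β • G = 0 → α = 0 ∧ β = 0) :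
    Module.finrank k (Submodule.span k {F, G}) = 2 := by
  have hli : LinearIndependent k ![F, G] := LinearIndependent.pair_iff.2 h
  have := finrank_span_eq_card hli
  have h2 : Set.range ![F, G] = {F, G} := by simp [Matrix.range_cons, Set.pair_comm]
  rw [h2] at this
  rw [this]; simp

/-- local Wronskian computation -/
theorem wronskian_local (a : k) (s₁ u : k[X]) (m : ℕ) :
    wronskian s₁ ((X - C a) ^ (m + 1) * u) =
      (X - C a) ^ m * (s₁ * (C ((m + 1 : ℕ) : k) * u + (X - C a) * derivative u)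
        - derivative s₁ * (X - C a) * u) := by
  unfold wronskian
  rw [derivative_mul, derivative_X_sub_C_pow]
  simp only [Nat.add_sub_cancel]
  rw [pow_succ]
  ring

theorem rootMultiplicity_pow_mul (a : k) (n : ℕ) (Q : k[X]) (hQ : Q.eval a ≠ 0) :
    rootMultiplicity a ((X - C a) ^ n * Q) = n := by
  have hQ0 : Q ≠ 0 := by rintro rfl; simp at hQ
  rw [mul_comm, rootMultiplicity_mul_X_sub_C_pow hQ0, rootMultiplicity_eq_zero hQ, zero_add]

theorem rootMultiplicity_smul (a c : k) (hc : c ≠ 0) (s : k[X]) :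
    rootMultiplicity a (c • s) = rootMultiplicity a s := by
  by_cases hs : s = 0
  · rw [hs, smul_zero]
  rw [smul_eq_C_mul, rootMultiplicity_mul (mul_ne_zero (C_ne_zero.2 hc) hs), rootMultiplicity_C,
    zero_add]

/-- Normal form of a pencil at a point where it has no base point. -/
theorem normal_form (F G : k[X]) (hfin : Module.finrank k (Submodule.span k {F, G}) = 2) (a : k)
    (hb : ∃ s ∈ Submodule.span k {F, G}, s.eval a ≠ 0) :
    ∃ s₁ s₂ : k[X], s₁ ∈ Submodule.span k {F, G} ∧ s₂ ∈ Submodule.span k {F, G} ∧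
      s₁.eval a ≠ 0 ∧ s₂.eval a = 0 ∧ s₂ ≠ 0 ∧
      (∀ s ∈ Submodule.span k {F, G}, ∃ α β : k, s = α • s₁ + β • s₂) ∧
      wronskian s₁ s₂ = wronskian F G := by
  have hli := linInd_of_finrank F G hfin
  have hF : F ∈ Submodule.span k {F, G} := Submodule.subset_span (by simp)
  have hG : G ∈ Submodule.span k {F, G} := Submodule.subset_span (by simp)
  by_cases hFa : F.eval a = 0
  · have hGa : G.eval a ≠ 0 := by
      obtain ⟨s, hs, hsa⟩ := hb
      obtain ⟨α, β, rfl⟩ := Submodule.mem_span_pair.1 hs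
      intro h0
      apply hsa
      simp [hFa, h0]
    refine ⟨G, -F, hG, Submodule.neg_mem _ hF, hGa, by simp [hFa], ?_, ?_, ?_⟩
    · intro h0
      have := hli 1 0 (by rw [one_smul, zero_smul, add_zero]; exact neg_eq_zero.1 h0)
      exact one_ne_zero this.1
    · intro s hs
      obtain ⟨α, β, rfl⟩ := Submodule.mem_span_pair.1 hs
      exact ⟨β, -α, by simp [add_comm]⟩
    · rw [wronskian_neg_right, wronskian_neg_eq]
  · refine ⟨F, G - (G.eval a / F.eval a) • F, hF,
      Submodule.sub_mem _ hG (Submodule.smul_mem _ _ hF), hFa, ?_, ?_, ?_, ?_⟩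
    · simp [div_mul_cancel₀ _ hFa]
    · intro h0
      have := hli (-(G.eval a / F.eval a)) 1 (by rw [one_smul, neg_smul, ← h0]; ring)
      exact one_ne_zero this.2
    · intro s hs
      obtain ⟨α, β, rfl⟩ := Submodule.mem_span_pair.1 hs
      refine ⟨α + β * (G.eval a / F.eval a), β, ?_⟩
      rw [smul_sub, add_smul, mul_smul]; abel
    · have : G - (G.eval a / F.eval a) • F = (-(G.eval a / F.eval a)) • F + (1 : k) • G := by
        rw [one_smul, neg_smul]; ring
      rw [this]
      have h2 := wronskian_comb 1 0 (-(G.eval a / F.eval a)) 1 F G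
      simp only [one_smul, zero_smul, add_zero, mul_one, zero_mul, sub_zero] at h2
      rw [one_smul]
      exact h2

theorem hasRamIdx_unique (V : Submodule k k[X]) (a : k) (e e' : ℕ) (h : HasRamIdx V a e)
    (h' : HasRamIdx V a e') : e = e' := by
  obtain ⟨⟨s, hs, hs0, hse⟩, h2⟩ := h
  obtain ⟨⟨s', hs', hs0', hse'⟩, h2'⟩ := h'
  have := h2 s' hs' hs0'
  have := h2' s hs hs0
  omega

/-- Key local lemma: ramification index versus order of the Wronskian. -/
theorem key (F G : k[X]) (hfin : Module.finrank k (Submodule.span k {F, G}) = 2) (a : k)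
    (hb : ∃ s ∈ Submodule.span k {F, G}, s.eval a ≠ 0) (hW : wronskian F G ≠ 0) :
    ∃ m : ℕ, 1 ≤ m ∧ HasRamIdx (Submodule.span k {F, G}) a m ∧
      (((m : k) ≠ 0 ∧ rootMultiplicity a (wronskian F G) + 1 = m) ∨
        ((m : k) = 0 ∧ m ≤ rootMultiplicity a (wronskian F G))) := by
  obtain ⟨s₁, s₂, hs₁, hs₂, h1a, h2a, h20, hall, hWs⟩ := normal_form F G hfin a hb
  obtain ⟨u, hu, hnd⟩ := exists_eq_pow_rootMultiplicity_mul_and_not_dvd s₂ h20 a
  have hua : u.eval a ≠ 0 := by
    intro h0; exact hnd (dvd_iff_isRoot.2 h0)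
  have hpos : 0 < rootMultiplicity a s₂ := (rootMultiplicity_pos h20).2 h2a
  obtain ⟨m, hm⟩ : ∃ m, rootMultiplicity a s₂ = m + 1 := ⟨rootMultiplicity a s₂ - 1, by omega⟩
  rw [hm] at hu
  refine ⟨m + 1, by omega, ⟨⟨s₂, hs₂, h20, by omega⟩, ?_⟩, ?_⟩
  · intro s hs hs0
    obtain ⟨α, β, rfl⟩ := hall s hs
    by_cases hα : α = 0
    · subst hα
      rw [zero_smul, zero_add] at hs0 ⊢
      have hβ : β ≠ 0 := by rintro rfl; exact hs0 (zero_smul _ _)
      rw [rootMultiplicity_smul a β hβ, hm]
    · rw [rootMultiplicity_eq_zero]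
      · omega
      · rw [IsRoot.def, eval_add, eval_smul, eval_smul, h2a, smul_zero, add_zero, smul_eq_mul]
        exact mul_ne_zero hα h1a
  · have hWl := wronskian_local a s₁ u m
    rw [← hu, hWs] at hWl
    by_cases hmk : ((m + 1 : ℕ) : k) = 0
    · right
      refine ⟨hmk, ?_⟩
      rw [le_rootMultiplicity_iff hW, hWl, hmk, C_0, zero_mul, zero_add, pow_succ]
      refine ⟨s₁ * derivative u - derivative s₁ * u, by ring⟩
    · left
      refine ⟨hmk, ?_⟩
      rw [hWl, rootMultiplicity_pow_mul]
      simp only [eval_sub, eval_mul, eval_add, eval_C, eval_X, sub_self, zero_mul, mul_zero,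
        add_zero, sub_zero]
      exact mul_ne_zero h1a (mul_ne_zero hmk hua)

end Groth.Agent.Lib.Helper4.Pencil
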