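import Groth.Agent.Lib.Helper4.Pencil2
import Mathlib
set_option autoImplicit false
set_option linter.unusedSectionVars false

namespace Groth.Agent.Lib.Helper4.Pencil
open Polynomial W4c1limliniiii

variable {k : Type*} [Field k]

theorem three_point (D : ℕ) (a₀ a₁ a₂ : k) (h01 : a₀ ≠ a₁) (h02 : a₀ ≠ a₂) (h12 : a₁ ≠ a₂)
    (m₀ m₁ m₂ : ℕ) (hm : D + 1 ≤ m₀ + m₁ + m₂) (s : k[X]) (hs : s ∈ degreeLE k D)
    (h0 : (X - C a₀) ^ m₀ ∣ s) (h1 : (X - C a₁) ^ m₁ ∣ s) (h2 : (X - C a₂) ^ m₂ ∣ s) : s = 0 := by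
  have cop : ∀ (a b : k), a ≠ b → ∀ m n : ℕ, IsCoprime ((X - C a) ^ m) ((X - C b) ^ n) := by
    intro a b hab m n
    apply IsCoprime.pow
    apply isCoprime_X_sub_C_of_isUnit_sub
    rw [isUnit_iff_ne_zero, sub_ne_zero]; exact hab
  have hd01 := (cop a₀ a₁ h01 m₀ m₁).mul_dvd h0 h1
  have hcop2 : IsCoprime ((X - C a₀) ^ m₀ * (X - C a₁) ^ m₁) ((X - C a₂) ^ m₂) :=
    IsCoprime.mul_left (cop a₀ a₂ h02 m₀ m₂) (cop a₁ a₂ h12 m₁ m₂)
  have hdvd := hcop2.mul_dvd hd01 h2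
  by_contra hne
  have hd1 : s.natDegree ≤ D := natDegree_le_of_degree_le (mem_degreeLE.1 hs)
  have hd2 := natDegree_le_of_dvd hdvd hne
  rw [(((monic_X_sub_C _).pow _).mul ((monic_X_sub_C _).pow _)).natDegree_mul ((monic_X_sub_C _).pow _),
    ((monic_X_sub_C _).pow _).natDegree_mul ((monic_X_sub_C _).pow _),
    (monic_X_sub_C _).natDegree_pow, natDegree_X_sub_C,
    (monic_X_sub_C _).natDegree_pow, natDegree_X_sub_C,
    (monic_X_sub_C _).natDegree_pow, natDegree_X_sub_C] at hd2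
  omega

theorem span_pair_smul (c : k) (hc : c ≠ 0) (x y : k[X]) :
    Submodule.span k {c • x, c • y} = Submodule.span k {x, y} := by
  apply le_antisymm
  · rw [Submodule.span_le]
    rintro z (rfl | rfl)
    · exact Submodule.smul_mem _ _ (Submodule.subset_span (by simp))
    · exact Submodule.smul_mem _ _ (Submodule.subset_span (by simp))
  · rw [Submodule.span_le]
    rintro z (rfl | rfl)
    · have h : c⁻¹ • (c • z) ∈ Submodule.span k {c • z, c • y} :=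
        Submodule.smul_mem _ _ (Submodule.subset_span (by simp))
      rwa [smul_smul, inv_mul_cancel₀ hc, one_smul] at h
    · have h : c⁻¹ • (c • z) ∈ Submodule.span k {c • x, c • z} :=
        Submodule.smul_mem _ _ (Submodule.subset_span (by simp))
      rwa [smul_smul, inv_mul_cancel₀ hc, one_smul] at h

section core
variable (d : ℕ) (a₀ a₁ a₂ : k) (m₀ m₁ m₂ : ℕ)
variable (h01 : a₀ ≠ a₁) (h02 : a₀ ≠ a₂) (h12 : a₁ ≠ a₂)
  (hm₀ : m₀ ≤ d) (hm₁ : m₁ ≤ d) (hm₂ : m₂ ≤ d) (hsum : m₀ + m₁ + m₂ = 2 * d + 1)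
include h01 h02 h12 hm₀ hm₁ hm₂ hsum

/-- Uniqueness: a base-point-free member of the Schubert intersection is the only member. -/
theorem unique_of_bpf [IsAlgClosed k] (v v' : k[X] × k[X]) (hv : v ∈ LL d a₀ a₁ a₂ m₀ m₁ m₂)
    (hv' : v' ∈ LL d a₀ a₁ a₂ m₀ m₁ m₂) (hv0 : v ≠ 0)
    (hbpf : ∀ a : k, ∃ s ∈ Submodule.span k {v.1, v.2}, s.eval a ≠ 0)
    (hdeg : ∃ s ∈ Submodule.span k {v.1, v.2}, s.natDegree = d) : ∃ c : k, v' = c • v := by
  have hf := fst_ne_zero d a₀ a₁ a₂ m₀ m₁ m₂ h01 h02 h12 hm₀ hm₁ hm₂ hsum v hv hv0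
  obtain ⟨h1, h2, h3, h4, h5⟩ := hv
  obtain ⟨h1', h2', h3', h4', h5'⟩ := hv'
  have hN : v.1 * v'.2 - v'.1 * v.2 = 0 := by
    refine three_point (2 * d) a₀ a₁ a₂ h01 h02 h12 m₀ m₁ m₂ (by omega) _ ?_ ?_ ?_ ?_
    · rw [mem_degreeLE] at h1 h2 h1' h2' ⊢
      refine le_trans (degree_sub_le _ _) (max_le ?_ ?_)
      · refine le_trans (degree_mul_le _ _) ?_
        have := add_le_add h1 h2'
        refine le_trans this ?_
        rw [two_mul]; push_cast; rfl
      · refine le_trans (degree_mul_le _ _) ?_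
        have := add_le_add h1' h2
        refine le_trans this ?_
        rw [two_mul]; push_cast; rfl
    · exact dvd_sub (dvd_mul_of_dvd_left h3 _) (dvd_mul_of_dvd_left h3' _)
    · exact dvd_sub (dvd_mul_of_dvd_right h4' _) (dvd_mul_of_dvd_right h4 _)
    · have : v.1 * v'.2 - v'.1 * v.2 = v.1 * (v'.1 + v'.2) - v'.1 * (v.1 + v.2) := by ring
      rw [this]
      exact dvd_sub (dvd_mul_of_dvd_right h5' _) (dvd_mul_of_dvd_right h5 _)
  have hcop : IsCoprime v.1 v.2 := by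
    rw [isCoprime_iff_aeval_ne_zero_of_isAlgClosed k k]
    intro a
    obtain ⟨s, hs, hsa⟩ := hbpf a
    obtain ⟨α, β, rfl⟩ := Submodule.mem_span_pair.1 hs
    by_contra hcon
    push Not at hcon
    simp only [coe_aeval_eq_eval] at hcon
    apply hsa
    rw [eval_add, eval_smul, eval_smul, hcon.1, hcon.2, smul_zero, smul_zero, add_zero]
  have hN' : v.1 * v'.2 = v'.1 * v.2 := sub_eq_zero.1 hN
  have hdvd : v.1 ∣ v'.1 := hcop.dvd_of_dvd_mul_right ⟨v'.2, hN'.symm⟩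
  obtain ⟨h, hh⟩ := hdvd
  have hh2 : v'.2 = h * v.2 := by
    have : v.1 * v'.2 = v.1 * (h * v.2) := by rw [hN', hh]; ring
    exact mul_left_cancel₀ hf this
  by_cases hh0 : h = 0
  · refine ⟨0, ?_⟩
    rw [zero_smul]
    refine Prod.ext ?_ ?_
    · rw [hh, hh0, mul_zero]; rfl
    · rw [hh2, hh0, zero_mul]; rfl
  obtain ⟨s, hs, hsd⟩ := hdeg
  obtain ⟨α, β, rfl⟩ := Submodule.mem_span_pair.1 hs
  have hs0 : α • v.1 + β • v.2 ≠ 0 := by
    intro h0
    rw [h0, natDegree_zero] at hsd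
    omega
  have hmem : h * (α • v.1 + β • v.2) ∈ degreeLE k d := by
    have : h * (α • v.1 + β • v.2) = α • v'.1 + β • v'.2 := by
      rw [hh, hh2, mul_add, mul_smul_comm, mul_smul_comm, mul_comm h v.1]
    rw [this]
    exact Submodule.add_mem _ (Submodule.smul_mem _ _ h1') (Submodule.smul_mem _ _ h2')
  have hnd := natDegree_le_of_degree_le (mem_degreeLE.1 hmem)
  rw [natDegree_mul hh0 hs0, hsd] at hnd
  have hh' : h.natDegree = 0 := by omega
  rw [eq_C_of_natDegree_eq_zero hh'] at hh hh2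
  refine ⟨h.coeff 0, Prod.ext ?_ ?_⟩
  · rw [Prod.smul_fst, smul_eq_C_mul, hh, mul_comm]
  · rw [Prod.smul_snd, smul_eq_C_mul, hh2]

end core

theorem wronskian_sub_smul_right (F G : k[X]) (c : k) : wronskian F (G - c • F) = wronskian F G := by
  rw [sub_eq_add_neg, wronskian_add_right, wronskian_neg_right, wronskian_smul_right,
    wronskian_self_eq_zero, smul_zero, neg_zero, add_zero]

/-- degree bound on the Wronskian -/
theorem natDegree_wronskian_le (d : ℕ) (hd : 1 ≤ d) (F G : k[X]) (hF : F.natDegree ≤ d)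
    (hG : G.natDegree ≤ d) : (wronskian F G).natDegree ≤ 2 * d - 2 := by
  by_cases hW : wronskian F G = 0
  · rw [hW, natDegree_zero]; omega
  have hlt := natDegree_wronskian_lt_add hW
  by_cases hcase : F.natDegree < d ∨ G.natDegree < d
  · rcases hcase with h | h <;> omega
  push Not at hcase
  have hFd : F.natDegree = d := by omega
  have hGd : G.natDegree = d := by omega
  have hF0 : F ≠ 0 := by rintro rfl; exact hW (wronskian_zero_left _)
  have hG0 : G ≠ 0 := by rintro rfl; exact hW (wronskian_zero_right _)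
  have hlc : F.leadingCoeff ≠ 0 := leadingCoeff_ne_zero.2 hF0
  set c := G.leadingCoeff / F.leadingCoeff with hc
  have hc0 : c ≠ 0 := div_ne_zero (leadingCoeff_ne_zero.2 hG0) hlc
  have hW' : wronskian F (G - c • F) = wronskian F G := wronskian_sub_smul_right F G c
  have hG'0 : G - c • F ≠ 0 := by
    intro h0; rw [h0, wronskian_zero_right] at hW'; exact hW hW'.symm
  have hdeg : (G - c • F).degree < G.degree := by
    apply degree_sub_lt_left _ hG0
    · rw [smul_eq_C_mul, leadingCoeff_mul, leadingCoeff_C, hc, div_mul_cancel₀ _ hlc]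
    · rw [degree_eq_natDegree hG0, degree_eq_natDegree (smul_ne_zero hc0 hF0), natDegree_smul _ hc0,
        hFd, hGd]
  have hnd := natDegree_lt_natDegree hG'0 hdeg
  rw [← hW'] at hW ⊢
  have := natDegree_wronskian_lt_add hW
  omega

theorem pow_pred_dvd_derivative (a : k) (m : ℕ) (F : k[X]) (h : (X - C a) ^ m ∣ F) :
    (X - C a) ^ (m - 1) ∣ derivative F := by
  obtain ⟨u, rfl⟩ := h
  rw [derivative_mul, derivative_X_sub_C_pow]
  refine dvd_add ?_ ?_
  · exact dvd_mul_of_dvd_left (dvd_mul_left _ _) _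
  · exact dvd_mul_of_dvd_left (pow_dvd_pow _ (Nat.sub_le _ _)) _

theorem pow_pred_dvd_wronskian_left (a : k) (m : ℕ) (F G : k[X]) (h : (X - C a) ^ m ∣ F) :
    (X - C a) ^ (m - 1) ∣ wronskian F G := by
  unfold wronskian
  refine dvd_sub ?_ ?_
  · exact dvd_mul_of_dvd_left (dvd_trans (pow_dvd_pow _ (Nat.sub_le _ _)) h) _
  · exact dvd_mul_of_dvd_left (pow_pred_dvd_derivative a m F h) _

theorem pow_pred_dvd_wronskian_right (a : k) (m : ℕ) (F G : k[X]) (h : (X - C a) ^ m ∣ G) :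
    (X - C a) ^ (m - 1) ∣ wronskian F G := by
  rw [← wronskian_neg_eq G F, dvd_neg]
  exact pow_pred_dvd_wronskian_left a m G F h

theorem wronskian_pow_mul (a : k) (b : ℕ) (f g : k[X]) :
    wronskian ((X - C a) ^ b * f) ((X - C a) ^ b * g) = (X - C a) ^ (2 * b) * wronskian f g := by
  unfold wronskian
  rw [derivative_mul, derivative_mul, derivative_X_sub_C_pow]
  ring

/-- No base point at `a`, given that the order of the Wronskian is small. -/
theorem bpf_of_ord (F G : k[X]) (hfin : Module.finrank k (Submodule.span k {F, G}) = 2)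
    (hW : wronskian F G ≠ 0) (a : k) (e : ℕ)
    (hs : ∃ s ∈ Submodule.span k {F, G}, s ≠ 0 ∧ e ≤ rootMultiplicity a s)
    (hord : rootMultiplicity a (wronskian F G) + 1 ≤ e) :
    ∃ s ∈ Submodule.span k {F, G}, s.eval a ≠ 0 := by
  by_contra hcon
  push Not at hcon
  have hli := linInd_of_finrank F G hfin
  have hF0 : F ≠ 0 := by rintro rfl; exact hW (wronskian_zero_left _)
  have hG0 : G ≠ 0 := by rintro rfl; exact hW (wronskian_zero_right _)
  have hFa : F.eval a = 0 := hcon F (Submodule.subset_span (by simp))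
  have hGa : G.eval a = 0 := hcon G (Submodule.subset_span (by simp))
  have hrF : 0 < rootMultiplicity a F := (rootMultiplicity_pos hF0).2 hFa
  have hrG : 0 < rootMultiplicity a G := (rootMultiplicity_pos hG0).2 hGa
  obtain ⟨b, hb⟩ : ∃ b, b = min (rootMultiplicity a F) (rootMultiplicity a G) := ⟨_, rfl⟩
  have hb1 : 1 ≤ b := by rw [hb]; exact le_min hrF hrG
  obtain ⟨F', hF'⟩ : (X - C a) ^ b ∣ F :=
    dvd_trans (pow_dvd_pow _ (by rw [hb]; exact min_le_left _ _)) (pow_rootMultiplicity_dvd F a)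
  obtain ⟨G', hG'⟩ : (X - C a) ^ b ∣ G :=
    dvd_trans (pow_dvd_pow _ (by rw [hb]; exact min_le_right _ _)) (pow_rootMultiplicity_dvd G a)
  have hT0 : (X - C a) ^ b ≠ 0 := pow_ne_zero _ (X_sub_C_ne_zero a)
  -- one of F', G' does not vanish at a
  have hb' : ∃ s ∈ Submodule.span k {F', G'}, s.eval a ≠ 0 := by
    rcases le_total (rootMultiplicity a F) (rootMultiplicity a G) with hle | hle
    · refine ⟨F', Submodule.subset_span (by simp), ?_⟩
      intro h0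
      obtain ⟨F'', hF''⟩ := dvd_iff_isRoot.2 h0
      have : (X - C a) ^ (b + 1) ∣ F := ⟨F'', by rw [hF', hF'', pow_succ]; ring⟩
      rw [← le_rootMultiplicity_iff hF0] at this
      rw [min_eq_left hle] at hb
      omega
    · refine ⟨G', Submodule.subset_span (by simp), ?_⟩
      intro h0
      obtain ⟨G'', hG''⟩ := dvd_iff_isRoot.2 h0
      have : (X - C a) ^ (b + 1) ∣ G := ⟨G'', by rw [hG', hG'', pow_succ]; ring⟩
      rw [← le_rootMultiplicity_iff hG0] at this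
      rw [min_eq_right hle] at hb
      omega
  have hli' : ∀ α β : k, α • F' + β • G' = 0 → α = 0 ∧ β = 0 := by
    intro α β h
    apply hli
    rw [hF', hG', ← mul_smul_comm, ← mul_smul_comm, ← mul_add, h, mul_zero]
  have hfin' := finrank_of_linInd F' G' hli'
  have hWeq : wronskian F G = (X - C a) ^ (2 * b) * wronskian F' G' := by
    rw [hF', hG', wronskian_pow_mul]
  have hW' : wronskian F' G' ≠ 0 := by
    intro h0; rw [h0, mul_zero] at hWeq; exact hW hWeq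
  obtain ⟨m, hm1, hram, hcase⟩ := key F' G' hfin' a hb' hW'
  have hm : m ≤ rootMultiplicity a (wronskian F' G') + 1 := by
    rcases hcase with ⟨_, h⟩ | ⟨_, h⟩ <;> omega
  have hrW : rootMultiplicity a (wronskian F G) = 2 * b + rootMultiplicity a (wronskian F' G') := by
    rw [hWeq, rootMultiplicity_mul (mul_ne_zero (pow_ne_zero _ (X_sub_C_ne_zero a)) hW'),
      rootMultiplicity_X_sub_C_pow]
  obtain ⟨s, hsV, hs0, hse⟩ := hs
  obtain ⟨α, β, rfl⟩ := Submodule.mem_span_pair.1 hsV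
  have hs_eq : α • F + β • G = (X - C a) ^ b * (α • F' + β • G') := by
    rw [hF', hG', ← mul_smul_comm, ← mul_smul_comm, ← mul_add]
  have hs'0 : α • F' + β • G' ≠ 0 := by
    intro h0; rw [h0, mul_zero] at hs_eq; exact hs0 hs_eq
  have hrs : rootMultiplicity a (α • F + β • G) = b + rootMultiplicity a (α • F' + β • G') := by
    rw [hs_eq, rootMultiplicity_mul (mul_ne_zero hT0 hs'0), rootMultiplicity_X_sub_C_pow]
  have hle := hram.2 (α • F' + β • G')
    (Submodule.add_mem _ (Submodule.smul_mem _ _ (Submodule.subset_span (by simp)))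
      (Submodule.smul_mem _ _ (Submodule.subset_span (by simp)))) hs'0
  omega

theorem hasRamIdx_of_ord (F G : k[X]) (hfin : Module.finrank k (Submodule.span k {F, G}) = 2)
    (hW : wronskian F G ≠ 0) (a : k) (e : ℕ)
    (hb : ∃ s ∈ Submodule.span k {F, G}, s.eval a ≠ 0)
    (hs : ∃ s ∈ Submodule.span k {F, G}, s ≠ 0 ∧ e ≤ rootMultiplicity a s)
    (hord : rootMultiplicity a (wronskian F G) + 1 ≤ e) :
    HasRamIdx (Submodule.span k {F, G}) a e := by
  obtain ⟨m, hm1, hram, hcase⟩ := key F G hfin a hb hW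
  obtain ⟨s, hsV, hs0, hse⟩ := hs
  have := hram.2 s hsV hs0
  have hme : m = e := by
    rcases hcase with ⟨_, h⟩ | ⟨_, h⟩ <;> omega
  rw [← hme]; exact hram

theorem rm_of_form (c : k) (hc : c ≠ 0) (a b b' : k) (hab : a ≠ b) (hab' : a ≠ b') (n n₁ n₂ : ℕ)
    (W : k[X]) (hW : W = C c * ((X - C a) ^ n * (X - C b) ^ n₁ * (X - C b') ^ n₂)) :
    rootMultiplicity a W = n := by
  have : W = (X - C a) ^ n * (C c * (X - C b) ^ n₁ * (X - C b') ^ n₂) := by rw [hW]; ring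
  rw [this, rootMultiplicity_pow_mul]
  simp only [eval_mul, eval_C, eval_pow, eval_sub, eval_X]
  exact mul_ne_zero (mul_ne_zero hc (pow_ne_zero _ (sub_ne_zero.2 hab)))
    (pow_ne_zero _ (sub_ne_zero.2 hab'))

section core2
variable (d : ℕ) (a₀ a₁ a₂ : k) (m₀ m₁ m₂ : ℕ)
variable (h01 : a₀ ≠ a₁) (h02 : a₀ ≠ a₂) (h12 : a₁ ≠ a₂)
  (hm₀ : m₀ ≤ d) (hm₁ : m₁ ≤ d) (hm₂ : m₂ ≤ d) (hsum : m₀ + m₁ + m₂ = 2 * d + 1)
  (h2₀ : 2 ≤ m₀) (h2₁ : 2 ≤ m₁) (h2₂ : 2 ≤ m₂)
include h01 h02 h12 hm₀ hm₁ hm₂ hsum h2₀ h2₁ h2₂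

theorem wronskian_form (v : k[X] × k[X]) (hv : v ∈ LL d a₀ a₁ a₂ m₀ m₁ m₂)
    (hW : wronskian v.1 v.2 ≠ 0) :
    ∃ c : k, c ≠ 0 ∧ wronskian v.1 v.2 =
      C c * ((X - C a₀) ^ (m₀ - 1) * (X - C a₁) ^ (m₁ - 1) * (X - C a₂) ^ (m₂ - 1)) := by
  obtain ⟨h1, h2, h3, h4, h5⟩ := hv
  have cop : ∀ (a b : k), a ≠ b → ∀ m n : ℕ, IsCoprime ((X - C a) ^ m) ((X - C b) ^ n) := by
    intro a b hab m n
    apply IsCoprime.pow
    apply isCoprime_X_sub_C_of_isUnit_sub
    rw [isUnit_iff_ne_zero, sub_ne_zero]; exact hab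
  have d0 := pow_pred_dvd_wronskian_left a₀ m₀ v.1 v.2 h3
  have d1 := pow_pred_dvd_wronskian_right a₁ m₁ v.1 v.2 h4
  have d2 : (X - C a₂) ^ (m₂ - 1) ∣ wronskian v.1 v.2 := by
    have := pow_pred_dvd_wronskian_right a₂ m₂ v.1 (v.1 + v.2) h5
    rwa [wronskian_add_right, wronskian_self_eq_zero, zero_add] at this
  have hd01 := (cop a₀ a₁ h01 (m₀ - 1) (m₁ - 1)).mul_dvd d0 d1
  have hcop2 : IsCoprime ((X - C a₀) ^ (m₀ - 1) * (X - C a₁) ^ (m₁ - 1)) ((X - C a₂) ^ (m₂ - 1)) :=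
    IsCoprime.mul_left (cop a₀ a₂ h02 _ _) (cop a₁ a₂ h12 _ _)
  obtain ⟨q, hq⟩ := hcop2.mul_dvd hd01 d2
  have hq0 : q ≠ 0 := by rintro rfl; rw [mul_zero] at hq; exact hW hq
  have hPi0 : (X - C a₀) ^ (m₀ - 1) * (X - C a₁) ^ (m₁ - 1) * (X - C a₂) ^ (m₂ - 1) ≠ 0 :=
    mul_ne_zero (mul_ne_zero (pow_ne_zero _ (X_sub_C_ne_zero _)) (pow_ne_zero _ (X_sub_C_ne_zero _)))
      (pow_ne_zero _ (X_sub_C_ne_zero _))
  have hPid : ((X - C a₀) ^ (m₀ - 1) * (X - C a₁) ^ (m₁ - 1) * (X - C a₂) ^ (m₂ - 1)).natDegree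
      = 2 * d - 2 := by
    rw [(((monic_X_sub_C _).pow _).mul ((monic_X_sub_C _).pow _)).natDegree_mul ((monic_X_sub_C _).pow _),
      ((monic_X_sub_C _).pow _).natDegree_mul ((monic_X_sub_C _).pow _),
      (monic_X_sub_C _).natDegree_pow, natDegree_X_sub_C,
      (monic_X_sub_C _).natDegree_pow, natDegree_X_sub_C,
      (monic_X_sub_C _).natDegree_pow, natDegree_X_sub_C]
    omega
  have hWd := natDegree_wronskian_le d (by omega) v.1 v.2
    (natDegree_le_of_degree_le (mem_degreeLE.1 h1)) (natDegree_le_of_degree_le (mem_degreeLE.1 h2))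
  rw [hq, natDegree_mul hPi0 hq0, hPid] at hWd
  have hqd : q.natDegree = 0 := by omega
  rw [eq_C_of_natDegree_eq_zero hqd] at hq hq0
  refine ⟨q.coeff 0, fun h => hq0 (by rw [h, C_0]), ?_⟩
  rw [hq, mul_comm]

theorem mem_ramMaps_of_sep (v : k[X] × k[X]) (hv : v ∈ LL d a₀ a₁ a₂ m₀ m₁ m₂) (hv0 : v ≠ 0)
    (hW : wronskian v.1 v.2 ≠ 0) :
    IsPencil d (Submodule.span k {v.1, v.2}) ∧ HasRamIdx (Submodule.span k {v.1, v.2}) a₀ m₀ ∧
      HasRamIdx (Submodule.span k {v.1, v.2}) a₁ m₁ ∧ HasRamIdx (Submodule.span k {v.1, v.2}) a₂ m₂ := by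
  obtain ⟨hle, hfin, hs₀, hs₁, hs₂⟩ := part2 d a₀ a₁ a₂ m₀ m₁ m₂ h01 h02 h12 hm₀ hm₁ hm₂ hsum v hv hv0
  obtain ⟨c, hc, hform⟩ := wronskian_form d a₀ a₁ a₂ m₀ m₁ m₂ h01 h02 h12 hm₀ hm₁ hm₂ hsum
    h2₀ h2₁ h2₂ v hv hW
  have hr₀ : rootMultiplicity a₀ (wronskian v.1 v.2) = m₀ - 1 :=
    rm_of_form c hc a₀ a₁ a₂ h01 h02 _ _ _ _ hform
  have hr₁ : rootMultiplicity a₁ (wronskian v.1 v.2) = m₁ - 1 :=
    rm_of_form c hc a₁ a₀ a₂ h01.symm h12 (m₁ - 1) (m₀ - 1) (m₂ - 1) _ (by rw [hform]; ring)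
  have hr₂ : rootMultiplicity a₂ (wronskian v.1 v.2) = m₂ - 1 :=
    rm_of_form c hc a₂ a₀ a₁ h02.symm h12.symm (m₂ - 1) (m₀ - 1) (m₁ - 1) _ (by rw [hform]; ring)
  have hb₀ := bpf_of_ord v.1 v.2 hfin hW a₀ m₀ hs₀ (by rw [hr₀]; omega)
  have hb₁ := bpf_of_ord v.1 v.2 hfin hW a₁ m₁ hs₁ (by rw [hr₁]; omega)
  have hb₂ := bpf_of_ord v.1 v.2 hfin hW a₂ m₂ hs₂ (by rw [hr₂]; omega)
  have hF0 : v.1 ≠ 0 := by rintro h; rw [h, wronskian_zero_left] at hW; exact hW rfl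
  refine ⟨⟨hle, hfin, ?_, ?_⟩, hasRamIdx_of_ord v.1 v.2 hfin hW a₀ m₀ hb₀ hs₀ (by rw [hr₀]; omega),
    hasRamIdx_of_ord v.1 v.2 hfin hW a₁ m₁ hb₁ hs₁ (by rw [hr₁]; omega),
    hasRamIdx_of_ord v.1 v.2 hfin hW a₂ m₂ hb₂ hs₂ (by rw [hr₂]; omega)⟩
  · -- a member of degree exactly d
    by_contra hcon
    push Not at hcon
    have hF : v.1.natDegree ≤ d := natDegree_le_of_degree_le (mem_degreeLE.1 hv.1)
    have hG : v.2.natDegree ≤ d := natDegree_le_of_degree_le (mem_degreeLE.1 hv.2.1)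
    have hF' := hcon v.1 (Submodule.subset_span (by simp))
    have hG' := hcon v.2 (Submodule.subset_span (by simp))
    have hWd := natDegree_wronskian_le (d - 1) (by omega) v.1 v.2 (by omega) (by omega)
    have hPi0 : (X - C a₀) ^ (m₀ - 1) * (X - C a₁) ^ (m₁ - 1) * (X - C a₂) ^ (m₂ - 1) ≠ 0 :=
      mul_ne_zero (mul_ne_zero (pow_ne_zero _ (X_sub_C_ne_zero _)) (pow_ne_zero _ (X_sub_C_ne_zero _)))
        (pow_ne_zero _ (X_sub_C_ne_zero _))
    rw [hform, natDegree_C_mul hc,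
      (((monic_X_sub_C _).pow _).mul ((monic_X_sub_C _).pow _)).natDegree_mul ((monic_X_sub_C _).pow _),
      ((monic_X_sub_C _).pow _).natDegree_mul ((monic_X_sub_C _).pow _),
      (monic_X_sub_C _).natDegree_pow, natDegree_X_sub_C,
      (monic_X_sub_C _).natDegree_pow, natDegree_X_sub_C,
      (monic_X_sub_C _).natDegree_pow, natDegree_X_sub_C] at hWd
    omega
  · intro a
    by_cases ha0 : a = a₀
    · rw [ha0]; exact hb₀
    by_cases ha1 : a = a₁
    · rw [ha1]; exact hb₁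
    by_cases ha2 : a = a₂
    · rw [ha2]; exact hb₂
    by_cases hFa : v.1.eval a = 0
    · have hWa : (wronskian v.1 v.2).eval a ≠ 0 := by
        rw [hform]
        simp only [eval_mul, eval_C, eval_pow, eval_sub, eval_X]
        exact mul_ne_zero hc (mul_ne_zero (mul_ne_zero (pow_ne_zero _ (sub_ne_zero.2 ha0))
          (pow_ne_zero _ (sub_ne_zero.2 ha1))) (pow_ne_zero _ (sub_ne_zero.2 ha2)))
      refine bpf_of_ord v.1 v.2 hfin hW a 1 ⟨v.1, Submodule.subset_span (by simp), hF0, ?_⟩ ?_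
      · exact (rootMultiplicity_pos hF0).2 hFa
      · rw [rootMultiplicity_eq_zero hWa]
    · exact ⟨v.1, Submodule.subset_span (by simp), hFa⟩

end core2

theorem pair_natDegree (F G : k[X]) (hlt : G.natDegree < F.natDegree) (α β : k) (hα : α ≠ 0) :
    (α • F + β • G).natDegree = F.natDegree := by
  have h1 : (β • G).natDegree < (α • F).natDegree := by
    rw [natDegree_smul _ hα]
    exact lt_of_le_of_lt (natDegree_smul_le _ _) hlt
  rw [natDegree_add_eq_left_of_natDegree_lt h1, natDegree_smul _ hα]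

theorem pair_linInd (F G : k[X]) (hlt : G.natDegree < F.natDegree) (hG : G ≠ 0) :
    ∀ α β : k, α • F + β • G = 0 → α = 0 ∧ β = 0 := by
  intro α β h
  have hα : α = 0 := by
    by_contra hα
    have := pair_natDegree F G hlt α β hα
    rw [h, natDegree_zero] at this
    omega
  subst hα
  rw [zero_smul, zero_add] at h
  refine ⟨rfl, ?_⟩
  by_contra hβ
  exact hG ((smul_eq_zero.1 h).resolve_left hβ)

theorem coeff_X_mul_derivative' (G : k[X]) (n : ℕ) :
    (X * derivative G).coeff n = (n : k) * G.coeff n := by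
  cases n with
  | zero => simp
  | succ n => rw [coeff_X_mul, coeff_derivative]; push_cast; ring

theorem natDegree_X_mul_derivative_le' (G : k[X]) : (X * derivative G).natDegree ≤ G.natDegree := by
  rw [natDegree_le_iff_coeff_eq_zero]
  intro n hn
  rw [coeff_X_mul_derivative', coeff_eq_zero_of_natDegree_lt hn, mul_zero]

theorem wronskian_ne_zero_of_natDegree (F G : k[X]) (hF : F ≠ 0) (hG : G ≠ 0)
    (h : ((G.natDegree : k) - (F.natDegree : k)) ≠ 0) : wronskian F G ≠ 0 := by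
  intro hW
  have h1 : X * wronskian F G = F * (X * derivative G) - (X * derivative F) * G := by
    unfold wronskian; ring
  have h2 : (X * wronskian F G).coeff (F.natDegree + G.natDegree) =
      ((G.natDegree : k) - (F.natDegree : k)) * (F.leadingCoeff * G.leadingCoeff) := by
    rw [h1, coeff_sub,
      coeff_mul_add_eq_of_natDegree_le le_rfl (natDegree_X_mul_derivative_le' G),
      coeff_mul_add_eq_of_natDegree_le (natDegree_X_mul_derivative_le' F) le_rfl,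
      coeff_X_mul_derivative', coeff_X_mul_derivative']
    simp only [coeff_natDegree]
    ring
  rw [hW, mul_zero, coeff_zero] at h2
  exact mul_ne_zero h (mul_ne_zero (leadingCoeff_ne_zero.2 hF) (leadingCoeff_ne_zero.2 hG)) h2.symm

theorem cast_sub_ne_zero (p : ℕ) [CharP k p] (d : ℕ) (hp : p = 0 ∨ d < p) (D E : ℕ) (hD : D ≤ d)
    (hE : E ≤ d) (hne : D ≠ E) : ((E : k) - (D : k)) ≠ 0 := by
  rw [sub_ne_zero, Ne, CharP.natCast_eq_natCast k p]
  intro h
  apply hne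
  rcases hp with rfl | hp
  · exact (Nat.modEq_zero_iff.1 h).symm
  · have := h
    unfold Nat.ModEq at this
    rw [Nat.mod_eq_of_lt (by omega), Nat.mod_eq_of_lt (by omega)] at this
    exact this.symm

/-- in characteristic zero or larger than the degree, every pencil is separable -/
theorem sep_of_small (p : ℕ) [CharP k p] (d : ℕ) (hp : p = 0 ∨ d < p) (F G : k[X])
    (hF : F.natDegree ≤ d) (hG : G.natDegree ≤ d)
    (hli : ∀ α β : k, α • F + β • G = 0 → α = 0 ∧ β = 0) : wronskian F G ≠ 0 := by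
  have hF0 : F ≠ 0 := by
    rintro rfl
    have := hli 1 0 (by simp)
    exact one_ne_zero this.1
  have hG0 : G ≠ 0 := by
    rintro rfl
    have := hli 0 1 (by simp)
    exact one_ne_zero this.2
  by_cases hne : F.natDegree = G.natDegree
  · have hlc : F.leadingCoeff ≠ 0 := leadingCoeff_ne_zero.2 hF0
    set c := G.leadingCoeff / F.leadingCoeff with hc
    have hc0 : c ≠ 0 := div_ne_zero (leadingCoeff_ne_zero.2 hG0) hlc
    have hW' : wronskian F (G - c • F) = wronskian F G := wronskian_sub_smul_right F G c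
    have hG'0 : G - c • F ≠ 0 := by
      intro h0
      have := hli (-c) 1 (by rw [one_smul, neg_smul, ← h0]; ring)
      exact one_ne_zero this.2
    have hdeg : (G - c • F).degree < G.degree := by
      apply degree_sub_lt_left _ hG0
      · rw [smul_eq_C_mul, leadingCoeff_mul, leadingCoeff_C, hc, div_mul_cancel₀ _ hlc]
      · rw [degree_eq_natDegree hG0, degree_eq_natDegree (smul_ne_zero hc0 hF0),
          natDegree_smul _ hc0, hne]
    have hnd := natDegree_lt_natDegree hG'0 hdeg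
    rw [← hW']
    exact wronskian_ne_zero_of_natDegree F _ hF0 hG'0
      (cast_sub_ne_zero p d hp _ _ hF (by omega) (by omega))
  · exact wronskian_ne_zero_of_natDegree F G hF0 hG0 (cast_sub_ne_zero p d hp _ _ hF hG hne)

theorem wronskian_mul_pow_char (p : ℕ) [CharP k p] (A : k[X]) (a : k) :
    wronskian (A * (X - C a) ^ p) A = 0 := by
  unfold wronskian
  rw [derivative_mul, derivative_X_sub_C_pow, CharP.cast_eq_zero k p, C_0]
  ring

/-- the inseparable pencil `⟨(X-a₂)^(d-p), (X-a₂)^d⟩` -/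
theorem insep_example (p : ℕ) [Fact p.Prime] [CharP k p] (d : ℕ) (hpd : p ≤ d) (a₀ a₁ a₂ : k)
    (m₀ m₁ m₂ : ℕ) (hm₀ : m₀ < p) (hm₁ : m₁ < p) (hm₂ : m₂ ≤ d) :
    ∃ V : Submodule k k[X], V ≤ degreeLE k d ∧ Module.finrank k V = 2 ∧ ¬ IsSeparable V ∧
      (∃ s ∈ V, s ≠ 0 ∧ m₀ ≤ rootMultiplicity a₀ s) ∧
      (∃ s ∈ V, s ≠ 0 ∧ m₁ ≤ rootMultiplicity a₁ s) ∧
      (∃ s ∈ V, s ≠ 0 ∧ m₂ ≤ rootMultiplicity a₂ s) := by
  have hpos := (Fact.out : p.Prime).pos
  set A : k[X] := (X - C a₂) ^ (d - p) with hA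
  set B : k[X] := (X - C a₂) ^ d with hB
  have hBA : B = A * (X - C a₂) ^ p := by
    rw [hA, hB, ← pow_add]; congr 1; omega
  have hA0 : A ≠ 0 := pow_ne_zero _ (X_sub_C_ne_zero _)
  have hB0 : B ≠ 0 := pow_ne_zero _ (X_sub_C_ne_zero _)
  have hAd : A.natDegree = d - p := by
    rw [hA, (monic_X_sub_C _).natDegree_pow, natDegree_X_sub_C, mul_one]
  have hBd : B.natDegree = d := by
    rw [hB, (monic_X_sub_C _).natDegree_pow, natDegree_X_sub_C, mul_one]
  have hAV : A ∈ Submodule.span k {B, A} := Submodule.subset_span (by simp)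
  have hBV : B ∈ Submodule.span k {B, A} := Submodule.subset_span (by simp)
  have hWAB : wronskian B A = 0 := by
    rw [hBA]; exact wronskian_mul_pow_char p A a₂
  -- members vanishing to order p at an arbitrary point
  have hmem : ∀ a : k, A * (X - C a) ^ p ∈ Submodule.span k {B, A} := by
    intro a
    have h1 : (X - C a) ^ p = (X - C a₂) ^ p + C (a₂ ^ p - a ^ p) := by
      rw [sub_pow_char, sub_pow_char, ← C_pow, ← C_pow, C_sub]; ring
    have h2 : A * (X - C a) ^ p = B + (a₂ ^ p - a ^ p) • A := by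
      rw [h1, mul_add, ← hBA, smul_eq_C_mul]; ring
    rw [h2]
    exact Submodule.add_mem _ hBV (Submodule.smul_mem _ _ hAV)
  have hne : ∀ a : k, A * (X - C a) ^ p ≠ 0 := fun a =>
    mul_ne_zero hA0 (pow_ne_zero _ (X_sub_C_ne_zero _))
  have hrm : ∀ a : k, p ≤ rootMultiplicity a (A * (X - C a) ^ p) := by
    intro a
    rw [le_rootMultiplicity_iff (hne a)]
    exact dvd_mul_left _ _
  refine ⟨Submodule.span k {B, A}, ?_, ?_, ?_, ⟨_, hmem a₀, hne a₀, by have := hrm a₀; omega⟩,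
    ⟨_, hmem a₁, hne a₁, by have := hrm a₁; omega⟩, ⟨B, hBV, hB0, ?_⟩⟩
  · rw [Submodule.span_le]
    rintro x (rfl | rfl)
    · rw [SetLike.mem_coe, mem_degreeLE]
      refine le_trans degree_le_natDegree ?_
      rw [hBd]
    · rw [SetLike.mem_coe, mem_degreeLE]
      refine le_trans degree_le_natDegree ?_
      rw [hAd]; exact_mod_cast Nat.sub_le d p
  · exact finrank_of_linInd _ _ (pair_linInd B A (by rw [hAd, hBd]; omega) hA0)
  · rintro ⟨F, hF, G, hG, hW⟩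
    obtain ⟨α, β, rfl⟩ := Submodule.mem_span_pair.1 hF
    obtain ⟨γ, δ, rfl⟩ := Submodule.mem_span_pair.1 hG
    rw [wronskian_comb, hWAB, smul_zero] at hW
    exact hW rfl
  · rw [hB, rootMultiplicity_X_sub_C_pow]; exact hm₂

section assembly
variable (p : ℕ) (d : ℕ) (P : Fin 3 → k) (hP : Function.Injective P) (e : Fin 3 → ℕ)
  (he : Admissible p d e)

/-- membership in the intersection of the three Schubert cycles -/
def Sig (d : ℕ) (P : Fin 3 → k) (e : Fin 3 → ℕ) (V : Submodule k k[X]) : Prop :=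
  V ≤ degreeLE k d ∧ Module.finrank k V = 2 ∧
    ∀ i, ∃ s ∈ V, s ≠ 0 ∧ e i ≤ rootMultiplicity (P i) s

omit hP he in
theorem sig_of_ramMaps (V : Submodule k k[X]) (hV : V ∈ ramMaps d P e) : Sig d P e V := by
  obtain ⟨⟨hle, hfin, _, _⟩, _, hram⟩ := hV
  exact ⟨hle, hfin, fun i => (hram i).1⟩

include hP he

theorem adm_facts : P 0 ≠ P 1 ∧ P 0 ≠ P 2 ∧ P 1 ≠ P 2 ∧ e 0 ≤ d ∧ e 1 ≤ d ∧ e 2 ≤ d ∧
    e 0 + e 1 + e 2 = 2 * d + 1 ∧ 2 ≤ e 0 ∧ 2 ≤ e 1 ∧ 2 ≤ e 2 := by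
  have hsum : e 0 + e 1 + e 2 = 2 * d + 1 := by
    have := he.2
    rw [Fin.sum_univ_three] at this
    omega
  exact ⟨hP.ne (by decide), hP.ne (by decide), hP.ne (by decide), (he.1 0).2.1, (he.1 1).2.1,
    (he.1 2).2.1, hsum, (he.1 0).1, (he.1 1).1, (he.1 2).1⟩

theorem exists_LL_of_sig (V : Submodule k k[X]) (hV : Sig d P e V) :
    ∃ v ∈ LL d (P 0) (P 1) (P 2) (e 0) (e 1) (e 2), v ≠ 0 ∧ Submodule.span k {v.1, v.2} = V := by
  obtain ⟨h01, h02, h12, hm₀, hm₁, hm₂, hsum, -, -, -⟩ := adm_facts p d P hP e he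
  obtain ⟨hle, hfin, hall⟩ := hV
  obtain ⟨⟨s₀, hs₀, h0, hr₀⟩, ⟨s₁, hs₁, h1, hr₁⟩, ⟨s₂, hs₂, h2, hr₂⟩⟩ := fin3_forall.1 hall
  exact part3 d _ _ _ _ _ _ h01 h02 h12 hm₀ hm₁ hm₂ hsum V hle hfin s₀ s₁ s₂ hs₀ hs₁ hs₂ h0 h1 h2
    hr₀ hr₁ hr₂

theorem sig_of_LL (v : k[X] × k[X]) (hv : v ∈ LL d (P 0) (P 1) (P 2) (e 0) (e 1) (e 2))
    (hv0 : v ≠ 0) : Sig d P e (Submodule.span k {v.1, v.2}) := by
  obtain ⟨h01, h02, h12, hm₀, hm₁, hm₂, hsum, -, -, -⟩ := adm_facts p d P hP e he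
  obtain ⟨h1, h2, h3, h4, h5⟩ := part2 d _ _ _ _ _ _ h01 h02 h12 hm₀ hm₁ hm₂ hsum v hv hv0
  exact ⟨h1, h2, fin3_forall.2 ⟨h3, h4, h5⟩⟩

theorem exists_LL : ∃ v ∈ LL d (P 0) (P 1) (P 2) (e 0) (e 1) (e 2), v ≠ 0 := by
  obtain ⟨h01, h02, h12, hm₀, hm₁, hm₂, hsum, -, -, -⟩ := adm_facts p d P hP e he
  exact Submodule.exists_mem_ne_zero_of_ne_bot
    (part1 d _ _ _ _ _ _ h01 h02 h12 hm₀ hm₁ hm₂ hsum)

theorem mem_ramMaps_of_LL_sep (v : k[X] × k[X])
    (hv : v ∈ LL d (P 0) (P 1) (P 2) (e 0) (e 1) (e 2)) (hv0 : v ≠ 0)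
    (hW : wronskian v.1 v.2 ≠ 0) : Submodule.span k {v.1, v.2} ∈ ramMaps d P e := by
  obtain ⟨h01, h02, h12, hm₀, hm₁, hm₂, hsum, h2₀, h2₁, h2₂⟩ := adm_facts p d P hP e he
  obtain ⟨hpen, hr₀, hr₁, hr₂⟩ := mem_ramMaps_of_sep d _ _ _ _ _ _ h01 h02 h12 hm₀ hm₁ hm₂ hsum
    h2₀ h2₁ h2₂ v hv hv0 hW
  exact ⟨hpen, ⟨v.1, Submodule.subset_span (by simp), v.2, Submodule.subset_span (by simp), hW⟩,
    fin3_forall.2 ⟨hr₀, hr₁, hr₂⟩⟩

theorem wronskian_ne_zero_of_sep (F G : k[X]) (h : IsSeparable (Submodule.span k {F, G})) :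
    wronskian F G ≠ 0 := by
  obtain ⟨F', hF', G', hG', hW'⟩ := h
  obtain ⟨α, β, rfl⟩ := Submodule.mem_span_pair.1 hF'
  obtain ⟨γ, δ, rfl⟩ := Submodule.mem_span_pair.1 hG'
  rw [wronskian_comb] at hW'
  intro h0
  rw [h0, smul_zero] at hW'
  exact hW' rfl

theorem eq_of_sig_of_ramMaps [IsAlgClosed k] (V V' : Submodule k k[X]) (hV : V ∈ ramMaps d P e)
    (hV' : Sig d P e V') : V' = V := by
  obtain ⟨h01, h02, h12, hm₀, hm₁, hm₂, hsum, -, -, -⟩ := adm_facts p d P hP e he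
  obtain ⟨v, hv, hv0, hvV⟩ := exists_LL_of_sig p d P hP e he V (sig_of_ramMaps d P e V hV)
  obtain ⟨v', hv', hv0', hvV'⟩ := exists_LL_of_sig p d P hP e he V' hV'
  obtain ⟨⟨_, _, hdeg, hbpf⟩, _, _⟩ := hV
  rw [← hvV] at hdeg hbpf
  obtain ⟨c, hc⟩ := unique_of_bpf d _ _ _ _ _ _ h01 h02 h12 hm₀ hm₁ hm₂ hsum v v' hv hv' hv0 hbpf hdeg
  have hc0 : c ≠ 0 := by
    rintro rfl
    rw [zero_smul] at hc
    exact hv0' hc
  rw [← hvV', ← hvV, hc, Prod.smul_fst, Prod.smul_snd, span_pair_smul c hc0]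

theorem three_subsingleton [IsAlgClosed k] : (ramMaps d P e).Subsingleton := by
  intro V hV V' hV'
  exact (eq_of_sig_of_ramMaps p d P hP e he V V' hV (sig_of_ramMaps d P e V' hV')).symm

theorem three_empty_iff [IsAlgClosed k] :
    ramMaps d P e = ∅ ↔
      ∃ V : Submodule k k[X], V ≤ degreeLE k d ∧ Module.finrank k V = 2 ∧ ¬ IsSeparable V ∧
        ∀ i, ∃ s ∈ V, s ≠ 0 ∧ e i ≤ rootMultiplicity (P i) s := by
  constructor
  · intro hempty
    obtain ⟨v, hv, hv0⟩ := exists_LL p d P hP e he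
    obtain ⟨h1, h2, h3⟩ := sig_of_LL p d P hP e he v hv hv0
    refine ⟨Submodule.span k {v.1, v.2}, h1, h2, ?_, h3⟩
    intro hsep
    have hW := wronskian_ne_zero_of_sep p d P hP e he v.1 v.2 hsep
    have := mem_ramMaps_of_LL_sep p d P hP e he v hv hv0 hW
    rw [hempty] at this
    exact this
  · rintro ⟨V', h1, h2, hinsep, h3⟩
    rw [Set.eq_empty_iff_forall_notMem]
    intro V hV
    have := eq_of_sig_of_ramMaps p d P hP e he V V' hV ⟨h1, h2, h3⟩
    rw [this] at hinsep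
    exact hinsep hV.2.1

theorem three_count [IsAlgClosed k] [CharP k p] :
    (p ≠ 0 → e 0 < p → e 1 < p → p ≤ d → ramMaps d P e = ∅) ∧
      (p = 0 ∨ d < p → ∃ V : Submodule k k[X], ramMaps d P e = {V}) := by
  obtain ⟨h01, h02, h12, hm₀, hm₁, hm₂, hsum, h2₀, h2₁, h2₂⟩ := adm_facts p d P hP e he
  constructor
  · intro hp0 he0 he1 hpd
    have hprime : p.Prime := (CharP.char_is_prime_or_zero k p).resolve_right hp0
    have : Fact p.Prime := ⟨hprime⟩
    rw [three_empty_iff p d P hP e he]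
    obtain ⟨V, h1, h2, h3, h4, h5, h6⟩ := insep_example p d hpd (P 0) (P 1) (P 2) (e 0) (e 1) (e 2)
      he0 he1 hm₂
    exact ⟨V, h1, h2, h3, fin3_forall.2 ⟨h4, h5, h6⟩⟩
  · intro hp
    obtain ⟨v, hv, hv0⟩ := exists_LL p d P hP e he
    have hli := linInd_LL d _ _ _ _ _ _ h01 h02 h12 hm₀ hm₁ hm₂ hsum v hv hv0
    have hW := sep_of_small p d hp v.1 v.2 (natDegree_le_of_degree_le (mem_degreeLE.1 hv.1))
      (natDegree_le_of_degree_le (mem_degreeLE.1 hv.2.1)) hli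
    have hmem := mem_ramMaps_of_LL_sep p d P hP e he v hv hv0 hW
    refine ⟨Submodule.span k {v.1, v.2}, ?_⟩
    ext V'
    rw [Set.mem_singleton_iff]
    constructor
    · intro hV'
      exact three_subsingleton p d P hP e he hV' hmem
    · rintro rfl
      exact hmem

end assembly

end Groth.Agent.Lib.Helper4.Pencil
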