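import Mathlib
import Groth.Prelude.Def_ModSite2
import Groth.Prelude.Def_AlgSpPerf
import Groth.Agent.Lib.Helper4.FinGen
import Groth.Agent.Lib.Helper5.Misc.FreeOn

/-!
# Local lifting up to homotopy of maps from a strictly perfect complex (local morphisms, restriction, cone exactness via refinements) (helper4)
-/

set_option backward.isDefEq.respectTransparency.types false
set_option synthInstance.maxHeartbeats 400000
set_option autoImplicit false
set_option linter.unusedSectionVars false
set_option linter.style.haveILetI false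
set_option linter.unusedSimpArgs false
universe u v w
open CategoryTheory CategoryTheory.Limits Opposite

namespace Groth.Agent.Lib.Helper4.PerfLift

open Groth.Agent.Lib.Helper4.PureTensor Groth.Agent.Lib.Helper4.EqCrit
  Groth.Agent.Lib.Helper4.OverMapPres Groth.Agent.Lib.Helper4.QSLocal
  Groth.Agent.Lib.Helper4.LocalLiftFree Groth.Agent.Lib.Helper4.FinGen

variable {C : Type u} [SmallCategory C] {J : GrothendieckTopology C} {O : Sheaf J CommRingCat.{u}}

section res

/-- local morphisms over `W` between global modules -/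
abbrev LHom (A B : ModSite.Mod O) (W : C) : Type u :=
  (ModSite.restr O W).obj A ⟶ (ModSite.restr O W).obj B

/-- restriction of a local morphism along `h : W' ⟶ W` -/
noncomputable def res {A B : ModSite.Mod O} {W' W : C} (h : W' ⟶ W) (φ : LHom A B W) :
    LHom A B W' :=
  (θ O h).inv.app A ≫ (GO O h).map φ ≫ (θ O h).hom.app B

variable {A B D : ModSite.Mod O} {W' W : C} (h : W' ⟶ W)

instance additive_GO : (GO O h).Additive := additive_G (ModSite.ringSh O) h

lemma res_comp (φ : LHom A B W) (ψ : LHom B D W) : res h (φ ≫ ψ) = res h φ ≫ res h ψ := by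
  unfold res
  simp only [Functor.map_comp, Category.assoc, Iso.hom_inv_id_app_assoc]

lemma res_map (g : A ⟶ B) : res h ((ModSite.restr O W).map g) = (ModSite.restr O W').map g := by
  unfold res
  have h1 := (θ O h).hom.naturality g
  simp only [Functor.comp_map] at h1
  rw [h1, Iso.inv_hom_id_app_assoc]

lemma res_add (φ ψ : LHom A B W) : res h (φ + ψ) = res h φ + res h ψ := by
  unfold res
  rw [Functor.map_add, Preadditive.add_comp, Preadditive.comp_add]

lemma res_sub (φ ψ : LHom A B W) : res h (φ - ψ) = res h φ - res h ψ := by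
  unfold res
  rw [Functor.map_sub, Preadditive.sub_comp, Preadditive.comp_sub]

lemma res_zero : res h (0 : LHom A B W) = 0 := by
  unfold res
  rw [Functor.map_zero, zero_comp, comp_zero]

end res


section tup

variable {I : Type u} [Finite I] {B B' : ModSite.Mod O} {W' W : C}

/-- the local morphism `O^I|_W ⟶ B|_W` defined by a family of sections -/
noncomputable def tup (B : ModSite.Mod O) (W : C) (t : I → ModSite.sect B W) :
    LHom (SheafOfModules.free (R := ModSite.ringSh O) I) B W :=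
  (restrFreeIso O W I).inv ≫ genHom B W t

lemma tup_comp (p : B ⟶ B') (W : C) (t : I → ModSite.sect B W) :
    tup B W t ≫ (ModSite.restr O W).map p = tup B' W (fun j => ev p W (t j)) := by
  unfold tup
  rw [Category.assoc, genHom_comp]

/-- the sections defining a local morphism out of a finite free module -/
noncomputable def coords (B : ModSite.Mod O) (W : C)
    (τ : LHom (SheafOfModules.free (R := ModSite.ringSh O) I) B W) (j : I) : ModSite.sect B W :=
  secOf B W ((restrFreeIso O W I).hom ≫ τ) j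

lemma eq_tup (τ : LHom (SheafOfModules.free (R := ModSite.ringSh O) I) B W) :
    τ = tup B W (coords B W τ) := by
  unfold tup coords
  rw [← eq_genHom, Iso.inv_hom_id_assoc]

lemma coords_tup (t : I → ModSite.sect B W) : coords B W (tup B W t) = t := by
  funext j
  unfold coords tup
  rw [Iso.hom_inv_id_assoc, secOf_genHom]

lemma θ_inv_unit (h : W' ⟶ W) : (θ O h).inv.app (ModSite.unit O) = 𝟙 _ := by
  have h1 : (θ O h).hom.app (ModSite.unit O) = 𝟙 _ := by
    refine @unit_hom_ext _ _ _ (O.over W') _ _ _ ?_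
    intro Y
    rfl
  rw [← cancel_mono ((θ O h).hom.app (ModSite.unit O)), Iso.inv_hom_id_app, h1]
  exact (Category.comp_id _).symm

lemma restrFreeIso_compat (h : W' ⟶ W) :
    (restrFreeIso O W' I).hom ≫ (θ O h).inv.app (SheafOfModules.free I) =
      (GOFreeIso (O := O) h I).hom ≫ (GO O h).map (restrFreeIso O W I).hom := by
  apply free_hom_ext
  intro j
  have hL : SheafOfModules.ιFree j ≫ (restrFreeIso O W' I).hom ≫
      (θ O h).inv.app (SheafOfModules.free I) =
      (GO O h).map ((ModSite.restr O W).map (SheafOfModules.ιFree (R := ModSite.ringSh O) j)) := by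
    rw [← Category.assoc, ιFree_restrFreeIso_hom]
    refine ((θ O h).inv.naturality (SheafOfModules.ιFree (R := ModSite.ringSh O) j)).trans ?_
    rw [θ_inv_unit]
    exact Category.id_comp _
  have hR : SheafOfModules.ιFree j ≫ (GOFreeIso (O := O) h I).hom ≫
      (GO O h).map (restrFreeIso O W I).hom =
      (GO O h).map ((ModSite.restr O W).map (SheafOfModules.ιFree (R := ModSite.ringSh O) j)) := by
    rw [← Category.assoc, ιFree_GOFreeIso_hom]
    refine ((GO O h).map_comp _ _).symm.trans ?_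
    exact congrArg (GO O h).map (ιFree_restrFreeIso_hom O W I j)
  exact hL.trans hR.symm

lemma res_tup (h : W' ⟶ W) (t : I → ModSite.sect B W) :
    res h (tup B W t) = tup B W' (fun j => B.val.map h.op (t j)) := by
  unfold res tup
  rw [← cancel_epi (restrFreeIso O W' I).hom, Iso.hom_inv_id_assoc, ← GO_map_genHom h B t,
    ← Category.assoc, restrFreeIso_compat, Category.assoc, ← Functor.map_comp_assoc,
    Iso.hom_inv_id_assoc]

lemma coords_sub (τ τ' : LHom (SheafOfModules.free (R := ModSite.ringSh O) I) B W) (j : I) :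
    coords B W (τ - τ') j = coords B W τ j - coords B W τ' j := by
  unfold coords secOf
  rw [Preadditive.comp_sub, Preadditive.comp_sub]
  exact map_sub (evHom _ _ (T₀ W) (one (T₀ W))) _ _

lemma coords_zero (j : I) :
    coords B W (0 : LHom (SheafOfModules.free (R := ModSite.ringSh O) I) B W) j = 0 := by
  unfold coords secOf
  rw [comp_zero, comp_zero]
  exact map_zero (evHom _ _ (T₀ W) (one (T₀ W)))

lemma lhom_free_ext {τ τ' : LHom (SheafOfModules.free (R := ModSite.ringSh O) I) B W}
    (h : ∀ j, coords B W τ j = coords B W τ' j) : τ = τ' := by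
  rw [eq_tup τ, eq_tup τ']
  congr 1
  funext j
  exact h j

lemma tup_sub (a b : I → ModSite.sect B W) :
    tup B W (fun j => a j - b j) = tup B W a - tup B W b := by
  apply lhom_free_ext
  intro j
  rw [coords_sub, coords_tup, coords_tup, coords_tup]

lemma tup_zero : tup B W (fun _ : I => (0 : ModSite.sect B W)) = 0 := by
  apply lhom_free_ext
  intro j
  rw [coords_zero, coords_tup]

end tup


section lift

variable {E₀ G0 G1 G2 Fm F0 F1 : ModSite.Mod O}
  (dG : G0 ⟶ G1) (dG' : G1 ⟶ G2) (f0 : G0 ⟶ F0) (f1 : G1 ⟶ F1) (dF : Fm ⟶ F0) (dF' : F0 ⟶ F1)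

/-- local exactness of the cone of `f` at one spot, in terms of sections -/
def LocEx : Prop :=
  ∀ (W : C) (g : ModSite.sect G1 W) (x : ModSite.sect F0 W),
    ev dG' W g = 0 → ev f1 W g = ev dF' W x →
    ∃ R ∈ J W, ∀ ⦃W' : C⦄ (h : W' ⟶ W), R h →
      ∃ (g' : ModSite.sect G0 W') (x' : ModSite.sect Fm W'),
        ev dG W' g' = G1.val.map h.op g ∧ ev f0 W' g' - ev dF W' x' = F0.val.map h.op x

theorem local_lift (hE : DCoh.IsFinFreeSummandMod (ModSite.ringSh O) E₀)
    (hex : LocEx dG dG' f0 f1 dF dF')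
    (W : C) (τ1 : LHom E₀ G1 W) (τ2 : LHom E₀ F0 W)
    (h1 : τ1 ≫ (ModSite.restr O W).map dG' = 0)
    (h2 : τ1 ≫ (ModSite.restr O W).map f1 = τ2 ≫ (ModSite.restr O W).map dF') :
    ∃ R ∈ J W, ∀ ⦃W' : C⦄ (h : W' ⟶ W), R h →
      ∃ (β : LHom E₀ G0 W') (η : LHom E₀ Fm W'),
        β ≫ (ModSite.restr O W').map dG = res h τ1 ∧
        β ≫ (ModSite.restr O W').map f0 - η ≫ (ModSite.restr O W').map dF = res h τ2 := by
  classical
  obtain ⟨n, i, r, hir⟩ := hE
  let σ1 : LHom (SheafOfModules.free (R := ModSite.ringSh O) (ULift.{u} (Fin n))) G1 W :=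
    (ModSite.restr O W).map r ≫ τ1
  let σ2 : LHom (SheafOfModules.free (R := ModSite.ringSh O) (ULift.{u} (Fin n))) F0 W :=
    (ModSite.restr O W).map r ≫ τ2
  obtain ⟨t1, ht1⟩ : ∃ t1, t1 = coords G1 W σ1 := ⟨_, rfl⟩
  obtain ⟨t2, ht2⟩ : ∃ t2, t2 = coords F0 W σ2 := ⟨_, rfl⟩
  have e1 : σ1 = tup G1 W t1 := by rw [ht1]; exact eq_tup σ1
  have e2 : σ2 = tup F0 W t2 := by rw [ht2]; exact eq_tup σ2
  have k1 : ∀ j, ev dG' W (t1 j) = 0 := by
    intro j
    have h3 : tup G2 W (fun j => ev dG' W (t1 j)) = 0 := by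
      rw [← tup_comp, ← e1]
      change ((ModSite.restr O W).map r ≫ τ1) ≫ _ = 0
      rw [Category.assoc, h1, comp_zero]
    have h4 := congrArg (fun τ => coords G2 W τ j) h3
    simp only [coords_tup, coords_zero] at h4
    exact h4
  have k2 : ∀ j, ev f1 W (t1 j) = ev dF' W (t2 j) := by
    intro j
    have h3 : tup F1 W (fun j => ev f1 W (t1 j)) = tup F1 W (fun j => ev dF' W (t2 j)) := by
      rw [← tup_comp, ← tup_comp, ← e1, ← e2]
      change ((ModSite.restr O W).map r ≫ τ1) ≫ _ = ((ModSite.restr O W).map r ≫ τ2) ≫ _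
      rw [Category.assoc, Category.assoc, h2]
    have h4 := congrArg (fun τ => coords F1 W τ j) h3
    simp only [coords_tup] at h4
    exact h4
  choose S hS hSl using fun j => hex W (t1 j) (t2 j) (k1 j) (k2 j)
  obtain ⟨R, hR, hRS⟩ := exists_common_sieve S hS
  refine ⟨R, hR, ?_⟩
  intro W' h hh
  choose g' x' hgx using fun j => hSl j h (hRS h hh j)
  have hir' : (ModSite.restr O W').map i ≫ (ModSite.restr O W').map r = 𝟙 _ := by
    rw [← Functor.map_comp, hir, CategoryTheory.Functor.map_id]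
  refine ⟨(ModSite.restr O W').map i ≫ tup G0 W' g', (ModSite.restr O W').map i ≫ tup Fm W' x',
    ?_, ?_⟩
  · rw [Category.assoc, tup_comp]
    have h5 : (fun j => ev dG W' (g' j)) = fun j => G1.val.map h.op (t1 j) :=
      funext fun j => (hgx j).1
    rw [h5, ← res_tup, ← e1]
    change _ ≫ res h ((ModSite.restr O W).map r ≫ τ1) = _
    rw [res_comp, res_map, ← Category.assoc, hir', Category.id_comp]
  · rw [Category.assoc, Category.assoc, tup_comp, tup_comp, ← Preadditive.comp_sub, ← tup_sub]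
    have h5 : (fun j => ev f0 W' (g' j) - ev dF W' (x' j)) = fun j => F0.val.map h.op (t2 j) :=
      funext fun j => (hgx j).2
    rw [h5, ← res_tup, ← e2]
    change _ ≫ res h ((ModSite.restr O W).map r ≫ τ2) = _
    rw [res_comp, res_map, ← Category.assoc, hir', Category.id_comp]

end lift


section partA

open Groth.Agent.Lib.Helper5.FreeOn

variable (O)

/-- the canonical generator of `j_{W!} O_W` -/
noncomputable def gen (W : C) : ModSite.sect (ModSite.freeOn O W) W :=
  freeOnHomEquiv O W (ModSite.freeOn O W) (𝟙 _)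

/-- the morphism `j_{W!} O_W ⟶ M` attached to a section -/
noncomputable def homOfSec {M : ModSite.Mod O} {W : C} (s : ModSite.sect M W) :
    ModSite.freeOn O W ⟶ M := (freeOnHomEquiv O W M).symm s

variable {O}

lemma ev_gen {M : ModSite.Mod O} {W : C} (x : ModSite.freeOn O W ⟶ M) :
    ev x W (gen O W) = freeOnHomEquiv O W M x := by
  have h := freeOnHomEquiv_naturality O W (𝟙 (ModSite.freeOn O W)) x
  rw [Category.id_comp] at h
  exact h.symm

lemma ev_homOfSec {M : ModSite.Mod O} {W : C} (s : ModSite.sect M W) :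
    ev (homOfSec O s) W (gen O W) = s := by
  rw [ev_gen]
  exact (freeOnHomEquiv O W M).apply_symm_apply s

lemma homOfSec_eq_zero {M : ModSite.Mod O} {W : C} (s : ModSite.sect M W) (hs : s = 0) :
    homOfSec O s = 0 := by
  apply (freeOnHomEquiv O W M).injective
  rw [← ev_gen, ← ev_gen, ev_homOfSec, hs]
  rfl

lemma homOfSec_comp {M N : ModSite.Mod O} {W : C} (s : ModSite.sect M W) (p : M ⟶ N) :
    homOfSec O s ≫ p = homOfSec O (ev p W s) :=
  (freeOnHomEquiv_symm_naturality O W s p).symm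

variable {F G : CochainComplex (ModSite.Mod O) ℤ} (f : G ⟶ F)

/-- exactness of the cone in refinement form -/
lemma cone_exact_refinements (m n k l : ℤ) (e1 : m + 1 = n) (e2 : n + 1 = k) (e3 : k + 1 = l)
    (hm : Mono (HomologicalComplex.homologyMap f k))
    (he : Epi (HomologicalComplex.homologyMap f n))
    {A : ModSite.Mod O} (g : A ⟶ G.X k) (x : A ⟶ F.X n)
    (hg : g ≫ G.d k l = 0) (hgx : g ≫ f.f k = x ≫ F.d n k) :
    ∃ (A' : ModSite.Mod O) (π : A' ⟶ A) (_ : Epi π) (g' : A' ⟶ G.X n) (x' : A' ⟶ F.X m),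
      π ≫ g = g' ≫ G.d n k ∧ π ≫ x = g' ≫ f.f n - x' ≫ F.d m n := by
  have hm' := (HomologicalComplex.mono_homologyMap_iff_up_to_refinements f n k l
    (by subst e2; simp) (by subst e3; simp)).1 hm
  have he' := (HomologicalComplex.epi_homologyMap_iff_up_to_refinements f m n k
    (by subst e1; simp) (by subst e2; simp)).1 he
  obtain ⟨A₁, π₁, hπ₁, x₁, hx₁⟩ := hm' g hg x hgx
  have hz : (x₁ ≫ f.f n - π₁ ≫ x) ≫ F.d n k = 0 := by
    rw [Preadditive.sub_comp, Category.assoc, Category.assoc, ← hgx, f.comm, ← Category.assoc,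
      ← hx₁, Category.assoc, sub_self]
  obtain ⟨A₂, π₂, hπ₂, x₂, hx₂, y₁, hy₁⟩ := he' (x₁ ≫ f.f n - π₁ ≫ x) hz
  refine ⟨A₂, π₂ ≫ π₁, epi_comp _ _, π₂ ≫ x₁ - x₂, y₁, ?_, ?_⟩
  · rw [Category.assoc, hx₁, Preadditive.sub_comp, hx₂, sub_zero, Category.assoc]
  · rw [Preadditive.sub_comp, Category.assoc, Category.assoc]
    rw [Preadditive.comp_sub] at hy₁
    have : π₂ ≫ π₁ ≫ x = π₂ ≫ x₁ ≫ f.f n - (x₂ ≫ f.f n + y₁ ≫ F.d m n) := by
      rw [← hy₁]; abel
    rw [this]; abel

theorem locEx_of_homology (m n k l : ℤ) (e1 : m + 1 = n) (e2 : n + 1 = k) (e3 : k + 1 = l)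
    (hm : Mono (HomologicalComplex.homologyMap f k))
    (he : Epi (HomologicalComplex.homologyMap f n)) :
    LocEx (G.d n k) (G.d k l) (f.f n) (f.f k) (F.d m n) (F.d n k) := by
  intro W g x hg hgx
  obtain ⟨A', π, hπ, g', x', h1, h2⟩ := cone_exact_refinements f m n k l e1 e2 e3 hm he
    (homOfSec O g) (homOfSec O x)
    (by rw [homOfSec_comp]; exact homOfSec_eq_zero _ hg)
    (by rw [homOfSec_comp, homOfSec_comp, hgx])
  obtain ⟨R, hR, hRl⟩ := exists_local_lift π (gen O W)
  refine ⟨R, hR, ?_⟩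
  intro W' h hh
  obtain ⟨a', ha'⟩ := hRl h hh
  have key : ∀ {M : ModSite.Mod O} (s : ModSite.sect M W),
      ev (π ≫ homOfSec O s) W' a' = M.val.map h.op s := by
    intro M s
    rw [ev_comp]
    change ev (homOfSec O s) W' (ev π W' a') = _
    have ha'' : ev π W' a' = (ModSite.freeOn O W).val.map h.op (gen O W) := ha'
    rw [ha'', ev_naturality, ev_homOfSec]
  refine ⟨ev g' W' a', ev x' W' a', ?_, ?_⟩
  · rw [← key g, h1]
    rfl
  · rw [← key x, h2]
    rfl

end partA


section partB

variable {E F G : CochainComplex (ModSite.Mod O) ℤ} (α : E ⟶ F) (f : G ⟶ F)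

/-- partial lift data over `W`: the chain map and homotopy conditions hold in degrees `≥ n` -/
def Good (n : ℤ) (W : C) (β : ∀ i : ℤ, LHom (E.X i) (G.X i) W)
    (H : ∀ i j : ℤ, LHom (E.X i) (F.X j) W) : Prop :=
  ∀ i j k : ℤ, j + 1 = i → i + 1 = k → n ≤ i →
    β i ≫ (ModSite.restr O W).map (G.d i k) = (ModSite.restr O W).map (E.d i k) ≫ β k ∧
    β i ≫ (ModSite.restr O W).map (f.f i) =
      (ModSite.restr O W).map (E.d i k) ≫ H k i + H i j ≫ (ModSite.restr O W).map (F.d j i) +
        (ModSite.restr O W).map (α.f i)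

lemma Good.restrict {n : ℤ} {W W' : C} {β : ∀ i : ℤ, LHom (E.X i) (G.X i) W}
    {H : ∀ i j : ℤ, LHom (E.X i) (F.X j) W} (hg : Good α f n W β H) (h : W' ⟶ W) :
    Good α f n W' (fun i => res h (β i)) (fun i j => res h (H i j)) := by
  intro i j k e1 e2 hn
  obtain ⟨h1, h2⟩ := hg i j k e1 e2 hn
  constructor
  · have := congrArg (res h) h1
    rw [res_comp, res_comp, res_map, res_map] at this
    exact this
  · have := congrArg (res h) h2
    rw [res_comp, res_add, res_add, res_comp, res_comp, res_map, res_map, res_map, res_map] at this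
    exact this

lemma Good.mono {n n' : ℤ} (hn : n ≤ n') {W : C} {β : ∀ i : ℤ, LHom (E.X i) (G.X i) W}
    {H : ∀ i j : ℤ, LHom (E.X i) (F.X j) W} (hg : Good α f n W β H) : Good α f n' W β H :=
  fun i j k e1 e2 h => hg i j k e1 e2 (hn.trans h)

theorem step (hE : ∀ i, DCoh.IsFinFreeSummandMod (ModSite.ringSh O) (E.X i)) (n : ℤ)
    (hm : Mono (HomologicalComplex.homologyMap f (n + 1)))
    (he : Epi (HomologicalComplex.homologyMap f n))
    (W : C) (β : ∀ i : ℤ, LHom (E.X i) (G.X i) W) (H : ∀ i j : ℤ, LHom (E.X i) (F.X j) W)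
    (hg : Good α f (n + 1) W β H) :
    ∃ R ∈ J W, ∀ ⦃W' : C⦄ (h : W' ⟶ W), R h →
      ∃ (β' : ∀ i : ℤ, LHom (E.X i) (G.X i) W') (H' : ∀ i j : ℤ, LHom (E.X i) (F.X j) W'),
        Good α f n W' β' H' := by
  classical
  have hex := locEx_of_homology f (n - 1) n (n + 1) (n + 1 + 1) (by ring) rfl rfl hm he
  obtain ⟨τ1, hτ1⟩ : ∃ τ1 : LHom (E.X n) (G.X (n + 1)) W,
      τ1 = (ModSite.restr O W).map (E.d n (n + 1)) ≫ β (n + 1) := ⟨_, rfl⟩
  obtain ⟨τ2, hτ2⟩ : ∃ τ2 : LHom (E.X n) (F.X n) W,
      τ2 = (ModSite.restr O W).map (E.d n (n + 1)) ≫ H (n + 1) n +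
        (ModSite.restr O W).map (α.f n) := ⟨_, rfl⟩
  obtain ⟨g1, g2⟩ := hg (n + 1) n (n + 1 + 1) rfl rfl le_rfl
  have hdd : (ModSite.restr O W).map (E.d n (n + 1)) ≫
      (ModSite.restr O W).map (E.d (n + 1) (n + 1 + 1)) = 0 := by
    rw [← Functor.map_comp, E.d_comp_d, Functor.map_zero]
  have h1 : τ1 ≫ (ModSite.restr O W).map (G.d (n + 1) (n + 1 + 1)) = 0 := by
    rw [hτ1, Category.assoc, g1, ← Category.assoc, hdd, zero_comp]
  have h2 : τ1 ≫ (ModSite.restr O W).map (f.f (n + 1)) =
      τ2 ≫ (ModSite.restr O W).map (F.d n (n + 1)) := by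
    rw [hτ1, hτ2, Category.assoc, g2, Preadditive.comp_add, Preadditive.comp_add,
      Preadditive.add_comp, ← Category.assoc, hdd, zero_comp, zero_add, Category.assoc,
      ← Functor.map_comp, ← Functor.map_comp, α.comm]
  obtain ⟨R, hR, hRl⟩ := local_lift (G.d n (n + 1)) (G.d (n + 1) (n + 1 + 1)) (f.f n)
    (f.f (n + 1)) (F.d (n - 1) n) (F.d n (n + 1)) (hE n) hex W τ1 τ2 h1 h2
  refine ⟨R, hR, ?_⟩
  intro W' h hh
  obtain ⟨b, η, hb1, hb2⟩ := hRl h hh
  refine ⟨Function.update (fun i => res h (β i)) n b,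
    Function.update (fun i j => res h (H i j)) n
      (Function.update (fun j => res h (H n j)) (n - 1) η), ?_⟩
  intro i j k e1 e2 hn
  by_cases hi : i = n
  · have hi' : n = i := hi.symm
    subst hi'
    obtain rfl : j = n - 1 := by omega
    subst e2
    have hne : n + 1 ≠ n := by omega
    simp only [Function.update_self, Function.update_of_ne hne]
    constructor
    · rw [hb1, hτ1, res_comp, res_map]
    · have hb2' : b ≫ (ModSite.restr O W').map (f.f n) =
          res h τ2 + η ≫ (ModSite.restr O W').map (F.d (n - 1) n) := by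
        rw [← hb2]; abel
      rw [hb2', hτ2, res_add, res_comp, res_map, res_map]
      abel
  · have hi1 : n + 1 ≤ i := by omega
    have hk : k ≠ n := by omega
    simp only [Function.update_of_ne hi, Function.update_of_ne hk]
    exact (hg.restrict α f h) i j k e1 e2 hi1

theorem iterate (hE : ∀ i, DCoh.IsFinFreeSummandMod (ModSite.ringSh O) (E.X i)) (a : ℤ)
    (hiso : ∀ j : ℤ, a < j → IsIso (HomologicalComplex.homologyMap f j))
    (hepi : Epi (HomologicalComplex.homologyMap f a)) (k : ℕ) :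
    ∀ (W : C) (β : ∀ i : ℤ, LHom (E.X i) (G.X i) W) (H : ∀ i j : ℤ, LHom (E.X i) (F.X j) W),
      Good α f (a + k) W β H →
      ∃ R ∈ J W, ∀ ⦃W' : C⦄ (h : W' ⟶ W), R h →
        ∃ (β' : ∀ i : ℤ, LHom (E.X i) (G.X i) W') (H' : ∀ i j : ℤ, LHom (E.X i) (F.X j) W'),
          Good α f a W' β' H' := by
  induction k with
  | zero =>
    intro W β H hg
    have hg0 : Good α f a W β H := hg.mono α f (by simp)
    exact ⟨⊤, J.top_mem W, fun W' h _ => ⟨_, _, hg0.restrict α f h⟩⟩
  | succ k ih =>
    intro W β H hg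
    have hg' : Good α f (a + k + 1) W β H := hg.mono α f (by push_cast; omega)
    have hm : Mono (HomologicalComplex.homologyMap f (a + k + 1)) := by
      haveI := hiso (a + k + 1) (by omega)
      infer_instance
    have he : Epi (HomologicalComplex.homologyMap f (a + k)) := by
      rcases Nat.eq_zero_or_pos k with hk | hk
      · subst hk
        have e : a + ((0 : ℕ) : ℤ) = a := by simp
        rw [e]
        exact hepi
      · haveI := hiso (a + k) (by omega)
        infer_instance
    obtain ⟨R, hR, hRl⟩ := step α f hE (a + k) hm he W β H hg'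
    refine locally_of_locally (P := fun W' => ∃ (β' : ∀ i : ℤ, LHom (E.X i) (G.X i) W')
      (H' : ∀ i j : ℤ, LHom (E.X i) (F.X j) W'), Good α f a W' β' H') hR ?_
    intro W₁ g hg₁
    obtain ⟨β₁, H₁, hg₁'⟩ := hRl g hg₁
    exact ih W₁ β₁ H₁ hg₁'

lemma isZero_restr (W : C) {M : ModSite.Mod O} (hM : IsZero M) :
    IsZero ((ModSite.restr O W).obj M) :=
  Functor.map_isZero (ModSite.restr O W) hM

/-- from complete data to a chain map and a homotopy -/
theorem of_good_all {W : C} (β : ∀ i : ℤ, LHom (E.X i) (G.X i) W)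
    (H : ∀ i j : ℤ, LHom (E.X i) (F.X j) W)
    (hall : ∀ i j k : ℤ, j + 1 = i → i + 1 = k →
      β i ≫ (ModSite.restr O W).map (G.d i k) = (ModSite.restr O W).map (E.d i k) ≫ β k ∧
      β i ≫ (ModSite.restr O W).map (f.f i) =
        (ModSite.restr O W).map (E.d i k) ≫ H k i + H i j ≫ (ModSite.restr O W).map (F.d j i) +
          (ModSite.restr O W).map (α.f i)) :
    ∃ b : ((ModSite.restr O W).mapHomologicalComplex (ComplexShape.up ℤ)).obj E ⟶
        ((ModSite.restr O W).mapHomologicalComplex (ComplexShape.up ℤ)).obj G,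
      Nonempty (Homotopy (b ≫ ((ModSite.restr O W).mapHomologicalComplex (ComplexShape.up ℤ)).map f)
        (((ModSite.restr O W).mapHomologicalComplex (ComplexShape.up ℤ)).map α)) := by
  classical
  let b : ((ModSite.restr O W).mapHomologicalComplex (ComplexShape.up ℤ)).obj E ⟶
      ((ModSite.restr O W).mapHomologicalComplex (ComplexShape.up ℤ)).obj G :=
    { f := fun i => β i
      comm' := by
        intro i k hik
        have hik' : i + 1 = k := hik
        exact (hall i (i - 1) k (by ring) hik').1 }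
  have hom : Homotopy (b ≫ ((ModSite.restr O W).mapHomologicalComplex (ComplexShape.up ℤ)).map f)
      (((ModSite.restr O W).mapHomologicalComplex (ComplexShape.up ℤ)).map α) :=
    { hom := fun i j => if hij : j + 1 = i then H i j else 0
      zero := by
        intro i j hij
        have hij' : ¬ (j + 1 = i) := hij
        exact dif_neg hij'
      comm := by
        intro i
        have hrel1 : (ComplexShape.up ℤ).Rel i (i + 1) := rfl
        have hrel2 : (ComplexShape.up ℤ).Rel (i - 1) i := by simp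
        rw [dNext_eq _ hrel1, prevD_eq _ hrel2]
        have e1 : (i - 1) + 1 = i := by ring
        rw [dif_pos rfl, dif_pos e1]
        exact (hall i (i - 1) (i + 1) e1 rfl).2 }
  exact ⟨b, ⟨hom⟩⟩

theorem main (O : Sheaf J CommRingCat.{u})
    (E F G : CochainComplex (ModSite.Mod O) ℤ) (α : E ⟶ F) (f : G ⟶ F)
    (hE : DCoh.IsStrictlyPerfectMod (ModSite.ringSh O) E) (a : ℤ)
    (hEa : ∀ j : ℤ, j < a → IsZero (E.X j))
    (hiso : ∀ j : ℤ, a < j → IsIso (HomologicalComplex.homologyMap f j))
    (hepi : Epi (HomologicalComplex.homologyMap f a)) (V : C) :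
    ∃ R ∈ J V, ∀ ⦃W : C⦄ (g : W ⟶ V), R g →
      ∃ β : ((ModSite.restr O W).mapHomologicalComplex (ComplexShape.up ℤ)).obj E ⟶
          ((ModSite.restr O W).mapHomologicalComplex (ComplexShape.up ℤ)).obj G,
        Nonempty (Homotopy (β ≫ ((ModSite.restr O W).mapHomologicalComplex (ComplexShape.up ℤ)).map f)
          (((ModSite.restr O W).mapHomologicalComplex (ComplexShape.up ℤ)).map α)) := by
  obtain ⟨⟨a', b', hab⟩, hsum⟩ := hE
  have hk : b' < a + ((b' + 1 - a).toNat : ℤ) := by
    have := Int.self_le_toNat (b' + 1 - a)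
    omega
  have hstart : Good α f (a + ((b' + 1 - a).toNat : ℤ)) V (fun _ => 0) (fun _ _ => 0) := by
    intro i j k e1 e2 hn
    have hz : IsZero ((ModSite.restr O V).obj (E.X i)) :=
      isZero_restr V (hab i (Or.inr (by omega)))
    exact ⟨hz.eq_of_src _ _, hz.eq_of_src _ _⟩
  obtain ⟨R, hR, hRl⟩ := iterate α f hsum a hiso hepi _ V _ _ hstart
  refine ⟨R, hR, ?_⟩
  intro W g hg
  obtain ⟨β', H', hgood⟩ := hRl g hg
  apply of_good_all α f β' H'
  intro i j k e1 e2
  by_cases hi : a ≤ i
  · exact hgood i j k e1 e2 hi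
  · have hz : IsZero ((ModSite.restr O W).obj (E.X i)) :=
      isZero_restr W (hEa i (by omega))
    exact ⟨hz.eq_of_src _ _, hz.eq_of_src _ _⟩

end partB

end Groth.Agent.Lib.Helper4.PerfLift
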