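import Mathlib
import Groth.Prelude.Def_ModSite2
import Groth.Prelude.Def_AlgSpPerf
import Groth.Agent.Lib.Helper4.PerfLift

/-!
# Morphisms in the derived category out of a strictly perfect complex are locally chain maps (helper4)
-/

set_option backward.isDefEq.respectTransparency.types false
set_option synthInstance.maxHeartbeats 400000
set_option autoImplicit false
set_option linter.unusedSectionVars false
set_option linter.style.haveILetI false
set_option linter.unusedSimpArgs false
universe u v w
open CategoryTheory CategoryTheory.Limits Opposite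

namespace Groth.Agent.Lib.Helper4.PerfLiftD

theorem main {C : Type u} [SmallCategory C] {J : GrothendieckTopology C} (O : Sheaf J CommRingCat.{u})
    [HasDerivedCategory.{u} (ModSite.Mod O)] [∀ W : C, HasDerivedCategory.{u} (ModSite.Mod (O.over W))]
    [∀ W : C, (ModSite.restr O W).Additive] [∀ W : C, PreservesFiniteColimits (ModSite.restr O W)]
    (E F : CochainComplex (ModSite.Mod O) ℤ) (hE : DCoh.IsStrictlyPerfectMod (ModSite.ringSh O) E)
    (α : DerivedCategory.Q.obj E ⟶ DerivedCategory.Q.obj F) (V : C) :
    ∃ R ∈ J V, ∀ ⦃W : C⦄ (g : W ⟶ V), R g →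
      ∃ α' : ((ModSite.restr O W).mapHomologicalComplex (ComplexShape.up ℤ)).obj E ⟶
          ((ModSite.restr O W).mapHomologicalComplex (ComplexShape.up ℤ)).obj F,
        (ModSite.restr O W).mapDerivedCategory.map α =
          (ModSite.restr O W).mapDerivedCategoryFactors.hom.app E ≫ DerivedCategory.Q.map α' ≫
            (ModSite.restr O W).mapDerivedCategoryFactors.inv.app F := by
  obtain ⟨L, g₀, s, hs, rfl⟩ := DerivedCategory.left_fac α
  have hqi : QuasiIso s := (DerivedCategory.isIso_Q_map_iff_quasiIso _ s).1 hs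
  obtain ⟨⟨a, b, hab⟩, hsum⟩ := hE
  have hiso' : ∀ j : ℤ, IsIso (HomologicalComplex.homologyMap s j) :=
    fun j => (quasiIsoAt_iff_isIso_homologyMap s j).1 (hqi.quasiIsoAt j)
  have hiso : ∀ j : ℤ, a < j → IsIso (HomologicalComplex.homologyMap s j) :=
    fun j _ => hiso' j
  have hepi : Epi (HomologicalComplex.homologyMap s a) := by
    haveI := hiso' a
    infer_instance
  obtain ⟨R, hR, hRl⟩ := Groth.Agent.Lib.Helper4.PerfLift.main O E L F g₀ s
    ⟨⟨a, b, hab⟩, hsum⟩ a (fun j hj => hab j (Or.inl hj)) hiso hepi V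
  refine ⟨R, hR, ?_⟩
  intro W g hg
  obtain ⟨β, ⟨hom⟩⟩ := hRl g hg
  refine ⟨β, ?_⟩
  have hQ : DerivedCategory.Q.map β ≫ DerivedCategory.Q.map
      (((ModSite.restr O W).mapHomologicalComplex (ComplexShape.up ℤ)).map s) =
      DerivedCategory.Q.map (((ModSite.restr O W).mapHomologicalComplex (ComplexShape.up ℤ)).map g₀) := by
    rw [← Functor.map_comp]
    exact DerivedCategory.Q_map_eq_of_homotopy _ hom
  haveI : IsIso ((ModSite.restr O W).mapDerivedCategory.map (DerivedCategory.Q.map s)) :=
    inferInstance
  rw [← cancel_mono ((ModSite.restr O W).mapDerivedCategory.map (DerivedCategory.Q.map s))]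
  rw [← Functor.map_comp, Category.assoc, IsIso.inv_hom_id, Category.comp_id]
  rw [← cancel_mono ((ModSite.restr O W).mapDerivedCategoryFactors.hom.app L)]
  simp only [Category.assoc]
  rw [Functor.mapDerivedCategoryFactors_hom_naturality,
    Functor.mapDerivedCategoryFactors_hom_naturality, Iso.inv_hom_id_app_assoc, hQ]

end Groth.Agent.Lib.Helper4.PerfLiftD
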