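import Mathlib

/-!
# Pic of a polynomial ring over a product of valuation rings is trivial (S13955) (helper4)
-/

set_option backward.isDefEq.respectTransparency.types false
set_option synthInstance.maxHeartbeats 400000
set_option autoImplicit false
set_option linter.unusedSectionVars false
set_option linter.style.haveILetI false
set_option linter.unusedSimpArgs false
universe u v w
open TensorProduct

namespace Groth.Agent.Lib.Helper4.PicPolyProd1
noncomputable section

section GCD

theorem isGCDMonoid_of_ringEquiv {R S : Type*} [CommRing R] [CommRing S] [IsDomain R]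
    [IsGCDMonoid R] (e : R ≃+* S) : IsGCDMonoid S := by
  haveI : IsDomain S := e.isDomain_iff.mp inferInstance
  rw [isGCDMonoid_iff_exists_gcd]
  refine ⟨inferInstance, fun a b => ?_⟩
  obtain ⟨_, h⟩ := (isGCDMonoid_iff_exists_gcd (α := R)).mp inferInstance
  obtain ⟨c, hc⟩ := h (e.symm a) (e.symm b)
  refine ⟨e c, fun d => ?_⟩
  have := hc (e.symm d)
  rw [map_dvd_iff, map_dvd_iff] at this
  rw [this, ← map_dvd_iff e.symm, e.symm_apply_apply]

theorem isGCDMonoid_mvPolynomial (R : Type u) [CommRing R] [IsDomain R] [IsGCDMonoid R] :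
    ∀ n : ℕ, IsGCDMonoid (MvPolynomial (Fin n) R) := by
  intro n
  induction n with
  | zero => exact isGCDMonoid_of_ringEquiv (MvPolynomial.isEmptyAlgEquiv R (Fin 0)).symm.toRingEquiv
  | succ n ih =>
    haveI := ih
    exact isGCDMonoid_of_ringEquiv (MvPolynomial.finSuccEquiv R n).symm.toRingEquiv

theorem pic_mvPolynomial (R : Type u) [CommRing R] [IsDomain R] [ValuationRing R] (n : ℕ) :
    Subsingleton (CommRing.Pic (MvPolynomial (Fin n) R)) := by
  haveI := isGCDMonoid_mvPolynomial R n
  infer_instance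

end GCD

section Abstract
variable {S : Type u} [CommRing S] {ι : Type v} (Si : ι → Type u) [∀ i, CommRing (Si i)]
  [∀ i, IsDomain (Si i)] [∀ i, Algebra S (Si i)]

theorem free_of_components (deg : S → ℕ) (degi : ∀ i, Si i → ℕ)
    (A0 : ∀ i, degi i 0 = 0)
    (A1 : ∀ f : S, (∀ i, algebraMap S (Si i) f = 0) → f = 0)
    (A2 : ∀ (d : ℕ) (F : ∀ i, Si i), (∀ i, degi i (F i) ≤ d) → ∃ f : S, ∀ i, algebraMap S (Si i) f = F i)
    (A3 : ∀ i (f : S), degi i (algebraMap S (Si i) f) ≤ deg f)
    (A4 : ∀ i (g h : Si i), g ≠ 0 → h ≠ 0 → degi i g ≤ degi i (g * h) ∧ degi i h ≤ degi i (g * h))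
    (A5 : ∀ i, Subsingleton (CommRing.Pic (Si i)))
    (P : Type u) [AddCommGroup P] [Module S P] [Module.Invertible S P] :
    Nonempty (P ≃ₗ[S] S) := by
  classical
  obtain ⟨m, π, hπ⟩ := Module.Finite.exists_fin' S P
  obtain ⟨s, hs⟩ := Module.projective_lifting_property π LinearMap.id hπ
  have hπs : ∀ p, π (s p) = p := fun p => LinearMap.congr_fun hs p
  have hsinj : Function.Injective s := Function.LeftInverse.injective hπs
  -- componentwise trivializations
  have hθ : ∀ i, Nonempty ((Si i ⊗[S] P) ≃ₗ[Si i] Si i) := fun i => by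
    haveI := A5 i
    exact Module.Invertible.free_iff_linearEquiv.mp inferInstance
  choose θ _ using fun i => exists_true_iff_nonempty.mpr (hθ i)
  let w : ∀ i, Si i ⊗[S] P := fun i => (θ i).symm 1
  have hw : ∀ i (y : Si i ⊗[S] P), y = (θ i y) • w i := fun i y => by
    apply (θ i).injective
    rw [map_smul, LinearEquiv.apply_symm_apply, smul_eq_mul, mul_one]
  let E : ∀ i, (Si i ⊗[S] (Fin m → S)) ≃ₗ[Si i] (Fin m → Si i) :=
    fun i => TensorProduct.piScalarRight S (Si i) (Si i) (Fin m)
  let si : ∀ i, (Si i ⊗[S] P) →ₗ[Si i] (Fin m → Si i) :=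
    fun i => (E i).toLinearMap ∘ₗ (s.baseChange (Si i))
  let πi : ∀ i, (Fin m → Si i) →ₗ[Si i] (Si i ⊗[S] P) :=
    fun i => (π.baseChange (Si i)) ∘ₗ (E i).symm.toLinearMap
  have hE : ∀ i (x : Fin m → S), E i (1 ⊗ₜ x) = fun j => algebraMap S (Si i) (x j) := by
    intro i x
    simp only [E, TensorProduct.piScalarRight_apply, TensorProduct.piScalarRightHom_tmul]
    funext j
    rw [Algebra.smul_def, mul_one]
  have N1 : ∀ i (p : P), si i (1 ⊗ₜ p) = fun j => algebraMap S (Si i) (s p j) := by
    intro i p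
    simp only [si, LinearMap.comp_apply, LinearMap.baseChange_tmul, LinearEquiv.coe_coe]
    exact hE i (s p)
  have N2 : ∀ i (x : Fin m → S), πi i (fun j => algebraMap S (Si i) (x j)) = 1 ⊗ₜ π x := by
    intro i x
    simp only [πi, LinearMap.comp_apply, LinearEquiv.coe_coe]
    rw [← hE i x, LinearEquiv.symm_apply_apply, LinearMap.baseChange_tmul]
  have hπsi : ∀ i y, πi i (si i y) = y := by
    intro i y
    simp only [πi, si, LinearMap.comp_apply, LinearEquiv.coe_coe, LinearEquiv.symm_apply_apply]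
    rw [← LinearMap.comp_apply, ← LinearMap.baseChange_comp, hs, LinearMap.baseChange_id,
      LinearMap.id_apply]
  have hone : ∀ i, (1 : Si i) ≠ 0 := fun i => one_ne_zero
  have hw0 : ∀ i, w i ≠ 0 := fun i h => hone i (by
    have := congrArg (θ i) h
    simpa [w] using this)
  let ui : ∀ i, Fin m → Si i := fun i => si i (w i)
  have hui0 : ∀ i, ui i ≠ 0 := fun i h => hw0 i (by
    have := hπsi i (w i)
    rw [show si i (w i) = 0 from h, map_zero] at this
    exact this.symm)
  have hmul : ∀ i (p : P) (l : Fin m), algebraMap S (Si i) (s p l) = θ i (1 ⊗ₜ p) * ui i l := by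
    intro i p l
    have h1 := N1 i p
    rw [hw i (1 ⊗ₜ p), map_smul] at h1
    have := congrFun h1 l
    simp only [Pi.smul_apply, smul_eq_mul] at this
    exact this.symm
  -- generators
  let pj : Fin m → P := fun j => π (Pi.single j 1)
  have hsingle : ∀ i (j : Fin m), (Pi.single j (1 : Si i) : Fin m → Si i) =
      fun j' => algebraMap S (Si i) ((Pi.single j (1 : S) : Fin m → S) j') := by
    intro i j
    funext j'
    by_cases h : j' = j
    · subst h; simp
    · simp [Pi.single_apply, h]
  have hgj : ∀ i, ∃ j, θ i (1 ⊗ₜ pj j) ≠ 0 := by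
    intro i
    by_contra hcon
    push Not at hcon
    have h1 : ∀ j, πi i (Pi.single j 1) = 0 := by
      intro j
      rw [hsingle i j, N2 i]
      apply (θ i).injective
      rw [map_zero]
      exact hcon j
    have h2 : ui i = ∑ j, ui i j • (Pi.single j (1 : Si i) : Fin m → Si i) := by
      funext l
      simp [Finset.sum_apply, Pi.single_apply]
    have h3 : πi i (ui i) = 0 := by
      rw [h2, map_sum]
      refine Finset.sum_eq_zero fun j _ => ?_
      rw [map_smul, h1 j, smul_zero]
    exact hw0 i (by rw [← hπsi i (w i)]; exact h3)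
  let d : ℕ := ∑ j, ∑ l, deg (s (pj j) l)
  have hdeg_ui : ∀ i l, degi i (ui i l) ≤ d := by
    intro i l
    by_cases hl : ui i l = 0
    · rw [hl, A0]; exact Nat.zero_le _
    obtain ⟨j, hj⟩ := hgj i
    have h1 := hmul i (pj j) l
    have h2 := (A4 i _ _ hj hl).2
    rw [← h1] at h2
    refine h2.trans ((A3 i _).trans ?_)
    calc deg (s (pj j) l) ≤ ∑ l', deg (s (pj j) l') :=
          Finset.single_le_sum (f := fun l' => deg (s (pj j) l')) (fun _ _ => Nat.zero_le _)
            (Finset.mem_univ l)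
      _ ≤ d := Finset.single_le_sum (f := fun j' => ∑ l', deg (s (pj j') l'))
            (fun _ _ => Nat.zero_le _) (Finset.mem_univ j)
  choose u hu using fun l => A2 d (fun i => ui i l) (fun i => hdeg_ui i l)
  let p0 : P := π u
  have hp0 : ∀ i, (1 : Si i) ⊗ₜ[S] p0 = w i := by
    intro i
    rw [← N2 i u]
    have : (fun j => algebraMap S (Si i) (u j)) = ui i := funext fun j => hu j i
    rw [this]
    exact hπsi i (w i)
  have hsm : ∀ i (g : S) (p : P), (1 : Si i) ⊗ₜ[S] (g • p) = algebraMap S (Si i) g • ((1 : Si i) ⊗ₜ[S] p) := by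
    intro i g p
    rw [TensorProduct.tmul_smul, TensorProduct.smul_tmul', Algebra.smul_def, mul_one,
      TensorProduct.smul_tmul', smul_eq_mul, mul_one]
  let ψ : S →ₗ[S] P := LinearMap.toSpanSingleton S P p0
  have hψ : ∀ g, ψ g = g • p0 := fun g => rfl
  have hinj : Function.Injective ψ := by
    rw [injective_iff_map_eq_zero]
    intro g hg
    apply A1
    intro i
    have h1 : (1 : Si i) ⊗ₜ[S] (g • p0) = 0 := by rw [← hψ, hg, TensorProduct.tmul_zero]
    rw [hsm, hp0] at h1
    have h2 := congrArg (θ i) h1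
    rw [map_smul, map_zero, show θ i (w i) = 1 from (θ i).apply_symm_apply 1, smul_eq_mul,
      mul_one] at h2
    exact h2
  have hsurj : Function.Surjective ψ := by
    intro p
    have hl : ∀ i, ∃ l, ui i l ≠ 0 := fun i => by
      by_contra hcon
      push Not at hcon
      exact hui0 i (funext hcon)
    choose li hli using hl
    let D : ℕ := ∑ l, deg (s p l)
    have hdegg : ∀ i, degi i (θ i (1 ⊗ₜ p)) ≤ D := by
      intro i
      by_cases hg : θ i (1 ⊗ₜ p) = 0
      · rw [hg, A0]; exact Nat.zero_le _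
      have h1 := hmul i p (li i)
      have h2 := (A4 i _ _ hg (hli i)).1
      rw [← h1] at h2
      refine h2.trans ((A3 i _).trans ?_)
      exact Finset.single_le_sum (f := fun l' => deg (s p l')) (fun _ _ => Nat.zero_le _)
            (Finset.mem_univ (li i))
    obtain ⟨g, hg⟩ := A2 D (fun i => θ i (1 ⊗ₜ p)) hdegg
    refine ⟨g, ?_⟩
    rw [hψ]
    apply hsinj
    funext l
    rw [← sub_eq_zero]
    apply A1
    intro i
    rw [map_sub, sub_eq_zero]
    have h1 : (1 : Si i) ⊗ₜ[S] (g • p0) = 1 ⊗ₜ p := by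
      rw [hsm, hp0, hg i]
      exact (hw i _).symm
    have h2 := N1 i (g • p0)
    rw [h1, N1 i p] at h2
    exact (congrFun h2 l).symm
  exact ⟨(LinearEquiv.ofBijective ψ ⟨hinj, hsurj⟩).symm⟩

end Abstract

section Concrete
variable {ι : Type u} (R : ι → Type u) [∀ i, CommRing (R i)] (n : ℕ)

theorem assemble (d : ℕ) (F : ∀ i, MvPolynomial (Fin n) (R i)) (hF : ∀ i, (F i).totalDegree ≤ d) :
    ∃ f : MvPolynomial (Fin n) (∀ i, R i), ∀ i, MvPolynomial.map (Pi.evalRingHom R i) f = F i := by
  classical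
  have hfin : {m : Fin n →₀ ℕ | Finsupp.degree m ≤ d}.Finite := Finsupp.finite_of_degree_le d
  refine ⟨∑ m ∈ hfin.toFinset, MvPolynomial.monomial m (fun i => MvPolynomial.coeff m (F i)), fun i => ?_⟩
  ext m'
  rw [map_sum, MvPolynomial.coeff_sum]
  simp only [MvPolynomial.map_monomial, MvPolynomial.coeff_monomial, Pi.evalRingHom_apply]
  rw [Finset.sum_ite_eq' hfin.toFinset m' (fun m => MvPolynomial.coeff m (F i))]
  split_ifs with h
  · rfl
  · rw [Set.Finite.mem_toFinset, Set.mem_setOf_eq, not_le] at h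
    symm
    apply MvPolynomial.coeff_eq_zero_of_totalDegree_lt
    refine lt_of_le_of_lt (hF i) ?_
    rwa [Finsupp.degree] at h

theorem map_eq_zero_all (f : MvPolynomial (Fin n) (∀ i, R i))
    (h : ∀ i, MvPolynomial.map (Pi.evalRingHom R i) f = 0) : f = 0 := by
  ext m i
  have := congrArg (MvPolynomial.coeff m) (h i)
  rw [MvPolynomial.coeff_map] at this
  simpa using this

theorem main {ι : Type u} (R : ι → Type u)
    [∀ i, CommRing (R i)] [∀ i, IsDomain (R i)] [∀ i, ValuationRing (R i)]
    (n : ℕ) : Subsingleton (CommRing.Pic (MvPolynomial (Fin n) (∀ i, R i))) := by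
  letI : ∀ i, Algebra (MvPolynomial (Fin n) (∀ i, R i)) (MvPolynomial (Fin n) (R i)) :=
    fun i => (MvPolynomial.map (Pi.evalRingHom R i)).toAlgebra
  have halg : ∀ i (f : MvPolynomial (Fin n) (∀ i, R i)),
      algebraMap (MvPolynomial (Fin n) (∀ i, R i)) (MvPolynomial (Fin n) (R i)) f =
        MvPolynomial.map (Pi.evalRingHom R i) f := fun i f => rfl
  rw [CommRing.Pic.subsingleton_iff]
  intro P _ _ hP
  haveI := hP
  rw [Module.Invertible.free_iff_linearEquiv]
  refine free_of_components (fun i => MvPolynomial (Fin n) (R i)) MvPolynomial.totalDegree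
    (fun i => MvPolynomial.totalDegree) (fun i => MvPolynomial.totalDegree_zero) ?_ ?_ ?_ ?_ ?_ P
  · intro f hf
    exact map_eq_zero_all R n f (fun i => by rw [← halg]; exact hf i)
  · intro d F hF
    obtain ⟨f, hf⟩ := assemble R n d F hF
    exact ⟨f, fun i => by rw [halg]; exact hf i⟩
  · intro i f
    rw [halg]
    exact Finset.sup_mono (MvPolynomial.support_map_subset _ _)
  · intro i g h hg hh
    rw [MvPolynomial.totalDegree_mul_of_isDomain hg hh]
    omega
  · intro i
    exact pic_mvPolynomial (R i) n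

end Concrete

end
end Groth.Agent.Lib.Helper4.PicPolyProd1
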