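import Mathlib
import Groth.Prelude.Def_CAlgX
import Groth.Agent.Lib.Helper7.ValFP.Main
import Groth.Agent.Lib.Helper7.InjFib.Main

/-!
# Injectivity mod the maximal ideal over a valuation ring (finite modules, ess. finite type): reduce to Helper7 InjFib + ValFP (helper4)
-/

set_option backward.isDefEq.respectTransparency.types false
set_option synthInstance.maxHeartbeats 400000
set_option autoImplicit false
set_option linter.unusedSectionVars false
set_option linter.style.haveILetI false
set_option linter.unusedSimpArgs false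
universe u v w
open IsLocalRing

namespace Groth.Agent.Lib.Helper4.ValInjFib1
noncomputable section

/-- `(I B) • ⊤` as a `B`-submodule and `I • ⊤` as an `A`-submodule have the same elements. -/
theorem mem_map_smul_top_iff {A B M : Type*} [CommRing A] [CommRing B] [Algebra A B]
    [AddCommGroup M] [Module B M] [Module A M] [IsScalarTower A B M] (I : Ideal A) (x : M) :
    x ∈ (I.map (algebraMap A B)) • (⊤ : Submodule B M) ↔ x ∈ (I • ⊤ : Submodule A M) := by
  constructor
  · intro hx
    refine Submodule.smul_induction_on hx ?_ ?_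
    · intro r hr n _
      have key : ∀ r ∈ I.map (algebraMap A B), ∀ n : M, r • n ∈ (I • ⊤ : Submodule A M) := by
        intro r hr
        refine Submodule.span_induction ?_ ?_ ?_ ?_ hr
        · rintro _ ⟨a, ha, rfl⟩ n
          rw [algebraMap_smul]
          exact Submodule.smul_mem_smul ha Submodule.mem_top
        · intro n; rw [zero_smul]; exact zero_mem _
        · intro r s _ _ hr hs n
          rw [add_smul]; exact add_mem (hr n) (hs n)
        · intro b r _ hr n
          rw [smul_eq_mul, mul_comm, mul_smul]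
          exact hr _
      exact key r hr n
    · intro x y hx hy; exact add_mem hx hy
  · intro hx
    refine Submodule.smul_induction_on hx ?_ ?_
    · intro a ha n _
      rw [← algebraMap_smul B a n]
      exact Submodule.smul_mem_smul (Ideal.mem_map_of_mem _ ha) Submodule.mem_top
    · intro x y hx hy; exact add_mem hx hy

/-- Functions with values in `J` lie in `J • ⊤`. -/
theorem pi_mem_smul_top {B : Type*} [CommRing B] (J : Ideal B) {r : ℕ} (f : Fin r → B)
    (hf : ∀ i, f i ∈ J) : f ∈ J • (⊤ : Submodule B (Fin r → B)) := by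
  classical
  rw [pi_eq_sum_univ f]
  refine Submodule.sum_mem _ fun i _ => ?_
  exact Submodule.smul_mem_smul (hf i) Submodule.mem_top

theorem core {A B : Type u} [CommRing A] [IsLocalRing A] [CommRing B] [IsLocalRing B] [Algebra A B]
    [IsLocalHom (algebraMap A B)] (hS : CAlgX.IsEssFinitePresentation A B)
    [Algebra.EssFiniteType A B]
    {N M : Type u} [AddCommGroup N] [Module B N] [Module A N] [IsScalarTower A B N]
    [Module.Finite B N]
    [AddCommGroup M] [Module B M] [Module A M] [IsScalarTower A B M]
    [Module.FinitePresentation B M] [Module.Flat A M]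
    (u : N →ₗ[B] M)
    (hu : ∀ x : N, u x ∈ (maximalIdeal A).map (algebraMap A B) • (⊤ : Submodule B M) →
      x ∈ (maximalIdeal A).map (algebraMap A B) • (⊤ : Submodule B N)) :
    Function.Injective u ∧ Module.Flat A (M ⧸ LinearMap.range u) := by
  classical
  set J : Ideal B := (maximalIdeal A).map (algebraMap A B) with hJ
  haveI : IsNoetherianRing (A ⧸ maximalIdeal A) :=
    (inferInstance : IsNoetherianRing (ResidueField A))
  haveI : IsNoetherianRing (B ⧸ J) :=
    Algebra.EssFiniteType.isNoetherianRing (A ⧸ maximalIdeal A) (B ⧸ J)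
  obtain ⟨r, g, hg⟩ := Module.Finite.exists_fin' B N
  let σ : B →+* B ⧸ J := Ideal.Quotient.mk J
  let φ : (Fin r → B) → (Fin r → B ⧸ J) := fun f i => σ (f i)
  have hφadd : ∀ f f', φ (f + f') = φ f + φ f' := by
    intro f f'; funext i; simp [φ]
  have hφsmul : ∀ (b : B) f, φ (b • f) = σ b • φ f := by
    intro b f; funext i; simp [φ]
  have hφzero : φ 0 = 0 := by funext i; simp [φ]
  let W : Submodule B (Fin r → B) := LinearMap.ker g
  have hfg : (Submodule.span (B ⧸ J) (φ '' (W : Set (Fin r → B)))).FG :=
    IsNoetherian.noetherian _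
  obtain ⟨T, hT, hTspan⟩ := (Submodule.fg_span_iff_fg_span_finset_subset _).mp hfg
  choose! wt hwt using fun t (ht : t ∈ (T : Set (Fin r → B ⧸ J))) => hT ht
  let W' : Submodule B (Fin r → B) := Submodule.span B (wt '' (T : Set (Fin r → B ⧸ J)))
  have hW'W : W' ≤ W := by
    refine Submodule.span_le.mpr ?_
    rintro _ ⟨t, ht, rfl⟩
    exact (hwt t ht).1
  have hW'fg : W'.FG := Submodule.fg_span ((Finset.finite_toSet T).image _)
  -- every element of the span of `T` is `φ` of an element of `W'`
  have hlift : ∀ x ∈ Submodule.span (B ⧸ J) (T : Set (Fin r → B ⧸ J)), ∃ w' ∈ W', φ w' = x := by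
    intro x hx
    refine Submodule.span_induction ?_ ?_ ?_ ?_ hx
    · intro t ht
      exact ⟨wt t, Submodule.subset_span ⟨t, ht, rfl⟩, (hwt t ht).2⟩
    · exact ⟨0, zero_mem _, hφzero⟩
    · rintro x y _ _ ⟨a, ha, rfl⟩ ⟨b, hb, rfl⟩
      exact ⟨a + b, add_mem ha hb, hφadd a b⟩
    · rintro c x _ ⟨a, ha, rfl⟩
      obtain ⟨b, rfl⟩ := Ideal.Quotient.mk_surjective c
      exact ⟨b • a, W'.smul_mem b ha, hφsmul b a⟩
  have hWW' : ∀ w ∈ W, ∃ w' ∈ W', w - w' ∈ J • (⊤ : Submodule B (Fin r → B)) := by
    intro w hw
    have h1 : φ w ∈ Submodule.span (B ⧸ J) (T : Set (Fin r → B ⧸ J)) := by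
      rw [← hTspan]
      exact Submodule.subset_span ⟨w, hw, rfl⟩
    obtain ⟨w', hw', hw'φ⟩ := hlift _ h1
    refine ⟨w', hw', pi_mem_smul_top J _ fun i => ?_⟩
    have h2 := congrFun hw'φ i
    have h3 : σ (w i) = σ (w' i) := h2.symm
    rw [Pi.sub_apply, ← Ideal.Quotient.eq]
    exact h3
  -- the finitely presented model
  let N' := (Fin r → B) ⧸ W'
  haveI : Module.FinitePresentation B N' :=
    Module.finitePresentation_of_free_of_surjective W'.mkQ (Submodule.mkQ_surjective _)
      (by rw [Submodule.ker_mkQ]; exact hW'fg)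
  let π : N' →ₗ[B] N := W'.liftQ g hW'W
  have hπ : ∀ f, π (W'.mkQ f) = g f := fun f => Submodule.liftQ_apply _ _ _
  have hπsurj : Function.Surjective π := by
    intro n
    obtain ⟨f, rfl⟩ := hg n
    exact ⟨W'.mkQ f, hπ f⟩
  let u' : N' →ₗ[B] M := u ∘ₗ π
  have hu' : ∀ x : N', u' x ∈ J • (⊤ : Submodule B M) → x ∈ J • (⊤ : Submodule B N') := by
    intro x hx
    obtain ⟨f, rfl⟩ := Submodule.mkQ_surjective W' x
    have h1 : g f ∈ J • (⊤ : Submodule B N) := by
      apply hu
      have : u' (W'.mkQ f) = u (g f) := by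
        show u (π (W'.mkQ f)) = _
        rw [hπ]
      rw [← this]; exact hx
    have h2 : (J • (⊤ : Submodule B (Fin r → B))).map g = J • (⊤ : Submodule B N) := by
      rw [Submodule.map_smul'', Submodule.map_top, LinearMap.range_eq_top.mpr hg]
    rw [← h2] at h1
    obtain ⟨f₁, hf₁, hf₁g⟩ := h1
    have h3 : f - f₁ ∈ W := by
      show g (f - f₁) = 0
      rw [map_sub, hf₁g, sub_self]
    obtain ⟨w', hw', hw''⟩ := hWW' _ h3
    have h4 : (J • (⊤ : Submodule B (Fin r → B))).map W'.mkQ = J • (⊤ : Submodule B N') := by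
      rw [Submodule.map_smul'', Submodule.map_top, Submodule.range_mkQ]
    rw [← h4]
    refine ⟨(f - f₁ - w') + f₁, add_mem hw'' hf₁, ?_⟩
    have h5 : W'.mkQ w' = 0 := (Submodule.Quotient.mk_eq_zero _).mpr hw'
    have : f - f₁ - w' + f₁ = f - w' := by abel
    rw [this, map_sub, h5, sub_zero]
  obtain ⟨hinj, hflat⟩ := Groth.Agent.Helper7.InjFib.S2107_main hS u' hu'
  constructor
  · intro x y hxy
    obtain ⟨x', rfl⟩ := hπsurj x
    obtain ⟨y', rfl⟩ := hπsurj y
    have : u' x' = u' y' := hxy
    rw [hinj this]
  · have hr : LinearMap.range u' = LinearMap.range u := by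
      show LinearMap.range (u ∘ₗ π) = _
      rw [LinearMap.range_comp, LinearMap.range_eq_top.mpr hπsurj, Submodule.map_top]
    rw [← hr]
    exact hflat

set_option maxHeartbeats 1600000 in
theorem main {A B : Type u} [CommRing A] [IsDomain A] [ValuationRing A] [CommRing B] [IsLocalRing B]
    [Algebra A B] [IsLocalHom (algebraMap A B)] [Algebra.EssFiniteType A B]
    {N M : Type u} [AddCommGroup N] [Module B N] [Module A N] [IsScalarTower A B N] [Module.Finite B N]
    [AddCommGroup M] [Module B M] [Module A M] [IsScalarTower A B M] [Module.Finite B M] [Module.Flat A M]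
    (u : N →ₗ[B] M)
    (hu : Function.Injective (Submodule.mapQ (IsLocalRing.maximalIdeal A • ⊤ : Submodule A N) (IsLocalRing.maximalIdeal A • ⊤ : Submodule A M) (u.restrictScalars A)
      (fun n hn => Submodule.smul_top_le_comap_smul_top _ _ hn))) :
    Function.Injective u ∧ Module.Flat A (M ⧸ LinearMap.range u) := by
  classical
  -- a polynomial ring mapping onto the finite type subalgebra
  obtain ⟨n, ψ, hψ⟩ := Algebra.FiniteType.iff_quotient_mvPolynomial''.mp
    (inferInstance : Algebra.FiniteType A (Algebra.EssFiniteType.subalgebra A B))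
  let P := MvPolynomial (Fin n) A
  let θ : P →ₐ[A] B := (Algebra.EssFiniteType.subalgebra A B).val.comp ψ
  let q : Ideal P := (maximalIdeal B).comap θ
  haveI : q.IsPrime := Ideal.comap_isPrime _ _
  let B' := Localization.AtPrime q
  have hunit : ∀ y : q.primeCompl, IsUnit (θ.toRingHom y) := by
    intro y
    have : θ y ∉ maximalIdeal B := fun h => y.2 h
    rw [mem_maximalIdeal, mem_nonunits_iff, not_not] at this
    exact this
  let φ : B' →+* B := IsLocalization.lift (M := q.primeCompl) (g := θ.toRingHom) hunit
  have hφP : ∀ p : P, φ (algebraMap P B' p) = θ p := fun p => IsLocalization.lift_eq _ _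
  have hφA : ∀ a : A, φ (algebraMap A B' a) = algebraMap A B a := by
    intro a
    rw [IsScalarTower.algebraMap_apply A P B', hφP, AlgHom.commutes]
  have hφsurj : Function.Surjective φ := by
    intro b
    obtain ⟨⟨c, s⟩, hcs⟩ := IsLocalization.surj (Algebra.EssFiniteType.submonoid A B) b
    obtain ⟨c', rfl⟩ := hψ c
    obtain ⟨s', hs'⟩ := hψ s.1
    have hsu : IsUnit (θ s') := by
      have h1 : θ s' = algebraMap (Algebra.EssFiniteType.subalgebra A B) B s.1 := by
        show ((ψ s' : Algebra.EssFiniteType.subalgebra A B) : B) = _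
        rw [hs']; rfl
      rw [h1]
      exact s.2
    have hs'q : s' ∈ q.primeCompl := by
      intro h
      have : θ s' ∈ maximalIdeal B := h
      exact (mem_nonunits_iff.mp ((mem_maximalIdeal _).mp this)) hsu
    refine ⟨IsLocalization.mk' B' c' ⟨s', hs'q⟩, ?_⟩
    have h2 : φ (IsLocalization.mk' B' c' ⟨s', hs'q⟩) * θ s' = θ c' := by
      rw [← hφP s', ← map_mul]
      have : IsLocalization.mk' B' c' ⟨s', hs'q⟩ * algebraMap P B' s' = algebraMap P B' c' :=
        IsLocalization.mk'_spec B' c' ⟨s', hs'q⟩
      rw [this, hφP]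
    have h3 : b * θ s' = θ c' := by
      have h1 : θ s' = algebraMap (Algebra.EssFiniteType.subalgebra A B) B s.1 := by
        show ((ψ s' : Algebra.EssFiniteType.subalgebra A B) : B) = _
        rw [hs']; rfl
      rw [h1]
      exact hcs
    exact hsu.mul_left_injective (h2.trans h3.symm)
  -- algebra structure `B' → B`
  letI : Algebra B' B := φ.toAlgebra
  have halg : ∀ b' : B', algebraMap B' B b' = φ b' := fun _ => rfl
  haveI : IsScalarTower A B' B := IsScalarTower.of_algebraMap_eq (fun a => (hφA a).symm)
  haveI : IsLocalHom (algebraMap B' B) := IsLocalHom.of_surjective _ hφsurj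
  haveI : IsLocalHom ((algebraMap B' B).comp (algebraMap A B')) := by
    rw [← IsScalarTower.algebraMap_eq]
    infer_instance
  haveI : IsLocalHom (algebraMap A B') := isLocalHom_of_comp (algebraMap A B') (algebraMap B' B)
  have hS : CAlgX.IsEssFinitePresentation A B' :=
    ⟨P, inferInstance, inferInstance, inferInstance, inferInstance, q.primeCompl,
      inferInstance, inferInstance⟩
  haveI : Module.Finite B' B := Module.Finite.of_surjective (Algebra.linearMap B' B) hφsurj
  -- the modules over `B'`
  letI : Module B' N := Module.compHom N (algebraMap B' B)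
  haveI : IsScalarTower B' B N := IsScalarTower.of_compHom _ _ _
  letI : Module B' M := Module.compHom M (algebraMap B' B)
  haveI : IsScalarTower B' B M := IsScalarTower.of_compHom _ _ _
  have hsN : ∀ (b : B') (x : N), b • x = algebraMap B' B b • x := fun _ _ => rfl
  have hsM : ∀ (b : B') (x : M), b • x = algebraMap B' B b • x := fun _ _ => rfl
  haveI : IsScalarTower A B' N := by
    refine ⟨fun a p x => ?_⟩
    rw [hsN, hsN, Algebra.smul_def, map_mul, ← IsScalarTower.algebraMap_apply, mul_smul,
      algebraMap_smul]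
  haveI : IsScalarTower A B' M := by
    refine ⟨fun a p x => ?_⟩
    rw [hsM, hsM, Algebra.smul_def, map_mul, ← IsScalarTower.algebraMap_apply, mul_smul,
      algebraMap_smul]
  haveI : Module.Finite B' N := Module.Finite.trans B N
  haveI : Module.Finite B' M := Module.Finite.trans B M
  haveI : Module.FinitePresentation B' M :=
    Groth.Agent.Helper7.ValFP.finitePresentation_of_essFiniteType A
  let u'' : N →ₗ[B'] M :=
    { toFun := u
      map_add' := u.map_add
      map_smul' := fun b x => by
        show u (b • x) = b • u x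
        rw [hsN, hsM, u.map_smul] }
  have hu'' : ∀ x : N, u'' x ∈ (maximalIdeal A).map (algebraMap A B') • (⊤ : Submodule B' M) →
      x ∈ (maximalIdeal A).map (algebraMap A B') • (⊤ : Submodule B' N) := by
    intro x hx
    rw [mem_map_smul_top_iff] at hx ⊢
    have h1 : Submodule.mapQ (maximalIdeal A • ⊤ : Submodule A N) (maximalIdeal A • ⊤ : Submodule A M)
        (u.restrictScalars A) (fun n hn => Submodule.smul_top_le_comap_smul_top _ _ hn)
        (Submodule.Quotient.mk x) = 0 := by
      rw [Submodule.mapQ_apply]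
      exact (Submodule.Quotient.mk_eq_zero _).mpr hx
    have h2 := hu (h1.trans (map_zero _).symm)
    exact (Submodule.Quotient.mk_eq_zero _).mp h2
  obtain ⟨hinj, hflat⟩ := core hS u'' hu''
  refine ⟨hinj, ?_⟩
  have hr : (LinearMap.range u'').restrictScalars A = (LinearMap.range u).restrictScalars A := by
    ext y
    simp only [Submodule.restrictScalars_mem, LinearMap.mem_range]
    rfl
  let e1 := Submodule.Quotient.restrictScalarsEquiv A (LinearMap.range u'')
  let e2 := Submodule.Quotient.restrictScalarsEquiv A (LinearMap.range u)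
  let e3 := Submodule.quotEquivOfEq _ _ hr
  exact Module.Flat.of_linearEquiv ((e2.symm.trans e3.symm).trans e1)

end
end Groth.Agent.Lib.Helper4.ValInjFib1
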