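import Mathlib
import Groth.Agent.Lib.Helper7.ValFP.Main
import Groth.Agent.Lib.Helper8.ABS3
import Groth.Agent.Lib.Helper4.ValInjFib1

/-!
# Projective dimension over local rings of flat f.p. algebras over a valuation ring with regular fibre (S16178, S16179) (helper4)
-/

set_option backward.isDefEq.respectTransparency.types false
set_option synthInstance.maxHeartbeats 400000
set_option autoImplicit false
set_option linter.unusedSectionVars false
set_option linter.style.haveILetI false
set_option linter.unusedSimpArgs false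
universe u v w
open IsLocalRing CategoryTheory TensorProduct
open Groth.Agent.Lib.Helper4.ValInjFib1

namespace Groth.Agent.Lib.Helper4.ValPd1
noncomputable section

section Gen
variable {R : Type u} [CommRing R]

theorem pdLT_X₃ {A B C : Type u} [AddCommGroup A] [AddCommGroup B] [AddCommGroup C]
    [Module R A] [Module R B] [Module R C]
    (f : A →ₗ[R] B) (g : B →ₗ[R] C) (hf : Function.Injective f) (hg : Function.Surjective g)
    (hex : Function.Exact f g) (n : ℕ)
    (h1 : HasProjectiveDimensionLT (ModuleCat.of R A) n)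
    (h2 : HasProjectiveDimensionLT (ModuleCat.of R B) (n + 1)) :
    HasProjectiveDimensionLT (ModuleCat.of R C) (n + 1) := by
  let S : ShortComplex (ModuleCat.{u} R) := ShortComplex.mk (ModuleCat.ofHom f) (ModuleCat.ofHom g)
    (by ext x; exact hex.apply_apply_eq_zero x)
  have hS : S.ShortExact := ModuleCat.shortComplex_shortExact S hex hf hg
  exact hS.hasProjectiveDimensionLT_X₃ n h1 h2

theorem pdLT_X₁ {A B C : Type u} [AddCommGroup A] [AddCommGroup B] [AddCommGroup C]
    [Module R A] [Module R B] [Module R C]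
    (f : A →ₗ[R] B) (g : B →ₗ[R] C) (hf : Function.Injective f) (hg : Function.Surjective g)
    (hex : Function.Exact f g) (n : ℕ)
    (h2 : HasProjectiveDimensionLT (ModuleCat.of R B) n)
    (h3 : HasProjectiveDimensionLT (ModuleCat.of R C) (n + 1)) :
    HasProjectiveDimensionLT (ModuleCat.of R A) n := by
  let S : ShortComplex (ModuleCat.{u} R) := ShortComplex.mk (ModuleCat.ofHom f) (ModuleCat.ofHom g)
    (by ext x; exact hex.apply_apply_eq_zero x)
  have hS : S.ShortExact := ModuleCat.shortComplex_shortExact S hex hf hg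
  exact hS.hasProjectiveDimensionLT_X₁ n h2 h3

theorem pdLT_of_projective (B : Type u) [AddCommGroup B] [Module R B] [Module.Projective R B]
    (n : ℕ) (hn : 1 ≤ n) : HasProjectiveDimensionLT (ModuleCat.of R B) n := by
  haveI : Projective (ModuleCat.of R B) := (IsProjective.iff_projective B).1 inferInstance
  exact hasProjectiveDimensionLT_of_ge _ 1 n hn

theorem projective_of_pdLT_one (B : Type u) [AddCommGroup B] [Module R B]
    (h : HasProjectiveDimensionLT (ModuleCat.of R B) 1) : Module.Projective R B := by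
  haveI : Projective (ModuleCat.of R B) := projective_iff_hasProjectiveDimensionLT_one.2 h
  exact (IsProjective.iff_projective B).2 inferInstance

theorem tmul_eq_zero_iff (I : Ideal R) {X : Type*} [AddCommGroup X] [Module R X] (x : X) :
    ((1 : R ⧸ I) ⊗ₜ[R] x = 0) ↔ x ∈ I • (⊤ : Submodule R X) := by
  rw [← (TensorProduct.quotTensorEquivQuotSMul X I).map_eq_zero_iff,
    TensorProduct.quotTensorEquivQuotSMul_mk_one_tmul, Submodule.Quotient.mk_eq_zero]

theorem exists_one_tmul (I : Ideal R) {X : Type*} [AddCommGroup X] [Module R X]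
    (z : (R ⧸ I) ⊗[R] X) : ∃ x : X, z = (1 : R ⧸ I) ⊗ₜ[R] x := by
  induction z using TensorProduct.induction_on with
  | zero => exact ⟨0, (tmul_zero _ _).symm⟩
  | tmul a x =>
    obtain ⟨a, rfl⟩ := Ideal.Quotient.mk_surjective a
    refine ⟨a • x, ?_⟩
    rw [← smul_tmul]
    congr 1
    show Ideal.Quotient.mk I a = a • (Ideal.Quotient.mk I 1)
    rw [Algebra.smul_def, map_one, mul_one]
    rfl
  | add y z hy hz =>
    obtain ⟨a, rfl⟩ := hy
    obtain ⟨b, rfl⟩ := hz
    exact ⟨a + b, (tmul_add _ _ _).symm⟩

/-- Functions with values in `J` lie in `J • ⊤`. -/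
theorem pi_mem_smul_top' (J : Ideal R) {ι : Type*} [Fintype ι] (f : ι → R)
    (hf : ∀ i, f i ∈ J) : f ∈ J • (⊤ : Submodule R (ι → R)) := by
  classical
  rw [pi_eq_sum_univ f]
  refine Submodule.sum_mem _ fun i _ => ?_
  exact Submodule.smul_mem_smul (hf i) Submodule.mem_top

/-- base change to `R ⧸ I` of a short exact sequence whose kernel is `I`-saturated. -/
theorem baseChange_ses (I : Ideal R) {K F M : Type u} [AddCommGroup K] [AddCommGroup F]
    [AddCommGroup M] [Module R K] [Module R F] [Module R M]
    (f : K →ₗ[R] F) (g : F →ₗ[R] M) (hg : Function.Surjective g)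
    (hex : Function.Exact f g)
    (hker : ∀ k : K, f k ∈ I • (⊤ : Submodule R F) → k ∈ I • (⊤ : Submodule R K)) :
    Function.Injective (f.baseChange (R ⧸ I)) ∧ Function.Surjective (g.baseChange (R ⧸ I)) ∧
      Function.Exact (f.baseChange (R ⧸ I)) (g.baseChange (R ⧸ I)) := by
  refine ⟨?_, ?_, ?_⟩
  · rw [injective_iff_map_eq_zero]
    intro z hz
    obtain ⟨k, rfl⟩ := exists_one_tmul I z
    rw [LinearMap.baseChange_tmul, tmul_eq_zero_iff] at hz
    exact (tmul_eq_zero_iff I k).2 (hker k hz)
  · have := LinearMap.lTensor_surjective (R ⧸ I) hg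
    intro z
    obtain ⟨y, hy⟩ := this z
    exact ⟨y, hy⟩
  · have := lTensor_exact (R ⧸ I) hex hg
    intro z
    exact this z

end Gen

section Val
variable {V A : Type u} [CommRing V] [CommRing A] [Algebra V A]

theorem mem_smul_top_ker {F M : Type u} [AddCommGroup F] [Module A F] [Module V F]
    [IsScalarTower V A F] [AddCommGroup M] [Module A M] [Module V M] [IsScalarTower V A M]
    [Module.Flat V M] (p : Ideal V) (π : F →ₗ[A] M) (hπ : Function.Surjective π)
    (k : LinearMap.ker π)
    (hk : (k : F) ∈ p.map (algebraMap V A) • (⊤ : Submodule A F)) :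
    k ∈ p.map (algebraMap V A) • (⊤ : Submodule A (LinearMap.ker π)) := by
  rw [mem_map_smul_top_iff] at hk ⊢
  let g : LinearMap.ker π →ₗ[V] F := (LinearMap.ker π).subtype.restrictScalars V
  let f : F →ₗ[V] M := π.restrictScalars V
  have hex : Function.Exact g f := by
    intro y
    constructor
    · intro hy; exact ⟨⟨y, hy⟩, rfl⟩
    · rintro ⟨z, rfl⟩; exact z.2
  have hinj := LinearMap.lTensor_injective_of_exact_of_flat f hπ g Subtype.val_injective hex (V ⧸ p)
  have h1 : (1 : V ⧸ p) ⊗ₜ[V] (k : F) = 0 := (tmul_eq_zero_iff p _).2 hk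
  have h2 : g.lTensor (V ⧸ p) ((1 : V ⧸ p) ⊗ₜ[V] k) = 0 := by
    rw [LinearMap.lTensor_tmul]; exact h1
  have h3 : (1 : V ⧸ p) ⊗ₜ[V] k = 0 := hinj (h2.trans (map_zero _).symm)
  exact (tmul_eq_zero_iff p k).1 h3

end Val

section Main
variable {V A : Type u} [CommRing V] [IsDomain V] [ValuationRing V] [CommRing A] [IsLocalRing A]
  [Algebra V A] [Algebra.EssFiniteType V A] [Module.Flat V A]

/-- submodules of `V`-flat modules are `V`-flat (valuation ring) -/
theorem flat_submodule {F : Type u} [AddCommGroup F] [Module A F] [Module V F]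
    [IsScalarTower V A F] [Module.Flat V F] (K : Submodule A F) : Module.Flat V K := by
  rw [Module.Flat.flat_iff_torsion_eq_bot_of_isBezout, eq_bot_iff]
  rintro ⟨x, hx⟩ hmem
  obtain ⟨⟨a, ha⟩, hax⟩ := (Submodule.mem_torsion_iff _).mp hmem
  have h1 : a • x = 0 := by
    have := congrArg Subtype.val hax
    simpa using this
  have h2 : x = 0 :=
    (Module.Flat.isSMulRegular_of_nonZeroDivisors (M := F) ha) (by simpa using h1)
  rw [Submodule.mem_bot]
  exact Subtype.ext h2

variable (p : Ideal V)

theorem free_of_fibre_free (hp : p.map (algebraMap V A) ≤ maximalIdeal A)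
    (M : Type u) [AddCommGroup M] [Module A M] [Module V M] [IsScalarTower V A M]
    [Module.FinitePresentation A M] [Module.Flat V M]
    [Module.Projective (A ⧸ p.map (algebraMap V A)) ((A ⧸ p.map (algebraMap V A)) ⊗[A] M)] :
    Module.Projective A M := by
  classical
  set I : Ideal A := p.map (algebraMap V A) with hI
  have hItop : I ≠ ⊤ := fun h => (maximalIdeal.isMaximal A).ne_top (top_le_iff.mp (h ▸ hp))
  haveI : Nontrivial (A ⧸ I) := Ideal.Quotient.nontrivial_iff.mpr hItop
  haveI : IsLocalRing (A ⧸ I) :=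
    IsLocalRing.of_surjective' (Ideal.Quotient.mk I) Ideal.Quotient.mk_surjective
  haveI : Module.Finite A M := inferInstance
  haveI : Module.Free (A ⧸ I) ((A ⧸ I) ⊗[A] M) := Module.free_of_flat_of_isLocalRing
  let ι := Module.Free.ChooseBasisIndex (A ⧸ I) ((A ⧸ I) ⊗[A] M)
  let b : Module.Basis ι (A ⧸ I) ((A ⧸ I) ⊗[A] M) := Module.Free.chooseBasis _ _
  choose x hx using fun i => exists_one_tmul I (b i)
  let u : (ι → A) →ₗ[A] M := Fintype.linearCombination A x
  have hu : ∀ f : ι → A, (1 : A ⧸ I) ⊗ₜ[A] (u f) = ∑ i, Ideal.Quotient.mk I (f i) • b i := by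
    intro f
    show (1 : A ⧸ I) ⊗ₜ[A] (Fintype.linearCombination A x f) = _
    rw [Fintype.linearCombination_apply, tmul_sum]
    refine Finset.sum_congr rfl fun i _ => ?_
    rw [hx i, smul_tmul', tmul_smul, ← smul_tmul']
    congr 1
  have hjac : I ≤ Ideal.jacobson ⊥ := by
    rw [IsLocalRing.jacobson_eq_maximalIdeal ⊥ bot_ne_top]; exact hp
  -- surjectivity
  have hsurj : Function.Surjective u := by
    rw [← LinearMap.range_eq_top, eq_top_iff]
    refine Submodule.le_of_le_smul_of_le_jacobson_bot Module.Finite.fg_top hjac ?_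
    intro m _
    obtain ⟨c, hc⟩ : ∃ c : ι → A, (1 : A ⧸ I) ⊗ₜ[A] m = ∑ i, Ideal.Quotient.mk I (c i) • b i := by
      choose c hc using fun i => Ideal.Quotient.mk_surjective (b.repr ((1 : A ⧸ I) ⊗ₜ[A] m) i)
      refine ⟨c, ?_⟩
      conv_lhs => rw [← b.sum_repr ((1 : A ⧸ I) ⊗ₜ[A] m)]
      refine Finset.sum_congr rfl fun i _ => ?_
      rw [hc i]
    have h1 : (1 : A ⧸ I) ⊗ₜ[A] (m - u c) = 0 := by
      rw [tmul_sub, hu c, hc, sub_self]
    have h2 := (tmul_eq_zero_iff I _).1 h1
    have h3 : m = u c + (m - u c) := by abel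
    rw [h3]
    exact Submodule.add_mem_sup ⟨c, rfl⟩ h2
  -- injectivity
  have hfg : (LinearMap.ker u).FG := Module.FinitePresentation.fg_ker u hsurj
  have hker : LinearMap.ker u = ⊥ := by
    refine Submodule.eq_bot_of_le_smul_of_le_jacobson_bot I _ hfg ?_ hjac
    intro k hk
    have h1 : ∑ i, Ideal.Quotient.mk I (k i) • b i = 0 := by
      rw [← hu k, show u k = 0 from hk, tmul_zero]
    have h2 := Fintype.linearIndependent_iff.mp b.linearIndependent _ h1
    have h3 : k ∈ I • (⊤ : Submodule A (ι → A)) :=
      pi_mem_smul_top' I k fun i => Ideal.Quotient.eq_zero_iff_mem.mp (h2 i)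
    have h4 := mem_smul_top_ker p u hsurj ⟨k, hk⟩ h3
    have h5 : (I • (⊤ : Submodule A (LinearMap.ker u))).map (LinearMap.ker u).subtype =
        I • LinearMap.ker u := by
      rw [Submodule.map_smul'', Submodule.map_subtype_top]
    rw [← h5]
    exact ⟨⟨k, hk⟩, h4, rfl⟩
  have hinj : Function.Injective u := LinearMap.ker_eq_bot.mp hker
  exact Module.Projective.of_equiv (LinearEquiv.ofBijective u ⟨hinj, hsurj⟩)

theorem pd_of_fibre (hp : p.map (algebraMap V A) ≤ maximalIdeal A) : ∀ (k : ℕ)
    (M : Type u) [AddCommGroup M] [Module A M] [Module V M] [IsScalarTower V A M]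
    [Module.FinitePresentation A M] [Module.Flat V M],
    HasProjectiveDimensionLT (ModuleCat.of (A ⧸ p.map (algebraMap V A))
      ((A ⧸ p.map (algebraMap V A)) ⊗[A] M)) (k + 1) →
    HasProjectiveDimensionLT (ModuleCat.of A M) (k + 1) := by
  intro k
  induction k with
  | zero =>
    intro M _ _ _ _ _ _ h
    haveI := projective_of_pdLT_one _ h
    haveI := free_of_fibre_free p hp M
    exact pdLT_of_projective M 1 le_rfl
  | succ k ih =>
    intro M _ _ _ _ _ _ h
    set I : Ideal A := p.map (algebraMap V A) with hI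
    obtain ⟨r, π, hπ⟩ := Module.Finite.exists_fin' A M
    let K := LinearMap.ker π
    have hfg : K.FG := Module.FinitePresentation.fg_ker π hπ
    haveI : Module.Finite A K := Module.Finite.iff_fg.mpr hfg
    haveI : Module.Flat V (Fin r → A) :=
      Module.Flat.of_linearEquiv (DirectSum.linearEquivFunOnFintype V (Fin r) (fun _ => A)).symm
    haveI : Module.Flat V K := flat_submodule K
    haveI : Module.FinitePresentation A K :=
      Groth.Agent.Helper7.ValFP.finitePresentation_of_essFiniteType V
    have hex : Function.Exact K.subtype π := by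
      intro y
      constructor
      · intro hy; exact ⟨⟨y, hy⟩, rfl⟩
      · rintro ⟨z, rfl⟩; exact z.2
    obtain ⟨h1, h2, h3⟩ := baseChange_ses I K.subtype π hπ hex
      (fun k hk => mem_smul_top_ker p π hπ k hk)
    have hK : HasProjectiveDimensionLT (ModuleCat.of (A ⧸ I) ((A ⧸ I) ⊗[A] K)) (k + 1) :=
      pdLT_X₁ _ _ h1 h2 h3 (k + 1) (pdLT_of_projective _ (k + 1) (by omega)) h
    have hK' := ih K hK
    exact pdLT_X₃ K.subtype π Subtype.val_injective hπ hex (k + 1) hK'
      (pdLT_of_projective _ (k + 1 + 1) (by omega))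

end Main

section Loc
variable (V : Type u) [CommRing V] [IsDomain V] [ValuationRing V]
  (B : Type u) [CommRing B] [Algebra V B] [Module.Flat V B] [Algebra.FinitePresentation V B]
  (q : Ideal B) [q.IsPrime]

theorem flat_loc : Module.Flat V (Localization.AtPrime q) :=
  Module.Flat.trans V B (Localization.AtPrime q)

theorem map_le_maximalIdeal :
    (Ideal.comap (algebraMap V B) q).map (algebraMap V (Localization.AtPrime q)) ≤
      maximalIdeal (Localization.AtPrime q) := by
  rw [Ideal.map_le_iff_le_comap]
  intro x hx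
  rw [Ideal.mem_comap, IsScalarTower.algebraMap_apply V B (Localization.AtPrime q)]
  exact (IsLocalization.AtPrime.to_map_mem_maximal_iff (Localization.AtPrime q) q _).mpr hx

theorem main16178 (n : ℕ)
    (hreg : IsRegularLocalRing (Localization.AtPrime q ⧸ Ideal.map (algebraMap V (Localization.AtPrime q)) (Ideal.comap (algebraMap V B) q)))
    (hn : ringKrullDim (Localization.AtPrime q ⧸ Ideal.map (algebraMap V (Localization.AtPrime q)) (Ideal.comap (algebraMap V B) q)) = n)
    (M : Type u) [AddCommGroup M] [Module (Localization.AtPrime q) M] [Module.FinitePresentation (Localization.AtPrime q) M]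
    [Module V M] [IsScalarTower V (Localization.AtPrime q) M] [Module.Flat V M] :
    HasProjectiveDimensionLE (ModuleCat.of (Localization.AtPrime q) M) n := by
  haveI := hreg
  haveI := flat_loc V B q
  haveI : Module.Finite (Localization.AtPrime q) M := inferInstance
  have h := Groth.Agent.Helper8.ABS.hasProjectiveDimensionLT_of_regular_finite n _ hn
    ((Localization.AtPrime q ⧸ Ideal.map (algebraMap V (Localization.AtPrime q)) (Ideal.comap (algebraMap V B) q)) ⊗[Localization.AtPrime q] M)
  exact pd_of_fibre (Ideal.comap (algebraMap V B) q) (map_le_maximalIdeal V B q) n M h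

theorem main16179 (n : ℕ)
    (hreg : IsRegularLocalRing (Localization.AtPrime q ⧸ Ideal.map (algebraMap V (Localization.AtPrime q)) (Ideal.comap (algebraMap V B) q)))
    (hn : ringKrullDim (Localization.AtPrime q ⧸ Ideal.map (algebraMap V (Localization.AtPrime q)) (Ideal.comap (algebraMap V B) q)) = n)
    (M : Type u) [AddCommGroup M] [Module (Localization.AtPrime q) M] [Module.FinitePresentation (Localization.AtPrime q) M] :
    HasProjectiveDimensionLE (ModuleCat.of (Localization.AtPrime q) M) (n + 1) := by
  haveI := flat_loc V B q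
  obtain ⟨r, π, hπ⟩ := Module.Finite.exists_fin' (Localization.AtPrime q) M
  let K := LinearMap.ker π
  have hfg : K.FG := Module.FinitePresentation.fg_ker π hπ
  haveI : Module.Finite (Localization.AtPrime q) K := Module.Finite.iff_fg.mpr hfg
  haveI : Module.Flat V (Fin r → Localization.AtPrime q) :=
    Module.Flat.of_linearEquiv
      (DirectSum.linearEquivFunOnFintype V (Fin r) (fun _ => Localization.AtPrime q)).symm
  haveI : Module.Flat V K := flat_submodule K
  haveI : Module.FinitePresentation (Localization.AtPrime q) K :=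
    Groth.Agent.Helper7.ValFP.finitePresentation_of_essFiniteType V
  have hex : Function.Exact K.subtype π := by
    intro y
    constructor
    · intro hy; exact ⟨⟨y, hy⟩, rfl⟩
    · rintro ⟨z, rfl⟩; exact z.2
  have hK := main16178 V B q n hreg hn K
  exact pdLT_X₃ K.subtype π Subtype.val_injective hπ hex (n + 1) hK
    (pdLT_of_projective _ (n + 1 + 1) (by omega))

end Loc

end
end Groth.Agent.Lib.Helper4.ValPd1
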