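import Mathlib
import Groth.Agent.Lib.Helper4.ValPd1
import Groth.Agent.Lib.Lead.DetSF1

/-!
# Pic of the generic fibre of a local ess.f.t. flat algebra over a valuation ring with regular closed fibre is trivial (S9248) (helper4) (helper4)
-/

set_option backward.isDefEq.respectTransparency.types false
set_option synthInstance.maxHeartbeats 400000
set_option autoImplicit false
set_option linter.unusedSectionVars false
set_option linter.style.haveILetI false
set_option linter.unusedSimpArgs false
universe u v w
open IsLocalRing CategoryTheory TensorProduct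
open Groth.Agent.Lib.Helper4.ValPd1

namespace Groth.Agent.Lib.Helper4.PicValGen1
noncomputable section

section Gen
variable {T : Type u} [CommRing T]

/-- `T^r × T^a ≃ T^(r+a)` -/
def finProd (r a : ℕ) : ((Fin r → T) × (Fin a → T)) ≃ₗ[T] (Fin (r + a) → T) :=
  (LinearEquiv.sumArrowLequivProdArrow (Fin r) (Fin a) T T).symm.trans
    (LinearEquiv.funCongrLeft T T finSumFinEquiv.symm)

/-- splitting step: `0 → K → F → M → 0` exact with `M` projective, `F ≃ T^r`,
`K × T^a ≃ T^b` ⇒ `M × T^b ≃ T^(r+a)`. -/
theorem stably_step {K F M : Type u} [AddCommGroup K] [AddCommGroup F] [AddCommGroup M]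
    [Module T K] [Module T F] [Module T M] (f : K →ₗ[T] F) (g : F →ₗ[T] M)
    (hf : Function.Injective f) (hg : Function.Surjective g) (hex : Function.Exact f g)
    [Module.Projective T M] (r a b : ℕ) (eF : F ≃ₗ[T] (Fin r → T))
    (eK : (K × (Fin a → T)) ≃ₗ[T] (Fin b → T)) :
    Nonempty ((M × (Fin b → T)) ≃ₗ[T] (Fin (r + a) → T)) := by
  obtain ⟨l, hl⟩ := Module.projective_lifting_property g LinearMap.id hg
  let e := (hex.splitSurjectiveEquiv hf ⟨l, hl⟩).1
  -- e : F ≃ K × M
  refine ⟨?_⟩
  exact ((LinearEquiv.refl T M).prodCongr eK.symm).trans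
    ((LinearEquiv.prodAssoc T M K (Fin a → T)).symm.trans
      ((((LinearEquiv.prodComm T M K).trans e.symm).trans eF).prodCongr
        (LinearEquiv.refl T (Fin a → T)) |>.trans (finProd r a)))

theorem projective_of_split_exact {K F M : Type u} [AddCommGroup K] [AddCommGroup F] [AddCommGroup M]
    [Module T K] [Module T F] [Module T M] (f : K →ₗ[T] F) (g : F →ₗ[T] M)
    (hf : Function.Injective f) (hg : Function.Surjective g) (hex : Function.Exact f g)
    [Module.Projective T M] [Module.Projective T F] : Module.Projective T K := by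
  obtain ⟨l, hl⟩ := Module.projective_lifting_property g LinearMap.id hg
  let e := (hex.splitSurjectiveEquiv hf ⟨l, hl⟩)
  have h1 : f = e.1.symm.toLinearMap ∘ₗ LinearMap.inl T K M := e.2.1
  refine Module.Projective.of_split f ((LinearMap.fst T K M) ∘ₗ e.1.toLinearMap) ?_
  ext x
  simp [h1]

end Gen

section Main
variable {V A : Type u} [CommRing V] [IsDomain V] [ValuationRing V] [CommRing A] [IsLocalRing A]
  [Algebra V A] [Algebra.EssFiniteType V A] [Module.Flat V A]
variable (p : Ideal V)
variable (T : Type u) [CommRing T] [Algebra A T] [Module.Flat A T]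

theorem stablyFree_of_fibre (hp : p.map (algebraMap V A) ≤ maximalIdeal A) : ∀ (k : ℕ)
    (M : Type u) [AddCommGroup M] [Module A M] [Module V M] [IsScalarTower V A M]
    [Module.FinitePresentation A M] [Module.Flat V M],
    HasProjectiveDimensionLT (ModuleCat.of (A ⧸ p.map (algebraMap V A))
      ((A ⧸ p.map (algebraMap V A)) ⊗[A] M)) (k + 1) →
    Module.Projective T (T ⊗[A] M) →
    ∃ a b : ℕ, Nonempty (((T ⊗[A] M) × (Fin a → T)) ≃ₗ[T] (Fin b → T)) := by
  intro k
  induction k with
  | zero =>
    intro M _ _ _ _ _ _ h _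
    haveI := projective_of_pdLT_one _ h
    haveI := free_of_fibre_free p hp M
    haveI : Module.Finite A M := inferInstance
    haveI : Module.Free A M := Module.free_of_flat_of_isLocalRing
    let b := Module.finBasis A M
    refine ⟨0, Module.finrank A M, ⟨?_⟩⟩
    exact (LinearEquiv.prodUnique (R := T) (M := T ⊗[A] M) (M₂ := Fin 0 → T)).trans
      ((TensorProduct.AlgebraTensorModule.congr (LinearEquiv.refl T T) b.equivFun).trans
        (TensorProduct.piScalarRight A T T (Fin (Module.finrank A M))))
  | succ k ih =>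
    intro M _ _ _ _ _ _ h hproj
    set I : Ideal A := p.map (algebraMap V A) with hI
    obtain ⟨r, π, hπ⟩ := Module.Finite.exists_fin' A M
    let K := LinearMap.ker π
    have hfg : K.FG := Module.FinitePresentation.fg_ker π hπ
    haveI : Module.Finite A K := Module.Finite.iff_fg.mpr hfg
    haveI : Module.Flat V (Fin r → A) :=
      Module.Flat.of_linearEquiv (DirectSum.linearEquivFunOnFintype V (Fin r) (fun _ => A)).symm
    haveI : Module.Flat V K := flat_submodule K
    haveI : Module.FinitePresentation A K :=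
      Groth.Agent.Helper7.ValFP.finitePresentation_of_essFiniteType V
    have hex : Function.Exact K.subtype π := by
      intro y
      constructor
      · intro hy; exact ⟨⟨y, hy⟩, rfl⟩
      · rintro ⟨z, rfl⟩; exact z.2
    obtain ⟨h1, h2, h3⟩ := baseChange_ses I K.subtype π hπ hex
      (fun k hk => mem_smul_top_ker p π hπ k hk)
    have hK : HasProjectiveDimensionLT (ModuleCat.of (A ⧸ I) ((A ⧸ I) ⊗[A] K)) (k + 1) :=
      pdLT_X₁ _ _ h1 h2 h3 (k + 1) (pdLT_of_projective _ (k + 1) (by omega)) h
    -- base change to T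
    have hTinj : Function.Injective (K.subtype.baseChange T) :=
      Module.Flat.lTensor_preserves_injective_linearMap _ Subtype.val_injective
    have hTsurj : Function.Surjective (π.baseChange T) := LinearMap.lTensor_surjective _ hπ
    have hTex : Function.Exact (K.subtype.baseChange T) (π.baseChange T) :=
      lTensor_exact T hex hπ
    let eF : (T ⊗[A] (Fin r → A)) ≃ₗ[T] (Fin r → T) := TensorProduct.piScalarRight A T T (Fin r)
    haveI : Module.Projective T (T ⊗[A] M) := hproj
    haveI : Module.Projective T (T ⊗[A] (Fin r → A)) := Module.Projective.of_equiv eF.symm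
    have hKproj : Module.Projective T (T ⊗[A] K) :=
      projective_of_split_exact _ _ hTinj hTsurj hTex
    obtain ⟨a, b, ⟨eK⟩⟩ := ih K hK hKproj
    exact ⟨b, r + a, stably_step _ _ hTinj hTsurj hTex r a b eF eK⟩

end Main

section Rank
variable {T : Type u} [CommRing T]

theorem rank_lemma [Nontrivial T] (L : Type u) [AddCommGroup L] [Module T L] [Module.Invertible T L]
    (a b : ℕ) (e : (L × (Fin a → T)) ≃ₗ[T] (Fin b → T)) : b = a + 1 := by
  obtain ⟨m, hm⟩ := Ideal.exists_maximal T
  letI : Field (T ⧸ m) := Ideal.Quotient.field m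
  let k := T ⧸ m
  have e1 : (k ⊗[T] (L × (Fin a → T))) ≃ₗ[k] (k ⊗[T] (Fin b → T)) := LinearEquiv.baseChange T k _ _ e
  have e2 : (k ⊗[T] (L × (Fin a → T))) ≃ₗ[k] ((k ⊗[T] L) × (k ⊗[T] (Fin a → T))) :=
    TensorProduct.prodRight T k k L (Fin a → T)
  have h1 : Module.finrank k (k ⊗[T] (Fin b → T)) = b := by
    rw [Module.finrank_baseChange, Module.finrank_fin_fun]
  have h2 : Module.finrank k (k ⊗[T] (Fin a → T)) = a := by
    rw [Module.finrank_baseChange, Module.finrank_fin_fun]
  have h3 : Module.finrank k (k ⊗[T] L) = 1 := Module.Invertible.finrank_eq_one k _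
  have h4 := e1.finrank_eq
  rw [h1, e2.finrank_eq, Module.finrank_prod, h2, h3] at h4
  omega

end Rank

section Core
variable {V A : Type u} [CommRing V] [IsDomain V] [ValuationRing V] [CommRing A] [IsLocalRing A]
  [Algebra V A] [Algebra.EssFiniteType V A] [Module.Flat V A]
variable (T : Type u) [CommRing T] [Algebra A T]
  [IsLocalization (Algebra.algebraMapSubmonoid A (nonZeroDivisors V)) T]

theorem core (hp : (maximalIdeal V).map (algebraMap V A) ≤ maximalIdeal A)
    (hreg : IsRegularLocalRing (A ⧸ (maximalIdeal V).map (algebraMap V A)))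
    (L : Type u) [AddCommGroup L] [Module T L] [Module.Invertible T L] :
    Nonempty (L ≃ₗ[T] T) := by
  classical
  rcases subsingleton_or_nontrivial T with hT | hT
  · haveI : Subsingleton L := Module.subsingleton T L
    exact ⟨{ toFun := fun _ => 0, invFun := fun _ => 0, map_add' := by simp, map_smul' := by simp,
             left_inv := fun x => Subsingleton.elim _ _, right_inv := fun x => Subsingleton.elim _ _ }⟩
  set S := Algebra.algebraMapSubmonoid A (nonZeroDivisors V) with hS
  letI : Module A L := Module.compHom L (algebraMap A T)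
  haveI : IsScalarTower A T L := ⟨fun a t l => by
    show (a • t) • l = algebraMap A T a • (t • l)
    rw [Algebra.smul_def, mul_smul]⟩
  letI : Module V L := Module.compHom L (algebraMap V A)
  haveI : IsScalarTower V A L := ⟨fun v a l => by
    show (v • a) • l = algebraMap V A v • (a • l)
    rw [Algebra.smul_def, mul_smul]⟩
  haveI : Module.Flat A T := IsLocalization.flat T S
  haveI : Module.Flat A L := Module.Flat.trans A T L
  haveI : Module.Flat V L := Module.Flat.trans V A L
  -- generators
  obtain ⟨s, hs⟩ := (Module.Finite.fg_top : (⊤ : Submodule T L).FG)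
  let M : Submodule A L := Submodule.span A (s : Set L)
  haveI : Module.Finite A M := Module.Finite.span_of_finite A s.finite_toSet
  haveI : Module.Flat V M := flat_submodule M
  haveI : Module.FinitePresentation A M :=
    Groth.Agent.Helper7.ValFP.finitePresentation_of_essFiniteType V
  have hsmul : ∀ (a : A) (l : L), a • l = algebraMap A T a • l := fun a l => rfl
  -- localized module
  have hsurj : ∀ l : L, ∃ c ∈ S, c • l ∈ M := by
    intro l
    have hl : l ∈ Submodule.span T (s : Set L) := by rw [hs]; trivial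
    induction hl using Submodule.span_induction with
    | mem x hx => exact ⟨1, S.one_mem, by rw [one_smul]; exact Submodule.subset_span hx⟩
    | zero => exact ⟨1, S.one_mem, by rw [smul_zero]; exact M.zero_mem⟩
    | add x y _ _ hx hy =>
      obtain ⟨c1, hc1, h1⟩ := hx
      obtain ⟨c2, hc2, h2⟩ := hy
      refine ⟨c1 * c2, S.mul_mem hc1 hc2, ?_⟩
      rw [smul_add]
      refine M.add_mem ?_ ?_
      · rw [mul_comm, mul_smul]; exact M.smul_mem _ h1
      · rw [mul_smul]; exact M.smul_mem _ h2
    | smul t x _ hx =>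
      obtain ⟨c, hc, h1⟩ := hx
      obtain ⟨⟨a, c0⟩, h⟩ := IsLocalization.surj S t
      refine ⟨c0.1 * c, S.mul_mem c0.2 hc, ?_⟩
      have : (c0.1 * c) • (t • x) = a • (c • x) := by
        rw [hsmul, hsmul a, hsmul c, smul_smul, smul_smul, map_mul]
        congr 1
        have h' : t * algebraMap A T c0.1 = algebraMap A T a := h
        rw [← h']; ring
      rw [this]
      exact M.smul_mem _ h1
  have hloc : IsLocalizedModule S M.subtype := by
    refine ⟨fun x => ?_, fun l => ?_, fun {x1 x2} h => ⟨1, ?_⟩⟩
    · obtain ⟨u, hu⟩ := IsLocalization.map_units T x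
      rw [Module.End.isUnit_iff]
      refine ⟨fun l1 l2 h => ?_, fun l => ⟨(↑u⁻¹ : T) • l, ?_⟩⟩
      · have h' : (algebraMap A T x) • l1 = (algebraMap A T x) • l2 := h
        rw [← hu] at h'
        have := congrArg (fun z => (↑u⁻¹ : T) • z) h'
        simpa [smul_smul] using this
      · show (algebraMap A T x) • ((↑u⁻¹ : T) • l) = l
        rw [← hu, smul_smul, Units.mul_inv, one_smul]
    · obtain ⟨c, hc, h1⟩ := hsurj l
      exact ⟨⟨⟨c • l, h1⟩, ⟨c, hc⟩⟩, rfl⟩
    · rw [one_smul, one_smul]; exact Subtype.ext h
  have hbc : IsBaseChange T M.subtype := IsLocalizedModule.isBaseChange S T M.subtype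
  let eL : T ⊗[A] M ≃ₗ[T] L := hbc.equiv
  haveI : Module.Projective T (T ⊗[A] M) := Module.Projective.of_equiv eL.symm
  -- fibre pd
  haveI := hreg
  set I : Ideal A := (maximalIdeal V).map (algebraMap V A) with hI
  have hn : ringKrullDim (A ⧸ I) = ((maximalIdeal (A ⧸ I)).spanFinrank : ℕ) :=
    (IsRegularLocalRing.spanFinrank_maximalIdeal (R := A ⧸ I)).symm
  have h := Groth.Agent.Helper8.ABS.hasProjectiveDimensionLT_of_regular_finite _ _ hn
    ((A ⧸ I) ⊗[A] M)
  obtain ⟨a, b, ⟨e⟩⟩ := stablyFree_of_fibre (maximalIdeal V) T hp _ M h inferInstance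
  let e' : (L × (Fin a → T)) ≃ₗ[T] (Fin b → T) :=
    (eL.symm.prodCongr (LinearEquiv.refl T (Fin a → T))).trans e
  have hb := rank_lemma L a b e'
  obtain ⟨e2⟩ := Groth.Agent.Lead.DetSF.main b a (by omega) L e'
  have h1 : b - a = 1 := by omega
  rw [h1] at e2
  exact ⟨(exteriorPower.oneEquiv T L).symm.trans e2⟩

end Core

theorem main (R A : Type u) [CommRing R] [IsDomain R]
    [ValuationRing R] [CommRing A] [IsLocalRing A] [Algebra R A] [IsLocalHom (algebraMap R A)]
    [Module.Flat R A] [Algebra.EssFiniteType R A]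
    (hreg : IsRegularRing (TensorProduct R (IsLocalRing.ResidueField R) A)) :
    Subsingleton (CommRing.Pic (TensorProduct R (FractionRing R) A)) := by
  letI : Algebra A (FractionRing R ⊗[R] A) := Algebra.TensorProduct.rightAlgebra
  haveI : IsLocalization (Algebra.algebraMapSubmonoid A (nonZeroDivisors R))
      (FractionRing R ⊗[R] A) := IsLocalization.tensorRight (FractionRing R) (nonZeroDivisors R)
  have hp : (maximalIdeal R).map (algebraMap R A) ≤ maximalIdeal A := by
    rw [Ideal.map_le_iff_le_comap]
    intro x hx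
    exact _root_.map_nonunit (algebraMap R A) x hx
  have hItop : (maximalIdeal R).map (algebraMap R A) ≠ ⊤ :=
    fun h => (maximalIdeal.isMaximal A).ne_top (top_le_iff.mp (h ▸ hp))
  haveI : Nontrivial (A ⧸ (maximalIdeal R).map (algebraMap R A)) :=
    Ideal.Quotient.nontrivial_iff.mpr hItop
  haveI : IsLocalRing (A ⧸ (maximalIdeal R).map (algebraMap R A)) :=
    IsLocalRing.of_surjective' (Ideal.Quotient.mk _) Ideal.Quotient.mk_surjective
  have e : (IsLocalRing.ResidueField R ⊗[R] A) ≃+* (A ⧸ (maximalIdeal R).map (algebraMap R A)) :=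
    (Algebra.TensorProduct.quotIdealMapEquivQuotTensor A (maximalIdeal R)).symm.toRingEquiv
  haveI : IsRegularRing (A ⧸ (maximalIdeal R).map (algebraMap R A)) :=
    IsRegularRing.of_ringEquiv e
  have hreg' : IsRegularLocalRing (A ⧸ (maximalIdeal R).map (algebraMap R A)) :=
    IsRegularLocalRing.of_isRegularRing_of_isLocalRing _
  rw [CommRing.Pic.subsingleton_iff]
  intro L _ _ hL
  haveI := hL
  rw [Module.Invertible.free_iff_linearEquiv]
  exact core (FractionRing R ⊗[R] A) hp hreg' L

end
end Groth.Agent.Lib.Helper4.PicValGen1
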