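import Mathlib
import Groth.Prelude.Def_PolLaw

/-!
# Polynomial laws: kernels and direct limits (helper4)
-/

set_option backward.isDefEq.respectTransparency.types false
set_option synthInstance.maxHeartbeats 400000
set_option autoImplicit false
set_option linter.unusedSectionVars false
set_option linter.style.haveILetI false
set_option linter.unusedSimpArgs false
universe u v w

namespace Groth.Agent.Lib.Helper4.PolLaw1
open scoped TensorProduct
open PolLaw

section
variable {A : Type u} [CommRing A] {B : Type u} [CommRing B] [Algebra A B]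
    {C : Type u} [CommRing C] [Algebra A C]

lemma mem_ker_iff (F : B →ₚₗ[A] C) (b : B) :
    b ∈ PolLaw.ker F ↔ ∀ (S : Type u) [CommSemiring S] [Algebra A S] (x w : S ⊗[A] B),
      F.toFun' S (x + w * (1 ⊗ₜ[A] b)) = F.toFun' S x := Iff.rfl

lemma precomp_toFun' {B' : Type u} [CommRing B'] [Algebra A B'] (F : B →ₚₗ[A] C)
    (g : B' →ₐ[A] B) (S : Type u) [CommSemiring S] [Algebra A S] (x : S ⊗[A] B') :
    (PolLaw.precomp F g.toLinearMap).toFun' S x = F.toFun' S (g.toLinearMap.lTensor S x) := rfl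

lemma lTensor_add_mul {B' : Type u} [CommRing B'] [Algebra A B'] (g : B' →ₐ[A] B)
    (S : Type u) [CommSemiring S] [Algebra A S] (y w : S ⊗[A] B') (z : B') :
    g.toLinearMap.lTensor S (y + w * (1 ⊗ₜ[A] z)) =
      g.toLinearMap.lTensor S y + g.toLinearMap.lTensor S w * (1 ⊗ₜ[A] g z) := by
  rw [map_add, lTensor_algHom_apply, lTensor_algHom_apply, lTensor_algHom_apply, map_mul,
    Algebra.TensorProduct.map_tmul]
  simp
end

theorem S13720_main {A : Type u} [CommRing A] {B : Type u} [CommRing B] [Algebra A B]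
    {C : Type u} [CommRing C] [Algebra A C] {ι : Type u} [Preorder ι] [IsDirected ι (fun i j => i ≤ j)] [Nonempty ι]
    (Bi : ι → Type u) [∀ i, CommRing (Bi i)] [∀ i, Algebra A (Bi i)]
    (t : ∀ i j : ι, i ≤ j → (Bi i →ₐ[A] Bi j)) (φ : ∀ i : ι, Bi i →ₐ[A] B)
    (hcomp : ∀ (i j : ι) (h : i ≤ j), (φ j).comp (t i j h) = φ i)
    (hsurj : ∀ b : B, ∃ (i : ι) (x : Bi i), φ i x = b)
    (hzero : ∀ (i : ι) (x : Bi i), φ i x = 0 → ∃ (j : ι) (h : i ≤ j), t i j h x = 0)
    {d : ℕ} (F : PolLaw.MulLaw A B C d) (b : B) :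
    b ∈ PolLaw.ker F.law ↔ ∃ (i : ι) (x : Bi i), φ i x = b ∧
      ∀ (j : ι) (h : i ≤ j), t i j h x ∈ PolLaw.ker (F.precomp (φ j)).law := by
  have hφt : ∀ (i j : ι) (h : i ≤ j) (x : Bi i), φ j (t i j h x) = φ i x := by
    intro i j h x
    rw [← hcomp i j h]; rfl
  -- transport along `t`
  have htr : ∀ (S : Type u) [CommSemiring S] [Algebra A S] (i j : ι) (h : i ≤ j) (y : S ⊗[A] Bi i),
      (φ j).toLinearMap.lTensor S ((t i j h).toLinearMap.lTensor S y) =
        (φ i).toLinearMap.lTensor S y := by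
    intro S _ _ i j h y
    rw [← LinearMap.comp_apply, ← LinearMap.lTensor_comp]
    congr 2
    ext z
    exact hφt i j h z
  -- every element comes from a finite stage above any given index
  have hlift : ∀ (S : Type u) [CommSemiring S] [Algebra A S] (y : S ⊗[A] B) (i : ι),
      ∃ (j : ι) (_ : i ≤ j) (y' : S ⊗[A] Bi j), (φ j).toLinearMap.lTensor S y' = y := by
    intro S _ _ y
    induction y using TensorProduct.induction_on with
    | zero => intro i; exact ⟨i, le_rfl, 0, map_zero _⟩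
    | tmul s b' =>
      intro i
      obtain ⟨k, x, hx⟩ := hsurj b'
      obtain ⟨j, hij, hkj⟩ := exists_ge_ge i k
      refine ⟨j, hij, s ⊗ₜ[A] t k j hkj x, ?_⟩
      rw [LinearMap.lTensor_tmul, AlgHom.toLinearMap_apply, hφt, hx]
    | add y₁ y₂ h₁ h₂ =>
      intro i
      obtain ⟨j₁, hij₁, y₁', hy₁⟩ := h₁ i
      obtain ⟨j₂, hj₁₂, y₂', hy₂⟩ := h₂ j₁
      refine ⟨j₂, hij₁.trans hj₁₂, (t j₁ j₂ hj₁₂).toLinearMap.lTensor S y₁' + y₂', ?_⟩
      rw [map_add, htr, hy₁, hy₂]
  constructor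
  · intro hb
    obtain ⟨i, x, hx⟩ := hsurj b
    refine ⟨i, x, hx, fun j hij => ?_⟩
    rw [mem_ker_iff]
    intro S _ _ y w
    show (PolLaw.precomp F.law (φ j).toLinearMap).toFun' S _ =
      (PolLaw.precomp F.law (φ j).toLinearMap).toFun' S _
    rw [precomp_toFun', precomp_toFun', lTensor_add_mul, hφt, hx]
    exact (mem_ker_iff F.law b).1 hb S _ _
  · rintro ⟨i, x, hx, hker⟩
    rw [mem_ker_iff]
    intro S _ _ y w
    obtain ⟨j₁, hij₁, y', hy⟩ := hlift S y i
    obtain ⟨j, hj₁j, w', hw⟩ := hlift S w j₁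
    have hij : i ≤ j := hij₁.trans hj₁j
    have hy' : (φ j).toLinearMap.lTensor S ((t j₁ j hj₁j).toLinearMap.lTensor S y') = y := by
      rw [htr, hy]
    have key := (mem_ker_iff _ _).1 (hker j hij) S ((t j₁ j hj₁j).toLinearMap.lTensor S y') w'
    change (PolLaw.precomp F.law (φ j).toLinearMap).toFun' S _ =
      (PolLaw.precomp F.law (φ j).toLinearMap).toFun' S _ at key
    rw [precomp_toFun', precomp_toFun', lTensor_add_mul, hφt, hx, hy', hw] at key
    exact key

end Groth.Agent.Lib.Helper4.PolLaw1
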