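import Mathlib
import Groth.Prelude.Def_PolLaw
import Groth.Prelude.Def_PolLaw2

/-!
# Kernel of a multiplicative law into a reduced algebra is radical (helper4)
-/

set_option backward.isDefEq.respectTransparency.types false
set_option synthInstance.maxHeartbeats 400000
set_option autoImplicit false
set_option linter.unusedSectionVars false
set_option linter.style.haveILetI false
set_option linter.unusedSimpArgs false
universe u v w

namespace Groth.Agent.Lib.Helper4.PolLawReduced1
open Polynomial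
open scoped TensorProduct

/-- over a reduced ring, `g(X) * g(-X)` constant forces `g` constant -/
theorem const_of_mul_comp_neg {R : Type*} [CommRing R] [IsReduced R] (g : R[X]) (r : R)
    (h : g * g.comp (-X) = C r) : g = C (g.coeff 0) := by
  by_cases hg : g = 0
  · simp [hg]
  have hlc : g.leadingCoeff ≠ 0 := leadingCoeff_ne_zero.mpr hg
  have hcomp : (g.comp (-X)).leadingCoeff = (-1) ^ g.natDegree * g.leadingCoeff := by
    rw [Polynomial.comp_neg_X_leadingCoeff_eq]
  have hne : g.leadingCoeff * (g.comp (-X)).leadingCoeff ≠ 0 := by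
    rw [hcomp]
    intro h0
    have : g.leadingCoeff ^ 2 = 0 := by
      have h1 : g.leadingCoeff ^ 2 = (-1) ^ g.natDegree * (g.leadingCoeff * ((-1) ^ g.natDegree * g.leadingCoeff)) := by
        have : ((-1 : R) ^ g.natDegree) * (-1) ^ g.natDegree = 1 := by
          rw [← mul_pow]; simp
        calc g.leadingCoeff ^ 2 = ((-1 : R) ^ g.natDegree * (-1) ^ g.natDegree) * g.leadingCoeff ^ 2 := by rw [this, one_mul]
          _ = _ := by ring
      rw [h1, h0, mul_zero]
    exact hlc (pow_eq_zero_iff (n := 2) (by norm_num) |>.mp this)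
  have hdeg := natDegree_mul' hne
  rw [h, natDegree_C] at hdeg
  have : g.natDegree = 0 := by omega
  exact eq_C_of_natDegree_eq_zero this

section theta
variable {A : Type u} [CommRing A] (S : Type u) [CommRing S] [Algebra A S]
  (C : Type u) [CommRing C] [Algebra A C]

/-- the comparison map `S[X] ⊗ C → (S ⊗ C)[X]` -/
noncomputable def Θ : S[X] ⊗[A] C →ₐ[A] (S ⊗[A] C)[X] :=
  Algebra.TensorProduct.productMap
    (Polynomial.mapAlgHom (Algebra.TensorProduct.includeLeft : S →ₐ[A] S ⊗[A] C))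
    ((Polynomial.CAlgHom (R := A) (A := S ⊗[A] C)).comp
      (Algebra.TensorProduct.includeRight : C →ₐ[A] S ⊗[A] C))

theorem Θ_tmul (p : S[X]) (c : C) :
    Θ S C (p ⊗ₜ[A] c) = p.map (Algebra.TensorProduct.includeLeft : S →ₐ[A] S ⊗[A] C).toRingHom *
      Polynomial.C ((1 : S) ⊗ₜ[A] c) := by
  rw [Θ, Algebra.TensorProduct.productMap_apply_tmul]
  rfl

/-- evaluation at `a` as an `A`-algebra map -/
noncomputable def ev (a : S) : S[X] →ₐ[A] S := (Polynomial.aeval a).restrictScalars A

/-- `t ↦ -t` as an `A`-algebra map -/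
noncomputable def neg : S[X] →ₐ[A] S[X] := (Polynomial.aeval (-X : S[X])).restrictScalars A

/-- constants as an `A`-algebra map -/
noncomputable def cst : S →ₐ[A] S[X] := Polynomial.CAlgHom

theorem N1 (a : S) (z : S[X] ⊗[A] C) :
    Algebra.TensorProduct.map (ev (A := A) S a) (AlgHom.id A C) z =
      Polynomial.eval (a ⊗ₜ[A] (1 : C)) (Θ S C z) := by
  induction z using TensorProduct.induction_on with
  | zero => simp
  | tmul p c =>
    rw [Algebra.TensorProduct.map_tmul, Θ_tmul, Polynomial.eval_mul, Polynomial.eval_C,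
      Polynomial.eval_map]
    have h1 : (a ⊗ₜ[A] (1 : C)) =
        (Algebra.TensorProduct.includeLeft : S →ₐ[A] S ⊗[A] C).toRingHom a := rfl
    rw [h1, Polynomial.eval₂_at_apply]
    change (Polynomial.aeval a p) ⊗ₜ[A] c = ((Polynomial.eval a p) ⊗ₜ[A] (1 : C)) * _
    rw [Algebra.TensorProduct.tmul_mul_tmul, mul_one, one_mul]
    rfl
  | add x y hx hy => simp only [map_add, hx, hy, Polynomial.eval_add]

theorem N2 (z : S[X] ⊗[A] C) :
    Θ S C (Algebra.TensorProduct.map (neg (A := A) S) (AlgHom.id A C) z) =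
      (Θ S C z).comp (-X) := by
  induction z using TensorProduct.induction_on with
  | zero => simp
  | tmul p c =>
    rw [Algebra.TensorProduct.map_tmul, Θ_tmul, Θ_tmul, Polynomial.mul_comp, Polynomial.C_comp]
    congr 1
    change (Polynomial.aeval (-X : S[X]) p).map _ = _
    rw [Polynomial.aeval_def, Polynomial.algebraMap_eq, ← Polynomial.comp, Polynomial.map_comp]
    simp
  | add x y hx hy => simp only [map_add, hx, hy, Polynomial.add_comp]

theorem N3 (r : S ⊗[A] C) :
    Θ S C (Algebra.TensorProduct.map (cst (A := A) S) (AlgHom.id A C) r) = Polynomial.C r := by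
  induction r using TensorProduct.induction_on with
  | zero => simp
  | tmul s c =>
    rw [Algebra.TensorProduct.map_tmul, Θ_tmul]
    change (Polynomial.C s).map _ * _ = _
    rw [Polynomial.map_C, ← Polynomial.C_mul]
    congr 1
    change (s ⊗ₜ[A] (1 : C)) * _ = _
    rw [Algebra.TensorProduct.tmul_mul_tmul, mul_one, one_mul]
    rfl
  | add x y hx hy => simp only [map_add, hx, hy]

end theta

section core
variable {A : Type u} [CommRing A] {B : Type u} [CommRing B] [Algebra A B]
  {C : Type u} [CommRing C] [Algebra A C]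

theorem compat (F : B →ₚₗ[A] C) {S S' : Type u} [CommRing S] [Algebra A S] [CommRing S'] [Algebra A S']
    (φ : S →ₐ[A] S') (x : S ⊗[A] B) :
    Algebra.TensorProduct.map φ (AlgHom.id A C) (F.toFun' S x) =
      F.toFun' S' (Algebra.TensorProduct.map φ (AlgHom.id A B) x) := by
  rw [← PolLaw.rTensor_algHom_apply, ← PolLaw.rTensor_algHom_apply]
  exact PolynomialLaw.isCompat_apply' φ x

variable (S : Type u) [CommRing S] [Algebra A S]

theorem ev_cst (a : S) (x : S ⊗[A] B) :
    Algebra.TensorProduct.map (ev (A := A) S a) (AlgHom.id A B)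
      (Algebra.TensorProduct.map (cst (A := A) S) (AlgHom.id A B) x) = x := by
  induction x using TensorProduct.induction_on with
  | zero => simp
  | tmul s b =>
    rw [Algebra.TensorProduct.map_tmul, Algebra.TensorProduct.map_tmul]
    change (Polynomial.aeval a (Polynomial.C s)) ⊗ₜ[A] b = _
    rw [Polynomial.aeval_C]; rfl
  | add x y hx hy => simp only [map_add, hx, hy]

theorem neg_cst (x : S ⊗[A] B) :
    Algebra.TensorProduct.map (neg (A := A) S) (AlgHom.id A B)
      (Algebra.TensorProduct.map (cst (A := A) S) (AlgHom.id A B) x) =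
      Algebra.TensorProduct.map (cst (A := A) S) (AlgHom.id A B) x := by
  induction x using TensorProduct.induction_on with
  | zero => simp
  | tmul s b =>
    rw [Algebra.TensorProduct.map_tmul, Algebra.TensorProduct.map_tmul]
    change (Polynomial.aeval (-X : S[X]) (Polynomial.C s)) ⊗ₜ[A] b = _
    rw [Polynomial.aeval_C]; rfl
  | add x y hx hy => simp only [map_add, hx, hy]

theorem core {d : ℕ} (F : PolLaw.MulLaw A B C d) (b : B) (hb : b * b ∈ PolLaw.ker F.law)
    [IsReduced (S ⊗[A] C)] (x w : S ⊗[A] B) :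
    F.law.toFun' S (x + w * ((1 : S) ⊗ₜ[A] b)) = F.law.toFun' S x := by
  set x₁ := Algebra.TensorProduct.map (cst (A := A) S) (AlgHom.id A B) x with hx₁
  set w₁ := Algebra.TensorProduct.map (cst (A := A) S) (AlgHom.id A B) w with hw₁
  set Tt : S[X] ⊗[A] B := (X : S[X]) ⊗ₜ[A] (1 : B) with hTt
  set y₁ : S[X] ⊗[A] B := Tt * w₁ * ((1 : S[X]) ⊗ₜ[A] b) with hy₁
  set G := F.law.toFun' S[X] (x₁ + y₁) with hG
  set G' := F.law.toFun' S[X] (x₁ - y₁) with hG'
  set r := F.law.toFun' S x with hr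
  -- specialisations
  have hev : ∀ a : S, Algebra.TensorProduct.map (ev (A := A) S a) (AlgHom.id A B) (x₁ + y₁) =
      x + (a ⊗ₜ[A] (1 : B)) * w * ((1 : S) ⊗ₜ[A] b) := by
    intro a
    rw [map_add, hy₁, map_mul, map_mul, hx₁, hw₁, ev_cst, ev_cst, hTt,
      Algebra.TensorProduct.map_tmul, Algebra.TensorProduct.map_tmul]
    congr 3
    · change (Polynomial.aeval a (X : S[X])) ⊗ₜ[A] (1 : B) = _
      rw [Polynomial.aeval_X]
    · rw [map_one]
  have hneg : Algebra.TensorProduct.map (neg (A := A) S) (AlgHom.id A B) (x₁ + y₁) = x₁ - y₁ := by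
    rw [map_add, hy₁, map_mul, map_mul, hx₁, hw₁, neg_cst, neg_cst, hTt,
      Algebra.TensorProduct.map_tmul, Algebra.TensorProduct.map_tmul]
    have h1 : (neg (A := A) S) (X : S[X]) = -X := by
      change Polynomial.aeval (-X : S[X]) (X : S[X]) = _
      rw [Polynomial.aeval_X]
    rw [h1, TensorProduct.neg_tmul]
    simp only [map_one, AlgHom.id_apply]
    try ring
  -- multiplicativity
  have hmul : G * G' = F.law.toFun' S[X] x₁ * F.law.toFun' S[X] x₁ := by
    have hm1 : F.law.toFun' S[X] ((x₁ + y₁) * (x₁ - y₁)) = G * G' := (F.mult S[X]).2 _ _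
    have hm2 : F.law.toFun' S[X] (x₁ * x₁) = F.law.toFun' S[X] x₁ * F.law.toFun' S[X] x₁ :=
      (F.mult S[X]).2 _ _
    rw [← hm1, ← hm2]
    have h1 : (x₁ + y₁) * (x₁ - y₁) =
        x₁ * x₁ + (-(Tt * w₁) * (Tt * w₁)) * ((1 : S[X]) ⊗ₜ[A] (b * b)) := by
      have : ((1 : S[X]) ⊗ₜ[A] (b * b)) = ((1 : S[X]) ⊗ₜ[A] b) * ((1 : S[X]) ⊗ₜ[A] b) := by
        rw [Algebra.TensorProduct.tmul_mul_tmul, one_mul]
      rw [this, hy₁]; ring
    rw [h1]
    exact hb S[X] (x₁ * x₁) _
  have hx₁r : F.law.toFun' S[X] x₁ =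
      Algebra.TensorProduct.map (cst (A := A) S) (AlgHom.id A C) r := by
    rw [hr, compat]
  have hG'eq : G' = Algebra.TensorProduct.map (neg (A := A) S) (AlgHom.id A C) G := by
    rw [hG, compat, hneg]
  have hΘ : Θ S C G * (Θ S C G).comp (-X) = Polynomial.C (r * r) := by
    rw [← N2, ← hG'eq, ← map_mul, hmul, hx₁r, map_mul, N3, Polynomial.C_mul]
  have hconst := const_of_mul_comp_neg (Θ S C G) (r * r) hΘ
  have h0 : Polynomial.eval 0 (Θ S C G) = r := by
    have := N1 S C (0 : S) G
    rw [TensorProduct.zero_tmul] at this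
    rw [← this, hG, compat, hev 0, TensorProduct.zero_tmul, zero_mul, zero_mul, add_zero]
  have h1 : Polynomial.eval 1 (Θ S C G) = F.law.toFun' S (x + w * ((1 : S) ⊗ₜ[A] b)) := by
    have := N1 S C (1 : S) G
    rw [← Algebra.TensorProduct.one_def] at this
    rw [← this, hG, compat, hev 1, ← Algebra.TensorProduct.one_def, one_mul]
  rw [← h1, hconst, Polynomial.eval_C, Polynomial.coeff_zero_eq_eval_zero, h0]

end core

section lift
variable {A : Type u} [CommRing A] {B : Type u} [CommRing B] [Algebra A B]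
  {C : Type u} [CommRing C] [Algebra A C]

/-- joint lift of two tensors to a polynomial ring -/
theorem exists_lift₂ {S : Type u} [CommSemiring S] [Algebra A S] (t₁ t₂ : S ⊗[A] B) :
    ∃ (n : ℕ) (ψ : MvPolynomial (Fin n) A →ₐ[A] S) (p₁ p₂ : MvPolynomial (Fin n) A ⊗[A] B),
      ψ.toLinearMap.rTensor B p₁ = t₁ ∧ ψ.toLinearMap.rTensor B p₂ = t₂ := by
  obtain ⟨A₁, hA₁, ht₁⟩ := TensorProduct.Algebra.exists_of_fg t₁
  obtain ⟨A₂, hA₂, ht₂⟩ := TensorProduct.Algebra.exists_of_fg t₂
  have hB : Subalgebra.FG (A₁ ⊔ A₂) := Subalgebra.FG.sup hA₁ hA₂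
  obtain ⟨gen, hgen⟩ := PolynomialLaw.exists_range_φ_eq_of_fg hB
  have h1 : A₁ ≤ (PolynomialLaw.φ A gen).range := by rw [hgen]; exact le_sup_left
  have h2 : A₂ ≤ (PolynomialLaw.φ A gen).range := by rw [hgen]; exact le_sup_right
  obtain ⟨p₁, hp₁⟩ := PolynomialLaw.exists_lift_of_mem_range_rTensor _ h1 ht₁
  obtain ⟨p₂, hp₂⟩ := PolynomialLaw.exists_lift_of_mem_range_rTensor _ h2 ht₂
  exact ⟨gen.card, PolynomialLaw.φ A gen, p₁, p₂, hp₁, hp₂⟩

theorem mem_ker_of_poly (F : B →ₚₗ[A] C) (b : B)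
    (h : ∀ (n : ℕ) (x w : MvPolynomial (Fin n) A ⊗[A] B),
      F.toFun' (MvPolynomial (Fin n) A) (x + w * ((1 : MvPolynomial (Fin n) A) ⊗ₜ[A] b)) =
        F.toFun' (MvPolynomial (Fin n) A) x) :
    b ∈ PolLaw.ker F := by
  intro S _ _ x w
  obtain ⟨n, ψ, x', w', rfl, rfl⟩ := exists_lift₂ (A := A) (B := B) x w
  have h1 : ψ.toLinearMap.rTensor B x' + ψ.toLinearMap.rTensor B w' * ((1 : S) ⊗ₜ[A] b) =
      ψ.toLinearMap.rTensor B (x' + w' * ((1 : MvPolynomial (Fin n) A) ⊗ₜ[A] b)) := by
    rw [PolLaw.rTensor_algHom_apply, PolLaw.rTensor_algHom_apply, PolLaw.rTensor_algHom_apply,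
      map_add, map_mul, Algebra.TensorProduct.map_tmul, map_one]
    rfl
  rw [h1, ← PolynomialLaw.isCompat_apply', ← PolynomialLaw.isCompat_apply', h n]

instance (n : ℕ) [IsReduced C] : IsReduced (MvPolynomial (Fin n) A ⊗[A] C) := by
  let e : MvPolynomial (Fin n) A ⊗[A] C ≃ₐ[A] C ⊗[A] MvPolynomial (Fin n) A :=
    Algebra.TensorProduct.comm A _ _
  let e' : C ⊗[A] MvPolynomial (Fin n) A ≃ₐ[C] MvPolynomial (Fin n) C :=
    MvPolynomial.algebraTensorAlgEquiv A C
  exact isReduced_of_injective ((e' : C ⊗[A] MvPolynomial (Fin n) A →+* MvPolynomial (Fin n) C).comp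
    (e : MvPolynomial (Fin n) A ⊗[A] C →+* C ⊗[A] MvPolynomial (Fin n) A))
    (e'.injective.comp e.injective)

theorem sq_mem {d : ℕ} [IsReduced C] (F : PolLaw.MulLaw A B C d) (b : B)
    (hb : b * b ∈ PolLaw.ker F.law) : b ∈ PolLaw.ker F.law := by
  apply mem_ker_of_poly
  intro n x w
  exact core (MvPolynomial (Fin n) A) F b hb x w

theorem isRadical {d : ℕ} [IsReduced C] (F : PolLaw.MulLaw A B C d) :
    (PolLaw.ker F.law).IsRadical := by
  have key : ∀ m : ℕ, ∀ b : B, b ^ m ∈ PolLaw.ker F.law → 1 ≤ m → b ∈ PolLaw.ker F.law := by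
    intro m
    induction m using Nat.strong_induction_on with
    | _ m ih =>
      intro b hb hm
      rcases Nat.lt_or_ge m 2 with h | h
      · have : m = 1 := by omega
        subst this
        simpa using hb
      · have h1 : (b ^ ((m + 1) / 2)) * (b ^ ((m + 1) / 2)) ∈ PolLaw.ker F.law := by
          rw [← pow_add]
          have : (m + 1) / 2 + (m + 1) / 2 = m + ((m + 1) / 2 + (m + 1) / 2 - m) := by omega
          rw [this, pow_add]
          exact Ideal.mul_mem_right _ _ hb
        exact ih ((m + 1) / 2) (by omega) b (sq_mem F _ h1) (by omega)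
  intro b hb
  obtain ⟨m, hm⟩ := hb
  rcases Nat.eq_zero_or_pos m with rfl | hpos
  · rw [pow_zero] at hm
    have : PolLaw.ker F.law = ⊤ := (Ideal.eq_top_iff_one _).mpr hm
    rw [this]; trivial
  · exact key m b hm hpos

theorem main {A : Type u} [CommRing A] {B : Type u} [CommRing B] [Algebra A B]
    {C : Type u} [CommRing C] [Algebra A C] [IsReduced C] {d : ℕ} (F : PolLaw.MulLaw A B C d) :
    IsReduced (PolLaw.image F.law) :=
  (Ideal.isRadical_iff_quotient_reduced _).mp (isRadical F)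

end lift

end Groth.Agent.Lib.Helper4.PolLawReduced1
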