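import Mathlib
import Groth.Prelude.Def_PolLaw
import Groth.Prelude.Def_PolLaw2
import Groth.Agent.Lib.Helper4.PolLawReduced1

/-!
# The kernel of a multiplicative law commutes with polynomial base change (helper4)
-/

set_option backward.isDefEq.respectTransparency.types false
set_option synthInstance.maxHeartbeats 400000
set_option autoImplicit false
set_option linter.unusedSectionVars false
set_option linter.style.haveILetI false
set_option linter.unusedSimpArgs false
universe u v w

namespace Groth.Agent.Lib.Helper4.PolLawPolyBC1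
open Polynomial
open scoped TensorProduct
open Groth.Agent.Lib.Helper4.PolLawReduced1

section theta2
variable {A : Type u} [CommRing A] (S : Type u) [CommRing S] [Algebra A S]
  (C : Type u) [CommRing C] [Algebra A C]

/-- substitution `X ↦ q` as an `A`-algebra map -/
noncomputable def sub (q : S[X]) : S[X] →ₐ[A] S[X] := (Polynomial.aeval q).restrictScalars A

theorem N2' (q : S[X]) (z : S[X] ⊗[A] C) :
    Θ S C (Algebra.TensorProduct.map (sub (A := A) S q) (AlgHom.id A C) z) =
      (Θ S C z).comp (q.map (Algebra.TensorProduct.includeLeft : S →ₐ[A] S ⊗[A] C).toRingHom) := by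
  induction z using TensorProduct.induction_on with
  | zero => simp
  | tmul p c =>
    rw [Algebra.TensorProduct.map_tmul, Θ_tmul, Θ_tmul, Polynomial.mul_comp, Polynomial.C_comp]
    congr 1
    change (Polynomial.aeval q p).map _ = _
    rw [Polynomial.aeval_def, Polynomial.algebraMap_eq, ← Polynomial.comp, Polynomial.map_comp]
  | add x y hx hy => simp only [map_add, hx, hy, Polynomial.add_comp]

theorem const_of_comp_C_mul_X {R : Type*} [CommRing R] (φ : R[X]) (τ r : R)
    (hτ : τ ∈ nonZeroDivisors R) (h : φ.comp (Polynomial.C τ * X) = Polynomial.C r) :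
    φ = Polynomial.C (φ.coeff 0) := by
  ext k
  rcases Nat.eq_zero_or_pos k with rfl | hk
  · simp
  · have h1 := congrArg (fun p => p.coeff k) h
    simp only [comp_C_mul_X_coeff, coeff_C, if_neg (Nat.pos_iff_ne_zero.mp hk)] at h1
    rw [coeff_C, if_neg (Nat.pos_iff_ne_zero.mp hk)]
    exact (mul_right_mem_nonZeroDivisors_eq_zero_iff (pow_mem hτ k)).mp h1

theorem X_tmul_one_mem_nonZeroDivisors :
    ((X : S[X]) ⊗ₜ[A] (1 : A)) ∈ nonZeroDivisors (S[X] ⊗[A] A) := by
  rw [mem_nonZeroDivisors_iff_right]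
  intro y hy
  have h1 : Algebra.TensorProduct.rid A S[X] S[X] (y * ((X : S[X]) ⊗ₜ[A] (1 : A))) = 0 := by
    rw [hy, map_zero]
  have hX : Algebra.TensorProduct.rid A S[X] S[X] ((X : S[X]) ⊗ₜ[A] (1 : A)) = X := by
    rw [Algebra.TensorProduct.rid_tmul, one_smul]
  rw [map_mul, hX] at h1
  have h2 : Algebra.TensorProduct.rid A S[X] S[X] y = 0 := by
    by_contra hne
    exact hne (by simpa using h1)
  exact (Algebra.TensorProduct.rid A S[X] S[X]).injective (by rw [h2, map_zero])

end theta2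

section K
variable {A : Type u} [CommRing A] {B : Type u} [CommRing B] [Algebra A B]

/-- evaluation of the polynomial variable of `z : A[X] ⊗ B` at `s : R` -/
noncomputable def evalAt {R : Type u} [CommSemiring R] [Algebra A R] (s : R) :
    A[X] ⊗[A] B →ₐ[A] R ⊗[A] B :=
  Algebra.TensorProduct.map (Polynomial.aeval s : A[X] →ₐ[A] R) (AlgHom.id A B)

/-- membership in `kerBC F A[X]`, without algebra-instance quantification -/
def K' (F : B →ₚₗ[A] A) (z : A[X] ⊗[A] B) : Prop :=
  ∀ (R : Type u) [CommSemiring R] [Algebra A R] (s : R) (x w : R ⊗[A] B),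
    F.toFun' R (x + w * evalAt s z) = F.toFun' R x

theorem mem_kerBC_iff (F : B →ₚₗ[A] A) (z : A[X] ⊗[A] B) :
    z ∈ PolLaw.kerBC F A[X] ↔ K' F z := by
  constructor
  · intro hz R _ _ s x w
    letI : Algebra A[X] R := (Polynomial.aeval s : A[X] →ₐ[A] R).toRingHom.toAlgebra
    haveI : IsScalarTower A A[X] R := IsScalarTower.of_algebraMap_eq (fun a => by
      rw [RingHom.algebraMap_toAlgebra]
      simp)
    have h1 : IsScalarTower.toAlgHom A A[X] R = (Polynomial.aeval s : A[X] →ₐ[A] R) := by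
      apply Polynomial.algHom_ext
      rw [IsScalarTower.toAlgHom_apply, RingHom.algebraMap_toAlgebra]
      rfl
    have := hz R x w
    rw [h1] at this
    exact this
  · intro hz R _ _ _ _ x w
    have h1 : IsScalarTower.toAlgHom A A[X] R =
        (Polynomial.aeval (algebraMap A[X] R X) : A[X] →ₐ[A] R) := by
      apply Polynomial.algHom_ext
      rw [IsScalarTower.toAlgHom_apply, Polynomial.aeval_X]
    rw [h1]
    exact hz R (algebraMap A[X] R X) x w

theorem evalAt_comp {R R' : Type u} [CommSemiring R] [Algebra A R] [CommSemiring R'] [Algebra A R']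
    (ψ : R →ₐ[A] R') (s : R) (z : A[X] ⊗[A] B) :
    Algebra.TensorProduct.map ψ (AlgHom.id A B) (evalAt s z) = evalAt (ψ s) z := by
  induction z using TensorProduct.induction_on with
  | zero => simp
  | tmul p b =>
    simp only [evalAt, Algebra.TensorProduct.map_tmul, Polynomial.aeval_algHom_apply,
      AlgHom.id_apply]
  | add x y hx hy => simp only [map_add, hx, hy]

/-- joint lift of two tensors and a scalar to a polynomial ring -/
theorem exists_lift₃ {S : Type u} [CommSemiring S] [Algebra A S] (t₁ t₂ : S ⊗[A] B) (s : S) :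
    ∃ (n : ℕ) (ψ : MvPolynomial (Fin n) A →ₐ[A] S) (p₁ p₂ : MvPolynomial (Fin n) A ⊗[A] B)
      (q : MvPolynomial (Fin n) A),
      ψ.toLinearMap.rTensor B p₁ = t₁ ∧ ψ.toLinearMap.rTensor B p₂ = t₂ ∧ ψ q = s := by
  obtain ⟨A₁, hA₁, ht₁⟩ := TensorProduct.Algebra.exists_of_fg t₁
  obtain ⟨A₂, hA₂, ht₂⟩ := TensorProduct.Algebra.exists_of_fg t₂
  have hB : Subalgebra.FG (A₁ ⊔ A₂ ⊔ Algebra.adjoin A ({s} : Finset S)) :=
    Subalgebra.FG.sup (Subalgebra.FG.sup hA₁ hA₂) (Subalgebra.fg_adjoin_finset _)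
  obtain ⟨gen, hgen⟩ := PolynomialLaw.exists_range_φ_eq_of_fg hB
  have h1 : A₁ ≤ (PolynomialLaw.φ A gen).range := by
    rw [hgen]; exact le_sup_left.trans le_sup_left
  have h2 : A₂ ≤ (PolynomialLaw.φ A gen).range := by
    rw [hgen]; exact le_sup_right.trans le_sup_left
  obtain ⟨p₁, hp₁⟩ := PolynomialLaw.exists_lift_of_mem_range_rTensor _ h1 ht₁
  obtain ⟨p₂, hp₂⟩ := PolynomialLaw.exists_lift_of_mem_range_rTensor _ h2 ht₂
  have hs : s ∈ (PolynomialLaw.φ A gen).range := by
    rw [hgen]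
    apply (le_sup_right : Algebra.adjoin A _ ≤ A₁ ⊔ A₂ ⊔ Algebra.adjoin A _)
    apply Algebra.subset_adjoin
    simp
  obtain ⟨q, hq⟩ := hs
  exact ⟨gen.card, PolynomialLaw.φ A gen, p₁, p₂, q, hp₁, hp₂, hq⟩

theorem K'_of_poly (F : B →ₚₗ[A] A) (z : A[X] ⊗[A] B)
    (h : ∀ (n : ℕ) (s : MvPolynomial (Fin n) A) (x w : MvPolynomial (Fin n) A ⊗[A] B),
      F.toFun' (MvPolynomial (Fin n) A) (x + w * evalAt s z) = F.toFun' (MvPolynomial (Fin n) A) x) :
    K' F z := by
  intro S _ _ s x w
  obtain ⟨n, ψ, x', w', s', rfl, rfl, rfl⟩ := exists_lift₃ (A := A) (B := B) x w s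
  have h1 : ψ.toLinearMap.rTensor B x' + ψ.toLinearMap.rTensor B w' * evalAt (ψ s') z =
      ψ.toLinearMap.rTensor B (x' + w' * evalAt s' z) := by
    rw [PolLaw.rTensor_algHom_apply, PolLaw.rTensor_algHom_apply, PolLaw.rTensor_algHom_apply,
      map_add, map_mul, evalAt_comp]
  rw [h1, ← PolynomialLaw.isCompat_apply', ← PolynomialLaw.isCompat_apply', h n]

end K

section div
variable {A : Type u} [CommRing A] {B : Type u} [CommRing B] [Algebra A B]
variable (S : Type u) [CommRing S] [Algebra A S]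

theorem sub_cst (q : S[X]) (x : S ⊗[A] B) :
    Algebra.TensorProduct.map (sub (A := A) S q) (AlgHom.id A B)
      (Algebra.TensorProduct.map (cst (A := A) S) (AlgHom.id A B) x) =
      Algebra.TensorProduct.map (cst (A := A) S) (AlgHom.id A B) x := by
  induction x using TensorProduct.induction_on with
  | zero => simp
  | tmul s b =>
    rw [Algebra.TensorProduct.map_tmul, Algebra.TensorProduct.map_tmul]
    change (Polynomial.aeval q (Polynomial.C s)) ⊗ₜ[A] b = _
    rw [Polynomial.aeval_C]; rfl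
  | add x y hx hy => simp only [map_add, hx, hy]

theorem spec_ev (a : S) (x w y : S ⊗[A] B) :
    Algebra.TensorProduct.map (ev (A := A) S a) (AlgHom.id A B)
      (Algebra.TensorProduct.map (cst (A := A) S) (AlgHom.id A B) x +
        ((X : S[X]) ⊗ₜ[A] (1 : B)) * Algebra.TensorProduct.map (cst (A := A) S) (AlgHom.id A B) w *
          Algebra.TensorProduct.map (cst (A := A) S) (AlgHom.id A B) y) =
      x + (a ⊗ₜ[A] (1 : B)) * w * y := by
  rw [map_add, map_mul, map_mul, ev_cst, ev_cst, ev_cst, Algebra.TensorProduct.map_tmul]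
  congr 3
  change (Polynomial.aeval a (X : S[X])) ⊗ₜ[A] _ = _
  rw [Polynomial.aeval_X]; rfl

theorem spec_sub (q : S[X]) (x w y : S ⊗[A] B) :
    Algebra.TensorProduct.map (sub (A := A) S q) (AlgHom.id A B)
      (Algebra.TensorProduct.map (cst (A := A) S) (AlgHom.id A B) x +
        ((X : S[X]) ⊗ₜ[A] (1 : B)) * Algebra.TensorProduct.map (cst (A := A) S) (AlgHom.id A B) w *
          Algebra.TensorProduct.map (cst (A := A) S) (AlgHom.id A B) y) =
      Algebra.TensorProduct.map (cst (A := A) S) (AlgHom.id A B) x +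
        (q ⊗ₜ[A] (1 : B)) * Algebra.TensorProduct.map (cst (A := A) S) (AlgHom.id A B) w *
          Algebra.TensorProduct.map (cst (A := A) S) (AlgHom.id A B) y := by
  rw [map_add, map_mul, map_mul, sub_cst, sub_cst, sub_cst, Algebra.TensorProduct.map_tmul]
  congr 3
  change (Polynomial.aeval q (X : S[X])) ⊗ₜ[A] _ = _
  rw [Polynomial.aeval_X]; rfl

/-- Step A: the generic case -/
theorem stepA {d : ℕ} (F : PolLaw.MulLaw A B A d) (z : A[X] ⊗[A] B)
    (h : K' F.law (((X : A[X]) ⊗ₜ[A] (1 : B)) * z)) (x w : S[X] ⊗[A] B) :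
    F.law.toFun' S[X] (x + w * evalAt (X : S[X]) z) = F.law.toFun' S[X] x := by
  set Q := S[X] with hQ
  set zT : Q ⊗[A] B := evalAt (X : S[X]) z with hzT
  set x₁ := Algebra.TensorProduct.map (cst (A := A) Q) (AlgHom.id A B) x with hx₁
  set w₁ := Algebra.TensorProduct.map (cst (A := A) Q) (AlgHom.id A B) w with hw₁
  set z₁ := Algebra.TensorProduct.map (cst (A := A) Q) (AlgHom.id A B) zT with hz₁
  set U : Q[X] ⊗[A] B := (X : Q[X]) ⊗ₜ[A] (1 : B) with hU
  set Φ := F.law.toFun' Q[X] (x₁ + U * w₁ * z₁) with hΦ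
  set r := F.law.toFun' Q x with hr
  have hz₁' : z₁ = evalAt (Polynomial.C (X : S[X]) : Q[X]) z := by
    rw [hz₁, hzT, evalAt_comp]; rfl
  -- the substitution u ↦ T u
  have hsub : Algebra.TensorProduct.map (sub (A := A) Q (Polynomial.C (X : S[X]) * X)) (AlgHom.id A A) Φ =
      Algebra.TensorProduct.map (cst (A := A) Q) (AlgHom.id A A) r := by
    rw [hΦ, compat, hx₁, hw₁, hz₁, spec_sub, ← hx₁, ← hw₁, ← hz₁, hr, compat, ← hx₁]
    have h1 : ((Polynomial.C (X : S[X]) * X : Q[X]) ⊗ₜ[A] (1 : B)) * w₁ * z₁ =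
        (U * w₁) * evalAt (Polynomial.C (X : S[X]) : Q[X]) (((X : A[X]) ⊗ₜ[A] (1 : B)) * z) := by
      rw [map_mul, ← hz₁']
      have h2 : evalAt (Polynomial.C (X : S[X]) : Q[X]) ((X : A[X]) ⊗ₜ[A] (1 : B)) =
          (Polynomial.C (X : S[X]) : Q[X]) ⊗ₜ[A] (1 : B) := by
        rw [evalAt, Algebra.TensorProduct.map_tmul, Polynomial.aeval_X]; rfl
      rw [h2, hU]
      have h3 : ((Polynomial.C (X : S[X]) * X : Q[X]) ⊗ₜ[A] (1 : B)) =
          ((Polynomial.C (X : S[X]) : Q[X]) ⊗ₜ[A] (1 : B)) * ((X : Q[X]) ⊗ₜ[A] (1 : B)) := by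
        rw [Algebra.TensorProduct.tmul_mul_tmul, mul_one]
      rw [h3]; ring
    rw [h1]
    exact h Q[X] _ x₁ (U * w₁)
  have hφ : (Θ Q A Φ).comp (Polynomial.C ((X : S[X]) ⊗ₜ[A] (1 : A)) * X) = Polynomial.C r := by
    have := N2' Q A (Polynomial.C (X : S[X]) * X) Φ
    rw [hsub, N3] at this
    rw [this]
    congr 1
    rw [Polynomial.map_mul, Polynomial.map_C, Polynomial.map_X]
    rfl
  have hconst := const_of_comp_C_mul_X (Θ Q A Φ) _ r (X_tmul_one_mem_nonZeroDivisors S) hφ
  have hev : ∀ a : Q, Polynomial.eval (a ⊗ₜ[A] (1 : A)) (Θ Q A Φ) =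
      F.law.toFun' Q (x + (a ⊗ₜ[A] (1 : B)) * w * zT) := by
    intro a
    rw [← N1, hΦ, compat, hx₁, hw₁, hz₁, spec_ev]
  have h0 := hev 0
  have h1 := hev 1
  rw [TensorProduct.zero_tmul, TensorProduct.zero_tmul, zero_mul, zero_mul, add_zero, ← hr] at h0
  rw [← Algebra.TensorProduct.one_def, ← Algebra.TensorProduct.one_def, one_mul] at h1
  rw [← h1, hconst, Polynomial.eval_C, Polynomial.coeff_zero_eq_eval_zero, h0]

theorem div_X {d : ℕ} (F : PolLaw.MulLaw A B A d) (z : A[X] ⊗[A] B)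
    (h : K' F.law (((X : A[X]) ⊗ₜ[A] (1 : B)) * z)) : K' F.law z := by
  apply K'_of_poly
  intro n s x w
  have hA := stepA (MvPolynomial (Fin n) A) F z h
    (Algebra.TensorProduct.map (cst (A := A) (MvPolynomial (Fin n) A)) (AlgHom.id A B) x)
    (Algebra.TensorProduct.map (cst (A := A) (MvPolynomial (Fin n) A)) (AlgHom.id A B) w)
  have hB := congrArg (Algebra.TensorProduct.map (ev (A := A) (MvPolynomial (Fin n) A) s)
    (AlgHom.id A A)) hA
  rw [compat, compat, map_add, map_mul, ev_cst, ev_cst, evalAt_comp] at hB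
  have : (ev (A := A) (MvPolynomial (Fin n) A) s) (X : (MvPolynomial (Fin n) A)[X]) = s := by
    change Polynomial.aeval s (X : (MvPolynomial (Fin n) A)[X]) = s
    rw [Polynomial.aeval_X]
  rw [this] at hB
  exact hB

end div

section final
variable {A : Type u} [CommRing A] {B : Type u} [CommRing B] [Algebra A B]

theorem exists_repr (z : A[X] ⊗[A] B) :
    ∃ (N : ℕ) (c : ℕ → B), z = ∑ j ∈ Finset.range N, ((X : A[X]) ^ j) ⊗ₜ[A] c j := by
  induction z using TensorProduct.induction_on with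
  | zero => exact ⟨0, fun _ => 0, by simp⟩
  | tmul p b =>
    refine ⟨p.natDegree + 1, fun j => p.coeff j • b, ?_⟩
    conv_lhs => rw [p.as_sum_range_C_mul_X_pow, TensorProduct.sum_tmul]
    apply Finset.sum_congr rfl
    intro j _
    rw [← Polynomial.smul_eq_C_mul, TensorProduct.smul_tmul]
  | add x y hx hy =>
    obtain ⟨N₁, c₁, rfl⟩ := hx
    obtain ⟨N₂, c₂, rfl⟩ := hy
    refine ⟨max N₁ N₂, fun j => (if j < N₁ then c₁ j else 0) + (if j < N₂ then c₂ j else 0), ?_⟩
    simp only [TensorProduct.tmul_add, Finset.sum_add_distrib]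
    congr 1
    · rw [← Finset.sum_subset (Finset.range_subset_range.mpr (le_max_left N₁ N₂))]
      · apply Finset.sum_congr rfl
        intro j hj
        rw [if_pos (Finset.mem_range.mp hj)]
      · intro j _ hj
        rw [if_neg (fun h => hj (Finset.mem_range.mpr h)), TensorProduct.tmul_zero]
    · rw [← Finset.sum_subset (Finset.range_subset_range.mpr (le_max_right N₁ N₂))]
      · apply Finset.sum_congr rfl
        intro j hj
        rw [if_pos (Finset.mem_range.mp hj)]
      · intro j _ hj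
        rw [if_neg (fun h => hj (Finset.mem_range.mpr h)), TensorProduct.tmul_zero]

theorem map_le_kerBC (F : B →ₚₗ[A] A) (A' : Type u) [CommRing A'] [Algebra A A'] :
    (PolLaw.ker F).map (Algebra.TensorProduct.includeRight : B →ₐ[A] A' ⊗[A] B) ≤
      PolLaw.kerBC F A' := by
  rw [Ideal.map_le_iff_le_comap]
  intro b hb
  rw [Ideal.mem_comap]
  intro R _ _ _ _ x w
  have : Algebra.TensorProduct.map (IsScalarTower.toAlgHom A A' R) (AlgHom.id A B)
      ((Algebra.TensorProduct.includeRight : B →ₐ[A] A' ⊗[A] B) b) = (1 : R) ⊗ₜ[A] b := by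
    rw [Algebra.TensorProduct.includeRight_apply, Algebra.TensorProduct.map_tmul, map_one]
    rfl
  rw [this]
  exact hb R x w

theorem main {d : ℕ} (F : PolLaw.MulLaw A B A d) :
    (PolLaw.ker F.law).map (Algebra.TensorProduct.includeRight : B →ₐ[A] Polynomial A ⊗[A] B) =
      PolLaw.kerBC F.law (Polynomial A) := by
  apply le_antisymm (map_le_kerBC F.law A[X])
  set J := (PolLaw.ker F.law).map (Algebra.TensorProduct.includeRight : B →ₐ[A] Polynomial A ⊗[A] B)
    with hJ
  have key : ∀ (N : ℕ) (c : ℕ → B),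
      (∑ j ∈ Finset.range N, ((X : A[X]) ^ j) ⊗ₜ[A] c j) ∈ PolLaw.kerBC F.law A[X] →
      (∑ j ∈ Finset.range N, ((X : A[X]) ^ j) ⊗ₜ[A] c j) ∈ J := by
    intro N
    induction N with
    | zero => intro c _; simp
    | succ N ih =>
      intro c hc
      have hsplit : (∑ j ∈ Finset.range (N + 1), ((X : A[X]) ^ j) ⊗ₜ[A] c j) =
          (1 : A[X]) ⊗ₜ[A] c 0 + ((X : A[X]) ⊗ₜ[A] (1 : B)) *
            ∑ j ∈ Finset.range N, ((X : A[X]) ^ j) ⊗ₜ[A] c (j + 1) := by
        rw [Finset.sum_range_succ', pow_zero, add_comm, Finset.mul_sum]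
        congr 1
        apply Finset.sum_congr rfl
        intro j _
        rw [Algebra.TensorProduct.tmul_mul_tmul, one_mul, pow_succ']
      -- constant term
      have hc0 : c 0 ∈ PolLaw.ker F.law := by
        intro S _ _ x w
        have := (mem_kerBC_iff F.law _).mp hc S (0 : S) x w
        have h0 : evalAt (0 : S) (∑ j ∈ Finset.range (N + 1), ((X : A[X]) ^ j) ⊗ₜ[A] c j) =
            (1 : S) ⊗ₜ[A] c 0 := by
          rw [map_sum, Finset.sum_range_succ', Finset.sum_eq_zero, zero_add]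
          · simp [evalAt]
          · intro j _
            simp [evalAt]
        rw [h0] at this
        exact this
      have h1 : (1 : A[X]) ⊗ₜ[A] c 0 ∈ J := Ideal.mem_map_of_mem _ hc0
      have h2 : ((X : A[X]) ⊗ₜ[A] (1 : B)) *
            ∑ j ∈ Finset.range N, ((X : A[X]) ^ j) ⊗ₜ[A] c (j + 1) ∈ PolLaw.kerBC F.law A[X] := by
        have := sub_mem hc (map_le_kerBC F.law A[X] h1)
        rwa [hsplit, add_sub_cancel_left] at this
      have h3 := (mem_kerBC_iff F.law _).mpr (div_X F _ ((mem_kerBC_iff F.law _).mp h2))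
      rw [hsplit]
      exact add_mem h1 (Ideal.mul_mem_left _ _ (ih (fun j => c (j + 1)) h3))
  intro z hz
  obtain ⟨N, c, rfl⟩ := exists_repr z
  exact key N c hz

end final

end Groth.Agent.Lib.Helper4.PolLawPolyBC1
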