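import Mathlib
import Groth.Prelude.Def_PolLaw
import Groth.Prelude.Def_PolLaw2
import Groth.Agent.Lib.Helper4.PolLawReduced1
import Groth.Agent.Lib.Helper4.PolLawPolyBC1

/-!
# The kernel of a multiplicative law on a finite algebra commutes with localization (helper4)
-/

set_option backward.isDefEq.respectTransparency.types false
set_option synthInstance.maxHeartbeats 400000
set_option autoImplicit false
set_option linter.unusedSectionVars false
set_option linter.style.haveILetI false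
set_option linter.unusedSimpArgs false
universe u v w

namespace Groth.Agent.Lib.Helper4.PolLawLocBC1
open Polynomial
open scoped TensorProduct
open Groth.Agent.Lib.Helper4.PolLawReduced1 Groth.Agent.Lib.Helper4.PolLawPolyBC1

section gen
variable {A : Type u} [CommRing A] {B : Type u} [CommRing B] [Algebra A B]

/-- every tensor is a combination of `1 ⊗ β i` when the `β i` span `B` -/
theorem exists_coeffs {n : ℕ} (β : Fin n → B) (hβ : Submodule.span A (Set.range β) = ⊤)
    {S : Type u} [CommSemiring S] [Algebra A S] (x : S ⊗[A] B) :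
    ∃ s : Fin n → S, x = ∑ i, s i ⊗ₜ[A] β i := by
  induction x using TensorProduct.induction_on with
  | zero => exact ⟨fun _ => 0, by simp⟩
  | tmul s b =>
    have hb : b ∈ Submodule.span A (Set.range β) := by rw [hβ]; trivial
    obtain ⟨c, rfl⟩ := (Submodule.mem_span_range_iff_exists_fun A).mp hb
    refine ⟨fun i => c i • s, ?_⟩
    rw [TensorProduct.tmul_sum]
    apply Finset.sum_congr rfl
    intro i _
    rw [TensorProduct.tmul_smul, TensorProduct.smul_tmul']
  | add x y hx hy =>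
    obtain ⟨s, rfl⟩ := hx
    obtain ⟨t, rfl⟩ := hy
    exact ⟨fun i => s i + t i, by simp only [TensorProduct.add_tmul, Finset.sum_add_distrib]⟩

/-- the polynomial lemma: `m₀ • E = 0` and `E(0) = 0` give `E(m₀) = 0` -/
theorem eval_eq_zero_of_smul {R' : Type*} [CommRing R'] [Algebra A R'] (E : R'[X]) (m₀ : A)
    (h : m₀ • E = 0) (h0 : E.coeff 0 = 0) : Polynomial.eval (algebraMap A R' m₀) E = 0 := by
  rw [Polynomial.eval_eq_sum_range]
  apply Finset.sum_eq_zero
  intro k _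
  rcases Nat.eq_zero_or_pos k with rfl | hk
  · rw [h0, zero_mul]
  · have h1 : m₀ • E.coeff k = 0 := by rw [← Polynomial.coeff_smul, h, Polynomial.coeff_zero]
    obtain ⟨k', rfl⟩ := Nat.exists_eq_succ_of_ne_zero (Nat.pos_iff_ne_zero.mp hk)
    have h2 : E.coeff (k' + 1) * (algebraMap A R') m₀ ^ (k' + 1) =
        (algebraMap A R') m₀ ^ k' * (m₀ • E.coeff (k' + 1)) := by
      rw [Algebra.smul_def, pow_succ]; ring
    rw [h2, h1, mul_zero]

/-- the generic pair of elements -/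
noncomputable def ξ {n : ℕ} (β : Fin n → B) : MvPolynomial (Fin n ⊕ Fin n) A ⊗[A] B :=
  ∑ i, (MvPolynomial.X (Sum.inl i) : MvPolynomial (Fin n ⊕ Fin n) A) ⊗ₜ[A] β i

noncomputable def ω {n : ℕ} (β : Fin n → B) : MvPolynomial (Fin n ⊕ Fin n) A ⊗[A] B :=
  ∑ i, (MvPolynomial.X (Sum.inr i) : MvPolynomial (Fin n ⊕ Fin n) A) ⊗ₜ[A] β i

theorem smul_mem_ker_of_generic {n : ℕ} (β : Fin n → B)
    (hβ : Submodule.span A (Set.range β) = ⊤) {d : ℕ} (F : PolLaw.MulLaw A B A d) (b : B) (m₀ : A)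
    (hD : m₀ • (F.law.toFun' (MvPolynomial (Fin n ⊕ Fin n) A)
        (ξ β + ω β * ((1 : MvPolynomial (Fin n ⊕ Fin n) A) ⊗ₜ[A] b)) -
      F.law.toFun' (MvPolynomial (Fin n ⊕ Fin n) A) (ξ β)) = 0) :
    m₀ • b ∈ PolLaw.ker F.law := by
  apply mem_ker_of_poly
  intro k x w
  set S := MvPolynomial (Fin k) A with hS
  obtain ⟨s, hs⟩ := exists_coeffs β hβ x
  obtain ⟨t, ht⟩ := exists_coeffs β hβ w
  let ψ : MvPolynomial (Fin n ⊕ Fin n) A →ₐ[A] S[X] :=
    MvPolynomial.aeval (Sum.elim (fun i => Polynomial.C (s i)) (fun i => Polynomial.C (t i) * X))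
  set x₁ := Algebra.TensorProduct.map (cst (A := A) S) (AlgHom.id A B) x with hx₁
  set w₁ := Algebra.TensorProduct.map (cst (A := A) S) (AlgHom.id A B) w with hw₁
  set b₁ := Algebra.TensorProduct.map (cst (A := A) S) (AlgHom.id A B) ((1 : S) ⊗ₜ[A] b) with hb₁
  set U : S[X] ⊗[A] B := (X : S[X]) ⊗ₜ[A] (1 : B) with hU
  have hξ : Algebra.TensorProduct.map ψ (AlgHom.id A B) (ξ β) = x₁ := by
    rw [hx₁, hs, ξ, map_sum, map_sum]
    apply Finset.sum_congr rfl
    intro i _
    rw [Algebra.TensorProduct.map_tmul, Algebra.TensorProduct.map_tmul]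
    simp only [ψ, MvPolynomial.aeval_X, Sum.elim_inl]
    rfl
  have hω : Algebra.TensorProduct.map ψ (AlgHom.id A B) (ω β) = U * w₁ := by
    rw [hw₁, ht, ω, map_sum, map_sum, Finset.mul_sum]
    apply Finset.sum_congr rfl
    intro i _
    rw [Algebra.TensorProduct.map_tmul, Algebra.TensorProduct.map_tmul, hU]
    simp only [ψ, MvPolynomial.aeval_X, Sum.elim_inr]
    rw [Algebra.TensorProduct.tmul_mul_tmul, mul_comm (X : S[X])]
    simp only [AlgHom.id_apply, one_mul]
    rfl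
  have hb₁' : Algebra.TensorProduct.map ψ (AlgHom.id A B)
      ((1 : MvPolynomial (Fin n ⊕ Fin n) A) ⊗ₜ[A] b) = b₁ := by
    rw [hb₁, Algebra.TensorProduct.map_tmul, Algebra.TensorProduct.map_tmul, map_one, map_one]
  set Φ := F.law.toFun' S[X] (x₁ + U * w₁ * b₁) with hΦ
  set r := F.law.toFun' S x with hr
  have hkill : m₀ • (Φ - Algebra.TensorProduct.map (cst (A := A) S) (AlgHom.id A A) r) = 0 := by
    have := congrArg (Algebra.TensorProduct.map ψ (AlgHom.id A A)) hD
    rw [map_smul, map_sub, compat, compat, map_add, map_mul, hξ, hω, hb₁', map_zero] at this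
    rw [hΦ, hr, compat]
    exact this
  have hkill' : m₀ • (Θ S A Φ - Polynomial.C r) = 0 := by
    have := congrArg (Θ S A) hkill
    rwa [map_smul, map_sub, N3, map_zero] at this
  have hev : ∀ a : S, Polynomial.eval (a ⊗ₜ[A] (1 : A)) (Θ S A Φ) =
      F.law.toFun' S (x + (a ⊗ₜ[A] (1 : B)) * w * ((1 : S) ⊗ₜ[A] b)) := by
    intro a
    rw [← N1, hΦ, compat, hx₁, hw₁, hb₁, spec_ev]
  have h0 : (Θ S A Φ - Polynomial.C r).coeff 0 = 0 := by
    have := hev 0
    rw [TensorProduct.zero_tmul, TensorProduct.zero_tmul, zero_mul, zero_mul, add_zero, ← hr] at this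
    rw [Polynomial.coeff_sub, Polynomial.coeff_C_zero, Polynomial.coeff_zero_eq_eval_zero, this,
      sub_self]
  have hE := eval_eq_zero_of_smul (A := A) (Θ S A Φ - Polynomial.C r) m₀ hkill' h0
  rw [Polynomial.eval_sub, Polynomial.eval_C, sub_eq_zero] at hE
  have hm : algebraMap A (S ⊗[A] A) m₀ = (algebraMap A S m₀) ⊗ₜ[A] (1 : A) := rfl
  rw [hm, hev] at hE
  rw [← hE]
  congr 2
  rw [mul_comm ((algebraMap A S) m₀ ⊗ₜ[A] (1 : B)), mul_assoc,
    Algebra.TensorProduct.tmul_mul_tmul, mul_one, one_mul, Algebra.algebraMap_eq_smul_one,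
    TensorProduct.smul_tmul]

end gen

section loc
variable {A : Type u} [CommRing A] {B : Type u} [CommRing B] [Algebra A B]
  (M : Submonoid A) (A' : Type u) [CommRing A'] [Algebra A A'] [IsLocalization M A']

theorem rid_map_includeRight (P : Type u) [CommRing P] [Algebra A P] (D : P ⊗[A] A) :
    TensorProduct.rid A (A' ⊗[A] P)
      (Algebra.TensorProduct.map (Algebra.TensorProduct.includeRight : P →ₐ[A] A' ⊗[A] P)
        (AlgHom.id A A) D) = (1 : A') ⊗ₜ[A] (TensorProduct.rid A P D) := by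
  induction D using TensorProduct.induction_on with
  | zero => simp
  | tmul p a =>
    rw [Algebra.TensorProduct.map_tmul, TensorProduct.rid_tmul, TensorProduct.rid_tmul,
      TensorProduct.tmul_smul]
    rfl
  | add x y hx hy => simp only [map_add, hx, hy, TensorProduct.tmul_add]

theorem exists_smul_generic_eq_zero {n : ℕ} (β : Fin n → B) {d : ℕ} (F : PolLaw.MulLaw A B A d)
    (b : B) (h : (1 : A') ⊗ₜ[A] b ∈ PolLaw.kerBC F.law A') :
    ∃ m₀ : M, (m₀ : A) • (F.law.toFun' (MvPolynomial (Fin n ⊕ Fin n) A)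
        (ξ β + ω β * ((1 : MvPolynomial (Fin n ⊕ Fin n) A) ⊗ₜ[A] b)) -
      F.law.toFun' (MvPolynomial (Fin n ⊕ Fin n) A) (ξ β)) = 0 := by
  set P := MvPolynomial (Fin n ⊕ Fin n) A with hP
  set D := F.law.toFun' P (ξ β + ω β * ((1 : P) ⊗ₜ[A] b)) - F.law.toFun' P (ξ β) with hD
  let ι : P →ₐ[A] A' ⊗[A] P := Algebra.TensorProduct.includeRight
  have h1 := h (A' ⊗[A] P) (Algebra.TensorProduct.map ι (AlgHom.id A B) (ξ β))
    (Algebra.TensorProduct.map ι (AlgHom.id A B) (ω β))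
  have h2 : Algebra.TensorProduct.map (IsScalarTower.toAlgHom A A' (A' ⊗[A] P)) (AlgHom.id A B)
      ((1 : A') ⊗ₜ[A] b) = Algebra.TensorProduct.map ι (AlgHom.id A B) ((1 : P) ⊗ₜ[A] b) := by
    rw [Algebra.TensorProduct.map_tmul, Algebra.TensorProduct.map_tmul, map_one, map_one]
  rw [h2, ← map_mul, ← map_add, ← compat, ← compat] at h1
  have h3 : Algebra.TensorProduct.map ι (AlgHom.id A A) D = 0 := by
    rw [hD, map_sub, h1, sub_self]
  have h4 := rid_map_includeRight A' P D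
  rw [h3, map_zero] at h4
  haveI : IsLocalizedModule M (TensorProduct.mk A A' P 1) :=
    (isLocalizedModule_iff_isBaseChange M A' _).mpr (TensorProduct.isBaseChange A P A')
  have h5 : TensorProduct.mk A A' P 1 (TensorProduct.rid A P D) = 0 := h4.symm
  obtain ⟨m₀, hm₀⟩ := (IsLocalizedModule.eq_zero_iff M (TensorProduct.mk A A' P 1)).mp h5
  refine ⟨m₀, ?_⟩
  apply (TensorProduct.rid A P).injective
  rw [map_smul, map_zero]
  exact hm₀

end loc

section main
variable {A : Type u} [CommRing A] {B : Type u} [CommRing B] [Algebra A B]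
  (M : Submonoid A) (A' : Type u) [CommRing A'] [Algebra A A'] [IsLocalization M A']

theorem exists_clear_denominator (z : A' ⊗[A] B) :
    ∃ (m : M) (b : B), ((algebraMap A A' m) ⊗ₜ[A] (1 : B)) * z = (1 : A') ⊗ₜ[A] b := by
  induction z using TensorProduct.induction_on with
  | zero => exact ⟨1, 0, by simp⟩
  | tmul a' b =>
    obtain ⟨a, m, rfl⟩ := IsLocalization.exists_mk'_eq M a'
    refine ⟨m, a • b, ?_⟩
    rw [Algebra.TensorProduct.tmul_mul_tmul, one_mul, mul_comm, IsLocalization.mk'_spec,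
      Algebra.algebraMap_eq_smul_one, TensorProduct.smul_tmul]
  | add x y hx hy =>
    obtain ⟨m₁, b₁, h₁⟩ := hx
    obtain ⟨m₂, b₂, h₂⟩ := hy
    refine ⟨m₁ * m₂, (m₂ : A) • b₁ + (m₁ : A) • b₂, ?_⟩
    have e : ((algebraMap A A' ((m₁ * m₂ : M) : A)) ⊗ₜ[A] (1 : B)) =
        ((algebraMap A A' m₁) ⊗ₜ[A] (1 : B)) * ((algebraMap A A' m₂) ⊗ₜ[A] (1 : B)) := by
      rw [Algebra.TensorProduct.tmul_mul_tmul, mul_one, Submonoid.coe_mul, map_mul]
    have e₁ : ∀ (m : M) (b : B), ((algebraMap A A' m) ⊗ₜ[A] (1 : B)) * ((1 : A') ⊗ₜ[A] b) =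
        (1 : A') ⊗ₜ[A] ((m : A) • b) := by
      intro m b
      rw [Algebra.TensorProduct.tmul_mul_tmul, mul_one, one_mul, Algebra.algebraMap_eq_smul_one,
        TensorProduct.smul_tmul]
    rw [e, mul_add, TensorProduct.tmul_add]
    congr 1
    · rw [mul_comm ((algebraMap A A' m₁) ⊗ₜ[A] (1 : B)), mul_assoc, h₁, e₁]
    · rw [mul_assoc, h₂, e₁]

include M in
theorem main [Module.Finite A B] {d : ℕ} (F : PolLaw.MulLaw A B A d) :
    (PolLaw.ker F.law).map (Algebra.TensorProduct.includeRight : B →ₐ[A] A' ⊗[A] B) =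
      PolLaw.kerBC F.law A' := by
  apply le_antisymm (map_le_kerBC F.law A')
  intro z hz
  obtain ⟨m, b, hmb⟩ := exists_clear_denominator M A' z
  have h1 : (1 : A') ⊗ₜ[A] b ∈ PolLaw.kerBC F.law A' := by
    rw [← hmb]; exact Ideal.mul_mem_left _ _ hz
  obtain ⟨n, β, hβ⟩ := Module.Finite.exists_fin (R := A) (M := B)
  obtain ⟨m₀, hm₀⟩ := exists_smul_generic_eq_zero M A' β F b h1
  have h2 := smul_mem_ker_of_generic β hβ F b m₀ hm₀
  have hinv : ∀ m : M, ((IsLocalization.mk' A' (1 : A) m) ⊗ₜ[A] (1 : B)) *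
      ((algebraMap A A' m) ⊗ₜ[A] (1 : B)) = 1 := by
    intro m
    rw [Algebra.TensorProduct.tmul_mul_tmul, mul_one, IsLocalization.mk'_spec, map_one]
    rfl
  have hz1 : z = ((IsLocalization.mk' A' (1 : A) m) ⊗ₜ[A] (1 : B)) * ((1 : A') ⊗ₜ[A] b) := by
    rw [← hmb, ← mul_assoc, hinv, one_mul]
  have hb1 : (1 : A') ⊗ₜ[A] b = ((IsLocalization.mk' A' (1 : A) m₀) ⊗ₜ[A] (1 : B)) *
      ((1 : A') ⊗ₜ[A] ((m₀ : A) • b)) := by
    have : (1 : A') ⊗ₜ[A] ((m₀ : A) • b) =
        ((algebraMap A A' m₀) ⊗ₜ[A] (1 : B)) * ((1 : A') ⊗ₜ[A] b) := by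
      rw [Algebra.TensorProduct.tmul_mul_tmul, mul_one, one_mul, Algebra.algebraMap_eq_smul_one,
        TensorProduct.smul_tmul]
    rw [this, ← mul_assoc, hinv, one_mul]
  rw [hz1, hb1]
  apply Ideal.mul_mem_left
  apply Ideal.mul_mem_left
  exact Ideal.mem_map_of_mem _ h2

end main

end Groth.Agent.Lib.Helper4.PolLawLocBC1
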