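import Mathlib
import Groth.Prelude.Def_PolLaw
import Groth.Prelude.Def_PolLaw2
import Groth.Agent.Lib.Helper4.PolLawReduced1
import Groth.Agent.Lib.Helper4.PolLawPolyBC1
import Groth.Agent.Lib.Helper4.PolLawLocBC1

/-!
# The kernel of a multiplicative law on a finite algebra commutes with filtered direct limits of the base (helper4)
-/

set_option backward.isDefEq.respectTransparency.types false
set_option synthInstance.maxHeartbeats 400000
set_option autoImplicit false
set_option linter.unusedSectionVars false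
set_option linter.style.haveILetI false
set_option linter.unusedSimpArgs false
universe u v w

namespace Groth.Agent.Lib.Helper4.PolLawLimBC1
open scoped TensorProduct
open Groth.Agent.Lib.Helper4.PolLawReduced1 Groth.Agent.Lib.Helper4.PolLawPolyBC1
  Groth.Agent.Lib.Helper4.PolLawLocBC1

section gen
variable {A : Type u} [CommRing A] {B : Type u} [CommRing B] [Algebra A B]

/-- compatibility for semiring test algebras -/
theorem compat' {C : Type u} [CommRing C] [Algebra A C] (F : B →ₚₗ[A] C) {S S' : Type u}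
    [CommSemiring S] [Algebra A S] [CommSemiring S'] [Algebra A S']
    (φ : S →ₐ[A] S') (x : S ⊗[A] B) :
    Algebra.TensorProduct.map φ (AlgHom.id A C) (F.toFun' S x) =
      F.toFun' S' (Algebra.TensorProduct.map φ (AlgHom.id A B) x) := by
  rw [← PolLaw.rTensor_algHom_apply, ← PolLaw.rTensor_algHom_apply]
  exact PolynomialLaw.isCompat_apply' φ x

variable {n : ℕ} (β : Fin n → B) (A'' : Type u) [CommRing A''] [Algebra A A'']

/-- the generic elements over `A''` -/
noncomputable def ξ' : MvPolynomial (Fin n ⊕ Fin n) A'' ⊗[A] B :=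
  ∑ i, (MvPolynomial.X (Sum.inl i) : MvPolynomial (Fin n ⊕ Fin n) A'') ⊗ₜ[A] β i

noncomputable def ω' : MvPolynomial (Fin n ⊕ Fin n) A'' ⊗[A] B :=
  ∑ i, (MvPolynomial.X (Sum.inr i) : MvPolynomial (Fin n ⊕ Fin n) A'') ⊗ₜ[A] β i

/-- constants, as an `A`-algebra map -/
noncomputable def cA : A'' →ₐ[A] MvPolynomial (Fin n ⊕ Fin n) A'' :=
  IsScalarTower.toAlgHom A A'' (MvPolynomial (Fin n ⊕ Fin n) A'')

variable {A''}

/-- generic criterion for membership in `kerBC` -/
theorem mem_kerBC_of_generic (hβ : Submodule.span A (Set.range β) = ⊤) (F : B →ₚₗ[A] A)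
    (z : A'' ⊗[A] B)
    (h : F.toFun' (MvPolynomial (Fin n ⊕ Fin n) A'')
        (ξ' β A'' + ω' β A'' * Algebra.TensorProduct.map (cA (A := A) (n := n) A'') (AlgHom.id A B) z) =
      F.toFun' (MvPolynomial (Fin n ⊕ Fin n) A'') (ξ' β A'')) :
    z ∈ PolLaw.kerBC F A'' := by
  intro R _ _ _ _ x w
  obtain ⟨s, hs⟩ := exists_coeffs β hβ x
  obtain ⟨t, ht⟩ := exists_coeffs β hβ w
  let ψ' : MvPolynomial (Fin n ⊕ Fin n) A'' →ₐ[A''] R := MvPolynomial.aeval (Sum.elim s t)
  let ψ : MvPolynomial (Fin n ⊕ Fin n) A'' →ₐ[A] R := ψ'.restrictScalars A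
  have hξ : Algebra.TensorProduct.map ψ (AlgHom.id A B) (ξ' β A'') = x := by
    rw [hs, ξ', map_sum]
    apply Finset.sum_congr rfl
    intro i _
    rw [Algebra.TensorProduct.map_tmul]
    simp [ψ, ψ']
  have hω : Algebra.TensorProduct.map ψ (AlgHom.id A B) (ω' β A'') = w := by
    rw [ht, ω', map_sum]
    apply Finset.sum_congr rfl
    intro i _
    rw [Algebra.TensorProduct.map_tmul]
    simp [ψ, ψ']
  have hz : ∀ z : A'' ⊗[A] B, Algebra.TensorProduct.map ψ (AlgHom.id A B)
      (Algebra.TensorProduct.map (cA (A := A) (n := n) A'') (AlgHom.id A B) z) =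
      Algebra.TensorProduct.map (IsScalarTower.toAlgHom A A'' R) (AlgHom.id A B) z := by
    intro z
    induction z using TensorProduct.induction_on with
    | zero => simp
    | tmul a b =>
      rw [Algebra.TensorProduct.map_tmul, Algebra.TensorProduct.map_tmul,
        Algebra.TensorProduct.map_tmul]
      congr 1
      simp [ψ, ψ', cA]
    | add x y hx hy => simp only [map_add, hx, hy]
  have := congrArg (Algebra.TensorProduct.map ψ (AlgHom.id A A)) h
  rw [compat', compat', map_add, map_mul, hξ, hω, hz] at this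
  exact this

variable {A₁ A₂ : Type u} [CommRing A₁] [Algebra A A₁] [CommRing A₂] [Algebra A A₂]

theorem map_ξ' (f : A₁ →ₐ[A] A₂) :
    Algebra.TensorProduct.map (MvPolynomial.mapAlgHom (σ := Fin n ⊕ Fin n) f) (AlgHom.id A B)
      (ξ' β A₁) = ξ' β A₂ := by
  rw [ξ', ξ', map_sum]
  apply Finset.sum_congr rfl
  intro i _
  rw [Algebra.TensorProduct.map_tmul]
  simp

theorem map_ω' (f : A₁ →ₐ[A] A₂) :
    Algebra.TensorProduct.map (MvPolynomial.mapAlgHom (σ := Fin n ⊕ Fin n) f) (AlgHom.id A B)
      (ω' β A₁) = ω' β A₂ := by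
  rw [ω', ω', map_sum]
  apply Finset.sum_congr rfl
  intro i _
  rw [Algebra.TensorProduct.map_tmul]
  simp

theorem map_cA (f : A₁ →ₐ[A] A₂) (z : A₁ ⊗[A] B) :
    Algebra.TensorProduct.map (MvPolynomial.mapAlgHom (σ := Fin n ⊕ Fin n) f) (AlgHom.id A B)
      (Algebra.TensorProduct.map (cA (A := A) (n := n) A₁) (AlgHom.id A B) z) =
    Algebra.TensorProduct.map (cA (A := A) (n := n) A₂) (AlgHom.id A B)
      (Algebra.TensorProduct.map f (AlgHom.id A B) z) := by
  induction z using TensorProduct.induction_on with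
  | zero => simp
  | tmul a b =>
    simp only [Algebra.TensorProduct.map_tmul]
    congr 1
    simp [cA]
  | add x y hx hy => simp only [map_add, hx, hy]

/-- the generic value -/
noncomputable def G (F : B →ₚₗ[A] A) (A'' : Type u) [CommRing A''] [Algebra A A''] (z : A'' ⊗[A] B) :
    MvPolynomial (Fin n ⊕ Fin n) A'' ⊗[A] A :=
  F.toFun' (MvPolynomial (Fin n ⊕ Fin n) A'')
    (ξ' β A'' + ω' β A'' * Algebra.TensorProduct.map (cA (A := A) (n := n) A'') (AlgHom.id A B) z)

theorem map_G (F : B →ₚₗ[A] A) (f : A₁ →ₐ[A] A₂) (z : A₁ ⊗[A] B) :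
    Algebra.TensorProduct.map (MvPolynomial.mapAlgHom (σ := Fin n ⊕ Fin n) f) (AlgHom.id A A)
      (G β F A₁ z) = G β F A₂ (Algebra.TensorProduct.map f (AlgHom.id A B) z) := by
  rw [G, G, compat', map_add, map_mul, map_ξ', map_ω', map_cA]

theorem G_zero (F : B →ₚₗ[A] A) (A'' : Type u) [CommRing A''] [Algebra A A''] :
    G β F A'' 0 = F.toFun' (MvPolynomial (Fin n ⊕ Fin n) A'') (ξ' β A'') := by
  rw [G, map_zero, mul_zero, add_zero]

theorem rid_map {P Q : Type u} [CommRing P] [Algebra A P] [CommRing Q] [Algebra A Q] (g : P →ₐ[A] Q)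
    (D : P ⊗[A] A) :
    TensorProduct.rid A Q (Algebra.TensorProduct.map g (AlgHom.id A A) D) =
      g (TensorProduct.rid A P D) := by
  induction D using TensorProduct.induction_on with
  | zero => simp
  | tmul p a =>
    rw [Algebra.TensorProduct.map_tmul, TensorProduct.rid_tmul, TensorProduct.rid_tmul, map_smul]
    rfl
  | add x y hx hy => simp only [map_add, hx, hy]

end gen

section limit
variable {A : Type u} [CommRing A]
  {A' : Type u} [CommRing A'] [Algebra A A'] {ι : Type u} [Preorder ι]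
  [IsDirected ι (fun i j => i ≤ j)] [Nonempty ι]
  (Ai : ι → Type u) [∀ i, CommRing (Ai i)] [∀ i, Algebra A (Ai i)]
  (t : ∀ i j : ι, i ≤ j → (Ai i →ₐ[A] Ai j)) (φ : ∀ i : ι, Ai i →ₐ[A] A')
  (hcomp : ∀ (i j : ι) (h : i ≤ j), (φ j).comp (t i j h) = φ i)
  (hzero : ∀ (i : ι) (x : Ai i), φ i x = 0 → ∃ (j : ι) (h : i ≤ j), t i j h x = 0)
  (htrans : ∀ (i j k : ι) (hij : i ≤ j) (hjk : j ≤ k),
    (t j k hjk).comp (t i j hij) = t i k (hij.trans hjk))

include hzero htrans in
/-- a polynomial vanishing in the limit vanishes at a finite stage -/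
theorem exists_map_eq_zero {σ : Type} (i : ι) (p : MvPolynomial σ (Ai i))
    (hp : MvPolynomial.map (φ i : Ai i →+* A') p = 0) :
    ∃ (j : ι) (h : i ≤ j), MvPolynomial.map (t i j h : Ai i →+* Ai j) p = 0 := by
  classical
  have h1 : ∀ m ∈ p.support, ∃ (j : ι) (h : i ≤ j), t i j h (p.coeff m) = 0 := by
    intro m _
    apply hzero
    have := congrArg (MvPolynomial.coeff m) hp
    rwa [MvPolynomial.coeff_map, MvPolynomial.coeff_zero] at this
  choose! jm hjm hjm0 using h1
  haveI : IsDirected ι (· ≤ ·) := ‹_›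
  obtain ⟨j₀, hj₀⟩ := Finset.exists_le (p.support.image jm)
  obtain ⟨j, hij, hj₀j⟩ := directed_of (· ≤ ·) i j₀
  refine ⟨j, hij, ?_⟩
  ext m
  rw [MvPolynomial.coeff_map, MvPolynomial.coeff_zero]
  by_cases hm : m ∈ p.support
  · have hle : jm m ≤ j := (hj₀ _ (Finset.mem_image_of_mem jm hm)).trans hj₀j
    have := congrArg (fun f => f (p.coeff m)) (htrans i (jm m) j (hjm m hm) hle)
    simp only [AlgHom.comp_apply] at this
    change t i j hij (p.coeff m) = 0
    rw [← this, hjm0 m hm, map_zero]
  · rw [MvPolynomial.notMem_support_iff.mp hm, map_zero]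

variable {B : Type u} [CommRing B] [Algebra A B]

include hcomp in
theorem exists_preimage (hsurj : ∀ a : A', ∃ (i : ι) (x : Ai i), φ i x = a) (z' : A' ⊗[A] B) :
    ∃ (i : ι) (z : Ai i ⊗[A] B), Algebra.TensorProduct.map (φ i) (AlgHom.id A B) z = z' := by
  have hmap : ∀ (i j : ι) (h : i ≤ j) (z : Ai i ⊗[A] B),
      Algebra.TensorProduct.map (φ j) (AlgHom.id A B)
        (Algebra.TensorProduct.map (t i j h) (AlgHom.id A B) z) =
      Algebra.TensorProduct.map (φ i) (AlgHom.id A B) z := by
    intro i j h z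
    induction z using TensorProduct.induction_on with
    | zero => simp
    | tmul a b =>
      simp only [Algebra.TensorProduct.map_tmul]
      congr 1
      exact congrArg (fun f => f a) (hcomp i j h)
    | add x y hx hy => simp only [map_add, hx, hy]
  induction z' using TensorProduct.induction_on with
  | zero =>
    obtain ⟨i⟩ := ‹Nonempty ι›
    exact ⟨i, 0, map_zero _⟩
  | tmul a b =>
    obtain ⟨i, x, rfl⟩ := hsurj a
    exact ⟨i, x ⊗ₜ[A] b, by simp⟩
  | add x y hx hy =>
    obtain ⟨i, z₁, rfl⟩ := hx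
    obtain ⟨j, z₂, rfl⟩ := hy
    obtain ⟨k, hik, hjk⟩ := directed_of (fun i j => i ≤ j) i j
    refine ⟨k, Algebra.TensorProduct.map (t i k hik) (AlgHom.id A B) z₁ +
      Algebra.TensorProduct.map (t j k hjk) (AlgHom.id A B) z₂, ?_⟩
    rw [map_add, hmap, hmap]

include hcomp hzero htrans in
theorem main [Module.Finite A B] (hsurj : ∀ a : A', ∃ (i : ι) (x : Ai i), φ i x = a)
    {d : ℕ} (F : PolLaw.MulLaw A B A d) :
    PolLaw.kerBC F.law A' =
      ⨆ i : ι, (PolLaw.kerBC F.law (Ai i)).map (Algebra.TensorProduct.map (φ i) (AlgHom.id A B)) := by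
  apply le_antisymm
  · intro z' hz'
    obtain ⟨n, β, hβ⟩ := Module.Finite.exists_fin (R := A) (M := B)
    obtain ⟨i, zi, rfl⟩ := exists_preimage Ai t φ hcomp hsurj z'
    -- the generic difference at stage i
    set Di := G β F.law (Ai i) zi - G β F.law (Ai i) 0 with hDi
    have h1 : Algebra.TensorProduct.map (MvPolynomial.mapAlgHom (σ := Fin n ⊕ Fin n) (φ i))
        (AlgHom.id A A) Di = 0 := by
      rw [hDi, map_sub, map_G, map_G, map_zero, sub_eq_zero, G_zero, G]
      exact hz' (MvPolynomial (Fin n ⊕ Fin n) A') _ _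
    have h2 : MvPolynomial.map (φ i : Ai i →+* A') (TensorProduct.rid A _ Di) = 0 := by
      have := rid_map (MvPolynomial.mapAlgHom (σ := Fin n ⊕ Fin n) (φ i)) Di
      rw [h1, map_zero] at this
      exact this.symm
    obtain ⟨j, hij, h3⟩ := exists_map_eq_zero Ai t φ hzero htrans i _ h2
    have h4 : Algebra.TensorProduct.map (MvPolynomial.mapAlgHom (σ := Fin n ⊕ Fin n) (t i j hij))
        (AlgHom.id A A) Di = 0 := by
      apply (TensorProduct.rid A _).injective
      rw [rid_map, map_zero]
      exact h3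
    rw [hDi, map_sub, map_G, map_G, map_zero, sub_eq_zero, G_zero] at h4
    have h5 := mem_kerBC_of_generic β hβ F.law _ h4
    have h6 : Algebra.TensorProduct.map (φ i) (AlgHom.id A B) zi =
        Algebra.TensorProduct.map (φ j) (AlgHom.id A B)
          (Algebra.TensorProduct.map (t i j hij) (AlgHom.id A B) zi) := by
      clear h1 h2 h3 h4 h5 hDi Di hz'
      induction zi using TensorProduct.induction_on with
      | zero => simp
      | tmul a b =>
        simp only [Algebra.TensorProduct.map_tmul]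
        congr 1
        exact (congrArg (fun f => f a) (hcomp i j hij)).symm
      | add x y hx hy => simp only [map_add, hx, hy]
    rw [h6]
    exact (le_iSup (fun i => (PolLaw.kerBC F.law (Ai i)).map
      (Algebra.TensorProduct.map (φ i) (AlgHom.id A B))) j) (Ideal.mem_map_of_mem _ h5)
  · apply iSup_le
    intro i
    rw [Ideal.map_le_iff_le_comap]
    intro z hz
    rw [Ideal.mem_comap]
    intro R _ _ _ _ x w
    letI : Algebra (Ai i) R := ((algebraMap A' R).comp (φ i : Ai i →+* A')).toAlgebra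
    haveI : IsScalarTower A (Ai i) R := IsScalarTower.of_algebraMap_eq (fun a => by
      rw [RingHom.algebraMap_toAlgebra]
      simp [IsScalarTower.algebraMap_apply A A' R])
    have h1 := hz R x w
    have h2 : ∀ z : Ai i ⊗[A] B,
        Algebra.TensorProduct.map (IsScalarTower.toAlgHom A (Ai i) R) (AlgHom.id A B) z =
        Algebra.TensorProduct.map (IsScalarTower.toAlgHom A A' R) (AlgHom.id A B)
          (Algebra.TensorProduct.map (φ i) (AlgHom.id A B) z) := by
      intro z
      induction z using TensorProduct.induction_on with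
      | zero => simp
      | tmul a b =>
        simp only [Algebra.TensorProduct.map_tmul]
        rfl
      | add x y hx hy => simp only [map_add, hx, hy]
    rw [h2] at h1
    exact h1

end limit

end Groth.Agent.Lib.Helper4.PolLawLimBC1
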