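import Mathlib
import Groth.Prelude.Def_PolLaw
import Groth.Prelude.Def_PolLaw2

/-!
# A multiplicative law on a product of two algebras over a connected base splits as a product (helper4)
-/

set_option backward.isDefEq.respectTransparency.types false
set_option synthInstance.maxHeartbeats 400000
set_option autoImplicit false
set_option linter.unusedSectionVars false
set_option linter.style.haveILetI false
set_option linter.unusedSimpArgs false
universe u v w

namespace Groth.Agent.Lib.Helper4.PolLawProd1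
open scoped TensorProduct
open Polynomial

theorem idem_trivial {A : Type u} [CommRing A] [ConnectedSpace (PrimeSpectrum A)] (e : A)
    (he : IsIdempotentElem e) : e = 0 ∨ e = 1 := by
  have hcl : IsClopen ((PrimeSpectrum.basicOpen e : TopologicalSpace.Opens (PrimeSpectrum A)) :
      Set (PrimeSpectrum A)) := PrimeSpectrum.isClopen_iff.mpr ⟨e, he, rfl⟩
  rcases isClopen_iff.mp hcl with h | h
  · left
    have h1 : PrimeSpectrum.basicOpen e = ⊥ := by
      ext x; simp only [TopologicalSpace.Opens.coe_bot]; rw [← h]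
    have hn := (PrimeSpectrum.basicOpen_eq_bot_iff e).mp h1
    obtain ⟨n, hn⟩ := hn
    rcases Nat.eq_zero_or_pos n with rfl | hpos
    · rw [pow_zero] at hn
      have : Subsingleton A := subsingleton_of_zero_eq_one hn.symm
      exact Subsingleton.elim _ _
    · obtain ⟨n', rfl⟩ := Nat.exists_eq_succ_of_ne_zero (Nat.pos_iff_ne_zero.mp hpos)
      rwa [he.pow_succ_eq n'] at hn
  · right
    have h1 : PrimeSpectrum.basicOpen e = PrimeSpectrum.basicOpen (1 : A) := by
      rw [PrimeSpectrum.basicOpen_one]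
      ext x; simp only [TopologicalSpace.Opens.coe_top]; rw [← h]
    exact PrimeSpectrum.basicOpen_injOn_isIdempotentElem he IsIdempotentElem.one h1

section poly
variable {A : Type u} [CommRing A]

theorem aeval_CX (P : A[X]) : aeval (Polynomial.C (X : A[X]) : A[X][X]) P = Polynomial.C P := by
  have := Polynomial.aeval_algHom_apply (Polynomial.CAlgHom : A[X] →ₐ[A] A[X][X]) (X : A[X]) P
  rw [Polynomial.aeval_X_left_apply] at this
  exact this

theorem aeval_comp' (q : A[X][X]) (P : A[X]) :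
    aeval q P = (P.map (Polynomial.C : A →+* A[X])).comp q := by
  rw [Polynomial.comp, Polynomial.eval₂_map, Polynomial.aeval_def]
  rfl

theorem aeval_X' (P : A[X]) : aeval (X : A[X][X]) P = P.map (Polynomial.C : A →+* A[X]) := by
  rw [aeval_comp', Polynomial.comp_X]

theorem eq_X_pow [ConnectedSpace (PrimeSpectrum A)] (P : A[X]) (h1 : P.eval 1 = 1)
    (hmul : aeval (Polynomial.C (X : A[X]) : A[X][X]) P * aeval (X : A[X][X]) P =
      aeval (Polynomial.C (X : A[X]) * X : A[X][X]) P) : ∃ k : ℕ, P = X ^ k := by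
  rw [aeval_CX, aeval_X', aeval_comp'] at hmul
  have hkl : ∀ k l : ℕ, P.coeff k * P.coeff l = if k = l then P.coeff l else 0 := by
    intro k l
    have h2 := congrArg (fun p => (p.coeff l).coeff k) hmul
    simp only [Polynomial.coeff_C_mul, Polynomial.coeff_map, Polynomial.comp_C_mul_X_coeff,
      Polynomial.coeff_mul_C, Polynomial.coeff_C_mul, Polynomial.coeff_X_pow] at h2
    rw [h2]
    split_ifs <;> simp
  have hidem : ∀ k, P.coeff k = 0 ∨ P.coeff k = 1 := by
    intro k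
    apply idem_trivial
    have := hkl k k
    rwa [if_pos rfl] at this
  have hnt : Nontrivial A := by
    by_contra hn
    rw [not_nontrivial_iff_subsingleton] at hn
    have : IsEmpty (PrimeSpectrum A) := inferInstance
    exact (not_isEmpty_of_nonempty (PrimeSpectrum A)) this
  have hex : ∃ k, P.coeff k = 1 := by
    by_contra hne
    push Not at hne
    have : P = 0 := by
      ext k
      rcases hidem k with h | h
      · simpa using h
      · exact absurd h (hne k)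
    rw [this, Polynomial.eval_zero] at h1
    exact zero_ne_one h1
  obtain ⟨k, hk⟩ := hex
  refine ⟨k, ?_⟩
  ext l
  rw [Polynomial.coeff_X_pow]
  by_cases hlk : l = k
  · rw [if_pos hlk, hlk, hk]
  · rw [if_neg hlk]
    have := hkl l k
    rw [if_neg hlk, hk, mul_one] at this
    exact this

end poly

section nat
variable {A : Type u} [CommRing A] {B₁ : Type u} [CommRing B₁] [Algebra A B₁]
  {B₂ : Type u} [CommRing B₂] [Algebra A B₂]

/-- `S ⊗ (B₁ × B₂) ≃ (S ⊗ B₁) × (S ⊗ B₂)` -/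
noncomputable abbrev ee (S : Type u) [CommSemiring S] [Algebra A S] :
    S ⊗[A] (B₁ × B₂) ≃ₐ[S] (S ⊗[A] B₁) × (S ⊗[A] B₂) :=
  Algebra.TensorProduct.prodRight A S S B₁ B₂

/-- `S ⊗ A ≃ S` -/
noncomputable abbrev vv (S : Type u) [CommSemiring S] [Algebra A S] : S ⊗[A] A ≃ₐ[S] S :=
  Algebra.TensorProduct.rid A S S

variable {S S' : Type u} [CommSemiring S] [Algebra A S] [CommSemiring S'] [Algebra A S']

theorem vv_nat (φ : S →ₐ[A] S') (D : S ⊗[A] A) :
    vv S' (Algebra.TensorProduct.map φ (AlgHom.id A A) D) = φ (vv S D) := by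
  induction D using TensorProduct.induction_on with
  | zero => simp
  | tmul s a =>
    rw [Algebra.TensorProduct.map_tmul]
    simp only [vv, Algebra.TensorProduct.rid_tmul, AlgHom.id_apply, map_smul]
  | add x y hx hy => simp only [map_add, hx, hy]

theorem ee_nat (φ : S →ₐ[A] S') (x : S ⊗[A] (B₁ × B₂)) :
    ee S' (Algebra.TensorProduct.map φ (AlgHom.id A (B₁ × B₂)) x) =
      (Algebra.TensorProduct.map φ (AlgHom.id A B₁) (ee S x).1,
        Algebra.TensorProduct.map φ (AlgHom.id A B₂) (ee S x).2) := by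
  induction x using TensorProduct.induction_on with
  | zero => simp only [map_zero, Prod.fst_zero, Prod.snd_zero]; rfl
  | tmul s b =>
    rw [Algebra.TensorProduct.map_tmul]
    simp only [ee, Algebra.TensorProduct.prodRight_tmul, Algebra.TensorProduct.map_tmul,
      AlgHom.id_apply]
  | add x y hx hy =>
    simp only [map_add, hx, hy, Prod.fst_add, Prod.snd_add, Prod.mk_add_mk]

theorem ee_symm_nat (φ : S →ₐ[A] S') (x₁ : S ⊗[A] B₁) (x₂ : S ⊗[A] B₂) :
    Algebra.TensorProduct.map φ (AlgHom.id A (B₁ × B₂)) ((ee S).symm (x₁, x₂)) =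
      (ee S').symm (Algebra.TensorProduct.map φ (AlgHom.id A B₁) x₁,
        Algebra.TensorProduct.map φ (AlgHom.id A B₂) x₂) := by
  apply (ee S').injective
  rw [ee_nat, AlgEquiv.apply_symm_apply, AlgEquiv.apply_symm_apply]

theorem ee_fst (x : S ⊗[A] (B₁ × B₂)) :
    (ee S x).1 = LinearMap.lTensor S (LinearMap.fst A B₁ B₂) x := by
  induction x using TensorProduct.induction_on with
  | zero => simp
  | tmul s b => rfl
  | add x y hx hy => simp only [map_add, Prod.fst_add, hx, hy]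

theorem ee_snd (x : S ⊗[A] (B₁ × B₂)) :
    (ee S x).2 = LinearMap.lTensor S (LinearMap.snd A B₁ B₂) x := by
  induction x using TensorProduct.induction_on with
  | zero => simp
  | tmul s b => rfl
  | add x y hx hy => simp only [map_add, Prod.snd_add, hx, hy]

theorem map_smul_one {B' : Type u} [CommRing B'] [Algebra A B'] (φ : S →ₐ[A] S') (s : S) :
    Algebra.TensorProduct.map φ (AlgHom.id A B') (s • (1 : S ⊗[A] B')) = φ s • (1 : S' ⊗[A] B') := by
  rw [Algebra.TensorProduct.one_def, TensorProduct.smul_tmul', Algebra.TensorProduct.map_tmul,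
    Algebra.TensorProduct.one_def, TensorProduct.smul_tmul']
  simp

end nat

section ffsec
variable {A : Type u} [CommRing A] {B₁ : Type u} [CommRing B₁] [Algebra A B₁]
  {B₂ : Type u} [CommRing B₂] [Algebra A B₂] {d : ℕ} (F : PolLaw.MulLaw A (B₁ × B₂) A d)

/-- the value of the law in `S` -/
noncomputable def ff (S : Type u) [CommSemiring S] [Algebra A S] (x : S ⊗[A] (B₁ × B₂)) : S :=
  vv S (F.law.toFun' S x)

variable {S S' : Type u} [CommSemiring S] [Algebra A S] [CommSemiring S'] [Algebra A S']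

theorem ff_one : ff F S 1 = 1 := by
  rw [ff, (F.mult S).1, map_one]

theorem ff_mul (x y : S ⊗[A] (B₁ × B₂)) : ff F S (x * y) = ff F S x * ff F S y := by
  rw [ff, (F.mult S).2, map_mul]; rfl

theorem compat'' {B C : Type u} [CommRing B] [Algebra A B] [CommRing C] [Algebra A C]
    (G : B →ₚₗ[A] C) (φ : S →ₐ[A] S') (x : S ⊗[A] B) :
    Algebra.TensorProduct.map φ (AlgHom.id A C) (G.toFun' S x) =
      G.toFun' S' (Algebra.TensorProduct.map φ (AlgHom.id A B) x) := by
  rw [← PolLaw.rTensor_algHom_apply, ← PolLaw.rTensor_algHom_apply]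
  exact PolynomialLaw.isCompat_apply' φ x

theorem ff_nat (φ : S →ₐ[A] S') (x : S ⊗[A] (B₁ × B₂)) :
    φ (ff F S x) = ff F S' (Algebra.TensorProduct.map φ (AlgHom.id A (B₁ × B₂)) x) := by
  rw [ff, ff, ← compat'', vv_nat]

theorem ff_smul_one (s : S) : ff F S (s • (1 : S ⊗[A] (B₁ × B₂))) = s ^ d := by
  rw [ff, F.homog S s 1, (F.mult S).1, map_smul, map_one, smul_eq_mul, mul_one]

theorem toFun'_eq (x : S ⊗[A] (B₁ × B₂)) : F.law.toFun' S x = (ff F S x) ⊗ₜ[A] (1 : A) := by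
  rw [ff]
  apply (vv S).injective
  simp [vv]

end ffsec

section side1
variable {A : Type u} [CommRing A] {B₁ : Type u} [CommRing B₁] [Algebra A B₁]
  {B₂ : Type u} [CommRing B₂] [Algebra A B₂] {d : ℕ} (F : PolLaw.MulLaw A (B₁ × B₂) A d)

/-- the embedding `x₁ ↦ (x₁, 1)` -/
noncomputable def u₁ (S : Type u) [CommSemiring S] [Algebra A S] (x₁ : S ⊗[A] B₁) :
    S ⊗[A] (B₁ × B₂) := (ee S).symm (x₁, 1)

variable {S S' : Type u} [CommSemiring S] [Algebra A S] [CommSemiring S'] [Algebra A S']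

theorem u₁_one : u₁ (A := A) (B₁ := B₁) (B₂ := B₂) S 1 = 1 := by
  rw [u₁]; exact map_one (ee S).symm

theorem u₁_mul (x y : S ⊗[A] B₁) :
    u₁ (B₁ := B₁) (B₂ := B₂) S (x * y) = u₁ S x * u₁ S y := by
  rw [u₁, u₁, u₁, ← map_mul, Prod.mk_mul_mk, one_mul]

theorem u₁_nat (φ : S →ₐ[A] S') (x₁ : S ⊗[A] B₁) :
    Algebra.TensorProduct.map φ (AlgHom.id A (B₁ × B₂)) (u₁ S x₁) =
      u₁ S' (Algebra.TensorProduct.map φ (AlgHom.id A B₁) x₁) := by
  rw [u₁, u₁, ee_symm_nat, map_one]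

/-- the polynomial `F(T, 1)` -/
noncomputable def P₁ : A[X] := ff F A[X] (u₁ A[X] ((X : A[X]) • (1 : A[X] ⊗[A] B₁)))

theorem ff_u₁_smul (s : S) : ff F S (u₁ S (s • (1 : S ⊗[A] B₁))) = aeval s (P₁ F) := by
  have := ff_nat F (aeval s : A[X] →ₐ[A] S) (u₁ A[X] ((X : A[X]) • (1 : A[X] ⊗[A] B₁)))
  rw [u₁_nat, map_smul_one, aeval_X] at this
  exact this.symm

theorem P₁_eq [ConnectedSpace (PrimeSpectrum A)] : ∃ k : ℕ, P₁ F = X ^ k := by
  apply eq_X_pow
  · have := ff_u₁_smul F (S := A) (1 : A)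
    rw [one_smul, u₁_one, ff_one] at this
    rw [← Polynomial.coe_aeval_eq_eval, ← this]
  · rw [← ff_u₁_smul, ← ff_u₁_smul, ← ff_u₁_smul, ← ff_mul, ← u₁_mul, smul_mul_smul_comm, one_mul]

/-- the first factor law -/
noncomputable def law₁ : B₁ →ₚₗ[A] A where
  toFun' S _ _ := fun x₁ => F.law.toFun' S (u₁ S x₁)
  isCompat' φ := by
    funext x
    simp only [Function.comp_apply]
    rw [PolLaw.rTensor_algHom_apply, PolLaw.rTensor_algHom_apply, compat'', u₁_nat]

theorem law₁_mult : PolLaw.IsMult (law₁ F) := by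
  intro S _ _
  refine ⟨?_, fun x y => ?_⟩
  · change F.law.toFun' S (u₁ S 1) = 1
    rw [u₁_one, (F.mult S).1]
  · change F.law.toFun' S (u₁ S (x * y)) = F.law.toFun' S (u₁ S x) * F.law.toFun' S (u₁ S y)
    rw [u₁_mul, (F.mult S).2]

theorem law₁_homog (k : ℕ) (hk : P₁ F = X ^ k) : PolLaw.IsHomog (law₁ F) k := by
  intro S _ _ s x
  change F.law.toFun' S (u₁ S (s • x)) = s ^ k • F.law.toFun' S (u₁ S x)
  have h1 : s • x = (s • (1 : S ⊗[A] B₁)) * x := by rw [smul_mul_assoc, one_mul]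
  rw [h1, u₁_mul, (F.mult S).2, toFun'_eq F (u₁ S (s • 1)), ff_u₁_smul, hk, map_pow, aeval_X]
  rw [Algebra.smul_def]
  rfl

end side1

section side2
variable {A : Type u} [CommRing A] {B₁ : Type u} [CommRing B₁] [Algebra A B₁]
  {B₂ : Type u} [CommRing B₂] [Algebra A B₂] {d : ℕ} (F : PolLaw.MulLaw A (B₁ × B₂) A d)

/-- the embedding `x₂ ↦ (1, x₂)` -/
noncomputable def u₂ (S : Type u) [CommSemiring S] [Algebra A S] (x₂ : S ⊗[A] B₂) :
    S ⊗[A] (B₁ × B₂) := (ee S).symm (1, x₂)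

variable {S S' : Type u} [CommSemiring S] [Algebra A S] [CommSemiring S'] [Algebra A S']

theorem u₂_one : u₂ (A := A) (B₁ := B₁) (B₂ := B₂) S 1 = 1 := by
  rw [u₂]; exact map_one (ee S).symm

theorem u₂_mul (x y : S ⊗[A] B₂) :
    u₂ (B₁ := B₁) (B₂ := B₂) S (x * y) = u₂ S x * u₂ S y := by
  rw [u₂, u₂, u₂, ← map_mul, Prod.mk_mul_mk, one_mul]

theorem u₂_nat (φ : S →ₐ[A] S') (x₂ : S ⊗[A] B₂) :
    Algebra.TensorProduct.map φ (AlgHom.id A (B₁ × B₂)) (u₂ S x₂) =
      u₂ S' (Algebra.TensorProduct.map φ (AlgHom.id A B₂) x₂) := by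
  rw [u₂, u₂, ee_symm_nat, map_one]

/-- the polynomial `F(T, 1)` -/
noncomputable def P₂ : A[X] := ff F A[X] (u₂ A[X] ((X : A[X]) • (1 : A[X] ⊗[A] B₂)))

theorem ff_u₂_smul (s : S) : ff F S (u₂ S (s • (1 : S ⊗[A] B₂))) = aeval s (P₂ F) := by
  have := ff_nat F (aeval s : A[X] →ₐ[A] S) (u₂ A[X] ((X : A[X]) • (1 : A[X] ⊗[A] B₂)))
  rw [u₂_nat, map_smul_one, aeval_X] at this
  exact this.symm

theorem P₂_eq [ConnectedSpace (PrimeSpectrum A)] : ∃ k : ℕ, P₂ F = X ^ k := by
  apply eq_X_pow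
  · have := ff_u₂_smul F (S := A) (1 : A)
    rw [one_smul, u₂_one, ff_one] at this
    rw [← Polynomial.coe_aeval_eq_eval, ← this]
  · rw [← ff_u₂_smul, ← ff_u₂_smul, ← ff_u₂_smul, ← ff_mul, ← u₂_mul, smul_mul_smul_comm, one_mul]

/-- the first factor law -/
noncomputable def law₂ : B₂ →ₚₗ[A] A where
  toFun' S _ _ := fun x₂ => F.law.toFun' S (u₂ S x₂)
  isCompat' φ := by
    funext x
    simp only [Function.comp_apply]
    rw [PolLaw.rTensor_algHom_apply, PolLaw.rTensor_algHom_apply, compat'', u₂_nat]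

theorem law₂_mult : PolLaw.IsMult (law₂ F) := by
  intro S _ _
  refine ⟨?_, fun x y => ?_⟩
  · change F.law.toFun' S (u₂ S 1) = 1
    rw [u₂_one, (F.mult S).1]
  · change F.law.toFun' S (u₂ S (x * y)) = F.law.toFun' S (u₂ S x) * F.law.toFun' S (u₂ S y)
    rw [u₂_mul, (F.mult S).2]

theorem law₂_homog (k : ℕ) (hk : P₂ F = X ^ k) : PolLaw.IsHomog (law₂ F) k := by
  intro S _ _ s x
  change F.law.toFun' S (u₂ S (s • x)) = s ^ k • F.law.toFun' S (u₂ S x)
  have h1 : s • x = (s • (1 : S ⊗[A] B₂)) * x := by rw [smul_mul_assoc, one_mul]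
  rw [h1, u₂_mul, (F.mult S).2, toFun'_eq F (u₂ S (s • 1)), ff_u₂_smul, hk, map_pow, aeval_X]
  rw [Algebra.smul_def]
  rfl

end side2

section final
variable {A : Type u} [CommRing A] {B₁ : Type u} [CommRing B₁] [Algebra A B₁]
  {B₂ : Type u} [CommRing B₂] [Algebra A B₂]

theorem u₁_mul_u₂ {S : Type u} [CommSemiring S] [Algebra A S] (a : S ⊗[A] B₁) (b : S ⊗[A] B₂) :
    u₁ (B₂ := B₂) S a * u₂ (B₁ := B₁) S b = (ee S).symm (a, b) := by
  rw [u₁, u₂, ← map_mul, Prod.mk_mul_mk, mul_one, one_mul]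

theorem X_pow_inj [Nontrivial A] {m n : ℕ} (h : (X : A[X]) ^ m = X ^ n) : m = n := by
  have := congrArg Polynomial.natDegree h
  rwa [Polynomial.natDegree_X_pow, Polynomial.natDegree_X_pow] at this

theorem main [ConnectedSpace (PrimeSpectrum A)] {d : ℕ} (F : PolLaw.MulLaw A (B₁ × B₂) A d) :
    ∃ d₁ d₂ : ℕ, d₁ + d₂ = d ∧
      (∃ (F₁ : PolLaw.MulLaw A B₁ A d₁) (F₂ : PolLaw.MulLaw A B₂ A d₂),
        ∀ (S : Type u) [CommSemiring S] [Algebra A S] (x : S ⊗[A] (B₁ × B₂)),
          F.law.toFun' S x = F₁.law.toFun' S (LinearMap.lTensor S (LinearMap.fst A B₁ B₂) x) *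
            F₂.law.toFun' S (LinearMap.lTensor S (LinearMap.snd A B₁ B₂) x)) ∧
      ∀ (e₁ e₂ : ℕ) (G₁ : PolLaw.MulLaw A B₁ A e₁) (G₂ : PolLaw.MulLaw A B₂ A e₂),
        (∀ (S : Type u) [CommSemiring S] [Algebra A S] (x : S ⊗[A] (B₁ × B₂)),
          F.law.toFun' S x = G₁.law.toFun' S (LinearMap.lTensor S (LinearMap.fst A B₁ B₂) x) *
            G₂.law.toFun' S (LinearMap.lTensor S (LinearMap.snd A B₁ B₂) x)) → e₁ = d₁ ∧ e₂ = d₂ := by
  have hnt : Nontrivial A := by
    by_contra hn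
    rw [not_nontrivial_iff_subsingleton] at hn
    have : IsEmpty (PrimeSpectrum A) := inferInstance
    exact (not_isEmpty_of_nonempty (PrimeSpectrum A)) this
  obtain ⟨d₁, h₁⟩ := P₁_eq F
  obtain ⟨d₂, h₂⟩ := P₂_eq F
  refine ⟨d₁, d₂, ?_, ?_, ?_⟩
  · -- degrees add up
    have h3 : ff F A[X] (u₁ A[X] ((X : A[X]) • 1)) * ff F A[X] (u₂ A[X] ((X : A[X]) • 1)) =
        (X : A[X]) ^ d := by
      rw [← ff_mul, u₁_mul_u₂, ← ff_smul_one F (X : A[X])]
      congr 1
      have : (((X : A[X]) • (1 : A[X] ⊗[A] B₁)), ((X : A[X]) • (1 : A[X] ⊗[A] B₂))) =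
          (X : A[X]) • ((1 : (A[X] ⊗[A] B₁) × (A[X] ⊗[A] B₂))) := rfl
      rw [this, map_smul, map_one]
    rw [ff_u₁_smul, ff_u₂_smul, aeval_X_left_apply, aeval_X_left_apply, h₁, h₂, ← pow_add] at h3
    exact X_pow_inj h3
  · refine ⟨⟨law₁ F, law₁_homog F d₁ h₁, law₁_mult F⟩, ⟨law₂ F, law₂_homog F d₂ h₂, law₂_mult F⟩, ?_⟩
    intro S _ _ x
    change F.law.toFun' S x = F.law.toFun' S (u₁ S _) * F.law.toFun' S (u₂ S _)
    rw [← (F.mult S).2, u₁_mul_u₂, ← ee_fst, ← ee_snd, Prod.mk.eta, AlgEquiv.symm_apply_apply]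
  · intro e₁ e₂ G₁ G₂ hG
    constructor
    · have h4 := hG A[X] (u₁ A[X] ((X : A[X]) • 1))
      rw [← ee_fst, ← ee_snd, u₁, AlgEquiv.apply_symm_apply] at h4
      simp only [] at h4
      rw [G₁.homog A[X] X 1, (G₁.mult A[X]).1, (G₂.mult A[X]).1, mul_one] at h4
      have h5 : P₁ F = X ^ e₁ := by
        rw [P₁, ff, u₁, h4, map_smul, map_one, smul_eq_mul, mul_one]
      rw [h₁] at h5
      exact (X_pow_inj h5).symm
    · have h4 := hG A[X] (u₂ A[X] ((X : A[X]) • 1))
      rw [← ee_fst, ← ee_snd, u₂, AlgEquiv.apply_symm_apply] at h4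
      simp only [] at h4
      rw [G₂.homog A[X] X 1, (G₁.mult A[X]).1, (G₂.mult A[X]).1, one_mul] at h4
      have h5 : P₂ F = X ^ e₂ := by
        rw [P₂, ff, u₂, h4, map_smul, map_one, smul_eq_mul, mul_one]
      rw [h₂] at h5
      exact (X_pow_inj h5).symm

end final

end Groth.Agent.Lib.Helper4.PolLawProd1
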