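import Mathlib
import Groth.Prelude.Def_W4bk4git07Quot
import Groth.Agent.Lib.Helper4.FppfGeomQuot1

/-!
# principal bundle => geometric quotient and free action (S18502) (helper4)
-/

set_option backward.isDefEq.respectTransparency.types false
set_option synthInstance.maxHeartbeats 400000
set_option autoImplicit false
set_option linter.unusedSectionVars false
set_option linter.style.haveILetI false
set_option linter.unusedSimpArgs false
universe u v w
open CategoryTheory CategoryTheory.Limits AlgebraicGeometry TopologicalSpace Opposite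
open MonoidalCategory CartesianMonoidalCategory MonObj GrpObj
open Groth.Agent.Lib.Helper4.FppfGeomQuot1

namespace Groth.Agent.Lib.Helper4.PrincBundle1

theorem qdata_of_principal {X Y R : Scheme.{u}} (q : X ⟶ Y) (s t : R ⟶ X) (w : s ≫ q = t ≫ q)
    [Flat q] [Surjective q] [LocallyOfFinitePresentation q]
    (hiso : IsIso (pullback.lift s t w)) : QData q s t := by
  refine ⟨w, ?_, ?_⟩
  · refine ⟨Sieve.generate (Presieve.singleton q),
      Precoverage.generate_mem_toGrothendieck q.singleton_mem_fppfPrecoverage, ?_⟩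
    rintro T f ⟨Z, h, g, ⟨⟩, rfl⟩
    exact ⟨h, rfl⟩
  · intro T a b hab
    refine ⟨⊤, Scheme.fppfTopology.top_mem T, ?_⟩
    intro T' f _
    refine ⟨f ≫ pullback.lift b a hab.symm ≫ inv (pullback.lift s t w), ?_, ?_⟩
    · have : inv (pullback.lift s t w) ≫ t = pullback.snd q q := by
        rw [IsIso.inv_comp_eq, pullback.lift_snd]
      rw [Category.assoc, Category.assoc, this, pullback.lift_snd]
    · have : inv (pullback.lift s t w) ≫ s = pullback.fst q q := by
        rw [IsIso.inv_comp_eq, pullback.lift_fst]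
      rw [Category.assoc, Category.assoc, this, pullback.lift_fst]

theorem isGeomQuot_of_qdata {S : Scheme.{u}} {G X Y : Over S} [GrpObj G]
    (a : AlgGrp.Action G X) (q : X ⟶ Y) (hinv : GIT.IsInvariant a q)
    (h : QData q.left a.act.left (snd G X).left) : GIT.IsGeomQuot a q :=
  ⟨hinv, h.surjective, h.orbit, h.univSubm, fun U => h.sections U⟩

theorem psi_eq {S : Scheme.{u}} {G X Y : Over S} [GrpObj G]
    (a : AlgGrp.Action G X) (φ : X ⟶ Y) (hinv : GIT.IsInvariant a φ) :
    ∃ (κ : pullback φ.left φ.left ⟶ (X ⊗ X).left),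
      (IsSeparated Y.hom → IsClosedImmersion κ) ∧
      (GIT.psi a (𝟙 X)).left = GIT.PsiY a φ hinv ≫ κ := by
  have hw : φ.left ≫ Y.hom = X.hom := Over.w φ
  let κ0 : pullback φ.left φ.left ⟶ pullback (φ.left ≫ Y.hom) (φ.left ≫ Y.hom) :=
    pullback.map φ.left φ.left (φ.left ≫ Y.hom) (φ.left ≫ Y.hom) (𝟙 _) (𝟙 _) Y.hom
      (Category.id_comp _).symm (Category.id_comp _).symm
  let Φ : pullback (φ.left ≫ Y.hom) (φ.left ≫ Y.hom) ⟶ pullback Y.hom Y.hom :=
    pullback.map (φ.left ≫ Y.hom) (φ.left ≫ Y.hom) Y.hom Y.hom φ.left φ.left (𝟙 _)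
      (Category.comp_id _) (Category.comp_id _)
  have hP : IsPullback (pullback.fst φ.left φ.left ≫ φ.left) κ0 (pullback.diagonal Y.hom) Φ :=
    pullback_map_diagonal_isPullback φ.left φ.left Y.hom
  let c : pullback (φ.left ≫ Y.hom) (φ.left ≫ Y.hom) ≅ pullback X.hom X.hom :=
    pullback.congrHom hw hw
  have hcfst : c.hom ≫ pullback.fst X.hom X.hom = pullback.fst _ _ := by
    rw [pullback.congrHom_hom]
    exact (pullback.lift_fst _ _ _).trans (Category.comp_id _)
  have hcsnd : c.hom ≫ pullback.snd X.hom X.hom = pullback.snd _ _ := by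
    rw [pullback.congrHom_hom]
    exact (pullback.lift_snd _ _ _).trans (Category.comp_id _)
  have hκfst : κ0 ≫ pullback.fst _ _ = pullback.fst φ.left φ.left :=
    (pullback.lift_fst _ _ _).trans (Category.comp_id _)
  have hκsnd : κ0 ≫ pullback.snd _ _ = pullback.snd φ.left φ.left :=
    (pullback.lift_snd _ _ _).trans (Category.comp_id _)
  refine ⟨κ0 ≫ c.hom, ?_, ?_⟩
  · intro hsep
    haveI : IsClosedImmersion (pullback.diagonal Y.hom) := inferInstance
    haveI : IsClosedImmersion κ0 := MorphismProperty.of_isPullback hP inferInstance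
    infer_instance
  · apply pullback.hom_ext
    · have e0 : (κ0 ≫ c.hom) ≫ pullback.fst X.hom X.hom = pullback.fst φ.left φ.left := by
        rw [Category.assoc, hcfst, hκfst]
      rw [Category.assoc, e0]
      have e1 : GIT.PsiY a φ hinv ≫ pullback.fst φ.left φ.left = a.act.left :=
        pullback.lift_fst _ _ _
      rw [e1]
      have e2 : (GIT.psi a (𝟙 X)).left ≫ pullback.fst X.hom X.hom =
          ((G ◁ 𝟙 X) ≫ a.act).left := by
        unfold GIT.psi
        rw [Over.lift_left]
        exact pullback.lift_fst _ _ _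
      rw [e2, MonoidalCategory.whiskerLeft_id, Category.id_comp]
    · have e0 : (κ0 ≫ c.hom) ≫ pullback.snd X.hom X.hom = pullback.snd φ.left φ.left := by
        rw [Category.assoc, hcsnd, hκsnd]
      rw [Category.assoc, e0]
      have e1 : GIT.PsiY a φ hinv ≫ pullback.snd φ.left φ.left = (snd G X).left :=
        pullback.lift_snd _ _ _
      rw [e1]
      unfold GIT.psi
      rw [Over.lift_left]
      exact pullback.lift_snd _ _ _

theorem main_S18502 (k : Type u) [Field k]
    (G X Y : Over (Spec (CommRingCat.of k))) [GrpObj G]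
    [LocallyOfFiniteType X.hom]
    [LocallyOfFiniteType Y.hom] [IsSeparated Y.hom]
    (a : AlgGrp.Action G X) (φ : X ⟶ Y) (hinv : GIT.IsInvariant a φ) [Flat φ.left] [Surjective φ.left]
    (hcart : IsIso (GIT.PsiY a φ hinv)) :
    GIT.IsGeomQuot a φ ∧ IsClosedImmersion (GIT.psi a (𝟙 X)).left := by
  haveI : IsLocallyNoetherian Y.left := LocallyOfFiniteType.isLocallyNoetherian Y.hom
  haveI : LocallyOfFiniteType φ.left := by
    haveI : LocallyOfFiniteType (φ.left ≫ Y.hom) := by rw [Over.w φ]; infer_instance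
    exact locallyOfFiniteType_of_comp φ.left Y.hom
  haveI : LocallyOfFinitePresentation φ.left := inferInstance
  refine ⟨isGeomQuot_of_qdata a φ hinv (qdata_of_principal _ _ _ hinv.left hcart), ?_⟩
  obtain ⟨κ, hκ, he⟩ := psi_eq a φ hinv
  haveI := hκ inferInstance
  rw [he]
  infer_instance

end Groth.Agent.Lib.Helper4.PrincBundle1
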