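import Mathlib

set_option backward.isDefEq.respectTransparency.types false
set_option synthInstance.maxHeartbeats 400000
set_option autoImplicit false
set_option linter.unusedSectionVars false
set_option linter.style.haveILetI false

namespace Groth.Agent.Lib.Helper4.ProperCover

universe u
open CategoryTheory CategoryTheory.Limits AlgebraicGeometry

theorem S2349_main {X Y : Scheme.{u}} (f : X ⟶ Y) [IsSeparated f] [LocallyOfFiniteType f] [QuasiCompact f]
    (ι : Type u) [Finite ι] (Xi Yi : ι → Scheme.{u}) (j : ∀ i, Xi i ⟶ X) (h : ∀ i, Yi i ⟶ Y) (fi : ∀ i, Xi i ⟶ Yi i)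
    [∀ i, IsClosedImmersion (j i)] [∀ i, IsClosedImmersion (h i)] (hcomm : ∀ i, j i ≫ f = fi i ≫ h i)
    (hcov : ∀ x : X, ∃ i, x ∈ Set.range (j i).base) : IsProper f ↔ ∀ i, IsProper (fi i) := by
  constructor
  · intro hf i
    haveI : IsProper (fi i ≫ h i) := by rw [← hcomm]; infer_instance
    exact IsProper.of_comp (fi i) (h i)
  · intro H
    haveI : UniversallyClosed f := by
      rw [universallyClosed_eq]
      intro X' Y' i₁ i₂ f' hsq
      have hpiece : ∀ i, IsClosedMap (pullback.fst i₁ (j i) ≫ f').base := by
        intro i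
        haveI := H i
        haveI : IsProper (j i ≫ f) := by rw [hcomm]; infer_instance
        have hp : IsPullback (pullback.snd i₁ (j i)) (pullback.fst i₁ (j i) ≫ f') (j i ≫ f) i₂ :=
          (IsPullback.of_hasPullback i₁ (j i)).flip.paste_vert hsq.flip
        haveI : UniversallyClosed (pullback.fst i₁ (j i) ≫ f') :=
          MorphismProperty.of_isPullback (P := @UniversallyClosed) hp inferInstance
        exact (pullback.fst i₁ (j i) ≫ f').isClosedMap
      intro Z hZ
      have hZeq : f'.base '' Z = ⋃ i, (pullback.fst i₁ (j i) ≫ f').base ''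
          ((pullback.fst i₁ (j i)).base ⁻¹' Z) := by
        ext t
        simp only [Set.mem_image, Set.mem_iUnion, Set.mem_preimage]
        constructor
        · rintro ⟨z, hz, rfl⟩
          obtain ⟨i, w, hw⟩ := hcov (i₁.base z)
          obtain ⟨p, hp1, hp2⟩ := Scheme.Pullback.exists_preimage_pullback (f := i₁) (g := j i) z w hw.symm
          refine ⟨i, p, by rw [hp1]; exact hz, ?_⟩
          rw [Scheme.Hom.comp_base, TopCat.comp_app, hp1]
        · rintro ⟨i, p, hp, rfl⟩
          exact ⟨_, hp, by rw [Scheme.Hom.comp_base, TopCat.comp_app]⟩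
      rw [hZeq]
      exact isClosed_iUnion_of_finite fun i =>
        hpiece i _ (hZ.preimage (pullback.fst i₁ (j i)).base.hom.continuous)
    exact {}

end Groth.Agent.Lib.Helper4.ProperCover
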