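import Mathlib
import Groth.Prelude.Def_SGA3x
import Groth.Agent.Lib.Helper4.GrpIrr3
import Groth.Agent.Lib.Helper7.GeomConn.GlobSec
import Groth.Agent.Lib.Helper7.GeomConn.SchemeGlue

/-!
# proper group over a field: fibre of affinization through unit = identity component (S14580) (helper4) (helper4)
-/

set_option backward.isDefEq.respectTransparency.types false
set_option synthInstance.maxHeartbeats 400000
set_option autoImplicit false
set_option linter.unusedSectionVars false
set_option linter.style.haveILetI false
set_option linter.unusedSimpArgs false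
universe u v w
open CategoryTheory CategoryTheory.Limits AlgebraicGeometry TopologicalSpace Opposite
open MonoidalCategory CartesianMonoidalCategory MonObj GrpObj
open Groth.Agent.Lib.Helper4.GrpIrr1 Groth.Agent.Lib.Helper4.GrpIrr3

namespace Groth.Agent.Lib.Helper4.ProperGrpAff1

theorem main (k : Type u) [Field k]
    (G : Over (Spec (CommRingCat.of k))) [GrpObj G] [IsProper G.hom] (t : ↥((𝟙_ (Over (Spec (CommRingCat.of k)))).left)) :
    Set.range ⇑(pullback.fst G.left.toSpecΓ (η[G].left ≫ G.left.toSpecΓ)).base = connectedComponent ((η[G]).left.base t) := by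
  haveI : LocallyOfFiniteType G.hom := inferInstance
  obtain ⟨e, he⟩ : ∃ e : G.left, e = η[G].left t := ⟨_, rfl⟩
  obtain ⟨q, hq⟩ : ∃ q : G.left ⟶ Spec Γ(G.left, ⊤), q = G.left.toSpecΓ := ⟨_, rfl⟩
  show Set.range (pullback.fst G.left.toSpecΓ (η[G].left ≫ G.left.toSpecΓ)) =
    connectedComponent (η[G].left t)
  rw [Scheme.Pullback.range_fst, ← he, ← hq]
  have hr : Set.range (η[G].left ≫ q) = {q e} := by
    ext y
    constructor
    · rintro ⟨p, rfl⟩
      have : p = t := Subsingleton.elim (α := PrimeSpectrum k) _ _
      rw [this, Scheme.Hom.comp_apply, ← he]; rfl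
    · rintro rfl
      exact ⟨t, by rw [Scheme.Hom.comp_apply, ← he]⟩
  rw [hr]
  -- discreteness of Spec Γ
  letI alg : Algebra k Γ(G.left, ⊤) := (Groth.Agent.Helper7.GeomConn.toΓ k G.left G.hom).toAlgebra
  haveI hfin : Module.Finite k Γ(G.left, ⊤) :=
    Groth.Agent.Helper7.GeomConn.finite_globalSections k G.left G.hom
  haveI : IsArtinianRing Γ(G.left, ⊤) := IsArtinianRing.of_finite k _
  haveI : DiscreteTopology ↥(Spec Γ(G.left, ⊤)) :=
    inferInstanceAs (DiscreteTopology (PrimeSpectrum Γ(G.left, ⊤)))
  apply Set.Subset.antisymm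
  · -- fibre ⊆ component
    intro x hx
    by_contra hxC
    have hCo : IsOpen (connectedComponent e) := by
      rw [connectedComponent_eq_irreducibleComponent]; exact isOpen_irreducibleComponent G e
    obtain ⟨ε, -, hε⟩ := Groth.Agent.Helper7.GeomConn.exists_idempotent_of_isClopen G.left
      (connectedComponent e) ⟨isClosed_connectedComponent, hCo⟩
    have h1 : ∀ y : G.left, y ∈ connectedComponent e ↔ q y ∈ PrimeSpectrum.basicOpen ε := by
      intro y
      rw [← hε, hq]
      have := congrArg (fun U : G.left.Opens => y ∈ U) (Scheme.toSpecΓ_preimage_basicOpen G.left ε)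
      exact (Iff.of_eq this).symm
    have h2 : q x = q e := hx
    have h3 := (h1 e).mp mem_connectedComponent
    rw [← h2] at h3
    exact hxC ((h1 x).mpr h3)
  · -- component ⊆ fibre
    intro x hx
    have hc : _root_.IsPreconnected (q '' connectedComponent e) :=
      isPreconnected_connectedComponent.image _ q.continuous.continuousOn
    have hsub := hc.subsingleton ⟨x, hx, rfl⟩ ⟨e, mem_connectedComponent, rfl⟩
    exact hsub

end Groth.Agent.Lib.Helper4.ProperGrpAff1
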