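import Mathlib

/-!
# Factorization proper then immersion iff proper at every image point (helper4)
-/

set_option backward.isDefEq.respectTransparency.types false
set_option synthInstance.maxHeartbeats 400000
set_option autoImplicit false
set_option linter.unusedSectionVars false
set_option linter.style.haveILetI false
set_option linter.unusedSimpArgs false
universe u v w
open AlgebraicGeometry CategoryTheory Limits

namespace Groth.Agent.Lib.Helper4.ProperImm1

set_option backward.defeqAttrib.useBackward true in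
/-- lifting to the union of opens over which `f` is proper gives a proper morphism -/
theorem isProper_lift {X Y : Scheme.{u}} (f : X ⟶ Y) {ι : Type*} (U : ι → Y.Opens)
    (H : Set.range f ⊆ (⨆ i, U i : Y.Opens)) (hf : ∀ i, IsProper (f ∣_ U i)) :
    IsProper (IsOpenImmersion.lift (Scheme.Opens.ι (⨆ i, U i)) f (by simpa using H)) := by
  set g : X ⟶ (⨆ i, U i : Y.Opens) :=
    IsOpenImmersion.lift (Scheme.Opens.ι _) f (by simpa using H) with hg
  rw [IsZariskiLocalAtTarget.iff_of_iSup_eq_top (P := @IsProper)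
    (U := fun i : ι ↦ (⨆ i, U i).ι ⁻¹ᵁ U i)]
  · intro i
    have heq : g ⁻¹ᵁ (⨆ i, U i).ι ⁻¹ᵁ U i = f ⁻¹ᵁ U i := by
      change (g ≫ (⨆ i, U i).ι) ⁻¹ᵁ U i = _
      simp [g]
    let e : Arrow.mk (g ∣_ (⨆ i, U i).ι ⁻¹ᵁ U i) ≅ Arrow.mk (f ∣_ U i) :=
        Arrow.isoMk (X.isoOfEq heq) (Scheme.Opens.isoOfLE (le_iSup U i)) <| by
      simp [← CategoryTheory.cancel_mono (U i).ι, g]
    rw [MorphismProperty.arrow_mk_iso_iff @IsProper e]
    exact hf i
  apply (⨆ i, U i).ι.image_injective
  dsimp
  rw [Scheme.Hom.image_iSup, Scheme.Hom.image_top_eq_opensRange, Scheme.Opens.opensRange_ι]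
  simp [Scheme.Hom.image_preimage_eq_opensRange_inf, le_iSup U]

theorem main {X Y : Scheme.{u}} (f : X ⟶ Y) :
    (∃ (Z : Scheme.{u}) (g : X ⟶ Z) (h : Z ⟶ Y), IsProper g ∧ IsImmersion h ∧ g ≫ h = f) ↔
      ∀ x : X, ∃ U : Y.Opens, f.base x ∈ U ∧ IsProper (f ∣_ U) := by
  constructor
  · rintro ⟨Z, g, h, hg, hh, rfl⟩ x
    refine ⟨h.coborderRange, ?_, ?_⟩
    · rw [Scheme.Hom.comp_base, TopCat.coe_comp, Function.comp_apply]
      have : h (g x) = h.coborderRange.ι (h.liftCoborder (g x)) := by
        conv_lhs => rw [← h.liftCoborder_ι]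
        rfl
      rw [this]
      exact (h.liftCoborder (g x)).2
    · have htop : (g ≫ h) ⁻¹ᵁ h.coborderRange = ⊤ := by
        ext y
        simp only [Scheme.Hom.coe_preimage, Set.mem_preimage, TopologicalSpace.Opens.coe_top,
          Set.mem_univ, iff_true]
        have : (g ≫ h) y = h.coborderRange.ι (h.liftCoborder (g y)) := by
          conv_lhs => rw [← h.liftCoborder_ι]
          rfl
        rw [this]
        exact (h.liftCoborder (g y)).2
      have hfac : (g ≫ h) ∣_ h.coborderRange =
          ((g ≫ h) ⁻¹ᵁ h.coborderRange).ι ≫ g ≫ h.liftCoborder := by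
        rw [← cancel_mono h.coborderRange.ι]
        simp only [Category.assoc, Scheme.Hom.liftCoborder_ι, morphismRestrict_ι]
      haveI : IsIso ((g ≫ h) ⁻¹ᵁ h.coborderRange).ι := by
        rw [htop]; exact (Scheme.topIso X).isIso_hom
      rw [hfac]
      infer_instance
  · intro H
    choose U hxU hU using H
    have hr : Set.range f ⊆ (⨆ x, U x : Y.Opens) := by
      rintro _ ⟨x, rfl⟩
      exact TopologicalSpace.Opens.mem_iSup.mpr ⟨x, hxU x⟩
    refine ⟨(⨆ x, U x : Y.Opens), IsOpenImmersion.lift (Scheme.Opens.ι _) f (by simpa using hr),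
      Scheme.Opens.ι _, isProper_lift f U hr hU, inferInstance, IsOpenImmersion.lift_fac _ _ _⟩

end Groth.Agent.Lib.Helper4.ProperImm1
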