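import Mathlib
import Groth.Prelude.Def_CInt

/-!
# A pseudo-morphism is defined at x iff its restriction to Spec O_{X,x} is (S5104) (helper4)
-/

set_option backward.isDefEq.respectTransparency.types false
set_option synthInstance.maxHeartbeats 400000
set_option autoImplicit false
set_option linter.unusedSectionVars false
set_option linter.style.haveILetI false
set_option linter.unusedSimpArgs false
universe u v w
open CategoryTheory CategoryTheory.Limits AlgebraicGeometry TopologicalSpace Opposite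

namespace Groth.Agent.Lib.Helper4.PseudoMorStalk1

theorem ι_mem {X : Scheme.{u}} (W : X.Opens) (z : W.toScheme) : W.ι z ∈ W := by
  have : W.ι z ∈ Set.range W.ι := ⟨z, rfl⟩
  rwa [Scheme.Opens.range_ι] at this

theorem mem_of_factor {X : Scheme.{u}} (W : X.Opens) {T : Scheme.{u}} (g : T ⟶ W.toScheme) (z : T) :
    (g ≫ W.ι) z ∈ W := by
  rw [Scheme.Hom.comp_apply]
  exact ι_mem W _

theorem forward {X Y S : Scheme.{u}} (pX : X ⟶ S) (pY : Y ⟶ S) (U : X.Opens)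
    (h : (U : Scheme.{u}) ⟶ Y) (x : X)
    (V : X.Opens) (v : (V : Scheme.{u}) ⟶ Y) (hxV : x ∈ V) (hv : v ≫ pY = V.ι ≫ pX)
    (hvh : X.homOfLE (inf_le_right : U ⊓ V ≤ V) ≫ v = X.homOfLE (inf_le_left : U ⊓ V ≤ U) ≫ h) :
    ∃ w : Spec (X.presheaf.stalk x) ⟶ Y, w ≫ pY = X.fromSpecStalk x ≫ pX ∧
        pullback.fst (X.fromSpecStalk x) U.ι ≫ w = pullback.snd (X.fromSpecStalk x) U.ι ≫ h := by
  refine ⟨V.fromSpecStalkOfMem x hxV ≫ v, ?_, ?_⟩
  · rw [Category.assoc, hv, ← Category.assoc, Scheme.Opens.fromSpecStalkOfMem_ι]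
  · let q : pullback (X.fromSpecStalk x) U.ι ⟶ X := pullback.fst _ _ ≫ X.fromSpecStalk x
    have hq : q = pullback.snd _ _ ≫ U.ι := pullback.condition
    have hq' : q = (pullback.fst _ _ ≫ V.fromSpecStalkOfMem x hxV) ≫ V.ι := by
      rw [Category.assoc, Scheme.Opens.fromSpecStalkOfMem_ι]
    have hrange : Set.range q ⊆ ((U ⊓ V : X.Opens) : Set X) := by
      rintro _ ⟨z, rfl⟩
      constructor
      · rw [hq]; exact mem_of_factor U _ z
      · rw [hq']; exact mem_of_factor V _ z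
    let l : pullback (X.fromSpecStalk x) U.ι ⟶ (U ⊓ V : X.Opens) :=
      IsOpenImmersion.lift (U ⊓ V).ι q (by rw [Scheme.Opens.range_ι]; exact hrange)
    have hl : l ≫ (U ⊓ V).ι = q := IsOpenImmersion.lift_fac _ _ _
    have h1 : l ≫ X.homOfLE (inf_le_right : U ⊓ V ≤ V) =
        pullback.fst _ _ ≫ V.fromSpecStalkOfMem x hxV := by
      rw [← cancel_mono V.ι, Category.assoc, Scheme.homOfLE_ι, hl, hq']
    have h2 : l ≫ X.homOfLE (inf_le_left : U ⊓ V ≤ U) = pullback.snd _ _ := by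
      rw [← cancel_mono U.ι, Category.assoc, Scheme.homOfLE_ι, hl, hq]
    rw [← Category.assoc, ← h1, Category.assoc, hvh, ← Category.assoc, h2]

theorem exists_good_nhd {X : Scheme.{u}} (x : X) (W : X.Opens) (hxW : x ∈ W)
    (hfin : {Z : Set ↥X | Z ∈ irreducibleComponents ↥X ∧ (Z ∩ (W : Set ↥X)).Nonempty}.Finite) :
    ∃ W' : X.Opens, x ∈ W' ∧ W' ≤ W ∧
      ∀ Z ∈ irreducibleComponents ↥X, (Z ∩ (W' : Set X)).Nonempty → x ∈ Z := by
  classical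
  let F' : Set (Set X) := {Z | (Z ∈ irreducibleComponents ↥X ∧ (Z ∩ (W : Set ↥X)).Nonempty) ∧ x ∉ Z}
  have hF'fin : F'.Finite := hfin.subset (fun Z hZ => hZ.1)
  have hcl : IsClosed (⋃ Z ∈ F', Z) :=
    hF'fin.isClosed_biUnion (fun Z hZ => isClosed_of_mem_irreducibleComponents Z hZ.1.1)
  refine ⟨W ⊓ ⟨(⋃ Z ∈ F', Z)ᶜ, hcl.isOpen_compl⟩, ⟨hxW, ?_⟩, inf_le_left, ?_⟩
  · intro hx
    obtain ⟨Z, hZ, hxZ⟩ := Set.mem_iUnion₂.mp hx
    exact hZ.2 hxZ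
  · rintro Z hZ ⟨y, hyZ, hyW, hyC⟩
    by_contra hxZ
    exact hyC (Set.mem_iUnion₂.mpr ⟨Z, ⟨⟨hZ, ⟨y, hyZ, hyW⟩⟩, hxZ⟩, hyZ⟩)

theorem isGermInjectiveAt_of_good {X : Scheme.{u}} [IsReduced X] (x : X) (W' : X.Opens)
    (hxW' : x ∈ W')
    (hW' : ∀ Z ∈ irreducibleComponents ↥X, (Z ∩ (W' : Set X)).Nonempty → x ∈ Z) :
    X.IsGermInjectiveAt x := by
  obtain ⟨_, ⟨U : X.Opens, hU, rfl⟩, hxU, hUW⟩ :=
    X.isBasis_affineOpens.exists_subset_of_mem_open hxW' W'.isOpen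
  refine ⟨⟨U, hxU, hU, ?_⟩⟩
  rw [injective_iff_map_eq_zero]
  intro s hs
  by_contra hs0
  obtain ⟨N, hxN, iNU, hN⟩ : ∃ (N : X.Opens) (_ : x ∈ N) (i : N ⟶ U),
      X.presheaf.map i.op s = 0 := by
    obtain ⟨N, hxN, i1, i2, e⟩ := TopCat.Presheaf.germ_eq X.presheaf x hxU hxU s 0
      (by rw [hs, map_zero])
    exact ⟨N, hxN, i1, by rw [e, map_zero]⟩
  have hne : X.basicOpen s ≠ ⊥ := fun h => hs0 ((basicOpen_eq_bot_iff s).mp h)
  obtain ⟨y, hy⟩ : ∃ y, y ∈ X.basicOpen s := by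
    by_contra hcon
    apply hne
    ext z
    simp only [Opens.coe_bot, Set.mem_empty_iff_false, iff_false]
    exact fun hz => hcon ⟨z, hz⟩
  have hyU : y ∈ U := X.basicOpen_le s hy
  have hZ := irreducibleComponent_mem_irreducibleComponents y
  have hxZ : x ∈ irreducibleComponent y :=
    hW' _ hZ ⟨y, mem_irreducibleComponent, hUW hyU⟩
  have hirr : IsIrreducible (irreducibleComponent y) := isIrreducible_irreducibleComponent
  obtain ⟨z, hzZ, hzs, hzN⟩ := hirr.isPreirreducible (X.basicOpen s : Set X) (N : Set X)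
    (X.basicOpen s).isOpen N.isOpen ⟨y, mem_irreducibleComponent, hy⟩ ⟨x, hxZ, hxN⟩
  have hmem : z ∈ X.basicOpen (X.presheaf.map iNU.op s) := by
    rw [Scheme.basicOpen_res]
    exact ⟨hzN, hzs⟩
  rw [hN, Scheme.basicOpen_zero] at hmem
  exact hmem

theorem agree_stalk {X Y : Scheme.{u}} (U V : X.Opens) (h : U.toScheme ⟶ Y) (v : V.toScheme ⟶ Y)
    (x : X) (hxV : x ∈ V)
    (hw : pullback.fst (X.fromSpecStalk x) U.ι ≫ (V.fromSpecStalkOfMem x hxV ≫ v) =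
      pullback.snd (X.fromSpecStalk x) U.ι ≫ h)
    (d : (U ⊓ V : X.Opens)) (hd : (d : X) ⤳ x) :
    (U ⊓ V).toScheme.fromSpecStalk d ≫ X.homOfLE (inf_le_right : U ⊓ V ≤ V) ≫ v =
      (U ⊓ V).toScheme.fromSpecStalk d ≫ X.homOfLE (inf_le_left : U ⊓ V ≤ U) ≫ h := by
  have hdU : (d : X) ∈ U := d.2.1
  have hdV : (d : X) ∈ V := d.2.2
  let σ : Spec ((U ⊓ V).toScheme.presheaf.stalk d) ⟶ Spec (X.presheaf.stalk (d : X)) :=
    Spec.map ((U ⊓ V).ι.stalkMap d)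
  have hσ : σ ≫ X.fromSpecStalk (d : X) = (U ⊓ V).toScheme.fromSpecStalk d ≫ (U ⊓ V).ι :=
    Scheme.SpecMap_stalkMap_fromSpecStalk (U ⊓ V).ι (x := d)
  have hA : (U ⊓ V).toScheme.fromSpecStalk d ≫ X.homOfLE (inf_le_right : U ⊓ V ≤ V) =
      σ ≫ V.fromSpecStalkOfMem (d : X) hdV := by
    rw [← cancel_mono V.ι, Category.assoc, Category.assoc, Scheme.homOfLE_ι,
      Scheme.Opens.fromSpecStalkOfMem_ι, hσ]
  have hB : (U ⊓ V).toScheme.fromSpecStalk d ≫ X.homOfLE (inf_le_left : U ⊓ V ≤ U) =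
      σ ≫ U.fromSpecStalkOfMem (d : X) hdU := by
    rw [← cancel_mono U.ι, Category.assoc, Category.assoc, Scheme.homOfLE_ι,
      Scheme.Opens.fromSpecStalkOfMem_ι, hσ]
  have hC : V.fromSpecStalkOfMem (d : X) hdV =
      Spec.map (X.presheaf.stalkSpecializes hd) ≫ V.fromSpecStalkOfMem x hxV := by
    rw [← cancel_mono V.ι, Category.assoc, Scheme.Opens.fromSpecStalkOfMem_ι,
      Scheme.Opens.fromSpecStalkOfMem_ι, Scheme.SpecMap_stalkSpecializes_fromSpecStalk]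
  let l : Spec (X.presheaf.stalk (d : X)) ⟶ pullback (X.fromSpecStalk x) U.ι :=
    pullback.lift (Spec.map (X.presheaf.stalkSpecializes hd)) (U.fromSpecStalkOfMem (d : X) hdU)
      (by rw [Scheme.SpecMap_stalkSpecializes_fromSpecStalk, Scheme.Opens.fromSpecStalkOfMem_ι])
  have hD : Spec.map (X.presheaf.stalkSpecializes hd) ≫ (V.fromSpecStalkOfMem x hxV ≫ v) =
      U.fromSpecStalkOfMem (d : X) hdU ≫ h := by
    have h1 : l ≫ pullback.fst _ _ = Spec.map (X.presheaf.stalkSpecializes hd) :=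
      pullback.lift_fst _ _ _
    have h2 : l ≫ pullback.snd _ _ = U.fromSpecStalkOfMem (d : X) hdU := pullback.lift_snd _ _ _
    rw [← h1, Category.assoc, hw, ← Category.assoc, h2]
  rw [← Category.assoc, hA, ← Category.assoc, hB, Category.assoc, Category.assoc, hC,
    Category.assoc, hD]

theorem dense_gen {X : Scheme.{u}} (x : X) (O : X.Opens)
    (hO : ∀ Z ∈ irreducibleComponents ↥X, (Z ∩ (O : Set X)).Nonempty → x ∈ Z) :
    Dense {d : O.toScheme | (O.ι d) ⤳ x} := by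
  rw [dense_iff_inter_open]
  rintro G hG ⟨y, hy⟩
  have hZ : irreducibleComponent (O.ι y) ∈ irreducibleComponents X :=
    irreducibleComponent_mem_irreducibleComponents _
  have hxZ : x ∈ irreducibleComponent (O.ι y) :=
    hO _ hZ ⟨O.ι y, mem_irreducibleComponent, ι_mem O y⟩
  obtain ⟨ζ, hζ⟩ := QuasiSober.sober (isIrreducible_irreducibleComponent (x := O.ι y))
    isClosed_irreducibleComponent
  have hζy : ζ ⤳ O.ι y := hζ.specializes mem_irreducibleComponent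
  have hζx : ζ ⤳ x := hζ.specializes hxZ
  have hGX : IsOpen (O.ι '' G) := O.ι.isOpenEmbedding.isOpenMap G hG
  obtain ⟨d, hdG, hdζ⟩ := hζy.mem_open hGX ⟨y, hy, rfl⟩
  exact ⟨d, hdG, by show O.ι d ⤳ x; rw [hdζ]; exact hζx⟩

theorem exists_specializes_of_mem_closure {α : Type*} [TopologicalSpace α] [QuasiSober α]
    (D O : Set α) [NoetherianSpace D] (hO : IsOpen O) (hDO : D ⊆ O) (hD : closure D ∩ O ⊆ D)
    (x : α) (hx : x ∈ closure D) : ∃ d ∈ D, d ⤳ x := by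
  obtain ⟨S, hSfin, -, hSirr, hStop⟩ :=
    NoetherianSpace.exists_finite_set_isClosed_irreducible (isClosed_univ (X := D))
  have hsub : D ⊆ ⋃ t ∈ S, closure (Subtype.val '' t : Set α) := by
    intro d hd
    have hmem : (⟨d, hd⟩ : D) ∈ ⋃₀ S := hStop ▸ Set.mem_univ _
    obtain ⟨t, htS, hdt⟩ := hmem
    exact Set.mem_iUnion₂.mpr ⟨t, htS, subset_closure ⟨⟨d, hd⟩, hdt, rfl⟩⟩
  have hclosed : IsClosed (⋃ t ∈ S, closure (Subtype.val '' t : Set α)) :=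
    hSfin.isClosed_biUnion (fun t _ => isClosed_closure)
  obtain ⟨t, htS, hxt⟩ := Set.mem_iUnion₂.mp (closure_minimal hsub hclosed hx)
  have hirr : IsIrreducible (closure (Subtype.val '' t : Set α)) :=
    ((hSirr t htS).image _ continuous_subtype_val.continuousOn).closure
  obtain ⟨ζ, hζ⟩ := QuasiSober.sober hirr isClosed_closure
  obtain ⟨e, het⟩ := (hSirr t htS).nonempty
  have hζO : ζ ∈ O :=
    (hζ.mem_open_set_iff hO).mpr ⟨e.1, subset_closure ⟨e, het, rfl⟩, hDO e.2⟩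
  have hζD : ζ ∈ D := hD ⟨closure_mono (by rintro _ ⟨y, -, rfl⟩; exact y.2) hζ.mem, hζO⟩
  exact ⟨ζ, hζD, hζ.specializes hxt⟩

theorem backward_noeth {X Y : Scheme.{u}} [IsLocallyNoetherian X]
    (O V : X.Opens) (hV : IsAffineOpen V) (hOV : O ≤ V) (a b : O.toScheme ⟶ Y) (x : X)
    (hxV : x ∈ V)
    (hgen : ∀ d : O.toScheme, (O.ι d) ⤳ x →
      O.toScheme.fromSpecStalk d ≫ a = O.toScheme.fromSpecStalk d ≫ b) :
    ∃ V' : X.Opens, x ∈ V' ∧ V' ≤ V ∧ ∀ (O' : X.Opens) (hO' : O' ≤ O), O' ≤ V' →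
      X.homOfLE hO' ≫ a = X.homOfLE hO' ≫ b := by
  classical
  let Good : Set O.toScheme := {d | ∃ N : O.toScheme.Opens, d ∈ N ∧ N.ι ≫ a = N.ι ≫ b}
  have hGoodOpen : IsOpen Good := by
    rw [isOpen_iff_forall_mem_open]
    rintro d ⟨N, hdN, hN⟩
    exact ⟨N, fun e he => ⟨N, he, hN⟩, N.isOpen, hdN⟩
  let D : Set X := O.ι '' Goodᶜ
  have hDO : D ⊆ (O : Set X) := by
    rintro _ ⟨d, -, rfl⟩
    exact ι_mem O d
  have hDcl : closure D ∩ (O : Set X) ⊆ D := by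
    rintro y ⟨hyD, hyO⟩
    obtain ⟨y', rfl⟩ : y ∈ Set.range O.ι := by rw [Scheme.Opens.range_ι]; exact hyO
    by_contra hnot
    have hy'Good : y' ∈ Good := by
      by_contra hng
      exact hnot ⟨y', hng, rfl⟩
    have hopen : IsOpen (O.ι '' Good) := O.ι.isOpenEmbedding.isOpenMap _ hGoodOpen
    obtain ⟨z, ⟨g, hg, hgz⟩, ⟨g', hg', hg'z⟩⟩ :=
      mem_closure_iff.mp hyD _ hopen ⟨y', hy'Good, rfl⟩
    have hgg : g' = g := O.ι.isOpenEmbedding.injective (hg'z.trans hgz.symm)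
    exact hg' (hgg ▸ hg)
  haveI : IsNoetherianRing Γ(X, V) := IsLocallyNoetherian.component_noetherian ⟨V, hV⟩
  haveI : NoetherianSpace (V : Set X) := noetherianSpace_of_isAffineOpen V hV
  haveI : NoetherianSpace D :=
    NoetherianSpace.of_subset (W := (V : Set X)) (fun y hy => hOV (hDO hy))
  have hxD : x ∉ closure D := by
    intro hx
    obtain ⟨d, hdD, hdx⟩ :=
      exists_specializes_of_mem_closure D (O : Set X) O.isOpen hDO hDcl x hx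
    obtain ⟨d', hd'ng, rfl⟩ := hdD
    obtain ⟨N, hdN, hN⟩ := spread_out_unique_of_isGermInjective' a b (hgen d' hdx)
    exact hd'ng ⟨N, hdN, hN⟩
  refine ⟨V ⊓ ⟨(closure D)ᶜ, isClosed_closure.isOpen_compl⟩, ⟨hxV, hxD⟩, inf_le_left, ?_⟩
  intro O' hO' hO'V'
  refine Scheme.hom_ext_of_forall _ _ fun z => ?_
  have hzGood : X.homOfLE hO' z ∈ Good := by
    by_contra hng
    have h1 : O.ι (X.homOfLE hO' z) ∈ D := ⟨_, hng, rfl⟩
    have h2 : O.ι (X.homOfLE hO' z) = O'.ι z := by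
      rw [← Scheme.Hom.comp_apply, Scheme.homOfLE_ι]
    have h3 := hO'V' (ι_mem O' z)
    exact h3.2 (subset_closure (h2 ▸ h1))
  obtain ⟨N, hzN, hN⟩ := hzGood
  refine ⟨X.homOfLE hO' ⁻¹ᵁ N, hzN, ?_⟩
  rw [← Category.assoc, ← Category.assoc, ← morphismRestrict_ι, Category.assoc, Category.assoc, hN]

theorem backward_reduced {X Y S : Scheme.{u}} (pY : Y ⟶ S) [IsSeparated pY] [IsReduced X]
    (O : X.Opens) (a b : O.toScheme ⟶ Y) (x : X)
    (hgood : ∀ Z ∈ irreducibleComponents ↥X, (Z ∩ (O : Set X)).Nonempty → x ∈ Z)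
    (hS : a ≫ pY = b ≫ pY)
    (hgen : ∀ d : O.toScheme, (O.ι d) ⤳ x →
      O.toScheme.fromSpecStalk d ≫ a = O.toScheme.fromSpecStalk d ≫ b) : a = b := by
  refine ext_of_fromSpecResidueField_eq a b pY {d : O.toScheme | (O.ι d) ⤳ x}
    (dense_gen x O hgood) ?_ hS
  intro d hd
  have := hgen d hd
  unfold Scheme.fromSpecResidueField
  rw [Category.assoc, Category.assoc, this]

theorem backward_core {X Y S : Scheme.{u}} (pX : X ⟶ S) (pY : Y ⟶ S) (U V₀ V : X.Opens)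
    (h : (U : Scheme.{u}) ⟶ Y) (hh : h ≫ pY = U.ι ≫ pX) (x : X) (hxV₀ : x ∈ V₀) (hxV : x ∈ V)
    (hVV₀ : V ≤ V₀) (v₀ : V₀.toScheme ⟶ Y) (hv₀ : v₀ ≫ pY = V₀.ι ≫ pX)
    (hw2 : pullback.fst (X.fromSpecStalk x) U.ι ≫ (V₀.fromSpecStalkOfMem x hxV₀ ≫ v₀) =
      pullback.snd (X.fromSpecStalk x) U.ι ≫ h) :
    (X.homOfLE hVV₀ ≫ v₀) ≫ pY = V.ι ≫ pX ∧
    ((X.homOfLE (inf_le_right : U ⊓ V ≤ V) ≫ X.homOfLE hVV₀ ≫ v₀) ≫ pY =
      (X.homOfLE (inf_le_left : U ⊓ V ≤ U) ≫ h) ≫ pY) ∧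
    ∀ d : (U ⊓ V : X.Opens), ((U ⊓ V).ι d) ⤳ x →
      (U ⊓ V).toScheme.fromSpecStalk d ≫ X.homOfLE (inf_le_right : U ⊓ V ≤ V) ≫
          X.homOfLE hVV₀ ≫ v₀ =
        (U ⊓ V).toScheme.fromSpecStalk d ≫ X.homOfLE (inf_le_left : U ⊓ V ≤ U) ≫ h := by
  have hv : (X.homOfLE hVV₀ ≫ v₀) ≫ pY = V.ι ≫ pX := by
    rw [Category.assoc, hv₀, ← Category.assoc, Scheme.homOfLE_ι]
  have hfs : V.fromSpecStalkOfMem x hxV ≫ X.homOfLE hVV₀ = V₀.fromSpecStalkOfMem x hxV₀ := by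
    rw [← cancel_mono V₀.ι, Category.assoc, Scheme.homOfLE_ι, Scheme.Opens.fromSpecStalkOfMem_ι,
      Scheme.Opens.fromSpecStalkOfMem_ι]
  refine ⟨hv, ?_, ?_⟩
  · rw [Category.assoc, hv, ← Category.assoc, Scheme.homOfLE_ι, Category.assoc, hh,
      ← Category.assoc, Scheme.homOfLE_ι]
  · intro d hd
    refine agree_stalk U V h (X.homOfLE hVV₀ ≫ v₀) x hxV ?_ d hd
    rw [← Category.assoc (V.fromSpecStalkOfMem x hxV), hfs]
    exact hw2

theorem main {X Y S : Scheme.{u}} (pX : X ⟶ S) (pY : Y ⟶ S)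
    [IsSeparated pY] [LocallyOfFinitePresentation pY]
    (hX : IsLocallyNoetherian X ∨ (IsReduced X ∧ ∀ x : ↥X, ∃ W : X.Opens, x ∈ W ∧
      {Z : Set ↥X | Z ∈ irreducibleComponents ↥X ∧ (Z ∩ (W : Set ↥X)).Nonempty}.Finite))
    (U : X.Opens) (h : (U : Scheme.{u}) ⟶ Y) (hh : h ≫ pY = U.ι ≫ pX)
    (x : ↥X) :
    (∃ (V : X.Opens) (v : (V : Scheme.{u}) ⟶ Y), x ∈ V ∧ v ≫ pY = V.ι ≫ pX ∧
        X.homOfLE (inf_le_right : U ⊓ V ≤ V) ≫ v = X.homOfLE (inf_le_left : U ⊓ V ≤ U) ≫ h) ↔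
      ∃ w : Spec (X.presheaf.stalk x) ⟶ Y, w ≫ pY = X.fromSpecStalk x ≫ pX ∧
        pullback.fst (X.fromSpecStalk x) U.ι ≫ w = pullback.snd (X.fromSpecStalk x) U.ι ≫ h := by
  constructor
  · rintro ⟨V, v, hxV, hv, hvh⟩
    exact forward pX pY U h x V v hxV hv hvh
  · rintro ⟨w, hw1, hw2⟩
    rcases hX with hN | ⟨hred, hfin⟩
    · haveI := hN
      obtain ⟨V₀, hxV₀, v₀, hwv, hv₀⟩ := spread_out_of_isGermInjective' pX pY w hw1
      obtain ⟨_, ⟨V : X.Opens, hV, rfl⟩, hxV, hVV₀⟩ :=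
        X.isBasis_affineOpens.exists_subset_of_mem_open hxV₀ V₀.isOpen
      rw [hwv] at hw2
      obtain ⟨hv, -, hgen⟩ := backward_core pX pY U V₀ V h hh x hxV₀ hxV hVV₀ v₀ hv₀ hw2
      obtain ⟨V', hxV', hV'V, H⟩ := backward_noeth (U ⊓ V) V hV inf_le_right
        (X.homOfLE (inf_le_right : U ⊓ V ≤ V) ≫ X.homOfLE hVV₀ ≫ v₀)
        (X.homOfLE (inf_le_left : U ⊓ V ≤ U) ≫ h) x hxV hgen
      refine ⟨V', X.homOfLE hV'V ≫ X.homOfLE hVV₀ ≫ v₀, hxV', ?_, ?_⟩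
      · rw [Category.assoc, hv, ← Category.assoc, Scheme.homOfLE_ι]
      · have := H (U ⊓ V') (inf_le_inf_left U hV'V) inf_le_right
        simpa only [Scheme.homOfLE_homOfLE_assoc] using this
    · haveI := hred
      obtain ⟨W, hxW, hWfin⟩ := hfin x
      obtain ⟨W', hxW', -, hgood⟩ := exists_good_nhd x W hxW hWfin
      haveI : X.IsGermInjectiveAt x := isGermInjectiveAt_of_good x W' hxW' hgood
      obtain ⟨V₀, hxV₀, v₀, hwv, hv₀⟩ := spread_out_of_isGermInjective' pX pY w hw1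
      rw [hwv] at hw2
      obtain ⟨hv, hS, hgen⟩ := backward_core pX pY U V₀ (V₀ ⊓ W') h hh x hxV₀ ⟨hxV₀, hxW'⟩
        inf_le_left v₀ hv₀ hw2
      refine ⟨V₀ ⊓ W', X.homOfLE inf_le_left ≫ v₀, ⟨hxV₀, hxW'⟩, hv, ?_⟩
      refine backward_reduced pY (U ⊓ (V₀ ⊓ W')) _ _ x ?_ hS hgen
      rintro Z hZ ⟨y, hyZ, hyO⟩
      exact hgood Z hZ ⟨y, hyZ, hyO.2.2⟩

end Groth.Agent.Lib.Helper4.PseudoMorStalk1
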