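import Mathlib
import Groth.Prelude.Def_ModSite2
import Groth.Agent.Lib.Helper4.TensorPerm
import Groth.Agent.Lib.Helper4.QSLocal2

/-!
# Pullback of locally generated modules on topological spaces (helper4)
-/

set_option backward.isDefEq.respectTransparency.types false
set_option synthInstance.maxHeartbeats 400000
set_option autoImplicit false
set_option linter.unusedSectionVars false
set_option linter.style.haveILetI false
set_option linter.unusedSimpArgs false
universe u v w
open CategoryTheory CategoryTheory.Limits Opposite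

namespace Groth.Agent.Lib.Helper4.PullGenTop
open TopologicalSpace
open Groth.Agent.Lib.Helper4.PureTensor Groth.Agent.Lib.Helper4.EqCrit
  Groth.Agent.Lib.Helper4.OverMapPres Groth.Agent.Lib.Helper4.FinGen
  Groth.Agent.Lib.Helper4.TensorPerm Groth.Agent.Lib.Helper4.QSLocal2

variable {X Y : TopCat.{u}} (f : X ⟶ Y) (O_X : TopCat.Sheaf CommRingCat.{u} X)
    (O_Y : TopCat.Sheaf CommRingCat.{u} Y)
    (c : O_Y ⟶ ((TopologicalSpace.Opens.map f).sheafPushforwardContinuous CommRingCat.{u}
      (Opens.grothendieckTopology Y) (Opens.grothendieckTopology X)).obj O_X)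

/-- the morphism of ringed sites -/
noncomputable abbrev φ : ModSite.RMor O_X O_Y := ModSite.RMor.ofFlat (TopologicalSpace.Opens.map f) c

/-- explicit `j_*` -/
noncomputable abbrev σ {Z : TopCat.{u}} (O : TopCat.Sheaf CommRingCat.{u} Z) (V : Opens Z) :
    ModSite.Mod (O.over V) ⥤ ModSite.Mod O :=
  SheafOfModules.pushforward.{u} (SheafOfModules.pushforwardOver (R := ModSite.ringSh O) V)

noncomputable def adjσ {Z : TopCat.{u}} (O : TopCat.Sheaf CommRingCat.{u} Z) (V : Opens Z) :
    ModSite.restr O V ⊣ σ O V :=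
  SheafOfModules.overPushforwardOverAdj (R := ModSite.ringSh O) V

example (G : ModSite.Mod O_Y) (W : Opens Y) :
    ModSite.sect ((φ f O_X O_Y c).push.obj ((φ f O_X O_Y c).pull.obj G)) W =
    ModSite.sect ((φ f O_X O_Y c).pull.obj G) ((Opens.map f).obj W) := rfl

section key
variable (G : ModSite.Mod O_Y) (W : Opens Y)

/-- the pulled back sections -/
noncomputable def pullSec {I : Type u} (s : I → ModSite.sect G W) :
    I → ModSite.sect ((φ f O_X O_Y c).pull.obj G) ((Opens.map f).obj W) :=
  fun i => ev ((φ f O_X O_Y c).adj.unit.app G) W (s i)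

lemma secHom_zero {Z : TopCat.{u}} {O : TopCat.Sheaf CommRingCat.{u} Z} (V : Opens Z)
    (M : ModSite.Mod O) : secHom V M (0 : ModSite.sect M V) = 0 := by
  have h := eq_secHom M (0 : ModSite.unit (O.over V) ⟶ (ModSite.restr O V).obj M)
  rw [h]
  rfl

/-- unit of `adjσ` is mono at pushforwards of `σ`'s -/
lemma mono_unit (N' : ModSite.Mod (O_X.over ((Opens.map f).obj W))) :
    Mono ((adjσ O_Y W).unit.app
      ((φ f O_X O_Y c).push.obj ((σ O_X ((Opens.map f).obj W)).obj N'))) := by
  apply mono_of_injective_sections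
  intro A a ha
  have ha' : ((φ f O_X O_Y c).push.obj ((σ O_X ((Opens.map f).obj W)).obj N')).val.map
      ((Over.forgetAdjStar W).counit.app A).op a = 0 := ha
  -- in terms of N'
  have ha'' : N'.val.map ((Over.star ((Opens.map f).obj W)).map
      ((Opens.map f).map ((Over.forgetAdjStar W).counit.app A))).op a = 0 := ha'
  set m := (Over.star ((Opens.map f).obj W)).map
      ((Opens.map f).map ((Over.forgetAdjStar W).counit.app A)) with hm
  have hle : ((Opens.map f).obj W ⨯ (Opens.map f).obj A : Opens X) ≤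
      (Opens.map f).obj ((Over.star W ⋙ Over.forget W).obj A) := by
    intro x hx
    have h1 : x ∈ (Opens.map f).obj A := leOfHom (prod.snd : (Opens.map f).obj W ⨯ (Opens.map f).obj A ⟶ _) hx
    have h2 : x ∈ (Opens.map f).obj W := leOfHom (prod.fst : (Opens.map f).obj W ⨯ (Opens.map f).obj A ⟶ _) hx
    have h3 : (W ⊓ A : Opens Y) ≤ (W ⨯ A : Opens Y) :=
      leOfHom (prod.lift (homOfLE inf_le_left) (homOfLE inf_le_right))
    exact h3 ⟨h2, h1⟩
  let m' : (Over.star ((Opens.map f).obj W)).obj ((Opens.map f).obj A) ⟶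
      (Over.star ((Opens.map f).obj W)).obj
        ((Opens.map f).obj ((Over.star W ⋙ Over.forget W).obj A)) :=
    Over.homMk (prod.lift prod.fst (homOfLE hle)) (by apply Subsingleton.elim)
  have hmm : m' ≫ m = 𝟙 _ := by
    apply Over.OverMorphism.ext
    apply Subsingleton.elim
  have h4 : N'.val.map m'.op (N'.val.map m.op a) = a := by
    rw [← PresheafOfModules.map_comp_apply, ← op_comp, hmm, op_id]
    exact congrArg (fun k => k.hom a) (PresheafOfModules.map_id N'.val _)
  rw [← h4, ha'']
  exact (N'.val.map m'.op).hom.map_zero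

theorem genBy_pull {I : Type u} (s : I → ModSite.sect G W) (hs : GenBy G W s) :
    GenBy ((φ f O_X O_Y c).pull.obj G) ((Opens.map f).obj W) (pullSec f O_X O_Y c G W s) := by
  unfold GenBy at hs ⊢
  haveI := hs
  apply Preadditive.epi_of_cancel_zero
  intro N' h hh
  -- transposes
  let h1 : (φ f O_X O_Y c).pull.obj G ⟶ (σ O_X ((Opens.map f).obj W)).obj N' := (adjσ O_X ((Opens.map f).obj W)).homEquiv _ _ h
  let h2 : G ⟶ (φ f O_X O_Y c).push.obj ((σ O_X ((Opens.map f).obj W)).obj N') :=
    (φ f O_X O_Y c).adj.homEquiv _ _ h1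
  -- sections of h2 at the generators vanish
  have key : ∀ j, ev h2 W (s j) = 0 := by
    intro j
    have e1 : secHom ((Opens.map f).obj W) ((φ f O_X O_Y c).pull.obj G) (pullSec f O_X O_Y c G W s j) ≫ h = 0 := by
      rw [← ιFree_genHom, Category.assoc, hh, comp_zero]
    let Yv : Over ((Opens.map f).obj W) := (Over.star ((Opens.map f).obj W)).obj ((Opens.map f).obj W)
    have e2 := congrArg (fun m => ev m Yv (one Yv)) e1
    simp only [ev_comp] at e2
    rw [ev_secHom] at e2
    have e3 : h2 = (φ f O_X O_Y c).adj.unit.app G ≫ (φ f O_X O_Y c).push.map h1 :=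
      Adjunction.homEquiv_unit _ _ _ _
    have e4 : h1 = (adjσ O_X ((Opens.map f).obj W)).unit.app _ ≫ (σ O_X ((Opens.map f).obj W)).map h :=
      Adjunction.homEquiv_unit _ _ _ _
    have e5 : ev h2 W (s j) = ev h1 ((Opens.map f).obj W) (pullSec f O_X O_Y c G W s j) := by
      rw [e3]; rfl
    have e6 : ev h1 ((Opens.map f).obj W) (pullSec f O_X O_Y c G W s j) =
        ev h Yv (((φ f O_X O_Y c).pull.obj G).val.map
          ((Over.forgetAdjStar ((Opens.map f).obj W)).counit.app ((Opens.map f).obj W)).op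
          (pullSec f O_X O_Y c G W s j)) := by
      rw [e4]; rfl
    rw [e5, e6]
    have e7 : (Over.forgetAdjStar ((Opens.map f).obj W)).counit.app ((Opens.map f).obj W) = Yv.hom :=
      Subsingleton.elim _ _
    rw [e7]
    exact e2
  -- hence `h2` restricted to `W` vanishes
  have r0 : (ModSite.restr O_Y W).map h2 = 0 := by
    rw [← cancel_epi (genHom G W s), comp_zero, genHom_comp]
    apply free_hom_ext
    intro j
    rw [ιFree_genHom, key j, comp_zero]
    exact secHom_zero W _
  -- hence `h2 = 0`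
  have r1 : h2 = 0 := by
    haveI := mono_unit f O_X O_Y c W N'
    rw [← cancel_mono ((adjσ O_Y W).unit.app
      ((φ f O_X O_Y c).push.obj ((σ O_X ((Opens.map f).obj W)).obj N'))), zero_comp]
    have := (adjσ O_Y W).unit.naturality h2
    dsimp only [Functor.id_map, Functor.comp_map] at this
    rw [this, r0, Functor.map_zero, comp_zero]
  have r2 : h1 = 0 := by
    apply ((φ f O_X O_Y c).adj.homEquiv _ _).injective
    refine Eq.trans r1 ?_
    rw [Adjunction.homEquiv_unit, Functor.map_zero, comp_zero]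
  apply ((adjσ O_X ((Opens.map f).obj W)).homEquiv _ _).injective
  refine Eq.trans r2 ?_
  rw [Adjunction.homEquiv_unit, Functor.map_zero, comp_zero]

end key
theorem main (G : ModSite.Mod O_Y)
    (hG : Nonempty (SheafOfModules.LocalGeneratorsData.{u} (R := ModSite.ringSh O_Y) G)) :
    Nonempty (SheafOfModules.LocalGeneratorsData.{u} (R := ModSite.ringSh O_X)
      ((ModSite.RMor.ofFlat (TopologicalSpace.Opens.map f) c).pull.obj G)) := by
  rw [nonempty_localGeneratorsData_iff] at hG ⊢
  intro V'
  -- the sieve of opens over which the pullback is generated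
  let R' : Sieve V' :=
    { arrows := fun W' _ => GenOn ((φ f O_X O_Y c).pull.obj G) W'
      downward_closed := fun {A B} g hg k => GenOn.restrict hg k }
  refine ⟨R', ?_, fun W' g hg => hg⟩
  intro x hx
  obtain ⟨R, hR, hRG⟩ := hG ⊤
  obtain ⟨W, g, hg, hxW⟩ := hR (f x) trivial
  obtain ⟨I, s, hs⟩ := hRG g hg
  have h1 : GenOn ((φ f O_X O_Y c).pull.obj G) ((Opens.map f).obj W) :=
    ⟨I, _, genBy_pull f O_X O_Y c G W s hs⟩
  refine ⟨V' ⊓ (Opens.map f).obj W, homOfLE inf_le_left, ?_, ⟨hx, hxW⟩⟩
  exact GenOn.restrict h1 (homOfLE inf_le_right)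

end Groth.Agent.Lib.Helper4.PullGenTop
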