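import Mathlib
import Groth.Prelude.Def_ModSite2
import Groth.Agent.Lib.Helper4.PullTensorIso
import Groth.Agent.Lib.Helper4.PullUnit
import Groth.Agent.Lib.Helper5.LTen.Invertible

/-!
# the inverse image of an invertible module is invertible (helper4) (helper4)
-/

set_option backward.isDefEq.respectTransparency.types false
set_option synthInstance.maxHeartbeats 400000
set_option autoImplicit false
set_option linter.unusedSectionVars false
set_option linter.style.haveILetI false
set_option linter.unusedSimpArgs false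
universe u v w
open CategoryTheory CategoryTheory.Limits Opposite

namespace Groth.Agent.Lib.Helper4.PullInvertible
open Groth.Agent.Lib.Helper4.PullTensorDelta Groth.Agent.Lib.Helper4.PullTensorIso
  Groth.Agent.Lib.Helper5.InvMod

section
variable {C : Type u} [SmallCategory C] {J : GrothendieckTopology C} (O : Sheaf J CommRingCat.{u})

/-- a module with a tensor inverse is invertible -/
theorem isEquivalence_of_tensor_inverse (L N : ModSite.Mod O)
    (ε : ((ModSite.tensorBi O).obj L).obj N ≅ ModSite.unit O) :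
    ((ModSite.tensorBi O).obj L).IsEquivalence := by
  let e2 : (ModSite.tensorBi O).obj N ⋙ (ModSite.tensorBi O).obj L ≅ 𝟭 _ :=
    (assocR O L N).symm ≪≫ (ModSite.tensorBi O).mapIso ε ≪≫ lunit O
  let e1 : (ModSite.tensorBi O).obj L ⋙ (ModSite.tensorBi O).obj N ≅ 𝟭 _ :=
    (assocR O N L).symm ≪≫ (ModSite.tensorBi O).mapIso (symmObj O N L ≪≫ ε) ≪≫ lunit O
  exact (CategoryTheory.Equivalence.mk ((ModSite.tensorBi O).obj L) ((ModSite.tensorBi O).obj N) e1.symm e2).isEquivalence_functor

end

variable {C D : Type u} [SmallCategory C] [SmallCategory D] {J : GrothendieckTopology C}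
  {K : GrothendieckTopology D} {O_C : Sheaf J CommRingCat.{u}} {O_D : Sheaf K CommRingCat.{u}}
  (f : ModSite.RMor O_C O_D)

theorem isEquivalence_tensor_pull (L : ModSite.Mod O_D)
    (hL : ((ModSite.tensorBi O_D).obj L).IsEquivalence) :
    ((ModSite.tensorBi O_C).obj (f.pull.obj L)).IsEquivalence := by
  let N : ModSite.Mod O_D := ((ModSite.tensorBi O_D).obj L).objPreimage (ModSite.unit O_D)
  let ε : ((ModSite.tensorBi O_D).obj L).obj N ≅ ModSite.unit O_D :=
    ((ModSite.tensorBi O_D).obj L).objObjPreimageIso (ModSite.unit O_D)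
  haveI := isIso_δ f L N
  exact isEquivalence_of_tensor_inverse O_C (f.pull.obj L) (f.pull.obj N)
    ((asIso (δ f L N)).symm ≪≫ f.pull.mapIso ε ≪≫ Groth.Agent.Lib.Helper4.PullUnit.pullUnitIso f)

theorem main {X Y : TopCat.{u}} (f : X ⟶ Y) (O_X : TopCat.Sheaf CommRingCat.{u} X)
    (O_Y : TopCat.Sheaf CommRingCat.{u} Y)
    (c : O_Y ⟶ ((TopologicalSpace.Opens.map f).sheafPushforwardContinuous CommRingCat.{u}
      (Opens.grothendieckTopology Y) (Opens.grothendieckTopology X)).obj O_X)
    (L : ModSite.Mod O_Y) (hL : ((ModSite.tensorBi O_Y).obj L).IsEquivalence) :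
    ((ModSite.tensorBi O_X).obj ((ModSite.RMor.ofFlat (TopologicalSpace.Opens.map f) c).pull.obj L)).IsEquivalence :=
  isEquivalence_tensor_pull _ L hL

end Groth.Agent.Lib.Helper4.PullInvertible
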