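import Mathlib
import Groth.Prelude.Def_ModSite2
import Groth.Prelude.Def_KFlatSite
import Groth.Prelude.Def_SiteCmp
import Groth.Agent.Lib.Helper4.PullSES
import Groth.Agent.Lib.Helper5.KFlatSite2.Cell
import Groth.Agent.Lib.Helper5.KFlatSite2.Cycles
import Groth.Agent.Lib.Helper5.TorAmp.FlatAcyc
import Groth.Agent.S9057

/-!
# the inverse image of a K-flat complex with flat terms is K-flat with flat terms (ringed sites) (helper4)
-/

set_option backward.isDefEq.respectTransparency.types false
set_option synthInstance.maxHeartbeats 400000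
set_option autoImplicit false
set_option linter.unusedSectionVars false
set_option linter.style.haveILetI false
set_option linter.unusedSimpArgs false
universe u v w
open CategoryTheory CategoryTheory.Limits Opposite
attribute [local instance] HasDerivedCategory.standard

namespace Groth.Agent.Lib.Helper4.PullKFlat
open Groth.Agent.Lib.Helper5.KFlatSiteQ Groth.Agent.Lib.Helper5.Misc.KFlatSite

section ZC
variable {A : Type*} [Category A] [Abelian A]

/-- a graded object as a complex with zero differential -/
noncomputable def zcx (X : ℤ → A) : CochainComplex A ℤ where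
  X n := X n
  d _ _ := 0
  shape _ _ _ := rfl
  d_comp_d' _ _ _ _ _ := zero_comp

lemma zcx_d (X : ℤ → A) (i j : ℤ) : (zcx X).d i j = 0 := rfl

variable (E : CochainComplex A ℤ)

/-- the inclusion of the cycles -/
noncomputable def zι : zcx (fun n => E.cycles n) ⟶ E where
  f n := E.iCycles n
  comm' i j _ := by
    show E.iCycles i ≫ E.d i j = 0 ≫ E.iCycles j
    rw [zero_comp, HomologicalComplex.iCycles_d]

/-- the projection to the cycles of the next degree -/
noncomputable def zπ : E ⟶ zcx (fun n => E.cycles (n + 1)) where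
  f n := E.toCycles n (n + 1)
  comm' i j _ := by
    show E.toCycles i (i + 1) ≫ 0 = E.d i j ≫ E.toCycles j (j + 1)
    rw [comp_zero, HomologicalComplex.d_toCycles]

lemma zι_zπ : zι E ≫ zπ E = 0 := by
  ext n
  show E.iCycles n ≫ E.toCycles n (n + 1) = 0
  rw [← cancel_mono (E.iCycles (n + 1)), Category.assoc, HomologicalComplex.toCycles_i,
    HomologicalComplex.iCycles_d, zero_comp]

/-- the degreewise short complexes -/
noncomputable def zS (n : ℤ) : ShortComplex A :=
  ShortComplex.mk (E.iCycles n) (E.toCycles n (n + 1)) (by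
    rw [← cancel_mono (E.iCycles (n + 1)), Category.assoc, HomologicalComplex.toCycles_i,
      HomologicalComplex.iCycles_d, zero_comp])

lemma zS_shortExact (hac : ∀ i, IsZero (E.homology i)) (n : ℤ) : (zS E n).ShortExact := by
  have hex : E.ExactAt (n + 1) := (HomologicalComplex.exactAt_iff_isZero_homology _ _).2 (hac (n + 1))
  haveI hepi : Epi (E.toCycles n (n + 1)) := by
    have h1 := (E.exactAt_iff' n (n + 1) (n + 1 + 1) (by simp) (by simp)).1 hex
    rw [ShortComplex.exact_iff_epi_toCycles] at h1
    have h2 : E.toCycles n (n + 1) ≫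
        (E.cyclesIsoSc' n (n + 1) (n + 1 + 1) (by simp) (by simp)).hom =
          (E.sc' n (n + 1) (n + 1 + 1)).toCycles :=
      E.toCycles_cyclesIsoSc'_hom n (n + 1) (n + 1 + 1) (by simp) (by simp)
    have h3 : Epi (E.toCycles n (n + 1) ≫
        (E.cyclesIsoSc' n (n + 1) (n + 1 + 1) (by simp) (by simp)).hom) := by
      rw [h2]; exact h1
    exact (epi_comp_iff_of_isIso _ _).1 h3
  have hk : IsLimit (KernelFork.ofι (E.iCycles n) (zS E n).zero) :=
    isKernelOfComp (E.iCycles (n + 1)) (E.d n (n + 1)) (E.cyclesIsKernel n (n + 1) (by simp))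
      (zS E n).zero (E.toCycles_i n (n + 1))
  exact { exact := ShortComplex.exact_of_f_is_kernel _ hk
          mono_f := inferInstanceAs (Mono (E.iCycles n))
          epi_g := hepi }

end ZC

section Pull
variable {C D : Type u} [SmallCategory C] [SmallCategory D] {J : GrothendieckTopology C}
  {K : GrothendieckTopology D} {O_C : Sheaf J CommRingCat.{u}} {O_D : Sheaf K CommRingCat.{u}}
  (f : ModSite.RMor O_C O_D)

/-- the inverse image of complexes -/
noncomputable abbrev Fc : CochainComplex (ModSite.Mod O_D) ℤ ⥤ CochainComplex (ModSite.Mod O_C) ℤ :=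
  f.pull.mapHomologicalComplex (ComplexShape.up ℤ)

instance : f.pull.IsLeftAdjoint := ⟨_, ⟨f.adj⟩⟩

instance preservesColimitsOfShape_Fc : PreservesColimitsOfShape ℕ (Fc f) := by
  apply HomologicalComplex.preservesColimitsOfShape_of_eval
  intro n
  have e : Fc f ⋙ HomologicalComplex.eval _ _ n ≅ HomologicalComplex.eval _ _ n ⋙ f.pull :=
    NatIso.ofComponents (fun _ => Iso.refl _)
      (by intros; exact (Category.comp_id _).trans (Category.id_comp _).symm)
  exact preservesColimitsOfShape_of_natIso e.symm

include K in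
/-- the inverse image of a cellular complex is cellular -/
theorem cell_pull {L : CochainComplex (ModSite.Mod O_D) ℤ} (h : Cell O_D L) :
    Cell O_C ((Fc f).obj L) := by
  induction h with
  | zero G hd hfl =>
    refine Cell.zero _ (fun i j => ?_) (fun n => Groth.Agent.Lib.Helper4.PullFlat.main f _ (hfl n))
    show f.pull.map (G.d i j) = 0
    rw [hd i j, Functor.map_zero]
  | cone φ _ _ ih1 ih2 =>
    exact Cell.iso (CochainComplex.mappingCone.mapHomologicalComplexIso φ f.pull).symm
      (Cell.cone ((Fc f).map φ) ih1 ih2)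
  | colim D _ ih =>
    exact Cell.iso (preservesColimitIso (Fc f) D).symm (Cell.colim (D ⋙ Fc f) ih)
  | iso e _ ih => exact Cell.iso ((Fc f).mapIso e) ih

end Pull

section Acyc
variable {C D : Type u} [SmallCategory C] [SmallCategory D] {J : GrothendieckTopology C}
  {K : GrothendieckTopology D} {O_C : Sheaf J CommRingCat.{u}} {O_D : Sheaf K CommRingCat.{u}}
  (f : ModSite.RMor O_C O_D)

include K in
/-- the inverse image of an acyclic K-flat complex with flat terms is K-flat -/
theorem isKFlat_pull_acyclic (E : CochainComplex (ModSite.Mod O_D) ℤ) (hK : ModSite.IsKFlat E)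
    (hac : ∀ i, IsZero (E.homology i)) (hfl : ∀ i, ModSite.IsFlat (E.X i)) :
    ModSite.IsKFlat ((Fc f).obj E) := by
  have hZ : ∀ n, ModSite.IsFlat (E.cycles n) := isFlat_cycles O_D hK hac hfl
  let S : ShortComplex (CochainComplex (ModSite.Mod O_C) ℤ) :=
    ShortComplex.mk ((Fc f).map (zι E)) ((Fc f).map (zπ E))
      (by rw [← Functor.map_comp, zι_zπ, Functor.map_zero])
  have hS : S.ShortExact := by
    apply HomologicalComplex.shortExact_of_degreewise_shortExact
    intro n
    exact Groth.Agent.Lib.Helper4.PullSES.main f (zS E n) (zS_shortExact E hac n) (hZ (n + 1))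
  have h3 : ∀ n, ModSite.IsFlat (S.X₃.X n) :=
    fun n => Groth.Agent.Lib.Helper4.PullFlat.main f _ (hZ (n + 1))
  have k1 : ModSite.IsKFlat S.X₁ := by
    refine isKFlat_of_d_eq_zero O_C _ (fun i j => ?_)
      (fun n => Groth.Agent.Lib.Helper4.PullFlat.main f _ (hZ n))
    show f.pull.map (0 : E.cycles i ⟶ E.cycles j) = 0
    exact Functor.map_zero _ _ _
  have k3 : ModSite.IsKFlat S.X₃ := by
    refine isKFlat_of_d_eq_zero O_C _ (fun i j => ?_) h3
    show f.pull.map (0 : E.cycles (i + 1) ⟶ E.cycles (j + 1)) = 0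
    exact Functor.map_zero _ _ _
  exact (Groth.Agent.S9057.result O_C S hS h3).2.1 k1 k3

end Acyc

section Main
variable {C D : Type u} [SmallCategory C] [SmallCategory D] {J : GrothendieckTopology C}
  {K : GrothendieckTopology D} {O_C : Sheaf J CommRingCat.{u}} {O_D : Sheaf K CommRingCat.{u}}
  (f : ModSite.RMor O_C O_D)

include K in
theorem main (L : CochainComplex (ModSite.Mod O_D) ℤ)
    (hL : ModSite.IsKFlat L) (hfl : ∀ n : ℤ, ModSite.IsFlat (L.X n)) :
    ModSite.IsKFlat ((f.pull.mapHomologicalComplex (ComplexShape.up ℤ)).obj L) ∧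
      ∀ n : ℤ, ModSite.IsFlat (((f.pull.mapHomologicalComplex (ComplexShape.up ℤ)).obj L).X n) := by
  refine ⟨?_, fun n => Groth.Agent.Lib.Helper4.PullFlat.main f _ (hfl n)⟩
  obtain ⟨P, q, hP, hq⟩ := exists_cell_resolution O_D L
  have hPk := Cell.isKFlat O_D hP
  have hEk : ModSite.IsKFlat (CochainComplex.mappingCone q) :=
    (isKFlat_cone_two_of_three (O := O_D) q).1 hPk.1 hL
  have hEf : ∀ n, ModSite.IsFlat ((CochainComplex.mappingCone q).X n) :=
    isFlat_cone_X O_D q hPk.2 hfl
  have hEa : ∀ i, IsZero ((CochainComplex.mappingCone q).homology i) := by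
    have h := (Groth.Agent.Helper5.FlatAcyc.quasiIso_iff_acyclic_cone q).1 hq
    intro i
    exact (HomologicalComplex.exactAt_iff_isZero_homology _ _).1 (h i)
  have h1 : ModSite.IsKFlat ((Fc f).obj (CochainComplex.mappingCone q)) :=
    isKFlat_pull_acyclic (K := K) f _ hEk hEa hEf
  have h2 : ModSite.IsKFlat (CochainComplex.mappingCone ((Fc f).map q)) :=
    isKFlat_of_iso O_C (CochainComplex.mappingCone.mapHomologicalComplexIso q f.pull) h1
  have h3 : ModSite.IsKFlat ((Fc f).obj P) := (Cell.isKFlat O_C (cell_pull (K := K) f hP)).1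
  exact (isKFlat_cone_two_of_three (O := O_C) ((Fc f).map q)).2.1 h3 h2

end Main

end Groth.Agent.Lib.Helper4.PullKFlat
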