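import Mathlib
import Groth.Prelude.Def_ModSite2

/-!
# Comparison of the fibre at the point of the site of a topological space with the topological stalk; fibre of a pullback on germs (helper4)
-/

set_option backward.isDefEq.respectTransparency.types false
set_option synthInstance.maxHeartbeats 400000
set_option autoImplicit false
set_option linter.unusedSectionVars false
set_option linter.style.haveILetI false
set_option linter.unusedSimpArgs false
universe u v w
open CategoryTheory CategoryTheory.Limits Opposite

namespace Groth.Agent.Lib.Helper4.StalkCmp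
open TopologicalSpace

section Cmp
variable {X : TopCat.{u}} (x : X) {A : Type (u+1)} [Category.{u} A] [HasColimitsOfSize.{u, u} A]
  (P : (Opens X)ᵒᵖ ⥤ A)

/-- the point of the site -/
abbrev pt : GrothendieckTopology.Point.{u} (Opens.grothendieckTopology X) :=
  Opens.pointGrothendieckTopology x

/-- comparison from the fibre at the point of the site to the topological stalk -/
noncomputable def cmpHom : (pt x).presheafFiber.obj P ⟶ TopCat.Presheaf.stalk P x :=
  (pt x).presheafFiberDesc (fun U y => TopCat.Presheaf.germ P U x y.down.down)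
    (by
      intro U V g y
      exact TopCat.Presheaf.germ_res P g x _)

@[reassoc]
lemma toPresheafFiber_cmpHom (U : Opens X) (y : (pt x).fiber.obj U) :
    (pt x).toPresheafFiber U y P ≫ cmpHom x P = TopCat.Presheaf.germ P U x y.down.down :=
  (pt x).toPresheafFiber_presheafFiberDesc _ _ U y

/-- the inverse comparison -/
noncomputable def cmpInv : TopCat.Presheaf.stalk P x ⟶ (pt x).presheafFiber.obj P :=
  colimit.desc ((OpenNhds.inclusion x).op ⋙ P)
    { pt := _
      ι :=
        { app := fun U => (pt x).toPresheafFiber U.unop.1 ⟨⟨U.unop.2⟩⟩ P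
          naturality := by
            intro U V g
            dsimp
            rw [Category.comp_id]
            exact (pt x).toPresheafFiber_w ((OpenNhds.inclusion x).map g.unop) ⟨⟨V.unop.2⟩⟩ P } }

@[reassoc]
lemma germ_cmpInv (U : Opens X) (hx : x ∈ U) :
    TopCat.Presheaf.germ P U x hx ≫ cmpInv x P = (pt x).toPresheafFiber U ⟨⟨hx⟩⟩ P :=
  colimit.ι_desc _ (op (⟨U, hx⟩ : OpenNhds x))

/-- the comparison iso -/
noncomputable def cmpIso : (pt x).presheafFiber.obj P ≅ TopCat.Presheaf.stalk P x where
  hom := cmpHom x P
  inv := cmpInv x P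
  hom_inv_id := by
    apply (pt x).presheafFiber_hom_ext
    intro U y
    rw [toPresheafFiber_cmpHom_assoc, germ_cmpInv, Category.comp_id]
    rfl
  inv_hom_id := by
    apply TopCat.Presheaf.stalk_hom_ext
    intro U hx
    rw [germ_cmpInv_assoc, toPresheafFiber_cmpHom, Category.comp_id]

end Cmp
section Comap
variable {X Y : TopCat.{u}} (f : X ⟶ Y) (x : X)

instance : InitiallySmall.{u} (Opens.map f ⋙ (pt x).fiber).Elements :=
  initiallySmall_of_essentiallySmall _

lemma comap_pt : (pt x).comap (Opens.map f) (coverPreserving_opens_map f) = pt (f x) := rfl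

end Comap
section Theta
open GrothendieckTopology
variable {C D : Type u} [SmallCategory C] [SmallCategory D]
  {K : GrothendieckTopology D}
  (Φ : Point.{u} K) (F : C ⥤ D) [RepresentablyFlat F] {J : GrothendieckTopology C}
  (hF : CoverPreserving J K F)
  [InitiallySmall.{u} (F ⋙ Φ.fiber).Elements]
  (A : Type (u+1)) [Category.{u} A] [HasProducts.{u} A]
  [Functor.IsContinuous F J K]
  [(F.sheafPushforwardContinuous A J K).IsRightAdjoint]
  [HasColimitsOfSize.{u, u} A]

lemma toPresheafFiber_counit (M : A) (V : D) (y : Φ.fiber.obj V) :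
    Φ.toPresheafFiber V y (Φ.skyscraperSheafFunctor.obj M).obj ≫
      Φ.skyscraperSheafAdjunction.counit.app M = Pi.π _ y := by
  have h1 : Φ.skyscraperSheafAdjunction.counit.app M =
      (Φ.skyscraperSheafAdjunction.homEquiv _ _).symm (𝟙 (Φ.skyscraperSheafFunctor.obj M)) := by
    rw [Adjunction.homEquiv_counit, CategoryTheory.Functor.map_id, Category.id_comp]
  rw [h1]
  have h2 := Point.skyscraperSheafAdjunction_homEquiv_symm_apply Φ
    (F := Φ.skyscraperSheafFunctor.obj M) (M := M) (𝟙 _)
  erw [h2, Point.toPresheafFiber_skyscraperPresheafHomEquiv_symm]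
  exact Category.id_comp _

lemma unit_app_π (H : Sheaf K A) (V : D) (y : Φ.fiber.obj V) :
    (Φ.skyscraperSheafAdjunction.unit.app H).hom.app (op V) ≫ Pi.π _ y =
      Φ.toPresheafFiber V y H.obj := by
  have h1 : Φ.skyscraperSheafAdjunction.unit.app H =
      Φ.skyscraperSheafAdjunction.homEquiv _ _ (𝟙 (Φ.sheafFiber.obj H)) := by
    rw [Adjunction.homEquiv_unit, CategoryTheory.Functor.map_id]
    exact (Category.comp_id _).symm
  rw [h1]
  have h2 := Point.skyscraperSheafAdjunction_homEquiv_apply_hom Φ (F := H) (M := Φ.sheafFiber.obj H)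
    (𝟙 (Φ.presheafFiber.obj H.obj))
  erw [h2, Point.skyscraperPresheafHomEquiv_app_π]
  exact Category.comp_id _

lemma toPresheafFiber_theta (G : Sheaf J A) (V : C) (y : Φ.fiber.obj (F.obj V)) :
    (Φ.comap F hF).toPresheafFiber V y G.obj ≫ (Φ.sheafFiberComapIso F hF A).hom.app G =
      ((F.sheafAdjunctionContinuous A J K).unit.app G).hom.app (op V) ≫
        Φ.toPresheafFiber (F.obj V) y ((F.sheafPullback A J K).obj G).obj := by
  rw [Point.sheafFiberComapIso_hom_app]
  have n1 := (Φ.comap F hF).toPresheafFiber_naturality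
    ((F.sheafAdjunctionContinuous A J K).unit.app G).hom V y
  have n2 := (Φ.comap F hF).toPresheafFiber_naturality
    ((F.sheafPushforwardContinuous A J K).map
      (Φ.skyscraperSheafAdjunction.unit.app ((F.sheafPullback A J K).obj G))).hom V y
  have n3 := (Φ.comap F hF).toPresheafFiber_naturality
    ((Φ.skyscraperSheafFunctorCompSheafPushforwardContinuous F hF A).hom.app
      (Φ.sheafFiber.obj ((F.sheafPullback A J K).obj G))).hom V y
  have n4 := toPresheafFiber_counit (Φ.comap F hF) A (Φ.sheafFiber.obj ((F.sheafPullback A J K).obj G)) V y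
  have n5 := unit_app_π Φ A ((F.sheafPullback A J K).obj G) (F.obj V) y
  erw [reassoc_of% n1, reassoc_of% n2, reassoc_of% n3, n4]
  rw [← n5]
  congr 1
  erw [Category.id_comp]
  rfl

end Theta
end Groth.Agent.Lib.Helper4.StalkCmp
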