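import Mathlib
import Groth.Prelude.Def_ModSite2
import Groth.Agent.Lib.Helper5.Stalk.Adj
import Groth.Agent.Lib.Helper5.Misc.StalkFlat

/-!
# Stalks of pullbacks of modules on ringed spaces; flat stalk maps give exact pullback (helper4)
-/

set_option backward.isDefEq.respectTransparency.types false
set_option synthInstance.maxHeartbeats 400000
set_option autoImplicit false
set_option linter.unusedSectionVars false
set_option linter.style.haveILetI false
set_option linter.unusedSimpArgs false
universe u v w
open CategoryTheory CategoryTheory.Limits Opposite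

namespace Groth.Agent.Lib.Helper4.StalkPullTop
open TopologicalSpace ZeroObject
open Groth.Agent.Lib.Helper5.Misc.StalkTensor Groth.Agent.Lib.Helper5.Sky
  Groth.Agent.Lib.Helper5.StalkAdj Groth.Agent.Lib.Helper5.Misc.StalkFlat

section One
variable {X : TopCat.{u}} (O : TopCat.Sheaf CommRingCat.{u} X) (x : X)

/-- forget to presheaves of modules -/
noncomputable abbrev fgtO : ModSite.Mod O ⥤ PMod (ringPre O) := SheafOfModules.forget (ModSite.ringSh O)

/-- the stalk functor on `O`-modules -/
noncomputable def stalkO : ModSite.Mod O ⥤ ModuleCat.{u} ((ringPre O).stalk x) :=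
  fgtO O ⋙ stalkFun (ringPre O) x

/-- the skyscraper functor -/
noncomputable def skyO : ModuleCat.{u} ((ringPre O).stalk x) ⥤ ModSite.Mod O where
  obj N := skySh O x N
  map f := skyShMap O x f.hom
  map_id N := rfl
  map_comp f g := rfl

/-- stalk ⊣ skyscraper -/
noncomputable def adjO : stalkO O x ⊣ skyO O x :=
  (adj (ringPre O) x).restrictFullyFaithful (iC := fgtO O) (iD := 𝟭 _)
    (SheafOfModules.fullyFaithfulForget (ModSite.ringSh O)) (Functor.FullyFaithful.id _)
    (Functor.rightUnitor _).symm
    (Functor.leftUnitor _ ≪≫ NatIso.ofComponents (fun N => Iso.refl _) (fun f => by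
      simp only [Iso.refl_hom, Category.comp_id, Category.id_comp]
      rfl))

end One
section Two
variable {X Y : TopCat.{u}} (f : X ⟶ Y) (O_X : TopCat.Sheaf CommRingCat.{u} X)
    (O_Y : TopCat.Sheaf CommRingCat.{u} Y)
    (c : O_Y ⟶ ((TopologicalSpace.Opens.map f).sheafPushforwardContinuous CommRingCat.{u}
      (Opens.grothendieckTopology Y) (Opens.grothendieckTopology X)).obj O_X)

/-- the morphism of ringed sites -/
noncomputable abbrev φ : ModSite.RMor O_X O_Y := ModSite.RMor.ofFlat (TopologicalSpace.Opens.map f) c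

variable (x : X)

/-- the map on stalks -/
noncomputable def sm : (ringPre O_Y).stalk (f x) ⟶ (ringPre O_X).stalk x :=
  (TopCat.Presheaf.stalkFunctor CommRingCat.{u} (f x)).map
    (show O_Y.presheaf ⟶ (TopCat.Presheaf.pushforward CommRingCat.{u} f).obj O_X.presheaf from c.hom) ≫
  TopCat.Presheaf.stalkPushforward CommRingCat.{u} f O_X.presheaf x

lemma sm_gr (V : Opens Y) (hx : f x ∈ V) (r : (ringPre O_Y).obj (op V)) :
    (sm f O_X O_Y c x).hom (gr (R := ringPre O_Y) (f x) V hx r) =
      gr (R := ringPre O_X) x ((Opens.map f).obj V) hx ((c.hom.app (op V)).hom r) := by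
  have h1 := TopCat.Presheaf.stalkFunctor_map_germ V (f x) hx
    (show O_Y.presheaf ⟶ (TopCat.Presheaf.pushforward CommRingCat.{u} f).obj O_X.presheaf from c.hom)
  have h2 := TopCat.Presheaf.stalkPushforward_germ CommRingCat.{u} f O_X.presheaf V x hx
  have h3 : (ringPre O_Y).germ V (f x) hx ≫ sm f O_X O_Y c x =
      c.hom.app (op V) ≫ (ringPre O_X).germ ((Opens.map f).obj V) x hx := by
    unfold sm
    refine (Category.assoc _ _ _).symm.trans ?_
    refine (congrArg (fun k => k ≫ TopCat.Presheaf.stalkPushforward CommRingCat.{u} f O_X.presheaf x) h1).trans ?_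
    refine (Category.assoc _ _ _).trans ?_
    exact congrArg (fun k => c.hom.app (op V) ≫ k) h2
  exact congrArg (fun k => k.hom r) h3

/-- the module `N` over `O_{X,x}` regarded over `O_{Y,f(x)}` -/
noncomputable abbrev resN (N : ModuleCat.{u} ((ringPre O_X).stalk x)) :
    ModuleCat.{u} ((ringPre O_Y).stalk (f x)) :=
  (ModuleCat.restrictScalars (sm f O_X O_Y c x).hom).obj N

/-- pushforward of a skyscraper: the comparison map -/
noncomputable def pushSkyHom (N : ModuleCat.{u} ((ringPre O_X).stalk x)) :
    (φ f O_X O_Y c).push.obj ((skyO O_X x).obj N) ⟶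
      (skyO O_Y (f x)).obj (resN f O_X O_Y c x N) :=
  (⟨PresheafOfModules.homMk
      { app := fun V => AddCommGrpCat.ofHom
          { toFun := fun (ψ : SkyT x N ((Opens.map f).obj V.unop)) =>
              (fun h => ψ ⟨h.down⟩ : SkyT (f x) (resN f O_X O_Y c x N) V.unop)
            map_zero' := rfl
            map_add' := fun _ _ => rfl }
        naturality := fun U V i => rfl }
      (by
        intro V r ψ
        funext h
        show (gr (R := ringPre O_X) x ((Opens.map f).obj V.unop) h.down ((c.hom.app V).hom r)) •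
            ((ψ : SkyT x N ((Opens.map f).obj V.unop)) ⟨h.down⟩ : N) =
          ((sm f O_X O_Y c x).hom (gr (R := ringPre O_Y) (f x) V.unop h.down r)) •
            ((ψ : SkyT x N ((Opens.map f).obj V.unop)) ⟨h.down⟩ : N)
        congr 1
        exact (sm_gr f O_X O_Y c x V.unop h.down r).symm)⟩ : SheafOfModules.Hom _ _)

/-- pushforward of a skyscraper: the inverse comparison map -/
noncomputable def pushSkyInv (N : ModuleCat.{u} ((ringPre O_X).stalk x)) :
    (skyO O_Y (f x)).obj (resN f O_X O_Y c x N) ⟶
      (φ f O_X O_Y c).push.obj ((skyO O_X x).obj N) :=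
  (⟨PresheafOfModules.homMk
      { app := fun V => AddCommGrpCat.ofHom
          { toFun := fun (ψ : SkyT (f x) (resN f O_X O_Y c x N) V.unop) =>
              (fun h => ψ ⟨h.down⟩ : SkyT x N ((Opens.map f).obj V.unop))
            map_zero' := rfl
            map_add' := fun _ _ => rfl }
        naturality := fun U V i => rfl }
      (by
        intro V r ψ
        funext h
        show ((sm f O_X O_Y c x).hom (gr (R := ringPre O_Y) (f x) V.unop h.down r)) •
            ((ψ : SkyT (f x) (resN f O_X O_Y c x N) V.unop) ⟨h.down⟩ : N) =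
          (gr (R := ringPre O_X) x ((Opens.map f).obj V.unop) h.down ((c.hom.app V).hom r)) •
            ((ψ : SkyT (f x) (resN f O_X O_Y c x N) V.unop) ⟨h.down⟩ : N)
        congr 1
        exact (sm_gr f O_X O_Y c x V.unop h.down r))⟩ : SheafOfModules.Hom _ _)

/-- pushforward of a skyscraper is a skyscraper -/
noncomputable def pushSkyIso :
    skyO O_X x ⋙ (φ f O_X O_Y c).push ≅
      ModuleCat.restrictScalars (sm f O_X O_Y c x).hom ⋙ skyO O_Y (f x) :=
  NatIso.ofComponents
    (fun N => { hom := pushSkyHom f O_X O_Y c x N, inv := pushSkyInv f O_X O_Y c x N, hom_inv_id := rfl, inv_hom_id := rfl })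
    (fun g => rfl)

/-- the adjunction `(f^* -)_x ⊣ f_* sky_x` -/
noncomputable def adjPull :
    (φ f O_X O_Y c).pull ⋙ stalkO O_X x ⊣ skyO O_X x ⋙ (φ f O_X O_Y c).push :=
  (φ f O_X O_Y c).adj.comp (adjO O_X x)

/-- the adjunction `(-)_{f(x)} ⊗ O_{X,x} ⊣ sky_{f(x)} ∘ restriction` -/
noncomputable def adjExt :
    stalkO O_Y (f x) ⋙ ModuleCat.extendScalars.{u, u, u} (sm f O_X O_Y c x).hom ⊣
      ModuleCat.restrictScalars.{u, u, u} (sm f O_X O_Y c x).hom ⋙ skyO O_Y (f x) :=
  (adjO O_Y (f x)).comp (ModuleCat.extendRestrictScalarsAdj.{u, u, u} (sm f O_X O_Y c x).hom)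

/-- **the stalk of a pullback** -/
noncomputable def stalkPullbackIso :
    (φ f O_X O_Y c).pull ⋙ stalkO O_X x ≅
      stalkO O_Y (f x) ⋙ ModuleCat.extendScalars.{u, u, u} (sm f O_X O_Y c x).hom :=
  (adjPull f O_X O_Y c x).leftAdjointUniq ((adjExt f O_X O_Y c x).ofNatIsoRight (pushSkyIso f O_X O_Y c x).symm)

end Two
section Three
variable {X : TopCat.{u}} (O : TopCat.Sheaf CommRingCat.{u} X) (x : X)

lemma stalkO_map_apply {M N : ModSite.Mod O} (ψ : M ⟶ N) (a : St (R := ringPre O) M.val x) :
    ((stalkO O x).map ψ).hom a = stalkMap x ψ.val a := rfl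

instance : (stalkO O x).Additive where
  map_add {M N ψ χ} := by
    ext a
    obtain ⟨U, hU, m, rfl⟩ := gm_exists (R := ringPre O) M.val x a
    show stalkMap x (ψ + χ).val _ = stalkMap x ψ.val _ + stalkMap x χ.val _
    rw [stalkMap_gm, stalkMap_gm, stalkMap_gm, ← map_add]
    rfl

instance : (stalkO O x).IsLeftAdjoint := (adjO O x).isLeftAdjoint

instance : PreservesFiniteColimits (stalkO O x) := inferInstance

instance : (stalkO O x).PreservesMonomorphisms where
  preserves {M N} ψ hψ := by
    rw [ModuleCat.mono_iff_injective]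
    exact stalkMap_injective_of_mono O (A := M) (B := N) ψ x

instance : (stalkO O x).PreservesHomology := by
  simp only [(stalkO O x).exact_tfae.out 2 0]
  intro S h
  have key := (Functor.preservesFiniteColimits_tfae (stalkO O x)).out 3 0
  have hpres : PreservesFiniteColimits (stalkO O x) := inferInstance
  have h1 := key.mp hpres S h
  refine ShortComplex.ShortExact.mk' h1.left ?_ h1.right
  have := h.2
  exact Functor.map_mono (stalkO O x) _

instance : PreservesFiniteLimits (stalkO O x) :=
  (stalkO O x).preservesFiniteLimits_of_preservesHomology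

variable {O}

/-- a module all of whose stalks vanish is zero -/
theorem isZero_of_stalks (M : ModSite.Mod O) (h : ∀ x : X, IsZero ((stalkO O x).obj M)) : IsZero M := by
  rw [IsZero.iff_id_eq_zero]
  apply SheafOfModules.hom_ext
  apply PresheafOfModules.hom_ext
  intro U
  ext m
  show m = 0
  let F : TopCat.Sheaf AddCommGrpCat.{u} X := ⟨M.val.presheaf, M.isSheaf⟩
  refine TopCat.Presheaf.section_ext F U.unop m 0 ?_
  intro y hy
  haveI : Subsingleton ((stalkO O y).obj M) := ModuleCat.subsingleton_of_isZero (h y)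
  exact Subsingleton.elim (α := ((stalkO O y).obj M)) _ _

/-- exactness can be checked on stalks -/
theorem exact_of_stalks (S : ShortComplex (ModSite.Mod O))
    (h : ∀ x : X, (S.map (stalkO O x)).Exact) : S.Exact := by
  simp_rw [ShortComplex.exact_iff_isZero_homology] at h
  rw [ShortComplex.exact_iff_isZero_homology]
  apply isZero_of_stalks
  intro x
  exact (h x).of_iso (ShortComplex.mapHomologyIso S (stalkO O x)).symm

/-- a morphism which is injective on all stalks is a monomorphism -/
theorem mono_of_stalks {M N : ModSite.Mod O} (ψ : M ⟶ N)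
    (h : ∀ x : X, Mono ((stalkO O x).map ψ)) : Mono ψ := by
  let S : ShortComplex (ModSite.Mod O) := ShortComplex.mk (0 : (0 : ModSite.Mod O) ⟶ M) ψ zero_comp
  have hS : S.Exact := by
    apply exact_of_stalks
    intro x
    exact ((S.map (stalkO O x)).exact_iff_mono ((stalkO O x).map_zero _ _)).2 (h x)
  exact (S.exact_iff_mono rfl).1 hS

/-- ring level: extension of scalars along a flat ring map preserves monomorphisms -/
theorem mono_extendScalars_of_flat {R S : Type u} [CommRing R] [CommRing S] (g : R →+* S)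
    (hg : g.Flat) {M N : ModuleCat.{u} R} (ψ : M ⟶ N) [Mono ψ] :
    Mono ((ModuleCat.extendScalars.{u, u, u} g).map ψ) := by
  rw [ModuleCat.mono_iff_injective]
  have hinj : Function.Injective ψ.hom := (ModuleCat.mono_iff_injective _).1 inferInstance
  letI := g.toAlgebra
  haveI : Module.Flat R S := hg
  exact Module.Flat.lTensor_preserves_injective_linearMap (M := S) ψ.hom hinj

end Three
section Four
variable {X Y : TopCat.{u}} (f : X ⟶ Y) (O_X : TopCat.Sheaf CommRingCat.{u} X)
    (O_Y : TopCat.Sheaf CommRingCat.{u} Y)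
    (c : O_Y ⟶ ((TopologicalSpace.Opens.map f).sheafPushforwardContinuous CommRingCat.{u}
      (Opens.grothendieckTopology Y) (Opens.grothendieckTopology X)).obj O_X)

/-- pullback along a morphism with flat stalk maps preserves monomorphisms -/
theorem mono_pull_map_of_flat (hflat : ∀ x : X, (sm f O_X O_Y c x).hom.Flat)
    {M N : ModSite.Mod O_Y} (ψ : M ⟶ N) [Mono ψ] :
    Mono ((φ f O_X O_Y c).pull.map ψ) := by
  apply mono_of_stalks
  intro x
  have hnat : (stalkO O_X x).map ((φ f O_X O_Y c).pull.map ψ) ≫
      (stalkPullbackIso f O_X O_Y c x).hom.app N = (stalkPullbackIso f O_X O_Y c x).hom.app M ≫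
        (ModuleCat.extendScalars.{u, u, u} (sm f O_X O_Y c x).hom).map ((stalkO O_Y (f x)).map ψ) :=
    (stalkPullbackIso f O_X O_Y c x).hom.naturality ψ
  have hm1 : Mono ((stalkO O_Y (f x)).map ψ) :=
    (inferInstance : (stalkO O_Y (f x)).PreservesMonomorphisms).preserves ψ
  have hm2 : Mono ((ModuleCat.extendScalars.{u, u, u} (sm f O_X O_Y c x).hom).map
      ((stalkO O_Y (f x)).map ψ)) :=
    @mono_extendScalars_of_flat _ _ _ _ (sm f O_X O_Y c x).hom (hflat x) _ _
      ((stalkO O_Y (f x)).map ψ) hm1
  have hm3 : Mono ((stalkPullbackIso f O_X O_Y c x).hom.app M ≫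
      (ModuleCat.extendScalars.{u, u, u} (sm f O_X O_Y c x).hom).map ((stalkO O_Y (f x)).map ψ)) :=
    @mono_comp _ _ _ _ _ _ (IsIso.mono_of_iso _) _ hm2
  rw [← hnat] at hm3
  exact @mono_of_mono _ _ _ _ _ _ _ hm3

theorem main
    (hflat : ∀ x : X, ((TopCat.Presheaf.stalkFunctor CommRingCat.{u} (f x)).map
        (show O_Y.presheaf ⟶ (TopCat.Presheaf.pushforward CommRingCat.{u} f).obj O_X.presheaf from c.hom) ≫
      TopCat.Presheaf.stalkPushforward CommRingCat.{u} f O_X.presheaf x).hom.Flat) :
    ModSite.RMor.IsFlat (ModSite.RMor.ofFlat (TopologicalSpace.Opens.map f) c) := by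
  unfold ModSite.RMor.IsFlat
  haveI : (φ f O_X O_Y c).pull.PreservesMonomorphisms :=
    ⟨fun ψ _ => mono_pull_map_of_flat f O_X O_Y c hflat ψ⟩
  haveI : (φ f O_X O_Y c).pull.Additive := (φ f O_X O_Y c).adj.left_adjoint_additive
  haveI : (φ f O_X O_Y c).pull.PreservesHomology := by
    simp only [(φ f O_X O_Y c).pull.exact_tfae.out 2 0]
    intro S h
    have key := (Functor.preservesFiniteColimits_tfae (φ f O_X O_Y c).pull).out 3 0
    have hpres : PreservesFiniteColimits (φ f O_X O_Y c).pull := inferInstance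
    have h1 := key.mp hpres S h
    refine ShortComplex.ShortExact.mk' h1.left ?_ h1.right
    have := h.2
    exact Functor.map_mono (φ f O_X O_Y c).pull _
  exact (φ f O_X O_Y c).pull.preservesFiniteLimits_of_preservesHomology

end Four
end Groth.Agent.Lib.Helper4.StalkPullTop
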