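import Mathlib
import Groth.Prelude.Def_ModSite2
import Groth.Agent.Lib.Helper4.StalkCmp
import Groth.Agent.Lib.Helper4.StalkPullTop
import Groth.Agent.Lib.Helper4.StalkFlat
import Groth.Agent.Lib.Helper5.KFlatSite2.Symm
import Groth.Agent.Lib.Helper5.Misc.TensorSES

/-!
# Pullback followed by tensoring with a module flat over the base is exact (ringed spaces) (helper4)
-/

set_option backward.isDefEq.respectTransparency.types false
set_option synthInstance.maxHeartbeats 400000
set_option autoImplicit false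
set_option linter.unusedSectionVars false
set_option linter.style.haveILetI false
set_option linter.unusedSimpArgs false
universe u v w
open CategoryTheory CategoryTheory.Limits Opposite

namespace Groth.Agent.Lib.Helper4.PullTensorFlatOver
open TopologicalSpace ZeroObject
open Groth.Agent.Lib.Helper5.Misc.StalkTensor Groth.Agent.Lib.Helper5.Sky
  Groth.Agent.Lib.Helper5.StalkAdj Groth.Agent.Lib.Helper5.Misc.StalkFlat
  Groth.Agent.Lib.Helper4.StalkCmp Groth.Agent.Lib.Helper4.StalkPullTop

/-- flatness transfers along semilinear isomorphisms -/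
theorem flat_of_semilinear {A A' : Type u} [CommRing A] [CommRing A'] {E E' : Type u}
    [AddCommGroup E] [AddCommGroup E'] [Module A E] [Module A' E']
    (α : A ≃+* A') (γ : E ≃+ E') (h : ∀ (a : A) (e : E), γ (a • e) = α a • γ e)
    (hE : Module.Flat A E) : Module.Flat A' E' := by
  refine Module.Flat.iff_forall_isTrivialRelation.mpr ?_
  intro l f' x' hrel
  have hrel' : ∑ i, (α.symm (f' i)) • γ.symm (x' i) = 0 := by
    apply γ.injective
    rw [map_sum, map_zero, ← hrel]
    refine Finset.sum_congr rfl fun i _ => ?_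
    rw [h, RingEquiv.apply_symm_apply, AddEquiv.apply_symm_apply]
  obtain ⟨k, a, y, h1, h2⟩ := Module.Flat.iff_forall_isTrivialRelation.mp hE hrel'
  refine ⟨k, fun i j => α (a i j), fun j => γ (y j), fun i => ?_, fun j => ?_⟩
  · have := congrArg γ (h1 i)
    rw [AddEquiv.apply_symm_apply, map_sum] at this
    rw [this]
    exact Finset.sum_congr rfl fun j _ => h _ _
  · have := congrArg α (h2 j)
    rw [map_sum, map_zero] at this
    rw [← this]
    refine Finset.sum_congr rfl fun i _ => ?_
    rw [map_mul, RingEquiv.apply_symm_apply]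

section LinAlg
open TensorProduct

theorem inj_plain {R S : Type u} [CommRing R] [CommRing S] [Algebra R S]
    {E : Type u} [AddCommGroup E] [Module S E] [Module R E] [IsScalarTower R S E] [Module.Flat R E]
    {M N : Type u} [AddCommGroup M] [Module R M] [AddCommGroup N] [Module R N]
    (ψ : M →ₗ[R] N) (hψ : Function.Injective ψ) :
    Function.Injective (LinearMap.lTensor E (LinearMap.baseChange S ψ) :
      E ⊗[S] (S ⊗[R] M) →ₗ[S] E ⊗[S] (S ⊗[R] N)) := by
  have nat := TensorProduct.AlgebraTensorModule.lTensor_comp_cancelBaseChange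
    (R := R) (A := S) (B := S) (M := E) ψ
  have hL : Function.Injective (LinearMap.lTensor E ψ) :=
    Module.Flat.lTensor_preserves_injective_linearMap ψ hψ
  intro a b hab
  apply (TensorProduct.AlgebraTensorModule.cancelBaseChange R S S E M).injective
  apply hL
  have h1 := congrArg (fun k => k a) nat
  have h2 := congrArg (fun k => k b) nat
  simp only [LinearMap.comp_apply] at h1 h2
  refine Eq.trans h1 (Eq.trans ?_ h2.symm)
  exact congrArg (TensorProduct.AlgebraTensorModule.cancelBaseChange R S S E N) hab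

theorem inj_ext {R S : Type u} [CommRing R] [CommRing S] (g : R →+* S)
    {E : Type u} [AddCommGroup E] [Module S E]
    (hE : @Module.Flat R E _ _ (Module.compHom E g))
    {M N : ModuleCat.{u} R} (ψ : M ⟶ N) (hψ : Function.Injective ψ.hom) :
    Function.Injective (LinearMap.lTensor E ((ModuleCat.extendScalars.{u,u,u} g).map ψ).hom) := by
  letI := g.toAlgebra
  letI : Module R E := Module.compHom E g
  haveI : IsScalarTower R S E := IsScalarTower.of_algebraMap_smul fun r e => rfl
  haveI : Module.Flat R E := hE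
  exact inj_plain (S := S) (E := E) ψ.hom hψ


theorem inj_of_comm {S : Type u} [CommRing S] {E P P' Q Q' : Type u}
    [AddCommGroup E] [Module S E] [AddCommGroup P] [Module S P] [AddCommGroup P'] [Module S P']
    [AddCommGroup Q] [Module S Q] [AddCommGroup Q'] [Module S Q']
    (a : P →ₗ[S] Q) (b : P' →ₗ[S] Q') (iP : P ≃ₗ[S] P') (iQ : Q →ₗ[S] Q')
    (h : iQ ∘ₗ a = b ∘ₗ iP.toLinearMap) (hb : Function.Injective (LinearMap.lTensor E b)) :
    Function.Injective (LinearMap.lTensor E a) := by
  intro u v huv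
  have h1 : LinearMap.lTensor E (iQ ∘ₗ a) u = LinearMap.lTensor E (iQ ∘ₗ a) v := by
    rw [LinearMap.lTensor_comp, LinearMap.comp_apply, LinearMap.comp_apply, huv]
  rw [h, LinearMap.lTensor_comp, LinearMap.comp_apply, LinearMap.comp_apply] at h1
  have h2 := hb h1
  have h3 : Function.Injective (LinearMap.lTensor E iP.toLinearMap) :=
    (LinearEquiv.lTensor E iP).injective
  exact h3 h2
end LinAlg

section Isos
variable {X Y : TopCat.{u}} (f : X ⟶ Y) (O_X : TopCat.Sheaf CommRingCat.{u} X)
    (O_Y : TopCat.Sheaf CommRingCat.{u} Y)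
    (c : O_Y ⟶ ((TopologicalSpace.Opens.map f).sheafPushforwardContinuous CommRingCat.{u}
      (Opens.grothendieckTopology Y) (Opens.grothendieckTopology X)).obj O_X)
    (x : X)

/-- `O_{X,x}`: point-of-site version vs topological version -/
noncomputable def βIso : ModSite.stalkRing (pt x) O_X ≅ (ringPre O_X).stalk x :=
  cmpIso x O_X.obj

lemma βIso_germ (U : Opens X) (hx : x ∈ U) (r : O_X.obj.obj (op U)) :
    (βIso O_X x).hom.hom (ModSite.germRing (pt x) U ⟨⟨hx⟩⟩ r) = gr (R := ringPre O_X) x U hx r :=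
  congrArg (fun k => k.hom r) (toPresheafFiber_cmpHom x O_X.obj U ⟨⟨hx⟩⟩)

/-- the stalk of a module: point-of-site version vs topological version -/
noncomputable def γIso (F : ModSite.Mod O_X) :
    ModSite.stalkAb (pt x) F ≅ TopCat.Presheaf.stalk ((fgtO O_X).obj F).presheaf x :=
  cmpIso x F.val.presheaf

/-- the underlying function -/
noncomputable def γf (F : ModSite.Mod O_X) (e : ModSite.stalkAb (pt x) F) :
    St ((fgtO O_X).obj F) x := (γIso O_X x F).hom.hom e

/-- the underlying function -/
noncomputable def βf (b : ModSite.stalkRing (pt x) O_X) : (ringPre O_X).stalk x :=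
  (βIso O_X x).hom.hom b

lemma γIso_germ (F : ModSite.Mod O_X) (U : Opens X) (hx : x ∈ U) (s : ModSite.sect F U) :
    γf O_X x F (ModSite.germ (pt x) F U ⟨⟨hx⟩⟩ s) = gm ((fgtO O_X).obj F) x U hx s :=
  congrArg (fun k => k.hom s) (toPresheafFiber_cmpHom x F.val.presheaf U ⟨⟨hx⟩⟩)

/-- the stalk of the pulled back ring -/
noncomputable def αIso :
    (ringPre O_Y).stalk (f x) ≅ ModSite.stalkRing (pt x) (φ f O_X O_Y c).invRing :=
  (cmpIso (f x) O_Y.obj).symm ≪≫
    ((pt x).sheafFiberComapIso (Opens.map f) (coverPreserving_opens_map f) CommRingCat.{u}).app O_Y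

lemma unit_invSharp :
    ((Opens.map f).sheafAdjunctionContinuous CommRingCat.{u} (Opens.grothendieckTopology Y)
        (Opens.grothendieckTopology X)).unit.app O_Y ≫
      ((Opens.map f).sheafPushforwardContinuous CommRingCat.{u} (Opens.grothendieckTopology Y)
        (Opens.grothendieckTopology X)).map (φ f O_X O_Y c).invSharp = c := by
  have h := ((Opens.map f).sheafAdjunctionContinuous CommRingCat.{u} (Opens.grothendieckTopology Y)
        (Opens.grothendieckTopology X)).homEquiv_unit (X := O_Y) (Y := O_X) (f := (φ f O_X O_Y c).invSharp)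
  rw [← h]
  exact Equiv.apply_symm_apply _ _

theorem compat :
    (αIso f O_X O_Y c x).hom ≫
      ((pt x).sheafFiber (A := CommRingCat.{u})).map (φ f O_X O_Y c).invSharp ≫ (βIso O_X x).hom =
    sm f O_X O_Y c x := by
  apply TopCat.Presheaf.stalk_hom_ext
  intro V hx
  -- right hand side
  have h1 := TopCat.Presheaf.stalkFunctor_map_germ V (f x) hx
    (show O_Y.presheaf ⟶ (TopCat.Presheaf.pushforward CommRingCat.{u} f).obj O_X.presheaf from c.hom)
  have h2 := TopCat.Presheaf.stalkPushforward_germ CommRingCat.{u} f O_X.presheaf V x hx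
  have h3 : (ringPre O_Y).germ V (f x) hx ≫ sm f O_X O_Y c x =
      c.hom.app (op V) ≫ (ringPre O_X).germ ((Opens.map f).obj V) x hx := by
    unfold sm
    refine (Category.assoc _ _ _).symm.trans ?_
    refine (congrArg (fun k => k ≫ TopCat.Presheaf.stalkPushforward CommRingCat.{u} f O_X.presheaf x) h1).trans ?_
    refine (Category.assoc _ _ _).trans ?_
    exact congrArg (fun k => c.hom.app (op V) ≫ k) h2
  refine Eq.trans ?_ h3.symm
  -- left hand side
  have e1 := germ_cmpInv (f x) O_Y.obj V hx
  have e2 := toPresheafFiber_theta (pt x) (Opens.map f) (coverPreserving_opens_map f) CommRingCat.{u}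
    O_Y V ⟨⟨hx⟩⟩
  have e3 := (pt x).toPresheafFiber_naturality (φ f O_X O_Y c).invSharp.hom ((Opens.map f).obj V) ⟨⟨hx⟩⟩
  have e4 := toPresheafFiber_cmpHom x O_X.obj ((Opens.map f).obj V) ⟨⟨hx⟩⟩
  have e5 := congrArg (fun k => k.hom.app (op V)) (unit_invSharp f O_X O_Y c)
  unfold αIso βIso
  simp only [Iso.trans_hom, Iso.symm_hom, Iso.app_hom, Category.assoc, cmpIso]
  erw [reassoc_of% e1, reassoc_of% e2]
  refine (Category.assoc _ _ _).trans ?_
  have e34 : (pt x).toPresheafFiber ((Opens.map f).obj V) ⟨⟨hx⟩⟩ (φ f O_X O_Y c).invRing.obj ≫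
      ((pt x).sheafFiber (A := CommRingCat.{u})).map (φ f O_X O_Y c).invSharp ≫ cmpHom x O_X.obj =
      (φ f O_X O_Y c).invSharp.hom.app (op ((Opens.map f).obj V)) ≫
        TopCat.Presheaf.germ O_X.obj ((Opens.map f).obj V) x hx := by
    refine (Category.assoc _ _ _).symm.trans ?_
    refine (congrArg (fun k => k ≫ cmpHom x O_X.obj) e3).trans ?_
    refine (Category.assoc _ _ _).trans ?_
    exact congrArg (fun k => (φ f O_X O_Y c).invSharp.hom.app (op ((Opens.map f).obj V)) ≫ k) e4
  refine (congrArg (fun k => (((Opens.map f).sheafAdjunctionContinuous CommRingCat.{u}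
    (Opens.grothendieckTopology Y) (Opens.grothendieckTopology X)).unit.app O_Y).hom.app (op V) ≫ k) e34).trans ?_
  refine (Category.assoc _ _ _).symm.trans ?_
  exact congrArg (fun k => k ≫ TopCat.Presheaf.germ O_X.obj ((Opens.map f).obj V) x hx) e5

lemma γIso_smul (F : ModSite.Mod O_X) (b : ModSite.stalkRing (pt x) O_X) (e : ModSite.stalkAb (pt x) F) :
    γf O_X x F (b • e) = βf O_X x b • γf O_X x F e := by
  obtain ⟨E, -, r, s, hr, hs⟩ := Groth.Agent.Lib.Helper4.StalkFlat.exists_reps (pt x) F
    (fun _ : Fin 1 => b) (fun _ : Fin 1 => e) ⟨⊤, ⟨⟨trivial⟩⟩⟩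
  have hb := hr 0
  have he := hs 0
  obtain ⟨U, y⟩ := E
  have hx : x ∈ U := y.down.down
  have hy : y = ⟨⟨hx⟩⟩ := rfl
  dsimp only at hb he r s
  rw [← hb, ← he, ← ModSite.germ_smul, hy, γIso_germ, γIso_germ]
  unfold βf
  rw [βIso_germ]
  exact gm_smul ((fgtO O_X).obj F) x U hx (r 0) (s 0)

theorem flat_top (F : ModSite.Mod O_X)
    (hF : @Module.Flat (ModSite.stalkRing (pt x) (φ f O_X O_Y c).invRing)
      (ModSite.stalkAb (pt x) F) _ _
      (Module.compHom (ModSite.stalkAb (pt x) F)
        (((pt x).sheafFiber (A := CommRingCat.{u})).map (φ f O_X O_Y c).invSharp).hom)) :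
    @Module.Flat ((ringPre O_Y).stalk (f x)) (St ((fgtO O_X).obj F) x) _ _
      (Module.compHom (St ((fgtO O_X).obj F) x) (sm f O_X O_Y c x).hom) := by
  letI m1 : Module (ModSite.stalkRing (pt x) (φ f O_X O_Y c).invRing) (ModSite.stalkAb (pt x) F) :=
    Module.compHom (ModSite.stalkAb (pt x) F)
        (((pt x).sheafFiber (A := CommRingCat.{u})).map (φ f O_X O_Y c).invSharp).hom
  letI m2 : Module ((ringPre O_Y).stalk (f x)) (St ((fgtO O_X).obj F) x) :=
    Module.compHom (St ((fgtO O_X).obj F) x) (sm f O_X O_Y c x).hom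
  refine flat_of_semilinear (αIso f O_X O_Y c x).symm.commRingCatIsoToRingEquiv
    ((γIso O_X x F).addCommGroupIsoToAddEquiv) ?_ hF
  intro a e
  show γf O_X x F ((((pt x).sheafFiber (A := CommRingCat.{u})).map (φ f O_X O_Y c).invSharp).hom a • e) =
    (sm f O_X O_Y c x).hom ((αIso f O_X O_Y c x).inv.hom a) • γf O_X x F e
  rw [γIso_smul]
  congr 1
  have h := congrArg (fun k => k.hom ((αIso f O_X O_Y c x).inv.hom a)) (compat f O_X O_Y c x)
  refine Eq.trans ?_ h
  show _ = (βIso O_X x).hom.hom ((((pt x).sheafFiber (A := CommRingCat.{u})).map (φ f O_X O_Y c).invSharp).hom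
    ((αIso f O_X O_Y c x).hom.hom ((αIso f O_X O_Y c x).inv.hom a)))
  have h2 : (αIso f O_X O_Y c x).hom.hom ((αIso f O_X O_Y c x).inv.hom a) = a :=
    congrArg (fun k => k.hom a) (αIso f O_X O_Y c x).inv_hom_id
  rw [h2]
  rfl

end Isos
section Main
open MonoidalCategory Groth.Agent.Lib.Helper5.TensorSheaf
variable {X Y : TopCat.{u}} (f : X ⟶ Y) (O_X : TopCat.Sheaf CommRingCat.{u} X)
    (O_Y : TopCat.Sheaf CommRingCat.{u} Y)
    (c : O_Y ⟶ ((TopologicalSpace.Opens.map f).sheafPushforwardContinuous CommRingCat.{u}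
      (Opens.grothendieckTopology Y) (Opens.grothendieckTopology X)).obj O_X)
    (F : ModSite.Mod O_X)

/-- stalkwise criterion -/
theorem mono_tensor_pull
    (hF : ∀ x : X, @Module.Flat ((ringPre O_Y).stalk (f x)) (St ((fgtO O_X).obj F) x) _ _
      (Module.compHom (St ((fgtO O_X).obj F) x) (sm f O_X O_Y c x).hom))
    {M N : ModSite.Mod O_Y} (ψ : M ⟶ N) [Mono ψ] :
    Mono (((ModSite.tensorBi O_X).obj F).map ((φ f O_X O_Y c).pull.map ψ)) := by
  show Mono ((shf O_X).map ((fgt O_X).obj F ◁ (fgt O_X).map ((φ f O_X O_Y c).pull.map ψ)))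
  apply mono_shf_map
  apply isLocallyInjective_of_stalkMap_injective
  intro x
  intro a b hab
  apply theta_injective ((fgt O_X).obj F) _ x
  have h1 := congrArg (theta ((fgt O_X).obj F) _ x) hab
  rw [theta_natural, theta_natural] at h1
  refine inj_of_comm (E := St ((fgtO O_X).obj F) x)
    (stalkMapL x ((fgt O_X).map ((φ f O_X O_Y c).pull.map ψ)))
    ((ModuleCat.extendScalars.{u, u, u} (sm f O_X O_Y c x).hom).map ((stalkO O_Y (f x)).map ψ)).hom
    ((stalkPullbackIso f O_X O_Y c x).app M).toLinearEquiv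
    ((stalkPullbackIso f O_X O_Y c x).hom.app N).hom ?_ ?_ h1
  · have hnat := (stalkPullbackIso f O_X O_Y c x).hom.naturality ψ
    exact congrArg ModuleCat.Hom.hom hnat
  · apply inj_ext (sm f O_X O_Y c x).hom (hF x)
    have hm1 : Mono ((stalkO O_Y (f x)).map ψ) :=
      (inferInstance : (stalkO O_Y (f x)).PreservesMonomorphisms).preserves ψ
    exact (ModuleCat.mono_iff_injective _).1 hm1

theorem main
    (hF : ∀ x : X, @Module.Flat
      (ModSite.stalkRing (Opens.pointGrothendieckTopology x)
        (ModSite.RMor.ofFlat (TopologicalSpace.Opens.map f) c).invRing)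
      (ModSite.stalkAb (Opens.pointGrothendieckTopology x) F) _ _
      (Module.compHom (ModSite.stalkAb (Opens.pointGrothendieckTopology x) F)
        (((Opens.pointGrothendieckTopology x).sheafFiber (A := CommRingCat.{u})).map
          (ModSite.RMor.ofFlat (TopologicalSpace.Opens.map f) c).invSharp).hom)) :
    PreservesFiniteLimits ((ModSite.RMor.ofFlat (TopologicalSpace.Opens.map f) c).pull ⋙
        (ModSite.tensorBi O_X).flip.obj F) ∧
      PreservesFiniteColimits ((ModSite.RMor.ofFlat (TopologicalSpace.Opens.map f) c).pull ⋙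
        (ModSite.tensorBi O_X).flip.obj F) := by
  refine ⟨?_, ?_⟩
  · have hF' : ∀ x : X, @Module.Flat ((ringPre O_Y).stalk (f x)) (St ((fgtO O_X).obj F) x) _ _
        (Module.compHom (St ((fgtO O_X).obj F) x) (sm f O_X O_Y c x).hom) :=
      fun x => flat_top f O_X O_Y c x F (hF x)
    let G : ModSite.Mod O_Y ⥤ ModSite.Mod O_X := (φ f O_X O_Y c).pull ⋙ (ModSite.tensorBi O_X).obj F
    haveI : (φ f O_X O_Y c).pull.Additive := (φ f O_X O_Y c).adj.left_adjoint_additive
    haveI : ((ModSite.tensorBi O_X).obj F).Additive :=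
      Functor.additive_of_iso ((Groth.Agent.Lib.Helper5.KFlatSiteQ.flipIso (O := O_X)).app F)
    haveI : G.Additive := inferInstanceAs ((φ f O_X O_Y c).pull ⋙ (ModSite.tensorBi O_X).obj F).Additive
    haveI : G.PreservesMonomorphisms :=
      ⟨fun ψ _ => mono_tensor_pull f O_X O_Y c F hF' ψ⟩
    haveI : PreservesFiniteColimits G :=
      inferInstanceAs (PreservesFiniteColimits ((φ f O_X O_Y c).pull ⋙ (ModSite.tensorBi O_X).obj F))
    haveI : G.PreservesHomology := by
      simp only [G.exact_tfae.out 2 0]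
      intro S h
      have key := (Functor.preservesFiniteColimits_tfae G).out 3 0
      have hpres : PreservesFiniteColimits G := inferInstance
      have h1 := key.mp hpres S h
      refine ShortComplex.ShortExact.mk' h1.left ?_ h1.right
      have := h.2
      exact Functor.map_mono G _
    haveI : PreservesFiniteLimits G := G.preservesFiniteLimits_of_preservesHomology
    exact preservesFiniteLimits_of_natIso (Functor.isoWhiskerLeft (φ f O_X O_Y c).pull
      ((Groth.Agent.Lib.Helper5.KFlatSiteQ.flipIso (O := O_X)).app F).symm)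
  · infer_instance

end Main
end Groth.Agent.Lib.Helper4.PullTensorFlatOver
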