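import Mathlib
import Groth.Prelude.Def_FlatMod2
import Groth.Prelude.Def_Coh
import Groth.Prelude.Def_Pi1
import Groth.Prelude.Def_CAlg
import Groth.Agent.Lib.Helper4.CohHartogs1

/-!
# j_*(F|_U) has depth ≥ 2 off U; universal property (S12226) (helper4)
-/

set_option backward.isDefEq.respectTransparency.types false
set_option synthInstance.maxHeartbeats 400000
set_option autoImplicit false
set_option linter.unusedSectionVars false
set_option linter.style.haveILetI false
set_option linter.unusedSimpArgs false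
universe u v w
open CategoryTheory CategoryTheory.Limits AlgebraicGeometry TopologicalSpace IsLocalRing Opposite Topology

namespace Groth.Agent.Lib.Helper4.PushDepth1

theorem image_preimage_ι {X : Scheme.{u}} (U V : X.Opens) : U.ι ''ᵁ (U.ι ⁻¹ᵁ V) = V ⊓ U := by
  ext x
  simp only [Scheme.Hom.image_preimage_eq_opensRange_inf, Scheme.Opens.opensRange_ι]
  rw [inf_comm]

theorem map_bijective_of_eq {X : Scheme.{u}} (M : X.Modules) {W₁ W₂ : X.Opens} (h : W₁ ≤ W₂) (h' : W₂ ≤ W₁) :
    Function.Bijective (M.presheaf.map (homOfLE h).op) := by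
  have : IsIso (homOfLE h) := ⟨⟨homOfLE h', Subsingleton.elim _ _, Subsingleton.elim _ _⟩⟩
  exact ConcreteCategory.bijective_of_isIso (M.presheaf.map (homOfLE h).op)

theorem push_restrict_bij {X : Scheme.{u}} (U : X.Opens) (F : X.Modules) (V : X.Opens) :
    Function.Bijective (((Coh.push U.ι).obj (F.restrict U.ι)).val.map
      (homOfLE (inf_le_left : V ⊓ U ≤ V)).op).hom := by
  have h1 : U.ι ''ᵁ (U.ι ⁻¹ᵁ (V ⊓ U)) ≤ U.ι ''ᵁ (U.ι ⁻¹ᵁ V) := by
    rw [image_preimage_ι, image_preimage_ι]; exact inf_le_left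
  have h2 : U.ι ''ᵁ (U.ι ⁻¹ᵁ V) ≤ U.ι ''ᵁ (U.ι ⁻¹ᵁ (V ⊓ U)) := by
    rw [image_preimage_ι, image_preimage_ι]; exact le_inf le_rfl inf_le_right
  exact map_bijective_of_eq F h1 h2


theorem unit_isIso {X : Scheme.{u}} [IsLocallyNoetherian X] (U : X.Opens) (G : X.Modules) (hG : Coh.IsCoh G)
    (hd : ∀ x : ↥X, x ∉ U → (2 : ℕ∞) ≤ LocCoh.depth (X.presheaf.stalk x) (G.presheaf.stalk x)) :
    IsIso ((Scheme.Modules.restrictAdjunction U.ι).unit.app G) := by
  have hbij := (Groth.Agent.Lib.Helper4.CohHartogs1.S6039_main X U G hG).mp hd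
  have happ : ∀ V : (Opens X)ᵒᵖ, IsIso ((Scheme.Modules.Hom.mapPresheaf
      ((Scheme.Modules.restrictAdjunction U.ι).unit.app G)).app V) := by
    intro V
    rw [ConcreteCategory.isIso_iff_bijective]
    have h1 : U.ι ''ᵁ (U.ι ⁻¹ᵁ V.unop) ≤ V.unop ⊓ U := by rw [image_preimage_ι]
    have h2 : V.unop ⊓ U ≤ U.ι ''ᵁ (U.ι ⁻¹ᵁ V.unop) := by rw [image_preimage_ι]
    have hb1 := hbij V.unop
    have hb2 := map_bijective_of_eq G h1 h2
    have := hb2.comp hb1
    have heq : ∀ s, ((Scheme.Modules.Hom.mapPresheaf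
        ((Scheme.Modules.restrictAdjunction U.ι).unit.app G)).app V) s =
        (G.presheaf.map (homOfLE h1).op) ((G.presheaf.map (homOfLE inf_le_left).op) s) := by
      intro s
      rw [← ConcreteCategory.comp_apply, ← G.presheaf.map_comp]
      rfl
    constructor
    · intro a b hab
      rw [heq, heq] at hab
      exact this.1 hab
    · intro b
      obtain ⟨a, ha⟩ := this.2 b
      exact ⟨a, (heq a).trans ha⟩
  haveI : IsIso ((Scheme.Modules.toPresheaf X).map ((Scheme.Modules.restrictAdjunction U.ι).unit.app G)) := by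
    show IsIso (Scheme.Modules.Hom.mapPresheaf _)
    exact NatIso.isIso_of_isIso_app _
  exact isIso_of_reflects_iso _ (Scheme.Modules.toPresheaf X)

theorem S12226_main (X : Scheme.{u}) [IsNoetherian X] (U : X.Opens)
    (F : X.Modules) (hF : Coh.IsCoh F) (hF' : Coh.IsCoh ((Coh.push U.ι).obj (F.restrict U.ι))) :
    (∀ x : ↥X, x ∉ U → (2 : ℕ∞) ≤ LocCoh.depth (X.presheaf.stalk x)
        (((Coh.push U.ι).obj (F.restrict U.ι)).presheaf.stalk x)) ∧
    ∀ (G : X.Modules) (hG : Coh.IsCoh G) (φ : F ⟶ G),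
      IsIso ((Scheme.Modules.restrictFunctor U.ι).map φ) →
      (∀ x : ↥X, x ∉ U → (2 : ℕ∞) ≤ LocCoh.depth (X.presheaf.stalk x) (G.presheaf.stalk x)) →
        (∃! ψ : G ⟶ (Coh.push U.ι).obj (F.restrict U.ι),
            φ ≫ ψ = (Scheme.Modules.restrictAdjunction U.ι).unit.app F) ∧
          ∀ ψ : G ⟶ (Coh.push U.ι).obj (F.restrict U.ι),
            φ ≫ ψ = (Scheme.Modules.restrictAdjunction U.ι).unit.app F → IsIso ψ := by
  constructor
  · exact (Groth.Agent.Lib.Helper4.CohHartogs1.S6039_main X U _ hF').mpr (push_restrict_bij U F)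
  · intro G hG φ hφ hd
    obtain ⟨adj, hadj⟩ : ∃ adj, adj = Scheme.Modules.restrictAdjunction U.ι := ⟨_, rfl⟩
    rw [← hadj]
    have huniq : ∀ ψ : G ⟶ (Coh.push U.ι).obj (F.restrict U.ι),
        φ ≫ ψ = adj.unit.app F → ψ = adj.unit.app G ≫ (Coh.push U.ι).map (inv ((Scheme.Modules.restrictFunctor U.ι).map φ)) := by
      intro ψ hψ
      have h1 := congrArg (adj.homEquiv _ _).symm hψ
      rw [Adjunction.homEquiv_naturality_left_symm] at h1
      have h2 : (adj.homEquiv F ((Scheme.Modules.restrictFunctor U.ι).obj F)).symm (adj.unit.app F) = 𝟙 _ := by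
        rw [← Adjunction.homEquiv_id, Equiv.symm_apply_apply]
      rw [h2] at h1
      have h3 : (adj.homEquiv _ _).symm ψ = inv ((Scheme.Modules.restrictFunctor U.ι).map φ) := by
        rw [← cancel_epi ((Scheme.Modules.restrictFunctor U.ι).map φ), h1, IsIso.hom_inv_id]
      have h4 := congrArg (adj.homEquiv _ _) h3
      rw [Equiv.apply_symm_apply, Adjunction.homEquiv_unit] at h4
      exact h4
    have hex : φ ≫ (adj.unit.app G ≫ (Coh.push U.ι).map (inv ((Scheme.Modules.restrictFunctor U.ι).map φ))) = adj.unit.app F := by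
      have hnat := adj.unit.naturality φ
      simp only [Functor.id_obj, Functor.id_map, Functor.comp_obj, Functor.comp_map] at hnat
      rw [← Category.assoc, hnat, Category.assoc, ← Functor.map_comp, IsIso.hom_inv_id, CategoryTheory.Functor.map_id, Category.comp_id]
    refine ⟨⟨_, hex, fun ψ hψ => huniq ψ hψ⟩, fun ψ hψ => ?_⟩
    rw [huniq ψ hψ]
    haveI : IsIso (adj.unit.app G) := by
      rw [hadj]; exact unit_isIso U G hG hd
    infer_instance

end Groth.Agent.Lib.Helper4.PushDepth1
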