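import Mathlib
import Groth.Prelude.Def_ModSite2
import Groth.Agent.Lib.Helper4.PullTensorIso

/-!
# f_* Hom(f^*N, M) ≅ Hom(N, f_* M) for a morphism of ringed sites (helper4) (helper4)
-/

set_option backward.isDefEq.respectTransparency.types false
set_option synthInstance.maxHeartbeats 400000
set_option autoImplicit false
set_option linter.unusedSectionVars false
set_option linter.style.haveILetI false
set_option linter.unusedSimpArgs false
universe u v w
open CategoryTheory CategoryTheory.Limits Opposite

namespace Groth.Agent.Lib.Helper4.PushSheafHomPull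
open Groth.Agent.Lib.Helper4.PullTensorDelta Groth.Agent.Lib.Helper4.PullTensorIso

variable {C D : Type u} [SmallCategory C] [SmallCategory D] {J : GrothendieckTopology C}
  {K : GrothendieckTopology D} {O_C : Sheaf J CommRingCat.{u}} {O_D : Sheaf K CommRingCat.{u}}
  (f : ModSite.RMor O_C O_D)

instance isIso_τN (N : ModSite.Mod O_D) : IsIso (τN f N) := by
  haveI : ∀ M, IsIso ((τN f N).app M) := fun M => isIso_δ f M N
  exact NatIso.isIso_of_isIso_app _

/-- `f_* Hom(f^*N, -) ≅ Hom(N, f_* -)` as functors -/
noncomputable def pushHomIso (N : ModSite.Mod O_D)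
    [ModSite.HasSheafHom (f.pull.obj N)] [ModSite.HasSheafHom N] :
    ModSite.sheafHom (f.pull.obj N) ⋙ f.push ≅ f.push ⋙ ModSite.sheafHom N :=
  (conjugateIsoEquiv ((ModSite.sheafHomAdj N).comp f.adj)
    (f.adj.comp (ModSite.sheafHomAdj (f.pull.obj N))) (asIso (τN f N)).symm).symm

theorem main (M : ModSite.Mod O_C) (N : ModSite.Mod O_D)
    [ModSite.HasSheafHom (f.pull.obj N)] [ModSite.HasSheafHom N] :
    Nonempty (ModSite.toAb (f.push.obj ((ModSite.sheafHom (f.pull.obj N)).obj M)) ≅
      ModSite.toAb ((ModSite.sheafHom N).obj (f.push.obj M))) :=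
  ⟨(SheafOfModules.toSheaf _).mapIso ((pushHomIso f N).app M)⟩

end Groth.Agent.Lib.Helper4.PushSheafHomPull
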