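import Mathlib

/-!
# Quasi-separatedness criteria via affine covers (helper4)
-/

set_option backward.isDefEq.respectTransparency.types false
set_option synthInstance.maxHeartbeats 400000
set_option autoImplicit false
set_option linter.unusedSectionVars false
set_option linter.style.haveILetI false
set_option linter.unusedSimpArgs false
universe u v

namespace Groth.Agent.Lib.Helper4.QSep
open AlgebraicGeometry CategoryTheory TopologicalSpace

/-- An open subset of a scheme covered by affine opens with pairwise compact intersections is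
quasi-separated. -/
lemma isQuasiSeparated_of_affine_cover {X : Scheme.{u}} (s : X.Opens) {κ : Type*}
    (V : κ → X.affineOpens) (hV : ⨆ j, (V j : X.Opens) = s)
    (hVV : ∀ j j', IsCompact ((V j : Set X) ∩ (V j' : Set X))) :
    IsQuasiSeparated (s : Set X) := by
  -- every compact open in `s` is a finite union of compact opens each inside some `V j`
  have key : ∀ A : Set X, A ⊆ s → IsOpen A → IsCompact A →
      ∃ (t : Finset (κ × Set X)), (∀ p ∈ t, IsOpen p.2 ∧ IsCompact p.2 ∧ p.2 ⊆ (V p.1 : Set X)) ∧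
        A = ⋃ p ∈ t, p.2 := by
    intro A hAs hAo hAc
    have h1 : ∀ a ∈ A, ∃ (j : κ) (B : Set X), IsOpen B ∧ IsCompact B ∧ B ⊆ (V j : Set X) ∧
        B ⊆ A ∧ a ∈ B := by
      intro a ha
      have : a ∈ (⨆ j, (V j : X.Opens)) := hV ▸ hAs ha
      obtain ⟨j, hj⟩ := Opens.mem_iSup.mp this
      obtain ⟨_, ⟨B, hB : IsAffineOpen B, rfl⟩, haB, hBsub⟩ :=
        X.isBasis_affineOpens.exists_subset_of_mem_open (show a ∈ A ∩ (V j : Set X) from ⟨ha, hj⟩)
          (hAo.inter (V j).1.2)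
      exact ⟨j, B, B.2, hB.isCompact, fun x hx => (hBsub hx).2, fun x hx => (hBsub hx).1, haB⟩
    let 𝒢 : Set (κ × Set X) := {p | IsOpen p.2 ∧ IsCompact p.2 ∧ p.2 ⊆ (V p.1 : Set X) ∧ p.2 ⊆ A}
    have hcov : A ⊆ ⋃ p ∈ 𝒢, p.2 := by
      intro a ha
      obtain ⟨j, B, h1, h2, h3, h4, h5⟩ := h1 a ha
      exact Set.mem_iUnion₂.mpr ⟨(j, B), ⟨h1, h2, h3, h4⟩, h5⟩
    obtain ⟨b', hb'sub, hb'fin, hb'cov⟩ := hAc.elim_finite_subcover_image
      (b := 𝒢) (c := fun p => p.2) (fun p hp => hp.1) hcov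
    refine ⟨hb'fin.toFinset, ?_, ?_⟩
    · intro p hp
      have := hb'sub (hb'fin.mem_toFinset.mp hp)
      exact ⟨this.1, this.2.1, this.2.2.1⟩
    · apply subset_antisymm
      · intro x hx
        obtain ⟨p, hp, hxp⟩ := Set.mem_iUnion₂.mp (hb'cov hx)
        exact Set.mem_iUnion₂.mpr ⟨p, hb'fin.mem_toFinset.mpr hp, hxp⟩
      · intro x hx
        obtain ⟨p, hp, hxp⟩ := Set.mem_iUnion₂.mp hx
        exact (hb'sub (hb'fin.mem_toFinset.mp hp)).2.2.2 hxp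
  intro A B hAs hAo hAc hBs hBo hBc
  obtain ⟨tA, htA, rfl⟩ := key A hAs hAo hAc
  obtain ⟨tB, htB, rfl⟩ := key B hBs hBo hBc
  rw [Set.iUnion₂_inter]
  refine tA.isCompact_biUnion fun p hp => ?_
  rw [Set.inter_iUnion₂]
  refine tB.isCompact_biUnion fun q hq => ?_
  obtain ⟨hpo, hpc, hpV⟩ := htA p hp
  obtain ⟨hqo, hqc, hqV⟩ := htB q hq
  -- p.2 ∩ q.2 = (p.2 ∩ (V p.1 ∩ V q.1)) ∩ q.2
  have h1 : IsCompact (p.2 ∩ ((V p.1 : Set X) ∩ (V q.1 : Set X))) :=
    (V p.1).2.isQuasiSeparated _ _ hpV hpo hpc Set.inter_subset_left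
      ((V p.1).1.2.inter (V q.1).1.2) (hVV _ _)
  have h2 : IsCompact ((p.2 ∩ ((V p.1 : Set X) ∩ (V q.1 : Set X))) ∩ q.2) :=
    (V q.1).2.isQuasiSeparated _ _ (fun x hx => hx.2.2) (hpo.inter ((V p.1).1.2.inter (V q.1).1.2))
      h1 hqV hqo hqc
  convert h2 using 1
  ext x
  constructor
  · rintro ⟨hxp, hxq⟩
    exact ⟨⟨hxp, hpV hxp, hqV hxq⟩, hxq⟩
  · rintro ⟨⟨hxp, -⟩, hxq⟩
    exact ⟨hxp, hxq⟩

theorem S9509_main {X S : Scheme.{u}} (f : X ⟶ S) {ι : Type u} (W : ι → S.affineOpens)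
    (hW : ⨆ i, (W i : S.Opens) = ⊤) {κ : ι → Type u} (V : ∀ i, κ i → X.affineOpens)
    (hV : ∀ i, ⨆ j, (V i j : X.Opens) = f ⁻¹ᵁ (W i : S.Opens))
    (hVV : ∀ i (j j' : κ i), IsCompact ((V i j : Set X) ∩ (V i j' : Set X))) :
    QuasiSeparated f := by
  apply HasAffineProperty.of_iSup_eq_top (P := @QuasiSeparated) W hW
  intro i
  exact (isQuasiSeparated_iff_quasiSeparatedSpace _ (f ⁻¹ᵁ (W i : S.Opens)).2).mp
    (isQuasiSeparated_of_affine_cover _ (V i) (hV i) (hVV i))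

theorem S9508_main {X S : Scheme.{u}} (f : X ⟶ S) :
    QuasiSeparated f ↔
      ∀ (U V : X.affineOpens) (W : S.affineOpens),
        (U : X.Opens) ≤ f ⁻¹ᵁ (W : S.Opens) → (V : X.Opens) ≤ f ⁻¹ᵁ (W : S.Opens) →
          IsCompact ((U : Set X) ∩ (V : Set X)) := by
  constructor
  · intro hf U V W hU hV
    exact f.isQuasiSeparated_preimage W.2.isQuasiSeparated _ _ hU U.1.2 U.2.isCompact hV V.1.2
      V.2.isCompact
  · intro h
    apply HasAffineProperty.of_iSup_eq_top (P := @QuasiSeparated) (fun W : S.affineOpens => W)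
      (iSup_affineOpens_eq_top S)
    intro W
    apply (isQuasiSeparated_iff_quasiSeparatedSpace _ (f ⁻¹ᵁ (W : S.Opens)).2).mp
    apply isQuasiSeparated_of_affine_cover _
      (fun U : {U : X.affineOpens // (U : X.Opens) ≤ f ⁻¹ᵁ (W : S.Opens)} => U.1)
    · apply le_antisymm
      · exact iSup_le fun U => U.2
      · intro x hx
        obtain ⟨_, ⟨B, hB : IsAffineOpen B, rfl⟩, hxB, hBsub⟩ :=
          X.isBasis_affineOpens.exists_subset_of_mem_open hx (f ⁻¹ᵁ (W : S.Opens)).2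
        exact Opens.mem_iSup.mpr ⟨⟨⟨B, hB⟩, hBsub⟩, hxB⟩
    · intro U V
      exact h U.1 V.1 W U.2 V.2
theorem S9510_main (X : Scheme.{u}) {ι : Type u} (U : ι → X.affineOpens) (hU : ⨆ i, (U i : X.Opens) = ⊤)
    (V : X.affineOpens) :
    ∃ s : Finset Γ(X, (V : X.Opens)),
      (⨆ f ∈ s, X.basicOpen f) = (V : X.Opens) ∧
        ∀ f ∈ s, ∃ (i : ι) (g : Γ(X, (U i : X.Opens))), X.basicOpen f = X.basicOpen g := by
  let 𝒢 : Set Γ(X, (V : X.Opens)) :=
    {f | ∃ (i : ι) (g : Γ(X, (U i : X.Opens))), X.basicOpen f = X.basicOpen g}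
  have hcov : (V : Set X) ⊆ ⋃ f ∈ 𝒢, (X.basicOpen f : Set X) := by
    intro x hx
    have : x ∈ (⨆ i, (U i : X.Opens)) := hU ▸ trivial
    obtain ⟨i, hi⟩ := Opens.mem_iSup.mp this
    obtain ⟨f, g, e, hf⟩ := exists_basicOpen_le_affine_inter V.2 (U i).2 x ⟨hx, hi⟩
    exact Set.mem_iUnion₂.mpr ⟨f, ⟨i, g, e⟩, hf⟩
  obtain ⟨b', hb'sub, hb'fin, hb'cov⟩ := V.2.isCompact.elim_finite_subcover_image
    (b := 𝒢) (c := fun f => (X.basicOpen f : Set X)) (fun f _ => (X.basicOpen f).2) hcov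
  refine ⟨hb'fin.toFinset, ?_, fun f hf => hb'sub (hb'fin.mem_toFinset.mp hf)⟩
  apply le_antisymm
  · exact iSup₂_le fun f _ => X.basicOpen_le f
  · intro x hx
    obtain ⟨f, hf, hxf⟩ := Set.mem_iUnion₂.mp (hb'cov hx)
    exact Opens.mem_iSup.mpr ⟨f, Opens.mem_iSup.mpr ⟨hb'fin.mem_toFinset.mpr hf, hxf⟩⟩

end Groth.Agent.Lib.Helper4.QSep
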