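import Mathlib

/-!
# Quasi-constructible and locally quasi-constructible sets (EGA IV 10.1)

A set is *quasi-constructible* if it is a finite union of locally closed sets, and *locally
quasi-constructible* if every point has an open neighbourhood whose trace on the set is
quasi-constructible.  The statements in `Groth.Statements` spell these notions out; the definitions
here unfold to exactly the spelled-out forms.
-/

set_option autoImplicit false
universe u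

namespace Groth.Agent.Helper4

variable {X : Type u} [TopologicalSpace X]

/-- Finite union of locally closed sets. -/
def IsQC (Z : Set X) : Prop :=
  ∃ T : Set (Set X), T.Finite ∧ (∀ t ∈ T, IsLocallyClosed t) ∧ Z = ⋃₀ T

/-- Locally quasi-constructible sets. -/
def IsLQC (Z : Set X) : Prop :=
  ∀ x : X, ∃ U : Set X, IsOpen U ∧ x ∈ U ∧
    ∃ T : Set (Set X), T.Finite ∧ (∀ t ∈ T, IsLocallyClosed t) ∧ U ∩ Z = ⋃₀ T

theorem isLQC_iff (Z : Set X) :
    IsLQC Z ↔ ∀ x : X, ∃ U : Set X, IsOpen U ∧ x ∈ U ∧ IsQC (U ∩ Z) := Iff.rfl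

theorem IsQC.of_isLocallyClosed {Z : Set X} (h : IsLocallyClosed Z) : IsQC Z :=
  ⟨{Z}, Set.finite_singleton Z, by simpa using h, by simp⟩

theorem IsQC.empty : IsQC (∅ : Set X) :=
  ⟨∅, Set.finite_empty, by simp, by simp⟩

theorem IsQC.of_isOpen {Z : Set X} (h : IsOpen Z) : IsQC Z :=
  IsQC.of_isLocallyClosed h.isLocallyClosed

theorem IsQC.of_isClosed {Z : Set X} (h : IsClosed Z) : IsQC Z :=
  IsQC.of_isLocallyClosed h.isLocallyClosed

theorem IsQC.union {Z Z' : Set X} (h : IsQC Z) (h' : IsQC Z') : IsQC (Z ∪ Z') := by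
  obtain ⟨T, hT, hTl, rfl⟩ := h
  obtain ⟨T', hT', hTl', rfl⟩ := h'
  refine ⟨T ∪ T', hT.union hT', ?_, (Set.sUnion_union T T').symm⟩
  rintro t (ht | ht)
  · exact hTl t ht
  · exact hTl' t ht

theorem IsQC.inter {Z Z' : Set X} (h : IsQC Z) (h' : IsQC Z') : IsQC (Z ∩ Z') := by
  obtain ⟨T, hT, hTl, rfl⟩ := h
  obtain ⟨T', hT', hTl', rfl⟩ := h'
  refine ⟨Set.image2 (· ∩ ·) T T', hT.image2 _ hT', ?_, ?_⟩
  · rintro _ ⟨t, ht, t', ht', rfl⟩
    exact (hTl t ht).inter (hTl' t' ht')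
  · ext x
    simp only [Set.mem_inter_iff, Set.mem_sUnion, Set.mem_image2]
    constructor
    · rintro ⟨⟨t, ht, hxt⟩, ⟨t', ht', hxt'⟩⟩
      exact ⟨t ∩ t', ⟨t, ht, t', ht', rfl⟩, hxt, hxt'⟩
    · rintro ⟨_, ⟨t, ht, t', ht', rfl⟩, hxt, hxt'⟩
      exact ⟨⟨t, ht, hxt⟩, ⟨t', ht', hxt'⟩⟩

theorem IsQC.compl_of_isLocallyClosed {Z : Set X} (h : IsLocallyClosed Z) : IsQC Zᶜ := by
  obtain ⟨U, F, hU, hF, rfl⟩ := h
  rw [Set.compl_inter]
  exact (IsQC.of_isClosed hU.isClosed_compl).union (IsQC.of_isOpen hF.isOpen_compl)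

theorem IsQC.compl {Z : Set X} (h : IsQC Z) : IsQC Zᶜ := by
  obtain ⟨T, hT, hTl, rfl⟩ := h
  revert hTl
  induction T, hT using Set.Finite.induction_on with
  | empty =>
    intro _
    rw [Set.sUnion_empty, Set.compl_empty]
    exact IsQC.of_isOpen isOpen_univ
  | @insert a s _ _ ih =>
    intro hTl
    rw [Set.sUnion_insert, Set.compl_union]
    exact (IsQC.compl_of_isLocallyClosed (hTl a (Set.mem_insert a s))).inter
      (ih (fun t ht => hTl t (Set.mem_insert_of_mem a ht)))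

theorem IsQC.diff {Z Z' : Set X} (h : IsQC Z) (h' : IsQC Z') : IsQC (Z \ Z') := by
  rw [Set.sdiff_eq]
  exact h.inter h'.compl

theorem IsQC.preimage {Y : Type*} [TopologicalSpace Y] {Z : Set Y} (h : IsQC Z) {f : X → Y}
    (hf : Continuous f) : IsQC (f ⁻¹' Z) := by
  obtain ⟨T, hT, hTl, rfl⟩ := h
  refine ⟨(fun t => f ⁻¹' t) '' T, hT.image _, ?_, ?_⟩
  · rintro _ ⟨t, ht, rfl⟩
    exact (hTl t ht).preimage hf
  · rw [Set.preimage_sUnion, Set.sUnion_image]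

theorem IsQC.isLQC {Z : Set X} (h : IsQC Z) : IsLQC Z := by
  intro x
  refine ⟨Set.univ, isOpen_univ, trivial, ?_⟩
  rw [Set.univ_inter]
  exact h

theorem IsLQC.inter {Z Z' : Set X} (h : IsLQC Z) (h' : IsLQC Z') : IsLQC (Z ∩ Z') := by
  intro x
  obtain ⟨U, hU, hxU, hUZ⟩ := h x
  obtain ⟨U', hU', hxU', hUZ'⟩ := h' x
  refine ⟨U ∩ U', hU.inter hU', ⟨hxU, hxU'⟩, ?_⟩
  have : U ∩ U' ∩ (Z ∩ Z') = (U ∩ Z) ∩ (U' ∩ Z') := by
    ext y; simp only [Set.mem_inter_iff]; tauto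
  rw [this]
  exact IsQC.inter hUZ hUZ'

theorem IsLQC.union {Z Z' : Set X} (h : IsLQC Z) (h' : IsLQC Z') : IsLQC (Z ∪ Z') := by
  intro x
  obtain ⟨U, hU, hxU, hUZ⟩ := h x
  obtain ⟨U', hU', hxU', hUZ'⟩ := h' x
  refine ⟨U ∩ U', hU.inter hU', ⟨hxU, hxU'⟩, ?_⟩
  have : U ∩ U' ∩ (Z ∪ Z') = (U' ∩ (U ∩ Z)) ∪ (U ∩ (U' ∩ Z')) := by
    ext y; simp only [Set.mem_inter_iff, Set.mem_union]; tauto
  rw [this]
  exact IsQC.union ((IsQC.of_isOpen hU').inter hUZ) ((IsQC.of_isOpen hU).inter hUZ')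

theorem IsLQC.compl {Z : Set X} (h : IsLQC Z) : IsLQC Zᶜ := by
  intro x
  obtain ⟨U, hU, hxU, hUZ⟩ := h x
  refine ⟨U, hU, hxU, ?_⟩
  have : U ∩ Zᶜ = U ∩ (U ∩ Z)ᶜ := by
    ext y; simp only [Set.mem_inter_iff, Set.mem_compl_iff]; tauto
  rw [this]
  exact IsQC.inter (IsQC.of_isOpen hU) (IsQC.compl hUZ)

theorem IsLQC.diff {Z Z' : Set X} (h : IsLQC Z) (h' : IsLQC Z') : IsLQC (Z \ Z') := by
  rw [Set.sdiff_eq]
  exact h.inter h'.compl

theorem IsLQC.of_isLocallyClosed {Z : Set X} (h : IsLocallyClosed Z) : IsLQC Z :=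
  (IsQC.of_isLocallyClosed h).isLQC

theorem IsLQC.of_isOpen {Z : Set X} (h : IsOpen Z) : IsLQC Z := (IsQC.of_isOpen h).isLQC

theorem IsLQC.of_isClosed {Z : Set X} (h : IsClosed Z) : IsLQC Z := (IsQC.of_isClosed h).isLQC

theorem IsLQC.preimage {Y : Type*} [TopologicalSpace Y] {Z : Set Y} (h : IsLQC Z) {f : X → Y}
    (hf : Continuous f) : IsLQC (f ⁻¹' Z) := by
  intro x
  obtain ⟨U, hU, hxU, hUZ⟩ := h (f x)
  refine ⟨f ⁻¹' U, hU.preimage hf, hxU, ?_⟩
  rw [← Set.preimage_inter]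
  exact IsQC.preimage hUZ hf

/-- A quasi-constructible subset of a subspace is the trace of a quasi-constructible subset. -/
theorem IsQC.exists_of_subtype {S : Set X} {Z : Set ↥S} (h : IsQC Z) :
    ∃ Z' : Set X, IsQC Z' ∧ Subtype.val ⁻¹' Z' = Z := by
  obtain ⟨T, hT, hTl, rfl⟩ := h
  revert hTl
  induction T, hT using Set.Finite.induction_on with
  | empty => intro _; exact ⟨∅, IsQC.empty, by simp⟩
  | @insert a s _ _ ih =>
    intro hTl
    obtain ⟨Z₁, hZ₁, hZ₁'⟩ := ih (fun t ht => hTl t (Set.mem_insert_of_mem a ht))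
    obtain ⟨a', ha', ha''⟩ :=
      (Topology.IsInducing.subtypeVal.isLocallyClosed_iff).1 (hTl a (Set.mem_insert a s))
    refine ⟨a' ∪ Z₁, (IsQC.of_isLocallyClosed ha').union hZ₁, ?_⟩
    rw [Set.preimage_union, ha'', hZ₁', Set.sUnion_insert]

/-! ### Very dense subsets -/

/-- `X₀` is very dense in `X`: every nonempty locally closed subset of `X` meets `X₀`. -/
def IsVeryDense (X₀ : Set X) : Prop :=
  ∀ Z : Set X, IsLocallyClosed Z → Z.Nonempty → (Z ∩ X₀).Nonempty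

theorem IsVeryDense.inter_nonempty_of_isLQC {X₀ : Set X} (h : IsVeryDense X₀) {Z : Set X}
    (hZ : IsLQC Z) (hne : Z.Nonempty) : (Z ∩ X₀).Nonempty := by
  obtain ⟨z, hz⟩ := hne
  obtain ⟨U, _, hzU, T, _, hTl, hUZ⟩ := hZ z
  have hzT : z ∈ ⋃₀ T := by rw [← hUZ]; exact ⟨hzU, hz⟩
  obtain ⟨t, ht, hzt⟩ := hzT
  obtain ⟨y, hyt, hy0⟩ := h t (hTl t ht) ⟨z, hzt⟩
  have : y ∈ U ∩ Z := by rw [hUZ]; exact ⟨t, ht, hyt⟩
  exact ⟨y, this.2, hy0⟩

theorem IsVeryDense.subset_closure_of_isLQC {X₀ : Set X} (h : IsVeryDense X₀) {Z : Set X}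
    (hZ : IsLQC Z) : Z ⊆ closure (Z ∩ X₀) := by
  intro x hx
  rw [mem_closure_iff]
  intro V hV hxV
  have hVZ : IsLQC (V ∩ Z) := (IsLQC.of_isOpen hV).inter hZ
  obtain ⟨y, ⟨hyV, hyZ⟩, hy0⟩ := h.inter_nonempty_of_isLQC hVZ ⟨x, hxV, hx⟩
  exact ⟨y, hyV, hyZ, hy0⟩

theorem IsVeryDense.eq_of_isLQC {X₀ : Set X} (h : IsVeryDense X₀) {Z Z' : Set X}
    (hZ : IsLQC Z) (hZ' : IsLQC Z') (hZZ' : Z ∩ X₀ = Z' ∩ X₀) : Z = Z' := by
  have key : ∀ {A B : Set X}, IsLQC A → IsLQC B → A ∩ X₀ = B ∩ X₀ → A ⊆ B := by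
    intro A B hA hB hAB x hxA
    by_contra hxB
    obtain ⟨y, ⟨hyA, hyB⟩, hy0⟩ := h.inter_nonempty_of_isLQC (hA.diff hB) ⟨x, hxA, hxB⟩
    have : y ∈ B ∩ X₀ := by rw [← hAB]; exact ⟨hyA, hy0⟩
    exact hyB this.1
  exact Set.Subset.antisymm (key hZ hZ' hZZ') (key hZ' hZ hZZ'.symm)

/-- The image of a quasi-homeomorphism (set-level formulation) is very dense. -/
theorem isVeryDense_range_of_quasiHomeo {X Y : Type*} [TopologicalSpace X] [TopologicalSpace Y]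
    (f : X → Y)
    (hinj : ∀ U₁ U₂ : Set Y, IsOpen U₁ → IsOpen U₂ → f ⁻¹' U₁ = f ⁻¹' U₂ → U₁ = U₂) :
    IsVeryDense (Set.range f) := by
  intro Z hZ hne
  obtain ⟨U, F, hU, hF, rfl⟩ := hZ
  by_contra hemp
  rw [Set.not_nonempty_iff_eq_empty] at hemp
  have hUV : f ⁻¹' U = f ⁻¹' (U ∩ Fᶜ) := by
    ext x
    simp only [Set.mem_preimage, Set.mem_inter_iff, Set.mem_compl_iff]
    constructor
    · intro hxU
      refine ⟨hxU, fun hxF => ?_⟩
      have : f x ∈ U ∩ F ∩ Set.range f := ⟨⟨hxU, hxF⟩, x, rfl⟩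
      rw [hemp] at this; exact this
    · rintro ⟨hxU, _⟩; exact hxU
  have := hinj U (U ∩ Fᶜ) hU (hU.inter hF.isOpen_compl) hUV
  obtain ⟨x, hxU, hxF⟩ := hne
  rw [this] at hxU
  exact hxU.2 hxF

/-- Two locally quasi-constructible sets with the same preimage under a quasi-homeomorphism
coincide. -/
theorem eq_of_preimage_eq_of_quasiHomeo {X Y : Type*} [TopologicalSpace X] [TopologicalSpace Y]
    (f : X → Y)
    (hinj : ∀ U₁ U₂ : Set Y, IsOpen U₁ → IsOpen U₂ → f ⁻¹' U₁ = f ⁻¹' U₂ → U₁ = U₂)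
    {Z Z' : Set Y} (hZ : IsLQC Z) (hZ' : IsLQC Z') (h : f ⁻¹' Z = f ⁻¹' Z') : Z = Z' := by
  apply (isVeryDense_range_of_quasiHomeo f hinj).eq_of_isLQC hZ hZ'
  ext y
  simp only [Set.mem_inter_iff, Set.mem_range]
  constructor
  · rintro ⟨hyZ, x, rfl⟩
    have : x ∈ f ⁻¹' Z := hyZ
    rw [h] at this
    exact ⟨this, x, rfl⟩
  · rintro ⟨hyZ, x, rfl⟩
    have : x ∈ f ⁻¹' Z' := hyZ
    rw [← h] at this
    exact ⟨this, x, rfl⟩

/-- Conversion from the `Opens`-bijective formulation of quasi-homeomorphisms to the set-level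
formulation. -/
theorem quasiHomeo_set_of_opens {X Y : Type*} [TopologicalSpace X] [TopologicalSpace Y]
    (f : X → Y) (hf : Continuous f)
    (hq : Function.Bijective (fun U : TopologicalSpace.Opens Y =>
      (⟨f ⁻¹' (U : Set Y), U.isOpen.preimage hf⟩ : TopologicalSpace.Opens X))) :
    (∀ U₁ U₂ : Set Y, IsOpen U₁ → IsOpen U₂ → f ⁻¹' U₁ = f ⁻¹' U₂ → U₁ = U₂) ∧
      (∀ V : Set X, IsOpen V → ∃ U : Set Y, IsOpen U ∧ f ⁻¹' U = V) := by
  obtain ⟨hinj, hsurj⟩ := hq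
  refine ⟨fun U V hU hV hUV => ?_, fun W hW => ?_⟩
  · have := @hinj ⟨U, hU⟩ ⟨V, hV⟩ (TopologicalSpace.Opens.ext hUV)
    exact congrArg (fun O : TopologicalSpace.Opens Y => (O : Set Y)) this
  · obtain ⟨U, hU⟩ := hsurj ⟨W, hW⟩
    exact ⟨U, U.isOpen, congrArg (fun O : TopologicalSpace.Opens X => (O : Set X)) hU⟩

/-- For a quasi-homeomorphism, inclusion of a locally quasi-constructible set in an open set can be
tested on preimages. -/
theorem subset_of_preimage_subset_of_quasiHomeo {X Y : Type*} [TopologicalSpace X]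
    [TopologicalSpace Y] (f : X → Y)
    (hinj : ∀ U₁ U₂ : Set Y, IsOpen U₁ → IsOpen U₂ → f ⁻¹' U₁ = f ⁻¹' U₂ → U₁ = U₂)
    {Z U : Set Y} (hZ : IsLQC Z) (hU : IsOpen U) (h : f ⁻¹' Z ⊆ f ⁻¹' U) : Z ⊆ U := by
  have h1 : Z \ U = ∅ := by
    apply eq_of_preimage_eq_of_quasiHomeo f hinj (hZ.diff (IsLQC.of_isOpen hU)) IsQC.empty.isLQC
    rw [Set.preimage_empty, Set.preimage_sdiff]
    exact Set.sdiff_eq_empty.2 h
  exact Set.sdiff_eq_empty.1 h1

/-- Compactness of a locally quasi-constructible set can be tested after pulling back along a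
quasi-homeomorphism. -/
theorem isCompact_preimage_iff_of_quasiHomeo {X Y : Type*} [TopologicalSpace X]
    [TopologicalSpace Y] (f : X → Y) (hf : Continuous f)
    (hinj : ∀ U₁ U₂ : Set Y, IsOpen U₁ → IsOpen U₂ → f ⁻¹' U₁ = f ⁻¹' U₂ → U₁ = U₂)
    (hsurj : ∀ V : Set X, IsOpen V → ∃ U : Set Y, IsOpen U ∧ f ⁻¹' U = V)
    {Z : Set Y} (hZ : IsLQC Z) : IsCompact (f ⁻¹' Z) ↔ IsCompact Z := by
  constructor
  · intro hc
    rw [isCompact_iff_finite_subcover]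
    intro ι U hU hZU
    have h1 : f ⁻¹' Z ⊆ ⋃ i, f ⁻¹' (U i) := by
      rw [← Set.preimage_iUnion]; exact Set.preimage_mono hZU
    obtain ⟨F, hF⟩ := hc.elim_finite_subcover (fun i => f ⁻¹' (U i))
      (fun i => (hU i).preimage hf) h1
    refine ⟨F, ?_⟩
    apply subset_of_preimage_subset_of_quasiHomeo f hinj hZ (isOpen_biUnion fun i _ => hU i)
    rw [Set.preimage_iUnion₂]
    exact hF
  · intro hc
    rw [isCompact_iff_finite_subcover]
    intro ι V hV hZV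
    choose U hU hUV using fun i => hsurj (V i) (hV i)
    have h1 : Z ⊆ ⋃ i, U i := by
      apply subset_of_preimage_subset_of_quasiHomeo f hinj hZ (isOpen_iUnion hU)
      rw [Set.preimage_iUnion]
      simp only [hUV]
      exact hZV
    obtain ⟨F, hF⟩ := hc.elim_finite_subcover U hU h1
    refine ⟨F, ?_⟩
    have := Set.preimage_mono (f := f) hF
    rw [Set.preimage_iUnion₂] at this
    simp only [hUV] at this
    exact this

/-- A subspace is Noetherian iff all traces of open sets are compact. -/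
theorem noetherianSpace_subtype_iff {X : Type*} [TopologicalSpace X] (S : Set X) :
    TopologicalSpace.NoetherianSpace ↥S ↔ ∀ U : Set X, IsOpen U → IsCompact (U ∩ S) := by
  constructor
  · intro h U _
    exact (TopologicalSpace.noetherianSpace_set_iff S).1 h _ Set.inter_subset_right
  · intro h
    rw [TopologicalSpace.noetherianSpace_iff_opens]
    intro s
    obtain ⟨U, hU, hUs⟩ := isOpen_induced_iff.1 s.isOpen
    rw [Subtype.isCompact_iff, ← hUs, Subtype.image_preimage_coe, Set.inter_comm]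
    exact h U hU

end Groth.Agent.Helper4
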