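import Mathlib
import Groth.Agent.Lib.Helper4.QuasiConstructible

/-!
# Quasi-homeomorphisms (EGA IV 10.2)
-/

set_option autoImplicit false
universe u

namespace Groth.Agent.Helper4

open Topology

variable {X Y : Type*} [TopologicalSpace X] [TopologicalSpace Y]

/-- A quasi-homeomorphism: a continuous map such that taking preimages is a bijection between open
sets. -/
structure IsQuasiHomeo (f : X → Y) : Prop where
  continuous : Continuous f
  inj : ∀ U₁ U₂ : Set Y, IsOpen U₁ → IsOpen U₂ → f ⁻¹' U₁ = f ⁻¹' U₂ → U₁ = U₂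
  surj : ∀ V : Set X, IsOpen V → ∃ U : Set Y, IsOpen U ∧ f ⁻¹' U = V

theorem IsQuasiHomeo.of_opens (f : X → Y) (hf : Continuous f)
    (hq : Function.Bijective (fun U : TopologicalSpace.Opens Y =>
      (⟨f ⁻¹' (U : Set Y), U.isOpen.preimage hf⟩ : TopologicalSpace.Opens X))) :
    IsQuasiHomeo f :=
  ⟨hf, (quasiHomeo_set_of_opens f hf hq).1, (quasiHomeo_set_of_opens f hf hq).2⟩

namespace IsQuasiHomeo

variable {f : X → Y} (hf : IsQuasiHomeo f)
include hf

theorem eq_of_preimage_eq {Z Z' : Set Y} (hZ : IsLQC Z) (hZ' : IsLQC Z')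
    (h : f ⁻¹' Z = f ⁻¹' Z') : Z = Z' :=
  eq_of_preimage_eq_of_quasiHomeo f hf.inj hZ hZ' h

theorem isCompact_preimage_iff {Z : Set Y} (hZ : IsLQC Z) :
    IsCompact (f ⁻¹' Z) ↔ IsCompact Z :=
  isCompact_preimage_iff_of_quasiHomeo f hf.continuous hf.inj hf.surj hZ

theorem exists_isClosed_preimage_eq {G : Set X} (hG : IsClosed G) :
    ∃ F : Set Y, IsClosed F ∧ f ⁻¹' F = G := by
  obtain ⟨U, hU, hUG⟩ := hf.surj Gᶜ hG.isOpen_compl
  exact ⟨Uᶜ, hU.isClosed_compl, by rw [Set.preimage_compl, hUG, compl_compl]⟩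

theorem exists_isLocallyClosed_preimage_eq {W : Set X} (hW : IsLocallyClosed W) :
    ∃ Z : Set Y, IsLocallyClosed Z ∧ f ⁻¹' Z = W := by
  obtain ⟨V, G, hV, hG, rfl⟩ := hW
  obtain ⟨U, hU, rfl⟩ := hf.surj V hV
  obtain ⟨F, hF, rfl⟩ := hf.exists_isClosed_preimage_eq hG
  exact ⟨U ∩ F, ⟨U, F, hU, hF, rfl⟩, Set.preimage_inter⟩

/-- Restriction of a quasi-homeomorphism over a locally quasi-constructible subset. -/
theorem restrictPreimage {Y' : Set Y} (hY' : IsLQC Y') :
    IsQuasiHomeo (Y'.restrictPreimage f) := by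
  refine ⟨hf.continuous.restrictPreimage, ?_, ?_⟩
  · intro U₁ U₂ hU₁ hU₂ hU
    obtain ⟨V₁, hV₁, rfl⟩ := isOpen_induced_iff.1 hU₁
    obtain ⟨V₂, hV₂, rfl⟩ := isOpen_induced_iff.1 hU₂
    have hZ₁ : IsLQC (V₁ ∩ Y') := (IsLQC.of_isOpen hV₁).inter hY'
    have hZ₂ : IsLQC (V₂ ∩ Y') := (IsLQC.of_isOpen hV₂).inter hY'
    have hpre : f ⁻¹' (V₁ ∩ Y') = f ⁻¹' (V₂ ∩ Y') := by
      ext x
      simp only [Set.mem_preimage, Set.mem_inter_iff]
      constructor
      · rintro ⟨h1, h2⟩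
        have : (⟨x, h2⟩ : ↥(f ⁻¹' Y')) ∈ (Y'.restrictPreimage f) ⁻¹' (Subtype.val ⁻¹' V₁) := h1
        rw [hU] at this
        exact ⟨this, h2⟩
      · rintro ⟨h1, h2⟩
        have : (⟨x, h2⟩ : ↥(f ⁻¹' Y')) ∈ (Y'.restrictPreimage f) ⁻¹' (Subtype.val ⁻¹' V₂) := h1
        rw [← hU] at this
        exact ⟨this, h2⟩
    have hZ := hf.eq_of_preimage_eq hZ₁ hZ₂ hpre
    ext y
    simp only [Set.mem_preimage]
    constructor
    · intro hy
      have : (y : Y) ∈ V₁ ∩ Y' := ⟨hy, y.2⟩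
      rw [hZ] at this; exact this.1
    · intro hy
      have : (y : Y) ∈ V₂ ∩ Y' := ⟨hy, y.2⟩
      rw [← hZ] at this; exact this.1
  · intro V hV
    obtain ⟨V', hV', rfl⟩ := isOpen_induced_iff.1 hV
    obtain ⟨U, hU, hUV⟩ := hf.surj V' hV'
    refine ⟨Subtype.val ⁻¹' U, hU.preimage continuous_subtype_val, ?_⟩
    ext x
    simp only [Set.mem_preimage, Set.restrictPreimage_coe]
    have : (x : X) ∈ f ⁻¹' U ↔ (x : X) ∈ V' := by rw [hUV]
    exact this

theorem isRetrocompact_preimage_iff {U : Set Y} (hU : IsOpen U) :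
    IsRetrocompact (f ⁻¹' U) ↔ IsRetrocompact U := by
  constructor
  · intro h U' hU'c hU'o
    have h1 : IsCompact (f ⁻¹' U') := (hf.isCompact_preimage_iff (IsLQC.of_isOpen hU'o)).2 hU'c
    have h2 := h h1 (hU'o.preimage hf.continuous)
    rw [← Set.preimage_inter] at h2
    exact (hf.isCompact_preimage_iff (IsLQC.of_isOpen (hU.inter hU'o))).1 h2
  · intro h V hVc hVo
    obtain ⟨U', hU'o, rfl⟩ := hf.surj V hVo
    have h1 : IsCompact U' := (hf.isCompact_preimage_iff (IsLQC.of_isOpen hU'o)).1 hVc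
    rw [← Set.preimage_inter]
    exact (hf.isCompact_preimage_iff (IsLQC.of_isOpen (hU.inter hU'o))).2 (h h1 hU'o)

theorem isConstructible_preimage {Z : Set Y} (hZ : IsConstructible Z) :
    IsConstructible (f ⁻¹' Z) :=
  hZ.preimage hf.continuous (fun _ hs hs' => (hf.isRetrocompact_preimage_iff hs).2 hs')

theorem exists_isConstructible_preimage_eq {W : Set X} (hW : IsConstructible W) :
    ∃ Z : Set Y, IsConstructible Z ∧ f ⁻¹' Z = W := by
  induction hW using IsConstructible.empty_union_induction with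
  | open_retrocompact V hVo hVc =>
    obtain ⟨U, hU, rfl⟩ := hf.surj V hVo
    exact ⟨U, ((hf.isRetrocompact_preimage_iff hU).1 hVc).isConstructible hU, rfl⟩
  | union s _ t _ hs' ht' =>
    obtain ⟨Zs, hZs, rfl⟩ := hs'
    obtain ⟨Zt, hZt, rfl⟩ := ht'
    exact ⟨Zs ∪ Zt, hZs.union hZt, Set.preimage_union⟩
  | compl s _ hs' =>
    obtain ⟨Zs, hZs, rfl⟩ := hs'
    exact ⟨Zsᶜ, hZs.compl, Set.preimage_compl⟩

end IsQuasiHomeo

theorem _root_.Topology.IsConstructible.isQC' {Z : Set X} (hZ : IsConstructible Z) : IsQC Z := by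
  induction hZ using IsConstructible.empty_union_induction with
  | open_retrocompact V hVo _ => exact IsQC.of_isOpen hVo
  | union s _ t _ hs' ht' => exact hs'.union ht'
  | compl s _ hs' => exact hs'.compl

/-- The image in the ambient space of a quasi-constructible subset of an open subspace. -/
theorem IsQC.image_val_of_isOpen {U : Set X} (hU : IsOpen U) {Z : Set ↥U} (hZ : IsQC Z) :
    IsQC (Subtype.val '' Z) := by
  obtain ⟨T, hT, hTl, rfl⟩ := hZ
  refine ⟨(fun t => Subtype.val '' t) '' T, hT.image _, ?_, ?_⟩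
  · rintro _ ⟨t, ht, rfl⟩
    exact (hTl t ht).image IsInducing.subtypeVal (by
      rw [Subtype.range_coe]; exact hU.isLocallyClosed)
  · rw [Set.image_sUnion, Set.sUnion_image]

theorem _root_.Topology.IsLocallyConstructible.isLQC' {Z : Set X}
    (hZ : IsLocallyConstructible Z) : IsLQC Z := by
  intro x
  obtain ⟨U, hxU, hU, hUZ⟩ := hZ x
  refine ⟨U, hU, mem_of_mem_nhds hxU, ?_⟩
  have := IsQC.image_val_of_isOpen hU hUZ.isQC'
  rw [Subtype.image_preimage_coe] at this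
  exact this

namespace IsQuasiHomeo

variable {f : X → Y} (hf : IsQuasiHomeo f)
include hf

theorem isLocallyConstructible_preimage {Z : Set Y} (hZ : IsLocallyConstructible Z) :
    IsLocallyConstructible (f ⁻¹' Z) := by
  intro x
  obtain ⟨U, hxU, hU, hUZ⟩ := hZ (f x)
  refine ⟨f ⁻¹' U, hf.continuous.continuousAt.preimage_mem_nhds hxU, hU.preimage hf.continuous, ?_⟩
  have := (hf.restrictPreimage (IsLQC.of_isOpen hU)).isConstructible_preimage hUZ
  exact this

theorem exists_isLocallyConstructible_preimage_eq {W : Set X} (hW : IsLocallyConstructible W) :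
    ∃ Z : Set Y, IsLocallyConstructible Z ∧ f ⁻¹' Z = W := by
  -- local data
  have hloc : ∀ x : X, ∃ (U : Set Y) (Zt : Set Y), IsOpen U ∧ f x ∈ U ∧ Zt ⊆ U ∧
      IsConstructible (Subtype.val ⁻¹' Zt : Set ↥U) ∧ f ⁻¹' Zt = f ⁻¹' U ∩ W := by
    intro x
    obtain ⟨V, hxV, hV, hVW⟩ := hW x
    obtain ⟨U, hU, rfl⟩ := hf.surj V hV
    obtain ⟨Z₀, hZ₀, hZ₀eq⟩ :=
      (hf.restrictPreimage (IsLQC.of_isOpen hU)).exists_isConstructible_preimage_eq hVW
    refine ⟨U, Subtype.val '' Z₀, hU, (mem_of_mem_nhds hxV : x ∈ f ⁻¹' U), ?_, ?_, ?_⟩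
    · rintro _ ⟨z, _, rfl⟩; exact z.2
    · rw [Set.preimage_image_eq _ Subtype.val_injective]; exact hZ₀
    · ext z
      simp only [Set.mem_preimage, Set.mem_image, Subtype.exists, exists_and_right,
        exists_eq_right, Set.mem_inter_iff]
      constructor
      · rintro ⟨hzU, hz⟩
        have : (⟨z, hzU⟩ : ↥(f ⁻¹' U)) ∈ (U.restrictPreimage f) ⁻¹' Z₀ := hz
        rw [hZ₀eq] at this
        exact ⟨hzU, this⟩
      · rintro ⟨hzU, hzW⟩
        refine ⟨hzU, ?_⟩
        have : (⟨z, hzU⟩ : ↥(f ⁻¹' U)) ∈ (Subtype.val ⁻¹' W : Set ↥(f ⁻¹' U)) := hzW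
        rw [← hZ₀eq] at this
        exact this
  choose U Zt hUo hxU hZtU hZtc hZteq using hloc
  have hZtQ : ∀ x, IsQC (Zt x) := by
    intro x
    have := IsQC.image_val_of_isOpen (hUo x) (hZtc x).isQC'
    rw [Subtype.image_preimage_coe, Set.inter_eq_right.2 (hZtU x)] at this
    exact this
  have hcompat : ∀ x y : X, Zt x ∩ U y = Zt y ∩ U x := by
    intro x y
    apply hf.eq_of_preimage_eq ((hZtQ x).inter (IsQC.of_isOpen (hUo y))).isLQC
      ((hZtQ y).inter (IsQC.of_isOpen (hUo x))).isLQC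
    rw [Set.preimage_inter, Set.preimage_inter, hZteq x, hZteq y]
    ext z
    simp only [Set.mem_inter_iff, Set.mem_preimage]
    tauto
  have hcoverX : ∀ z : X, z ∈ f ⁻¹' (⋃ x, U x) := fun z => Set.mem_iUnion.2 ⟨z, hxU z⟩
  have hcoverY : (⋃ x, U x) = Set.univ := by
    apply hf.inj _ _ (isOpen_iUnion hUo) isOpen_univ
    rw [Set.preimage_univ]
    exact Set.eq_univ_of_forall hcoverX
  have hinter : ∀ y : X, U y ∩ ⋃ x, Zt x = Zt y := by
    intro y
    ext w
    simp only [Set.mem_inter_iff, Set.mem_iUnion]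
    constructor
    · rintro ⟨hwU, x, hwx⟩
      have : w ∈ Zt x ∩ U y := ⟨hwx, hwU⟩
      rw [hcompat x y] at this
      exact this.1
    · intro hwy
      exact ⟨hZtU y hwy, y, hwy⟩
  refine ⟨⋃ x, Zt x, ?_, ?_⟩
  · intro w
    have hw : w ∈ ⋃ x, U x := by rw [hcoverY]; trivial
    obtain ⟨y, hwy⟩ := Set.mem_iUnion.1 hw
    refine ⟨U y, (hUo y).mem_nhds hwy, hUo y, ?_⟩
    have : (Subtype.val ⁻¹' (⋃ x, Zt x) : Set ↥(U y)) = Subtype.val ⁻¹' (Zt y) := by
      ext z
      simp only [Set.mem_preimage]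
      constructor
      · intro hz
        have : (z : Y) ∈ U y ∩ ⋃ x, Zt x := ⟨z.2, hz⟩
        rw [hinter y] at this; exact this
      · intro hz
        exact Set.mem_iUnion.2 ⟨y, hz⟩
    rw [this]
    exact hZtc y
  · rw [Set.preimage_iUnion]
    ext z
    simp only [Set.mem_iUnion]
    constructor
    · rintro ⟨x, hzx⟩
      rw [hZteq x] at hzx
      exact hzx.2
    · intro hz
      refine ⟨z, ?_⟩
      rw [hZteq z]
      exact ⟨hxU z, hz⟩

end IsQuasiHomeo

end Groth.Agent.Helper4
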