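import Mathlib
import Groth.Agent.Lib.Helper5.RGamPush.Main
import Groth.Agent.Lib.Helper5.Stalk.RpushRes
import Groth.Agent.Lib.Helper5.Stalk.Lpull

/-!
# Γ-acyclicity of restricted pushforward of K-injective (helper4)
-/

set_option backward.isDefEq.respectTransparency.types false
set_option synthInstance.maxHeartbeats 400000
set_option autoImplicit false
set_option linter.unusedSectionVars false
set_option linter.style.haveILetI false
set_option linter.unusedSimpArgs false
universe u v w
open CategoryTheory CategoryTheory.Limits Opposite AlgebraicGeometry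
attribute [local instance] HasDerivedCategory.standard

namespace Groth.Agent.Lib.Helper4.RGamRestrPush
open Groth.Agent.Lib.Helper5.RGamPush Groth.Agent.Lib.Helper5.RpushRes Groth.Agent.Helper3.KInjDer

theorem isIso_app_of_iso {C D : Type*} [Category C] [Category D] {F G : C ⥤ D} (α : F ⟶ G)
    {A A' : C} (e : A ≅ A') [IsIso (α.app A')] : IsIso (α.app A) := by
  have h := α.naturality e.hom
  have : α.app A = F.map e.hom ≫ α.app A' ≫ G.map e.inv := by
    rw [← Category.assoc, h, Category.assoc, ← Functor.map_comp, e.hom_inv_id,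
      CategoryTheory.Functor.map_id, Category.comp_id]
  rw [this]; infer_instance

theorem main {X Y : Scheme.{u}} (f : X ⟶ Y) (B : CochainComplex X.Modules ℤ)
    [B.IsKInjective] (U : Y.Opens) [DCoh.HasRΓ (U : Scheme.{u})] :
    IsIso (((DCoh.gammaKh (U : Scheme.{u})).totalRightDerivedUnit DerivedCategory.Qh
      (HomotopyCategory.quasiIso (U : Scheme.{u}).Modules (ComplexShape.up ℤ))).app
      ((HomotopyCategory.quotient (U : Scheme.{u}).Modules (ComplexShape.up ℤ)).obj
        ((DCoh.restrictCx U).obj (((Scheme.Modules.pushforward f).mapHomologicalComplex (ComplexShape.up ℤ)).obj B)))) := by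
  haveI : DCoh.HasRpush (f ∣_ U) := hasRightDerivedFunctor (DCoh.pushKh (f ∣_ U))
  haveI := Groth.Agent.Lib.Helper5.LpullLib.hasLpull (f ∣_ U)
  haveI := isKInjective_restrict (f ⁻¹ᵁ U) B
  have h := isIso_rgammaUnit_push (f ∣_ U)
    (((Scheme.Modules.restrictFunctor (f ⁻¹ᵁ U).ι).mapHomologicalComplex (ComplexShape.up ℤ)).obj B)
  let τ := NatIso.mapHomologicalComplex (pushRestrictIso f U) (ComplexShape.up ℤ)
  haveI : IsIso (((DCoh.gammaKh (U : Scheme.{u})).totalRightDerivedUnit DerivedCategory.Qh
      (HomotopyCategory.quasiIso (U : Scheme.{u}).Modules (ComplexShape.up ℤ))).app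
      ((HomotopyCategory.quotient (U : Scheme.{u}).Modules (ComplexShape.up ℤ)).obj
        (((Scheme.Modules.restrictFunctor (f ⁻¹ᵁ U).ι ⋙ Scheme.Modules.pushforward (f ∣_ U)).mapHomologicalComplex
              (ComplexShape.up ℤ)).obj B))) := h
  exact isIso_app_of_iso _ ((HomotopyCategory.quotient (U : Scheme.{u}).Modules (ComplexShape.up ℤ)).mapIso (τ.app B))

end Groth.Agent.Lib.Helper4.RGamRestrPush
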