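import Mathlib
import Groth.Prelude.Def_Brnch
import Groth.Prelude.Def_EGA4Misc
import Groth.Agent.Lib.Helper4.NormFibre3
import Groth.Agent.Lib.Helper4.GeomUnibranchIC1
import Groth.Agent.Lib.Helper4.RadBir1
import Groth.Agent.Lib.Helper4.RadBir2
import Groth.Agent.Lib.Helper4.RadBir3

/-!
# Geometric unibranchness along an integral birational morphism (radicial criterion) (helper4)
-/

set_option backward.isDefEq.respectTransparency.types false
set_option synthInstance.maxHeartbeats 400000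
set_option autoImplicit false
set_option linter.unusedSectionVars false
set_option linter.style.haveILetI false
set_option linter.unusedSimpArgs false
universe u v w
open CategoryTheory CategoryTheory.Limits AlgebraicGeometry TopologicalSpace IsLocalRing Opposite
open Groth.Agent.Lib.Helper4.NormFibre2 Groth.Agent.Lib.Helper4.RadBir3

namespace Groth.Agent.Lib.Helper4.RadBir4

section Main

variable {X Y : Scheme.{u}} (f : X ⟶ Y) [IsIntegralHom f] (hf : RadPt.IsBirational f)

include hf in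
theorem surjective_of_isBirational (y : Y) : ∃ x : X, f x = y := by
  obtain ⟨U, hU, hyU, -⟩ := exists_isAffineOpen_mem_and_subset (U := (⊤ : Y.Opens)) (x := y)
    (by simp)
  letI := (f.app U).hom.toAlgebra
  haveI : Algebra.IsIntegral Γ(Y, U) Γ(X, f ⁻¹ᵁ U) := ⟨IsIntegralHom.isIntegral_app f U hU⟩
  have hbir := ringBir_of_isBirational f hU hf
  obtain ⟨q, hq, hqp⟩ := ring_exists_q hbir (hU.primeIdealOf ⟨y, hyU⟩).asIdeal
  obtain ⟨x, hx, hxq, hfx⟩ := point_of_prime f hU q hq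
  have hqp' : q.comap (f.app U).hom = (hU.primeIdealOf ⟨y, hyU⟩).asIdeal := hqp
  rw [hqp'] at hfx
  have h1 : hU.primeIdealOf ⟨f x, hx⟩ = hU.primeIdealOf ⟨y, hyU⟩ := PrimeSpectrum.ext hfx
  exact ⟨x, congrArg Subtype.val (primeIdealOf_injective' hU h1)⟩

include hf in
theorem forward_at (x : X) (hGU : CAlg2.IsGeomUnibranch (Y.presheaf.stalk (f x))) :
    (∀ x' : X, f x' = f x → x' = x) ∧ (f.residueFieldMap x).hom.IsPurelyInseparable ∧
      CAlg2.IsGeomUnibranch (X.presheaf.stalk x) := by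
  obtain ⟨U, hU, hx, -⟩ := exists_isAffineOpen_mem_and_subset (U := (⊤ : Y.Opens)) (x := f x)
    (by simp)
  have hV := hU.preimage f
  letI := (f.app U).hom.toAlgebra
  haveI : Algebra.IsIntegral Γ(Y, U) Γ(X, f ⁻¹ᵁ U) := ⟨IsIntegralHom.isIntegral_app f U hU⟩
  have hbir := ringBir_of_isBirational f hU hf
  letI := Y.presheaf.algebra_section_stalk (U := U) ⟨f x, hx⟩
  haveI := hU.isLocalization_stalk ⟨f x, hx⟩
  letI := X.presheaf.algebra_section_stalk (U := f ⁻¹ᵁ U) ⟨x, hx⟩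
  haveI := hV.isLocalization_stalk ⟨x, hx⟩
  obtain ⟨h1, h2⟩ := ring_forward hbir (hU.primeIdealOf ⟨f x, hx⟩).asIdeal
    (Y.presheaf.stalk (f x)) hGU
  refine ⟨?_, ?_⟩
  · intro x' hx'
    have hx'V : x' ∈ f ⁻¹ᵁ U := by
      show f x' ∈ U
      rw [hx']; exact hx
    have e1 := comap_primeIdealOf f hU x' hx'V
    have e2 := comap_primeIdealOf f hU x hx
    have e3 : hU.primeIdealOf ⟨f x', hx'V⟩ = hU.primeIdealOf ⟨f x, hx⟩ := by
      congr 1
      exact Subtype.ext hx'
    rw [e3] at e1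
    have e4 := h1 _ _ (hV.primeIdealOf ⟨x', hx'V⟩).2 (hV.primeIdealOf ⟨x, hx⟩).2 e1 e2
    have e5 : hV.primeIdealOf ⟨x', hx'V⟩ = hV.primeIdealOf ⟨x, hx⟩ := PrimeSpectrum.ext e4
    exact congrArg Subtype.val (primeIdealOf_injective' hV e5)
  · have hψ : (f.stalkMap x).hom.comp (algebraMap Γ(Y, U) (Y.presheaf.stalk (f x))) =
        (algebraMap Γ(X, f ⁻¹ᵁ U) (X.presheaf.stalk x)).comp (algebraMap Γ(Y, U) Γ(X, f ⁻¹ᵁ U)) := by
      have := Scheme.Hom.germ_stalkMap f U x hx
      exact congrArg CommRingCat.Hom.hom this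
    exact h2 (hV.primeIdealOf ⟨x, hx⟩).asIdeal (X.presheaf.stalk x) (f.stalkMap x).hom hψ
      (comap_primeIdealOf f hU x hx)

include hf in
theorem backward_at (x : X) (huniq : ∀ x' : X, f x' = f x → x' = x)
    (hPI : (f.residueFieldMap x).hom.IsPurelyInseparable)
    (hGU : CAlg2.IsGeomUnibranch (X.presheaf.stalk x)) :
    CAlg2.IsGeomUnibranch (Y.presheaf.stalk (f x)) := by
  obtain ⟨U, hU, hx, -⟩ := exists_isAffineOpen_mem_and_subset (U := (⊤ : Y.Opens)) (x := f x)
    (by simp)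
  have hV := hU.preimage f
  letI := (f.app U).hom.toAlgebra
  haveI : Algebra.IsIntegral Γ(Y, U) Γ(X, f ⁻¹ᵁ U) := ⟨IsIntegralHom.isIntegral_app f U hU⟩
  have hbir := ringBir_of_isBirational f hU hf
  letI := Y.presheaf.algebra_section_stalk (U := U) ⟨f x, hx⟩
  haveI := hU.isLocalization_stalk ⟨f x, hx⟩
  letI := X.presheaf.algebra_section_stalk (U := f ⁻¹ᵁ U) ⟨x, hx⟩
  haveI := hV.isLocalization_stalk ⟨x, hx⟩
  have hψ : (f.stalkMap x).hom.comp (algebraMap Γ(Y, U) (Y.presheaf.stalk (f x))) =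
      (algebraMap Γ(X, f ⁻¹ᵁ U) (X.presheaf.stalk x)).comp (algebraMap Γ(Y, U) Γ(X, f ⁻¹ᵁ U)) := by
    have := Scheme.Hom.germ_stalkMap f U x hx
    exact congrArg CommRingCat.Hom.hom this
  refine ring_backward hbir (hU.primeIdealOf ⟨f x, hx⟩).asIdeal (Y.presheaf.stalk (f x))
    (hV.primeIdealOf ⟨x, hx⟩).asIdeal (comap_primeIdealOf f hU x hx) ?_
    (X.presheaf.stalk x) (f.stalkMap x).hom hψ hPI hGU
  intro q' hq' hq'p
  obtain ⟨x', hx', hx'q, hfx'⟩ := point_of_prime f hU q' hq'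
  have hq'p' : q'.comap (f.app U).hom = (hU.primeIdealOf ⟨f x, hx⟩).asIdeal := hq'p
  rw [hq'p'] at hfx'
  have e1 : hU.primeIdealOf ⟨f x', hx'⟩ = hU.primeIdealOf ⟨f x, hx⟩ := PrimeSpectrum.ext hfx'
  have e2 : f x' = f x := congrArg Subtype.val (primeIdealOf_injective' hU e1)
  have e3 := huniq x' e2
  subst e3
  exact hx'q.symm

include hf in
theorem main (y : Y) :
    CAlg2.IsGeomUnibranch (Y.presheaf.stalk y) ↔
      (RadPt.IsRadicialAt f y ∧ ∀ x : X, f x = y → CAlg2.IsGeomUnibranch (X.presheaf.stalk x)) := by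
  constructor
  · intro hGU
    refine ⟨⟨?_, ?_⟩, ?_⟩
    · intro x x' hx hx'
      subst hx
      exact ((forward_at f hf x hGU).1 x' hx').symm
    · intro x hx
      subst hx
      exact (forward_at f hf x hGU).2.1
    · intro x hx
      subst hx
      exact (forward_at f hf x hGU).2.2
  · rintro ⟨hrad, hall⟩
    obtain ⟨x, hx⟩ := surjective_of_isBirational f hf y
    subst hx
    exact backward_at f hf x (fun x' h => hrad.1 x' x h rfl) (hrad.2 x rfl) (hall x rfl)

end Main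



section Main2

variable {X Y : Scheme.{u}} (f : X ⟶ Y) [IsIntegralHom f] (hf : RadPt.IsBirational f)

include hf in
theorem main_global :
    (∀ y : Y, CAlg2.IsGeomUnibranch (Y.presheaf.stalk y)) ↔
      ((∀ x : X, CAlg2.IsGeomUnibranch (X.presheaf.stalk x)) ∧ UniversallyInjective f) := by
  have htfae := (tfae_universallyInjective f).out 0 2
  constructor
  · intro h
    refine ⟨fun x => ((main f hf (f x)).mp (h (f x))).2 x rfl, ?_⟩
    rw [htfae]
    refine ⟨fun x x' hxx' => ((main f hf (f x')).mp (h (f x'))).1.1 x x' hxx' rfl,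
      fun x => ((main f hf (f x)).mp (h (f x))).1.2 x rfl⟩
  · rintro ⟨hall, huinj⟩ y
    rw [htfae] at huinj
    rw [main f hf y]
    exact ⟨⟨fun x x' hx hx' => huinj.1 (hx.trans hx'.symm), fun x _ => huinj.2 x⟩,
      fun x _ => hall x⟩

end Main2


end Groth.Agent.Lib.Helper4.RadBir4
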