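import Mathlib

set_option linter.style.haveILetI false

namespace Groth.Agent.Helper4.Rank

universe u
open TensorProduct

theorem rank_tensor_hom (R : Type u) [CommRing R] [IsDomain R] (K : Type u) [Field K] [Algebra R K]
    [FaithfulSMul R K] [Module.Flat R K] (M N : Type u)
    [AddCommGroup M] [Module R M] [AddCommGroup N] [Module R N] :
    Module.rank R (M ⊗[R] N) = Module.rank R M * Module.rank R N ∧
    (Module.FinitePresentation R M → Module.rank R (M →ₗ[R] N) = Module.rank R M * Module.rank R N) := by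
  have hM : Module.rank K (K ⊗[R] M) = Module.rank R M :=
    (TensorProduct.isBaseChange R M K).rank_eq
  have hN : Module.rank K (K ⊗[R] N) = Module.rank R N :=
    (TensorProduct.isBaseChange R N K).rank_eq
  constructor
  · have h1 : Module.rank K (K ⊗[R] (M ⊗[R] N)) = Module.rank R (M ⊗[R] N) :=
      (TensorProduct.isBaseChange R (M ⊗[R] N) K).rank_eq
    have h2 : Module.rank K ((K ⊗[R] M) ⊗[K] (K ⊗[R] N)) =
        Module.rank K (K ⊗[R] M) * Module.rank K (K ⊗[R] N) :=
      rank_tensorProduct' (R := K) (S := K)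
    have h3 : Module.rank K (K ⊗[R] (M ⊗[R] N)) =
        Module.rank K ((K ⊗[R] M) ⊗[K] (K ⊗[R] N)) :=
      (TensorProduct.AlgebraTensorModule.distribBaseChange R K M N).rank_eq
    rw [← h1, ← hM, ← hN, h3, h2]
  · intro hfp
    have bc := Module.FinitePresentation.isBaseChange_map R M N K
    have h0 : Module.rank K (K ⊗[R] (M →ₗ[R] N)) = Module.rank R (M →ₗ[R] N) :=
      (TensorProduct.isBaseChange R (M →ₗ[R] N) K).rank_eq
    have h1 : Module.rank K (K ⊗[R] M →ₗ[K] K ⊗[R] N) = Module.rank R (M →ₗ[R] N) := by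
      rw [← h0]
      exact bc.equiv.rank_eq.symm
    rw [← h1, ← hM, ← hN, Module.rank_linearMap]
    simp


end Groth.Agent.Helper4.Rank
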