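import Mathlib
import Groth.Agent.Lib.Helper4.TF2

set_option linter.style.haveILetI false
set_option linter.unusedSectionVars false

namespace Groth.Agent.Helper4.Rank

universe u
open TensorProduct

variable (R : Type u) [CommRing R] [IsDomain R] (M : Type u) [AddCommGroup M] [Module R M]
  [Module.Finite R M]

/-- coordinates indexed by `Fin n` -/
theorem exists_coords_fin :
    ∃ (n : ℕ) (y : Fin n → M) (Φ : M →ₗ[R] (Fin n → R)) (c : R),
      c ≠ 0 ∧ (∀ m, ∑ i, Φ m i • y i = c • m) ∧ (∀ i, Φ (y i) = Pi.single i c) := by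
  classical
  obtain ⟨ι, _, _, y, Φ, c, hc, h1, h2⟩ := Groth.Agent.Helper4.TF.exists_coords R M
  let e := Fintype.equivFin ι
  refine ⟨Fintype.card ι, y ∘ e.symm, (LinearEquiv.funCongrLeft R R e.symm).toLinearMap ∘ₗ Φ,
    c, hc, ?_, ?_⟩
  · intro m
    rw [← h1 m]
    exact Fintype.sum_equiv e.symm _ _ (fun i => rfl)
  · intro i
    ext j
    simp only [LinearMap.coe_comp, LinearEquiv.coe_coe, Function.comp_apply,
      LinearEquiv.funCongrLeft_apply, LinearMap.funLeft_apply, h2, Pi.single_apply]
    simp only [EmbeddingLike.apply_eq_iff_eq]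

/-- the number of coordinates is the rank -/
theorem coords_card_eq {n : ℕ} (y : Fin n → M) (Φ : M →ₗ[R] (Fin n → R)) (c : R)
    (hc : c ≠ 0) (h1 : ∀ m, ∑ i, Φ m i • y i = c • m) (h2 : ∀ i, Φ (y i) = Pi.single i c) :
    Module.finrank R M = n := by
  classical
  have hΦg : ∀ a : Fin n → R, Φ (∑ i, a i • y i) = c • a := by
    intro a
    rw [map_sum]
    simp only [map_smul, h2]
    ext j
    simp [Finset.sum_apply, Pi.single_apply, mul_comm]
  let g : (Fin n → R) →ₗ[R] M := Fintype.linearCombination R y
  have hg : Function.Injective g := by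
    rw [injective_iff_map_eq_zero]
    intro a ha
    have := hΦg a
    rw [← Fintype.linearCombination_apply, show Fintype.linearCombination R y a = g a from rfl,
      ha, map_zero] at this
    ext j
    have hj := congrFun this j
    simp only [Pi.zero_apply, Pi.smul_apply, smul_eq_mul] at hj
    rcases mul_eq_zero.mp hj.symm with h | h
    · exact absurd h hc
    · exact h
  have hle1 : Module.rank R (Fin n → R) ≤ Module.rank R M := LinearMap.rank_le_of_injective g hg
  have hker : Module.rank R (LinearMap.ker Φ) = 0 := by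
    rw [rank_eq_zero_iff]
    rintro ⟨x, hx⟩
    refine ⟨c, hc, ?_⟩
    apply Subtype.ext
    have := h1 x
    rw [LinearMap.mem_ker] at hx
    simp only [hx, Pi.zero_apply, zero_smul, Finset.sum_const_zero] at this
    exact this.symm
  have hle2 : Module.rank R M ≤ Module.rank R (Fin n → R) := by
    rw [← rank_quotient_add_rank_of_isDomain (LinearMap.ker Φ), hker, add_zero]
    exact LinearMap.rank_le_of_injective ((LinearMap.ker Φ).liftQ Φ le_rfl)
      (LinearMap.ker_eq_bot.mp (Submodule.ker_liftQ_eq_bot _ _ _ le_rfl))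
  have hrank : Module.rank R M = n := by
    rw [le_antisymm hle2 hle1, rank_fin_fun]
  exact Module.finrank_eq_of_rank_eq hrank


theorem free_localizedModule_away {n : ℕ} (y : Fin n → M) (Φ : M →ₗ[R] (Fin n → R)) (c : R)
    (hc : c ≠ 0) (h1 : ∀ m, ∑ i, Φ m i • y i = c • m) (h2 : ∀ i, Φ (y i) = Pi.single i c) :
    Module.Free (Localization.Away c) (LocalizedModule (Submonoid.powers c) M) ∧
    Module.finrank (Localization.Away c) (LocalizedModule (Submonoid.powers c) M) = n := by
  classical
  let S := Submonoid.powers c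
  let Rc := Localization.Away c
  have hS : S ≤ nonZeroDivisors R :=
    Submonoid.powers_le.mpr (mem_nonZeroDivisors_of_ne_zero hc)
  haveI : Nontrivial Rc :=
    (IsLocalization.injective Rc hS).nontrivial
  let F := Fin n → R
  let g : F →ₗ[R] M := Fintype.linearCombination R y
  have hΦg : ∀ a : F, Φ (g a) = c • a := by
    intro a
    rw [Fintype.linearCombination_apply, map_sum]
    simp only [map_smul, h2]
    ext j
    simp [Finset.sum_apply, Pi.single_apply, mul_comm]
    rfl
  have hgΦ : ∀ m : M, g (Φ m) = c • m := by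
    intro m
    rw [Fintype.linearCombination_apply]
    exact h1 m
  let G : LocalizedModule S F →ₗ[Rc] LocalizedModule S M := LocalizedModule.map S g
  let P : LocalizedModule S M →ₗ[Rc] LocalizedModule S F := LocalizedModule.map S Φ
  have hu : IsUnit (algebraMap R Rc c) :=
    IsLocalization.map_units Rc (⟨c, Submonoid.mem_powers c⟩ : S)
  have hPG : ∀ x, P (G x) = algebraMap R Rc c • x := by
    intro x
    induction x using LocalizedModule.induction_on with
    | h a s =>
      change LocalizedModule.map S Φ (LocalizedModule.map S g (LocalizedModule.mk a s)) = _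
      rw [LocalizedModule.map_mk, LocalizedModule.map_mk, hΦg, algebraMap_smul,
        LocalizedModule.smul'_mk]
  have hGP : ∀ x, G (P x) = algebraMap R Rc c • x := by
    intro x
    induction x using LocalizedModule.induction_on with
    | h a s =>
      change LocalizedModule.map S g (LocalizedModule.map S Φ (LocalizedModule.mk a s)) = _
      rw [LocalizedModule.map_mk, LocalizedModule.map_mk, hgΦ, algebraMap_smul,
        LocalizedModule.smul'_mk]
  have hGbij : Function.Bijective G := by
    constructor
    · rw [injective_iff_map_eq_zero]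
      intro x hx
      have := hPG x
      rw [hx, map_zero] at this
      have h3 : (hu.unit⁻¹ : Rcˣ) • (algebraMap R Rc c • x) = x := by
        rw [Units.smul_def, smul_smul, IsUnit.val_inv_mul, one_smul]
      rw [← h3, ← this, smul_zero]
    · intro x
      refine ⟨(hu.unit⁻¹ : Rcˣ) • P x, ?_⟩
      rw [Units.smul_def, map_smul, hGP, smul_smul, IsUnit.val_inv_mul, one_smul]
  let e : LocalizedModule S F ≃ₗ[Rc] LocalizedModule S M := LinearEquiv.ofBijective G hGbij
  haveI : Module.Free Rc (LocalizedModule S F) :=
    Module.free_of_isLocalizedModule S (LocalizedModule.mkLinearMap S F)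
  refine ⟨Module.Free.of_equiv e, ?_⟩
  rw [← e.finrank_eq, Module.finrank_of_isLocalizedModule_of_free Rc S
    (LocalizedModule.mkLinearMap S F), Module.finrank_fin_fun]


/-- S6913 -/
theorem finite_module_rank_structure :
    (∃ h : M →ₗ[R] (Fin (Module.finrank R M) → R),
      (∀ x : M, h x = 0 → ∃ c : R, c ≠ 0 ∧ c • x = 0) ∧
      (∀ y : Fin (Module.finrank R M) → R, ∃ c : R, c ≠ 0 ∧ c • y ∈ LinearMap.range h)) ∧
    (∃ f : R, f ≠ 0 ∧ Module.Free (Localization.Away f) (LocalizedModule (Submonoid.powers f) M) ∧
      Module.finrank (Localization.Away f) (LocalizedModule (Submonoid.powers f) M) =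
        Module.finrank R M) ∧
    (∃ g : (Fin (Module.finrank R M) → R) →ₗ[R] M, Function.Injective g ∧
      ∀ x : M, ∃ c : R, c ≠ 0 ∧ c • x ∈ LinearMap.range g) := by
  classical
  obtain ⟨n, y, Φ, c, hc, h1, h2⟩ := exists_coords_fin R M
  have hn : Module.finrank R M = n := coords_card_eq R M y Φ c hc h1 h2
  rw [hn]
  have hΦg : ∀ a : Fin n → R, Φ (∑ i, a i • y i) = c • a := by
    intro a
    rw [map_sum]
    simp only [map_smul, h2]
    ext j
    simp [Finset.sum_apply, Pi.single_apply, mul_comm]
  refine ⟨⟨Φ, ?_, ?_⟩, ⟨c, hc, free_localizedModule_away R M y Φ c hc h1 h2⟩,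
    ⟨Fintype.linearCombination R y, ?_, ?_⟩⟩
  · intro x hx
    refine ⟨c, hc, ?_⟩
    have := h1 x
    simp only [hx, Pi.zero_apply, zero_smul, Finset.sum_const_zero] at this
    exact this.symm
  · intro a
    exact ⟨c, hc, ∑ i, a i • y i, hΦg a⟩
  · rw [injective_iff_map_eq_zero]
    intro a ha
    have := hΦg a
    rw [← Fintype.linearCombination_apply, ha, map_zero] at this
    ext j
    have hj := congrFun this j
    simp only [Pi.zero_apply, Pi.smul_apply, smul_eq_mul] at hj
    rcases mul_eq_zero.mp hj.symm with h | h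
    · exact absurd h hc
    · exact h
  · intro x
    refine ⟨c, hc, Φ x, ?_⟩
    rw [Fintype.linearCombination_apply]
    exact h1 x

end Groth.Agent.Helper4.Rank
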