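import Mathlib
import Groth.Prelude.Def_ModSite2
import Groth.Agent.Lib.Helper4.RetractLocFree
import Groth.Agent.Lib.Helper4.TensorPerm

/-!
# Rank of a locally free module on a ringed space with nontrivial stalks is well defined and locally constant (helper4) (helper4)
-/

set_option backward.isDefEq.respectTransparency.types false
set_option synthInstance.maxHeartbeats 400000
set_option autoImplicit false
set_option linter.unusedSectionVars false
set_option linter.style.haveILetI false
set_option linter.unusedSimpArgs false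
universe u v w
open CategoryTheory CategoryTheory.Limits Opposite

namespace Groth.Agent.Lib.Helper4.RankLC

open Groth.Agent.Lib.Helper4.PureTensor Groth.Agent.Lib.Helper4.EqCrit
  Groth.Agent.Lib.Helper4.OverMapPres Groth.Agent.Lib.Helper4.QSLocal
  Groth.Agent.Lib.Helper4.LocalLiftFree Groth.Agent.Lib.Helper5.RestrExact
  Groth.Agent.Lib.Helper4.FinGen Groth.Agent.Lib.Helper4.EqCritConv
  Groth.Agent.Lib.Helper4.FinPres Groth.Agent.Lib.Helper4.ColimLemmas
  Groth.Agent.Helper3.SHomEx Groth.Agent.Lib.Helper4.SheafHomColim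
  Groth.Agent.Lib.Helper5 Groth.Agent.Lib.Helper4.TensorFree
  Groth.Agent.Lib.Helper4.TensorPerm Groth.Agent.Lib.Helper4.StalkFlat
  Groth.Agent.Lib.Helper4.FinStalk Groth.Agent.Lib.Helper4.FreeStalk
  Groth.Agent.Lib.Helper4.EpiIsoFree Groth.Agent.Lib.Helper4.RetractLocFree

section site

open ModSite

variable {C : Type u} [SmallCategory C] {J : GrothendieckTopology C} {O : Sheaf J CommRingCat.{u}}

lemma freeMap_genHom (M : ModSite.Mod O) (W : C) {I' K : Type u} (s' : I' → sect M W)
    (ι : K → I') :
    SheafOfModules.freeMap (R := ModSite.ringSh (O.over W)) ι ≫ genHom M W s' =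
      genHom M W (fun k => s' (ι k)) := by
  apply free_hom_ext
  intro k
  rw [← Category.assoc, SheafOfModules.ιFree_freeMap, ιFree_genHom, ιFree_genHom]

/-- a finite subfamily of a basis has no nontrivial relations -/
lemma coeff_zero_sub (M : ModSite.Mod O) (W : C) {I' K : Type u} [Fintype K]
    (s' : I' → sect M W) (hs' : IsIso (genHom M W s')) (ι : K → I') (hι : Function.Injective ι)
    (β : K → O.obj.obj (op W)) (h : ∑ k, β k • s' (ι k) = 0) (k : K) : β k = 0 := by
  classical
  have h1 := matHom_genHom M W (I := PUnit.{u+1}) (fun _ i => β i) (fun k => s' (ι k))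
  have h2 : genHom M W (fun _ : PUnit.{u+1} => ∑ k, β k • s' (ι k)) = 0 := by
    rw [h]
    exact genHom_zero M W
  rw [h2, ← freeMap_genHom, ← Category.assoc] at h1
  have h3 : matHom W (fun (_ : PUnit.{u+1}) i => β i) ≫
      SheafOfModules.freeMap (R := ModSite.ringSh (O.over W)) ι = 0 := by
    rw [← cancel_mono (genHom M W s'), h1, zero_comp]
  have h5 : SheafOfModules.freeMap (R := ModSite.ringSh (O.over W)) ι ≫ πFree (ι k) = πFree k := by
    apply free_hom_ext
    intro k'
    rw [← Category.assoc, SheafOfModules.ιFree_freeMap]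
    by_cases hk : k' = k
    · subst hk
      rw [ιFree_πFree_self, ιFree_πFree_self]
    · rw [ιFree_πFree_ne hk, ιFree_πFree_ne (fun e => hk (hι e))]
  have h4 := coef_matHom W (fun (_ : PUnit.{u+1}) i => β i) PUnit.unit k
  refine h4.symm.trans ?_
  unfold coef
  rw [← h5, ← Category.assoc (matHom W _), h3, zero_comp, comp_zero]
  rfl

end site

section stalk

open ModSite

variable {C : Type u} [SmallCategory C] {J : GrothendieckTopology C} {O : Sheaf J CommRingCat.{u}}
  (p : GrothendieckTopology.Point.{u} J) (H : ModSite.Mod O)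

lemma combHom_injective_sub {I' K : Type u} [Fintype K] (E : p.fiber.Elements)
    (s' : I' → sect H E.1) (hs' : IsIso (genHom H E.1 s')) (ι : K → I')
    (hι : Function.Injective ι) :
    Function.Injective (combHom p H E (fun k => s' (ι k))) := by
  rw [← LinearMap.ker_eq_bot, LinearMap.ker_eq_bot']
  intro b hb
  rw [combHom_apply] at hb
  obtain ⟨E', g, β, hβ⟩ := exists_common p O.obj b E
  have h0 : germ p H E'.1 E'.2 (∑ i, β i • res H g.1 (s' (ι i))) = 0 := by
    rw [germ_sum_smul']
    refine Eq.trans (Finset.sum_congr rfl (fun i _ => ?_)) hb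
    rw [germ_res]
    exact congrArg (fun c => c • germ p H E.1 E.2 (s' (ι i))) (hβ i)
  obtain ⟨E'', g', hz⟩ := germ_eq_zero p H _ h0
  rw [res_sum_smul'] at hz
  have hiso : IsIso (genHom H E''.1 (fun i => res H g'.1 (res H g.1 (s' i)))) :=
    isIso_genHom_restrict (isIso_genHom_restrict hs' g.1) g'.1
  funext i
  have h3 := coeff_zero_sub H E''.1 _ hiso ι hι _ hz i
  have h4 : b i = germRing p E''.1 E''.2 ((O.obj.map g'.1.op).hom (β i)) := by
    rw [germRing_res]
    exact (hβ i).symm
  rw [h4, h3]
  exact germRing_zero p E''.2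

/-- a finite basis bounds the size of any other basis -/
lemma finite_of_bases [Nontrivial (stalkRing p O)] {I I' : Type u} [Fintype I]
    (E : p.fiber.Elements)
    (s : I → sect H E.1) (hs : IsIso (genHom H E.1 s))
    (s' : I' → sect H E.1) (hs' : IsIso (genHom H E.1 s')) : Finite I' := by
  by_contra hinf
  rw [not_finite_iff_infinite] at hinf
  let n := Fintype.card I + 1
  let ι₀ : Fin n ↪ I' := Function.Embedding.trans ⟨Fin.val, Fin.val_injective⟩
    (Infinite.natEmbedding I')
  let ι : ULift.{u} (Fin n) → I' := fun k => ι₀ k.down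
  have hι : Function.Injective ι := fun a b hab => ULift.ext _ _ (ι₀.injective hab)
  have hinj := combHom_injective_sub p H E s' hs' ι hι
  let θ := stalkEquivOfFree p H E s hs
  let f : (ULift.{u} (Fin n) → stalkRing p O) →ₗ[stalkRing p O] (I → stalkRing p O) :=
    θ.symm.toLinearMap ∘ₗ combHom p H E (fun k => s' (ι k))
  have hf : Function.Injective f := θ.symm.injective.comp hinj
  have h1 := LinearMap.finrank_le_finrank_of_injective hf
  rw [Module.finrank_pi, Module.finrank_pi] at h1
  simp [n] at h1

lemma card_eq_of_bases [Nontrivial (stalkRing p O)] {I I' : Type u}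
    (E : p.fiber.Elements)
    (s : I → sect H E.1) (hs : IsIso (genHom H E.1 s))
    (s' : I' → sect H E.1) (hs' : IsIso (genHom H E.1 s')) : ENat.card I = ENat.card I' := by
  by_cases hI : Finite I
  · haveI := Fintype.ofFinite I
    haveI : Finite I' := finite_of_bases p H E s hs s' hs'
    haveI := Fintype.ofFinite I'
    let θ := (stalkEquivOfFree p H E s hs).trans (stalkEquivOfFree p H E s' hs').symm
    have h1 := LinearEquiv.finrank_eq θ
    rw [Module.finrank_pi, Module.finrank_pi] at h1
    rw [ENat.card_eq_coe_fintype_card, ENat.card_eq_coe_fintype_card, h1]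
  · by_cases hI' : Finite I'
    · haveI := Fintype.ofFinite I'
      exact absurd (finite_of_bases p H E s' hs' s hs) hI
    · rw [not_finite_iff_infinite] at hI hI'
      rw [ENat.card_eq_top_of_infinite, ENat.card_eq_top_of_infinite]

end stalk

section top

open TopologicalSpace ModSite

variable {X : TopCat.{u}} (O : TopCat.Sheaf CommRingCat.{u} X)

lemma card_eq_top (hO : ∀ x : X, Nontrivial (O.presheaf.stalk x)) (F : ModSite.Mod O) (x : X)
    {W W' : Opens X} (hx : x ∈ W) (hx' : x ∈ W') {I I' : Type u}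
    (h : FreeOnI I F W) (h' : FreeOnI I' F W') : ENat.card I = ENat.card I' := by
  haveI := hO x
  haveI := nontrivial_stalkRing O x
  obtain ⟨s, hs⟩ := h.restrict (homOfLE inf_le_left : W ⊓ W' ⟶ W)
  obtain ⟨s', hs'⟩ := h'.restrict (homOfLE inf_le_right : W ⊓ W' ⟶ W')
  exact card_eq_of_bases (Opens.pointGrothendieckTopology x) F ⟨W ⊓ W', ⟨⟨⟨hx, hx'⟩⟩⟩⟩ s hs s' hs'

theorem main {X : TopCat.{u}} (O : TopCat.Sheaf CommRingCat.{u} X)
    (hO : ∀ x : X, Nontrivial (O.presheaf.stalk x)) (F : ModSite.Mod O)
    [SheafOfModules.IsLocallyFree (R := ModSite.ringSh O) F] :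
    ∃ rk : X → ℕ∞, IsLocallyConstant rk ∧
      ∀ (x : X) (U : Opens X) (I : Type u), x ∈ U →
        Nonempty ((ModSite.restr O U).obj F ≅ SheafOfModules.free I) → ENat.card I = rk x := by
  classical
  have hloc : ∀ x : X, ∃ (W : Opens X) (I : Type u), x ∈ W ∧ FreeOnI I F W := by
    intro x
    obtain ⟨R, hR, h⟩ := loc_freeOn_of_isLocallyFree F (⊤ : Opens X)
    obtain ⟨W, g, hg, hxW⟩ := hR x trivial
    obtain ⟨I, s, hs⟩ := h g hg
    exact ⟨W, I, hxW, s, hs⟩
  choose W I hxW hfree using hloc
  refine ⟨fun x => ENat.card (I x), ?_, ?_⟩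
  · rw [IsLocallyConstant.iff_exists_open]
    intro x
    refine ⟨W x, (W x).2, hxW x, fun y hy => ?_⟩
    exact card_eq_top O hO F y (hxW y) hy (hfree y) (hfree x)
  · rintro x U I' hxU ⟨α⟩
    exact card_eq_top O hO F x hxU (hxW x) (freeOnI_of_iso α) (hfree x)

end top

end Groth.Agent.Lib.Helper4.RankLC
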