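import Mathlib
import Groth.Prelude.Def_CAlg
import Groth.Agent.Lib.Helper4.Hartogs4
import Groth.Agent.Lib.Helper4.SchDense1

/-!
# Codimension one of the indeterminacy locus of a rational map to an affine scheme (S2902) (helper4)
-/

set_option backward.isDefEq.respectTransparency.types false
set_option synthInstance.maxHeartbeats 400000
set_option autoImplicit false
set_option linter.unusedSectionVars false
set_option linter.style.haveILetI false
set_option linter.unusedSimpArgs false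
universe u v w
open CategoryTheory CategoryTheory.Limits AlgebraicGeometry TopologicalSpace IsLocalRing Opposite Topology
open Groth.Agent.Lib.Helper4.Hartogs4 Groth.Agent.Lib.Helper4.SchDense1

namespace Groth.Agent.Lib.Helper4.RatCodim1


/-- In a Noetherian quasi-sober space, a point `ξ` of a closed set `Z` which is maximal for
generization inside `Z` has an open neighbourhood `W` with `W ∩ Z ⊆ closure {ξ}`. -/
theorem topo {α : Type*} [TopologicalSpace α] [NoetherianSpace α] [QuasiSober α]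
    (Z : Set α) (hZ : IsClosed Z) (ξ : α) (hmax : ∀ η ∈ Z, η ⤳ ξ → η = ξ) :
    ∃ W : Set α, IsOpen W ∧ ξ ∈ W ∧ ∀ z ∈ W, z ∈ Z → ξ ⤳ z := by
  obtain ⟨S, hSf, hSc, hSirr, hZS⟩ := NoetherianSpace.exists_finite_set_isClosed_irreducible hZ
  refine ⟨(⋃ t ∈ {t ∈ S | ξ ∉ t}, t)ᶜ, ?_, ?_, ?_⟩
  · rw [isOpen_compl_iff]
    apply Set.Finite.isClosed_biUnion (hSf.subset (Set.sep_subset _ _))
    intro t ht
    exact hSc t ht.1
  · simp only [Set.mem_compl_iff, Set.mem_iUnion, not_exists]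
    intro t ht hξt
    exact ht.2 hξt
  · intro z hzW hzZ
    rw [hZS] at hzZ
    obtain ⟨t, htS, hzt⟩ := hzZ
    have hξt : ξ ∈ t := by
      by_contra hcon
      apply hzW
      simp only [Set.mem_iUnion]
      exact ⟨t, ⟨htS, hcon⟩, hzt⟩
    obtain ⟨η, hη⟩ := QuasiSober.sober (hSirr t htS) (hSc t htS)
    have hηt : η ∈ t := hη.mem
    have hηξ : η ⤳ ξ := hη.specializes hξt
    have : η = ξ := hmax η (by rw [hZS]; exact ⟨t, htS, hηt⟩) hηξ
    subst this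
    exact hη.specializes hzt

theorem topo_scheme (X : Scheme.{u}) [IsLocallyNoetherian X] (Z : Set X) (hZ : IsClosed Z) (ξ : X)
    (hmax : ∀ η ∈ Z, η ⤳ ξ → η = ξ) :
    ∃ W : X.Opens, ξ ∈ W ∧ ∀ z ∈ W, z ∈ Z → ξ ⤳ z := by
  obtain ⟨V, hV, hξV, -⟩ := exists_isAffineOpen_mem_and_subset (x := ξ) (U := ⊤) trivial
  haveI : IsNoetherianRing Γ(X, V) := IsLocallyNoetherian.component_noetherian ⟨V, hV⟩
  haveI : NoetherianSpace (V : Set X) := noetherianSpace_of_isAffineOpen V hV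
  haveI : QuasiSober (V : Set X) := V.isOpenEmbedding'.quasiSober
  obtain ⟨W', hW'o, hξW', hW'⟩ := topo (α := (V : Set X)) (Subtype.val ⁻¹' Z) (hZ.preimage continuous_subtype_val)
    ⟨ξ, hξV⟩ (by
      intro η hη hηξ
      apply Subtype.ext
      exact hmax η.1 hη (hηξ.map continuous_subtype_val))
  refine ⟨⟨Subtype.val '' W', V.isOpen.isOpenMap_subtype_val W' hW'o⟩, ⟨⟨ξ, hξV⟩, hξW', rfl⟩, ?_⟩
  rintro z ⟨z', hz'W, rfl⟩ hzZ
  exact (hW' z' hz'W hzZ).map continuous_subtype_val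



theorem dim_mono {X : Scheme.{u}} {ξ z : X} (h : ξ ⤳ z) :
    ringKrullDim (X.presheaf.stalk ξ) ≤ ringKrullDim (X.presheaf.stalk z) := by
  rw [ringKrullDim_stalk_eq_coheight, ringKrullDim_stalk_eq_coheight]
  exact_mod_cast Order.coheight_anti (show z ≤ ξ from h)

theorem one_le_dim {X : Scheme.{u}} [IsLocallyNoetherian X] (U : X.Opens) (hU : Dense (U : Set X))
    (x : X) (hx : x ∉ U) : (1 : WithBot ℕ∞) ≤ ringKrullDim (X.presheaf.stalk x) := by
  obtain ⟨V, hV, hxV, -⟩ := exists_isAffineOpen_mem_and_subset (x := x) (U := ⊤) trivial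
  have key : ∀ y : X, y = hV.fromSpec (hV.primeIdealOf ⟨x, hxV⟩) → y ∉ U →
      (1 : WithBot ℕ∞) ≤ ringKrullDim (X.presheaf.stalk y) := by
    rintro y rfl hy
    exact one_le_dim_stalk U hU hV _ hy
  exact key x (hV.fromSpec_primeIdealOf ⟨x, hxV⟩).symm hx


theorem hrange {X : Scheme.{u}} (T D : X.Opens) (hDT : D ≤ T) :
    Set.range ((T.ι ⁻¹ᵁ D).ι ≫ T.ι) = Set.range D.ι := by
  rw [Scheme.Opens.range_ι, Scheme.Hom.comp_base, TopCat.coe_comp, Set.range_comp, Scheme.Opens.range_ι]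
  ext y
  constructor
  · rintro ⟨x, hx, rfl⟩
    exact hx
  · intro hy
    exact ⟨⟨y, hDT hy⟩, hy, rfl⟩


theorem le_domain_of_depth (X Y : Scheme.{u}) [IsLocallyNoetherian X] [IsReduced X] [IsAffine Y]
    (f : X ⤏ Y) (W : X.Opens)
    (hW : ∀ z ∈ W, z ∉ f.domain → (2 : ℕ∞) ≤ LocCoh.depth (X.presheaf.stalk z) (X.presheaf.stalk z)) :
    W ≤ f.domain := by
  intro ξ hξW
  obtain ⟨g₀, hg₀⟩ : ∃ g₀ : X.PartialMap Y, g₀ = f.toPartialMap := ⟨_, rfl⟩
  have hg₀f : g₀.toRationalMap = f := by rw [hg₀]; exact f.toRationalMap_toPartialMap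
  have hdom : g₀.domain = f.domain := by rw [hg₀]; rfl
  obtain ⟨T, hT⟩ : ∃ T : X.Opens, T = g₀.domain ⊔ W := ⟨_, rfl⟩
  have hDT : g₀.domain ≤ T := by rw [hT]; exact le_sup_left
  have hWT : W ≤ T := by rw [hT]; exact le_sup_right
  have hTmem : ∀ y : X, y ∈ T → y ∈ g₀.domain ∨ y ∈ W := by intro y hy; rw [hT] at hy; exact hy
  have hdepth : ∀ x : T.toScheme, x ∉ T.ι ⁻¹ᵁ g₀.domain →
      (2 : ℕ∞) ≤ LocCoh.depth (T.toScheme.presheaf.stalk x) (T.toScheme.presheaf.stalk x) := by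
    intro x hx
    have hxD : (T.ι x) ∉ f.domain := by rw [← hdom]; exact hx
    have hxW : (T.ι x) ∈ W := by
      rcases hTmem _ x.2 with h | h
      · exact absurd h hx
      · exact h
    have := hW _ hxW hxD
    rw [depth_self_eq_of_ringEquiv (asIso (T.ι.stalkMap x)).commRingCatIsoToRingEquiv]
    exact this
  -- the comparison iso
  have hrange : Set.range ((T.ι ⁻¹ᵁ g₀.domain).ι ≫ T.ι) = Set.range g₀.domain.ι :=
    hrange T g₀.domain hDT
  obtain ⟨e, he⟩ : ∃ e : ((T.ι ⁻¹ᵁ g₀.domain : T.toScheme.Opens) : Scheme.{u}) ≅ g₀.domain.toScheme,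
      e = IsOpenImmersion.isoOfRangeEq ((T.ι ⁻¹ᵁ g₀.domain).ι ≫ T.ι) g₀.domain.ι hrange := ⟨_, rfl⟩
  have he1 : e.hom ≫ g₀.domain.ι = (T.ι ⁻¹ᵁ g₀.domain).ι ≫ T.ι := by
    rw [he]; exact IsOpenImmersion.isoOfRangeEq_hom_fac _ _ _
  obtain ⟨g, hg, -⟩ := S2848_main T.toScheme Y (T.ι ⁻¹ᵁ g₀.domain) hdepth (e.hom ≫ g₀.hom)
  have hTd : Dense (T : Set X) := g₀.dense_domain.mono hDT
  rw [Scheme.RationalMap.mem_domain]
  refine ⟨⟨T, hTd, g⟩, hWT hξW, ?_⟩
  rw [← hg₀f, Scheme.PartialMap.toRationalMap_eq_iff]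
  refine ⟨g₀.domain, g₀.dense_domain, hDT, le_rfl, ?_⟩
  simp only [Scheme.PartialMap.restrict_hom]
  have h2 : X.homOfLE hDT = e.inv ≫ (T.ι ⁻¹ᵁ g₀.domain).ι := by
    rw [← cancel_mono T.ι, Category.assoc, ← he1, Iso.inv_hom_id_assoc, Scheme.homOfLE_ι]
  rw [h2, Category.assoc, hg, Iso.inv_hom_id_assoc]
  simp


theorem S2902_main (X Y : Scheme.{u}) [IsLocallyNoetherian X] [IsReduced X] [IsAffine Y]
    (hS2 : ∀ x : ↥X, min (2 : WithBot ℕ∞) (ringKrullDim (X.presheaf.stalk x)) ≤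
      ((LocCoh.depth (X.presheaf.stalk x) (X.presheaf.stalk x) : ℕ∞) : WithBot ℕ∞))
    (f : X ⤏ Y) (ξ : ↥X) (hξ : ξ ∉ f.domain) (hmax : ∀ η : ↥X, η ∉ f.domain → η ⤳ ξ → η = ξ) :
    ringKrullDim (X.presheaf.stalk ξ) = 1 := by
  have h1 : (1 : WithBot ℕ∞) ≤ ringKrullDim (X.presheaf.stalk ξ) :=
    one_le_dim f.domain f.dense_domain ξ hξ
  refine le_antisymm ?_ h1
  by_contra hcon
  have h2 : (2 : WithBot ℕ∞) ≤ ringKrullDim (X.presheaf.stalk ξ) := by
    rw [ringKrullDim_stalk_eq_coheight] at hcon ⊢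
    have : ¬ (Order.coheight ξ ≤ 1) := by exact_mod_cast hcon
    have h2' : (2 : ℕ∞) ≤ Order.coheight ξ := by
      rw [not_le] at this
      have := Order.add_one_le_of_lt this
      simpa [one_add_one_eq_two] using this
    have h2'' : ((2 : ℕ∞) : WithBot ℕ∞) ≤ ((Order.coheight ξ : ℕ∞) : WithBot ℕ∞) :=
      WithBot.coe_le_coe.2 h2'
    rwa [WithBot.coe_ofNat] at h2''
  obtain ⟨W, hξW, hW⟩ := topo_scheme X (f.domain : Set X)ᶜ f.domain.isOpen.isClosed_compl ξ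
    (fun η hη hηξ => hmax η hη hηξ)
  apply hξ
  refine le_domain_of_depth X Y f W ?_ hξW
  intro z hzW hzD
  have hz2 : (2 : WithBot ℕ∞) ≤ ringKrullDim (X.presheaf.stalk z) :=
    h2.trans (dim_mono (hW z hzW hzD))
  have := hS2 z
  rw [min_eq_left hz2, ← WithBot.coe_ofNat, WithBot.coe_le_coe] at this
  exact this

end Groth.Agent.Lib.Helper4.RatCodim1
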