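import Mathlib
import Groth.Agent.Lib.Helper4.ZMTNormalPt1
import Groth.Agent.Lib.Helper4.CurveTop1
import Groth.Agent.Lib.Helper4.IntSection1
import Groth.Agent.Lib.Helper4.LocalIso2

/-!
# Extension of rational sections at normal points via Zariski's main theorem (helper4)
-/

set_option backward.isDefEq.respectTransparency.types false
set_option synthInstance.maxHeartbeats 400000
set_option autoImplicit false
set_option linter.unusedSectionVars false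
set_option linter.style.haveILetI false
set_option linter.unusedSimpArgs false
universe u v w
open CategoryTheory CategoryTheory.Limits AlgebraicGeometry TopologicalSpace IsLocalRing

namespace Groth.Agent.Lib.Helper4.RatSection1

/-- the stalk of an integral scheme at a point equal to the generic point is a field -/
theorem isField_stalk_of_eq_genericPoint {Γ : Scheme.{u}} [IsIntegral Γ] (γ : Γ)
    (hγ : γ = genericPoint Γ) : IsField (Γ.presheaf.stalk γ) := by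
  subst hγ
  exact Field.toIsField Γ.functionField

/-- L1: a dominant morphism `t` with `t ≫ p` an open immersion makes `p` birational. -/
theorem birational_of_section {T Γ X₀ : Scheme.{u}} [IsIntegral T] [IsIntegral Γ] [IsIntegral X₀]
    (t : T ⟶ Γ) [IsDominant t] (p : Γ ⟶ X₀) [IsOpenImmersion (t ≫ p)] :
    p (genericPoint Γ) = genericPoint X₀ ∧ IsIso (p.stalkMap (genericPoint Γ)) := by
  have hη : t (genericPoint T) = genericPoint Γ :=
    Groth.Agent.Lib.Helper4.CurveTop1.map_genericPoint_of_isDominant t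
  have hη2 : (t ≫ p) (genericPoint T) = genericPoint X₀ := genericPoint_eq_of_isOpenImmersion _
  refine ⟨?_, ?_⟩
  · rw [← hη, ← Scheme.Hom.comp_apply, hη2]
  · have hiso : IsIso (p.stalkMap (t (genericPoint T))) := by
      have hcomp : (t ≫ p).stalkMap (genericPoint T) =
          p.stalkMap (t (genericPoint T)) ≫ t.stalkMap (genericPoint T) :=
        Scheme.Hom.stalkMap_comp t p _
      have hc0 : IsIso ((t ≫ p).stalkMap (genericPoint T)) := inferInstance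
      have hc : IsIso (p.stalkMap (t (genericPoint T)) ≫ t.stalkMap (genericPoint T)) := by
        rw [← hcomp]; exact hc0
      have hbij : Function.Bijective
          (p.stalkMap (t (genericPoint T)) ≫ t.stalkMap (genericPoint T)).hom :=
        (ConcreteCategory.isIso_iff_bijective _).mp hc
      have hF := isField_stalk_of_eq_genericPoint (t (genericPoint T)) hη
      have hβ : Function.Injective (t.stalkMap (genericPoint T)).hom := by
        rw [injective_iff_map_eq_zero]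
        intro a ha
        by_contra hne
        obtain ⟨b, hb⟩ := hF.mul_inv_cancel hne
        have h1 : (t.stalkMap (genericPoint T)).hom (a * b) = 1 := by rw [hb, map_one]
        rw [map_mul, ha, zero_mul] at h1
        exact zero_ne_one h1
      rw [ConcreteCategory.isIso_iff_bijective]
      rw [CommRingCat.hom_comp, RingHom.coe_comp] at hbij
      refine ⟨Function.Injective.of_comp hbij.1, ?_⟩
      intro b
      obtain ⟨a, ha⟩ := hbij.2 ((t.stalkMap (genericPoint T)).hom b)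
      exact ⟨a, hβ ha⟩
    exact hη ▸ hiso

/-- L2 : Zariski's main theorem at a normal point, local isomorphism form. -/
theorem exists_open_isOpenImmersion {Γ X₀ : Scheme.{u}} [IsIntegral Γ] [IsIntegral X₀]
    (p : Γ ⟶ X₀) [LocallyOfFiniteType p]
    (hgen : p (genericPoint Γ) = genericPoint X₀) (hbir : IsIso (p.stalkMap (genericPoint Γ)))
    (z : Γ) (hz : IsIntegrallyClosed (X₀.presheaf.stalk (p z))) (hq : p.QuasiFiniteAt z) :
    ∃ Ω : Γ.Opens, z ∈ Ω ∧ IsOpenImmersion (Ω.ι ≫ p) := by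
  have hiso := Groth.Agent.Lib.Helper4.ZMTNormalPt1.isIso_stalkMap_of_quasiFiniteAt p hgen hbir
    z hz hq
  have hfin : (irreducibleComponents (X₀ : Type u)).Finite := by
    rw [irreducibleComponents_eq_singleton]; exact Set.finite_singleton _
  exact Groth.Agent.Lib.Helper4.LocalIso2.S7659_main p hfin z hiso

/-- L3 : quasi-finiteness at a point from topological isolation in the fibre. -/
theorem quasiFiniteAt_of_isolated {Γ X : Scheme.{u}} (p : Γ ⟶ X) [LocallyOfFiniteType p] (z : Γ)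
    (W : Γ.Opens) (hW : (W : Set Γ) ∩ p ⁻¹' {p z} = {z}) : p.QuasiFiniteAt z := by
  rw [Scheme.Hom.quasiFiniteAt_iff_isOpen_singleton_asFiber,
    ← (p.fiberHomeo (p z)).isOpen_image]
  simp only [Set.image_singleton, Scheme.Hom.asFiber, Homeomorph.apply_symm_apply]
  have : ({⟨z, rfl⟩} : Set (p ⁻¹' {p z})) = Subtype.val ⁻¹' (W : Set Γ) := by
    ext w
    simp only [Set.mem_singleton_iff, Set.mem_preimage]
    constructor
    · intro hwz
      have hzW : z ∈ (W : Set Γ) ∩ p ⁻¹' {p z} := by rw [hW]; rfl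
      rw [hwz]
      exact hzW.1
    · intro hwW
      have : (w : Γ) ∈ (W : Set Γ) ∩ p ⁻¹' {p z} := ⟨hwW, w.2⟩
      rw [hW] at this
      exact Subtype.ext this
  rw [this]
  exact W.isOpen.preimage continuous_subtype_val

/-- L4 : quasi-finiteness at a point passes to restrictions over opens of the target. -/
theorem quasiFiniteAt_morphismRestrict {Γ X : Scheme.{u}} (p : Γ ⟶ X) (X₀ : X.Opens)
    (z : (p ⁻¹ᵁ X₀ : Γ.Opens)) (h : p.QuasiFiniteAt ((p ⁻¹ᵁ X₀).ι z)) :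
    (p ∣_ X₀).QuasiFiniteAt z := by
  rw [← Scheme.Hom.quasiFiniteAt_comp_iff_of_isOpenImmersion, ← morphismRestrict_ι,
    Scheme.Hom.quasiFiniteAt_comp_iff] at h
  exact h

/-- Lemma C : two sections agreeing near a point where `p` is a local isomorphism. -/
theorem eq_of_dense_preimage {Γ X T : Scheme.{u}} (p : Γ ⟶ X) [IsSeparated p] [IsReduced T]
    (sa sb : T ⟶ Γ) (h : sa ≫ p = sb ≫ p) (Ω : Γ.Opens) [Mono (Ω.ι ≫ p)]
    (la : T ⟶ Ω) (hla : la ≫ Ω.ι = sa) (hd : Dense ((sb ⁻¹ᵁ Ω : T.Opens) : Set T)) :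
    sa = sb := by
  let D : T.Opens := sb ⁻¹ᵁ Ω
  have hr : Set.range (D.ι ≫ sb) ⊆ Set.range Ω.ι := by
    rintro _ ⟨w, rfl⟩
    rw [Scheme.Opens.range_ι]
    exact w.2
  let lb : (D : Scheme.{u}) ⟶ Ω := IsOpenImmersion.lift Ω.ι (D.ι ≫ sb) hr
  have hlb : lb ≫ Ω.ι = D.ι ≫ sb := IsOpenImmersion.lift_fac _ _ _
  have h1 : D.ι ≫ la = lb := by
    rw [← cancel_mono (Ω.ι ≫ p)]
    rw [Category.assoc, reassoc_of% hla, reassoc_of% hlb, h]
  have h2 : D.ι ≫ sa = D.ι ≫ sb := by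
    rw [← hla, ← Category.assoc, h1, hlb]
  haveI : IsDominant D.ι := by
    constructor
    show Dense (Set.range D.ι)
    rw [Scheme.Opens.range_ι]
    exact hd
  exact ext_of_isDominant_of_isSeparated p h D.ι h2



/-- the image of a reduced scheme has underlying set the closure of the range -/
theorem range_imageι_of_isReduced {T Y : Scheme.{u}} [IsReduced T] (s : T ⟶ Y) :
    Set.range s.imageι = closure (Set.range s) := by
  rw [Scheme.Hom.imageι, Scheme.IdealSheafData.range_subschemeι,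
    Groth.Agent.Lib.Helper4.IntSection1.ker_eq_vanishingIdeal_of_isReduced s,
    Scheme.IdealSheafData.coe_support_vanishingIdeal]
  show closure (s '' Set.univ) = _
  rw [Set.image_univ]

/-- `toImage` is dominant for reduced source -/
theorem isDominant_toImage_of_isReduced {T Y : Scheme.{u}} [IsReduced T] (s : T ⟶ Y) :
    IsDominant s.toImage := by
  constructor
  rw [denseRange_iff_closure_range, s.imageι.isEmbedding.closure_eq_preimage_closure_image,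
    ← Set.univ_subset_iff, ← Set.image_subset_iff, Set.image_univ,
    range_imageι_of_isReduced, ← Set.range_comp,
    ← TopCat.coe_comp, ← Scheme.Hom.comp_base, s.toImage_imageι]

/-- closure of range of a restriction -/
theorem mem_closure_range_restrict {X Y : Scheme.{u}} (q : Y ⟶ X) (U X₀ : X.Opens)
    (g : (U : Scheme.{u}) ⟶ Y) (hg : g ≫ q = U.ι) (z : Y) (hz : q z ∈ X₀)
    (hzΓ : z ∈ closure (Set.range g)) :
    z ∈ closure (Set.range (X.homOfLE (inf_le_left : U ⊓ X₀ ≤ U) ≫ g)) := by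
  have h1 : z ∈ (q ⁻¹ᵁ X₀ : Set Y) ∩ closure (Set.range g) := ⟨hz, hzΓ⟩
  have h2 := (q ⁻¹ᵁ X₀).isOpen.inter_closure h1
  refine closure_mono ?_ h2
  rintro _ ⟨hw, ⟨w, rfl⟩⟩
  have hw' : q (g w) ∈ X₀ := hw
  have e : q (g w) = w.1 := by
    rw [← Scheme.Hom.comp_apply, hg]; rfl
  rw [e] at hw'
  refine ⟨⟨w.1, ⟨w.2, hw'⟩⟩, ?_⟩
  rw [Scheme.Hom.comp_apply]
  congr 1
  exact Subtype.ext (X.homOfLE_apply _ _)



/-- Lemma M. -/
theorem exists_open_isOpenImmersion_of_section {X Γ T : Scheme.{u}} (X₀ : X.Opens)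
    [IsIntegral (X₀ : Scheme.{u})] [IsIntegral Γ] [IsIntegral T]
    (p : Γ ⟶ X) [LocallyOfFiniteType p] (t : T ⟶ Γ) [IsDominant t]
    (j : T ⟶ (X₀ : Scheme.{u})) [IsOpenImmersion j] (hj : t ≫ p = j ≫ X₀.ι)
    (z : Γ) (hzX₀ : p z ∈ X₀) (hx : IsIntegrallyClosed (X.presheaf.stalk (p z)))
    (hq : p.QuasiFiniteAt z) :
    ∃ Ω : Γ.Opens, z ∈ Ω ∧ IsOpenImmersion (Ω.ι ≫ p) ∧ Ω ≤ p ⁻¹ᵁ X₀ := by
  -- restriction to X₀
  haveI : Nonempty ((p ⁻¹ᵁ X₀ : Γ.Opens) : Scheme.{u}) := ⟨⟨z, hzX₀⟩⟩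
  haveI : IsIntegral ((p ⁻¹ᵁ X₀ : Γ.Opens) : Scheme.{u}) :=
    isIntegral_of_isOpenImmersion (p ⁻¹ᵁ X₀).ι
  -- lift of t
  have hr : Set.range t ⊆ Set.range (p ⁻¹ᵁ X₀).ι := by
    rintro _ ⟨w, rfl⟩
    rw [Scheme.Opens.range_ι]
    show p (t w) ∈ X₀
    rw [← Scheme.Hom.comp_apply, hj, Scheme.Hom.comp_apply]
    exact (j w).2
  let t₁ : T ⟶ ((p ⁻¹ᵁ X₀ : Γ.Opens) : Scheme.{u}) := IsOpenImmersion.lift (p ⁻¹ᵁ X₀).ι t hr
  have ht₁ : t₁ ≫ (p ⁻¹ᵁ X₀).ι = t := IsOpenImmersion.lift_fac _ _ _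
  have ht₁p : t₁ ≫ (p ∣_ X₀) = j := by
    rw [← cancel_mono X₀.ι, Category.assoc, morphismRestrict_ι, reassoc_of% ht₁, hj]
  haveI : IsOpenImmersion (t₁ ≫ (p ∣_ X₀)) := by rw [ht₁p]; infer_instance
  haveI : IsDominant t₁ := by
    constructor
    rw [DenseRange, dense_iff_inter_open]
    intro O hO hne
    obtain ⟨o, ho⟩ := hne
    have hO' : IsOpen ((p ⁻¹ᵁ X₀).ι '' O) := (p ⁻¹ᵁ X₀).ι.isOpenEmbedding.isOpenMap O hO
    obtain ⟨_, hwO, ⟨w, rfl⟩⟩ := (IsDominant.denseRange (f := t)).inter_open_nonempty _ hO'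
      ⟨_, ⟨o, ho, rfl⟩⟩
    obtain ⟨o', ho', heq⟩ := hwO
    refine ⟨t₁ w, ?_, ⟨w, rfl⟩⟩
    have : o' = t₁ w := by
      apply (p ⁻¹ᵁ X₀).ι.isOpenEmbedding.injective
      rw [heq, ← Scheme.Hom.comp_apply, ht₁]
    rw [← this]; exact ho'
  obtain ⟨hgen, hbir⟩ := birational_of_section t₁ (p ∣_ X₀)
  -- the point
  let z₁ : ((p ⁻¹ᵁ X₀ : Γ.Opens) : Scheme.{u}) := ⟨z, hzX₀⟩
  have hq₁ : (p ∣_ X₀).QuasiFiniteAt z₁ := quasiFiniteAt_morphismRestrict p X₀ z₁ hq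
  have hz₁ : X₀.ι ((p ∣_ X₀) z₁) = p z := by
    rw [← Scheme.Hom.comp_apply, morphismRestrict_ι, Scheme.Hom.comp_apply]; rfl
  have hic : IsIntegrallyClosed ((X₀ : Scheme.{u}).presheaf.stalk ((p ∣_ X₀) z₁)) := by
    have e := (asIso (X₀.ι.stalkMap ((p ∣_ X₀) z₁))).commRingCatIsoToRingEquiv
    have hx' : IsIntegrallyClosed (X.presheaf.stalk (X₀.ι ((p ∣_ X₀) z₁))) := by
      rw [hz₁]; exact hx
    exact IsIntegrallyClosed.of_equiv e
  obtain ⟨Ω₁, hzΩ₁, hoi⟩ := exists_open_isOpenImmersion (p ∣_ X₀) hgen hbir z₁ hic hq₁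
  refine ⟨(p ⁻¹ᵁ X₀).ι ''ᵁ Ω₁, ⟨z₁, hzΩ₁, rfl⟩, ?_, ?_⟩
  · have e : ((p ⁻¹ᵁ X₀).ι ''ᵁ Ω₁).ι ≫ p =
        ((p ⁻¹ᵁ X₀).ι.isoImage Ω₁).inv ≫ (Ω₁.ι ≫ (p ∣_ X₀)) ≫ X₀.ι := by
      rw [Category.assoc, morphismRestrict_ι, ← Scheme.Hom.isoImage_inv_ι (p ⁻¹ᵁ X₀).ι Ω₁]
      simp only [Category.assoc]
    rw [e]
    infer_instance
  · rintro _ ⟨w, -, rfl⟩
    exact w.2



/-- Lemma N: section from a local isomorphism, with agreement. -/
theorem section_of_local_iso {X Γ : Scheme.{u}} (p : Γ ⟶ X) [IsSeparated p]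
    (X₀ : X.Opens) [IsIntegral (X₀ : Scheme.{u})]
    (U : X.Opens) [IrreducibleSpace ((U ⊓ X₀ : X.Opens) : Scheme.{u})]
    (t : ((U ⊓ X₀ : X.Opens) : Scheme.{u}) ⟶ Γ) [IsDominant t] (ht : t ≫ p = (U ⊓ X₀).ι)
    (Ω : Γ.Opens) (z : Γ) (hzΩ : z ∈ Ω) [IsOpenImmersion (Ω.ι ≫ p)] (hΩ : Ω ≤ p ⁻¹ᵁ X₀) :
    ∃ (V : X.Opens) (hxV : p z ∈ V) (σ : (V : Scheme.{u}) ⟶ Γ), V ≤ X₀ ∧ σ ≫ p = V.ι ∧
      σ ⟨p z, hxV⟩ = z ∧
      ∀ hVX₀ : U ⊓ V ≤ U ⊓ X₀, X.homOfLE (inf_le_right : U ⊓ V ≤ V) ≫ σ =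
        X.homOfLE hVX₀ ≫ t := by
  have hxV : p z ∈ (Ω.ι ≫ p).opensRange := ⟨⟨z, hzΩ⟩, rfl⟩
  have hVX₀ : (Ω.ι ≫ p).opensRange ≤ X₀ := by
    rintro _ ⟨w, rfl⟩
    exact hΩ w.2
  have hσp : ((Ω.ι ≫ p).isoOpensRange.inv ≫ Ω.ι) ≫ p = (Ω.ι ≫ p).opensRange.ι := by
    rw [Category.assoc]; exact Scheme.Hom.isoOpensRange_inv_comp _
  refine ⟨(Ω.ι ≫ p).opensRange, hxV, (Ω.ι ≫ p).isoOpensRange.inv ≫ Ω.ι, hVX₀, hσp, ?_, ?_⟩
  · have h1 : (Ω.ι ≫ p).isoOpensRange.inv ⟨p z, hxV⟩ = ⟨z, hzΩ⟩ := by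
      apply (Ω.ι ≫ p).isOpenEmbedding.injective
      have := congrArg (fun φ => φ.base ⟨p z, hxV⟩) (Scheme.Hom.isoOpensRange_inv_comp (Ω.ι ≫ p))
      simp only [Scheme.Hom.comp_base, TopCat.hom_comp, ContinuousMap.comp_apply] at this
      exact this
    rw [Scheme.Hom.comp_apply, h1]; rfl
  · intro hle
    haveI : IsReduced ((U ⊓ (Ω.ι ≫ p).opensRange : X.Opens) : Scheme.{u}) :=
      isReduced_of_isOpenImmersion (X.homOfLE (inf_le_right.trans hVX₀ :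
        U ⊓ (Ω.ι ≫ p).opensRange ≤ X₀))
    refine eq_of_dense_preimage p _ _ ?_ Ω
      (X.homOfLE (inf_le_right : U ⊓ (Ω.ι ≫ p).opensRange ≤ _) ≫ (Ω.ι ≫ p).isoOpensRange.inv)
      (by simp only [Category.assoc]) ?_
    · rw [Category.assoc, hσp, Category.assoc, ht, Scheme.homOfLE_ι, Scheme.homOfLE_ι]
    · -- density
      have hd : Dense ((t ⁻¹ᵁ Ω : Scheme.Opens _) : Set ((U ⊓ X₀ : X.Opens) : Scheme.{u})) := by
        have hopen : IsOpen ((t ⁻¹ᵁ Ω : Scheme.Opens _) :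
          Set ((U ⊓ X₀ : X.Opens) : Scheme.{u})) := (t ⁻¹ᵁ Ω).isOpen
        apply hopen.dense
        obtain ⟨_, hwΩ, ⟨w, rfl⟩⟩ := (IsDominant.denseRange (f := t)).inter_open_nonempty _
          Ω.isOpen ⟨z, hzΩ⟩
        exact ⟨w, hwΩ⟩
      exact hd.preimage (X.homOfLE hle).isOpenEmbedding.isOpenMap


theorem section_extends_of_isolated {X Y : Scheme.{u}} (q : Y ⟶ X) [IsSeparated q]
    [LocallyOfFiniteType q] (U : X.Opens) (g : (U : Scheme.{u}) ⟶ Y) (hg : g ≫ q = U.ι)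
    (X₀ : X.Opens) [IsIntegral (X₀ : Scheme.{u})]
    (hne : ((U ⊓ X₀ : X.Opens) : Set X).Nonempty)
    (z : Y) (hzX₀ : q z ∈ X₀) (hx : IsIntegrallyClosed (X.presheaf.stalk (q z)))
    (hzΓ : z ∈ closure (Set.range g))
    (W : Y.Opens) (hW : (W : Set Y) ∩ closure (Set.range g) ∩ q ⁻¹' {q z} = {z}) :
    ∃ (V : X.Opens) (hxV : q z ∈ V) (σ : (V : Scheme.{u}) ⟶ Y), V ≤ X₀ ∧ σ ≫ q = V.ι ∧
      σ ⟨q z, hxV⟩ = z ∧
      X.homOfLE (inf_le_right : U ⊓ V ≤ V) ≫ σ = X.homOfLE (inf_le_left : U ⊓ V ≤ U) ≫ g := by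
  haveI : Nonempty ((U ⊓ X₀ : X.Opens) : Scheme.{u}) := by
    obtain ⟨w, hw⟩ := hne; exact ⟨⟨w, hw⟩⟩
  haveI : IsIntegral ((U ⊓ X₀ : X.Opens) : Scheme.{u}) :=
    isIntegral_of_isOpenImmersion (X.homOfLE (inf_le_right : U ⊓ X₀ ≤ X₀))
  haveI : IsIntegral (X.homOfLE (inf_le_left : U ⊓ X₀ ≤ U) ≫ g).image :=
    Groth.Agent.Lib.Helper4.IntSection1.isIntegral_image _
  haveI : IsDominant (X.homOfLE (inf_le_left : U ⊓ X₀ ≤ U) ≫ g).toImage :=
    isDominant_toImage_of_isReduced _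
  have hz' := mem_closure_range_restrict q U X₀ g hg z hzX₀ hzΓ
  rw [← range_imageι_of_isReduced] at hz'
  obtain ⟨zΓ, rfl⟩ := hz'
  have hj : (X.homOfLE (inf_le_left : U ⊓ X₀ ≤ U) ≫ g).toImage ≫
      ((X.homOfLE (inf_le_left : U ⊓ X₀ ≤ U) ≫ g).imageι ≫ q) = (U ⊓ X₀).ι := by
    rw [Scheme.Hom.toImage_imageι_assoc, Category.assoc, hg, Scheme.homOfLE_ι]
  have hq : ((X.homOfLE (inf_le_left : U ⊓ X₀ ≤ U) ≫ g).imageι ≫ q).QuasiFiniteAt zΓ := by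
    refine quasiFiniteAt_of_isolated _ zΓ
      ((X.homOfLE (inf_le_left : U ⊓ X₀ ≤ U) ≫ g).imageι ⁻¹ᵁ W) ?_
    ext z'
    simp only [Set.mem_inter_iff, Set.mem_preimage, Set.mem_singleton_iff]
    constructor
    · rintro ⟨h1, h2⟩
      have hmem : (X.homOfLE (inf_le_left : U ⊓ X₀ ≤ U) ≫ g).imageι z' ∈
          (W : Set Y) ∩ closure (Set.range g) ∩ q ⁻¹' {q ((X.homOfLE (inf_le_left :
            U ⊓ X₀ ≤ U) ≫ g).imageι zΓ)} := by
        refine ⟨⟨h1, ?_⟩, h2⟩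
        have h3 : (X.homOfLE (inf_le_left : U ⊓ X₀ ≤ U) ≫ g).imageι z' ∈
            Set.range (X.homOfLE (inf_le_left : U ⊓ X₀ ≤ U) ≫ g).imageι := ⟨z', rfl⟩
        rw [range_imageι_of_isReduced] at h3
        refine closure_mono ?_ h3
        rintro _ ⟨w, rfl⟩
        exact ⟨_, rfl⟩
      rw [hW] at hmem
      exact (X.homOfLE (inf_le_left : U ⊓ X₀ ≤ U) ≫ g).imageι.isEmbedding.injective hmem
    · rintro rfl
      have hmem : (X.homOfLE (inf_le_left : U ⊓ X₀ ≤ U) ≫ g).imageι z' ∈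
          ({(X.homOfLE (inf_le_left : U ⊓ X₀ ≤ U) ≫ g).imageι z'} : Set Y) := rfl
      rw [← hW] at hmem
      exact ⟨hmem.1.1, rfl⟩
  obtain ⟨Ω, hzΩ, hoi, hΩle⟩ := exists_open_isOpenImmersion_of_section X₀
    ((X.homOfLE (inf_le_left : U ⊓ X₀ ≤ U) ≫ g).imageι ≫ q)
    (X.homOfLE (inf_le_left : U ⊓ X₀ ≤ U) ≫ g).toImage
    (X.homOfLE (inf_le_right : U ⊓ X₀ ≤ X₀)) (by rw [hj, Scheme.homOfLE_ι]) zΓ hzX₀ hx hq
  obtain ⟨V, hxV, σ, hVX₀, hσ, hσz, hagree⟩ := section_of_local_iso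
    ((X.homOfLE (inf_le_left : U ⊓ X₀ ≤ U) ≫ g).imageι ≫ q) X₀ U
    (X.homOfLE (inf_le_left : U ⊓ X₀ ≤ U) ≫ g).toImage hj Ω zΓ hzΩ hΩle
  refine ⟨V, hxV, σ ≫ (X.homOfLE (inf_le_left : U ⊓ X₀ ≤ U) ≫ g).imageι, hVX₀, ?_, ?_, ?_⟩
  · rw [Category.assoc]; exact hσ
  · exact congrArg (X.homOfLE (inf_le_left : U ⊓ X₀ ≤ U) ≫ g).imageι hσz
  · have hle : U ⊓ V ≤ U ⊓ X₀ := inf_le_inf_left U hVX₀
    rw [← Category.assoc, hagree hle, Category.assoc, Scheme.Hom.toImage_imageι,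
      ← Category.assoc, Scheme.homOfLE_homOfLE]



theorem S3836_main {X Y S : Scheme.{u}} (pX : X ⟶ S) (pY : Y ⟶ S)
    [LocallyOfFiniteType pY] [IsSeparated pY]
    (hX : ∀ y : ↥X, ∃ W : X.Opens, y ∈ W ∧ IsIntegral (W : Scheme.{u}))
    (U : X.Opens) (hU : Dense (U : Set ↥X)) (h : (U : Scheme.{u}) ⟶ Y) (hh : U.ι ≫ pX = h ≫ pY)
    (x : ↥X) (hx : IsIntegrallyClosed (X.presheaf.stalk x))
    (z : ↥(pullback pX pY)) (hz : pullback.fst pX pY z = x)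
    (hzΓ : z ∈ closure (Set.range (pullback.lift U.ι h hh)))
    (hiso : ∃ W : (pullback pX pY).Opens, (W : Set ↥(pullback pX pY)) ∩
      closure (Set.range (pullback.lift U.ι h hh)) ∩
      (pullback.fst pX pY) ⁻¹' {x} = {z}) :
    ∃ (V : X.Opens) (v : (V : Scheme.{u}) ⟶ Y), x ∈ V ∧ v ≫ pY = V.ι ≫ pX ∧
      X.homOfLE (inf_le_right : U ⊓ V ≤ V) ≫ v = X.homOfLE (inf_le_left : U ⊓ V ≤ U) ≫ h := by
  subst hz
  obtain ⟨W, hW⟩ := hiso
  obtain ⟨X₀, hxX₀, hint⟩ := hX (pullback.fst pX pY z)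
  have hne : ((U ⊓ X₀ : X.Opens) : Set X).Nonempty := by
    obtain ⟨w, hw1, hw2⟩ := hU.inter_open_nonempty _ X₀.isOpen ⟨_, hxX₀⟩
    exact ⟨w, hw2, hw1⟩
  obtain ⟨V, hxV, σ, -, hσ, -, hagree⟩ := section_extends_of_isolated (pullback.fst pX pY) U
    (pullback.lift U.ι h hh) (pullback.lift_fst _ _ _) X₀ hne z hxX₀ hx hzΓ W hW
  refine ⟨V, σ ≫ pullback.snd pX pY, hxV, ?_, ?_⟩
  · rw [Category.assoc, ← pullback.condition, reassoc_of% hσ]
  · rw [reassoc_of% hagree, pullback.lift_snd]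


end Groth.Agent.Lib.Helper4.RatSection1
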