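import Mathlib

/-!
# Spreading out properties of a local ring to a neighbourhood (locally Noetherian schemes)

Copy (by helper4, to avoid cross-seat import fragility) of helper1's SchNbhd library.
-/

set_option autoImplicit false

namespace Groth.Agent.Lib.Helper4.SchNbhdCopy

open AlgebraicGeometry CategoryTheory

universe u

section Alg

theorem exists_mul_eq_zero_of_ker {A : Type*} [CommRing A] [IsNoetherianRing A] (𝔭 : Ideal A)
    [𝔭.IsPrime] :
    ∃ s ∈ 𝔭.primeCompl, ∀ a : A, (∃ t ∈ 𝔭.primeCompl, t * a = 0) → s * a = 0 := by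
  classical
  obtain ⟨S, hS⟩ := (IsNoetherian.noetherian
    (RingHom.ker (algebraMap A (Localization.AtPrime 𝔭))) : Submodule.FG _)
  have hK : ∀ a : A, a ∈ RingHom.ker (algebraMap A (Localization.AtPrime 𝔭)) ↔
      ∃ t ∈ 𝔭.primeCompl, t * a = 0 := by
    intro a
    rw [RingHom.mem_ker, IsLocalization.map_eq_zero_iff 𝔭.primeCompl]
    constructor
    · rintro ⟨m, hm⟩; exact ⟨m.1, m.2, hm⟩
    · rintro ⟨t, ht, h⟩; exact ⟨⟨t, ht⟩, h⟩
  have hmem : ∀ g ∈ S, ∃ t ∈ 𝔭.primeCompl, t * g = 0 := fun g hg =>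
    (hK g).mp (hS ▸ Submodule.subset_span hg)
  choose! t ht using hmem
  refine ⟨∏ g ∈ S, t g, Submonoid.prod_mem _ (fun g hg => (ht g hg).1), ?_⟩
  intro a ha
  have haK : a ∈ Submodule.span A (S : Set A) := by rw [hS]; exact (hK a).mpr ha
  clear ha
  induction haK using Submodule.span_induction with
  | mem g hg =>
    obtain ⟨c, hc⟩ := Finset.dvd_prod_of_mem t hg
    rw [hc, mul_comm (t g) c, mul_assoc, (ht g hg).2, mul_zero]
  | zero => exact mul_zero _
  | add x y _ _ hx hy => rw [mul_add, hx, hy, add_zero]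
  | smul c x _ hx => rw [smul_eq_mul, mul_left_comm, hx, mul_zero]

theorem exists_injective_away_to_atPrime {A : Type*} [CommRing A] (𝔭 : Ideal A) [𝔭.IsPrime]
    (s : A) (hs : s ∈ 𝔭.primeCompl)
    (hker : ∀ a : A, (∃ t ∈ 𝔭.primeCompl, t * a = 0) → s * a = 0)
    (As : Type*) [CommRing As] [Algebra A As] [IsLocalization.Away s As]
    (B : Type*) [CommRing B] [Algebra A B] [IsLocalization.AtPrime B 𝔭] :
    ∃ φ : As →+* B, Function.Injective φ := by
  have hpow : ∀ y : Submonoid.powers s, (y : A) ∈ 𝔭.primeCompl := by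
    rintro ⟨_, n, rfl⟩
    exact Submonoid.pow_mem _ hs n
  have hu : ∀ y : Submonoid.powers s, IsUnit (algebraMap A B y) := fun y =>
    (IsLocalization.AtPrime.isUnit_to_map_iff B 𝔭 _).mpr (hpow y)
  refine ⟨IsLocalization.lift (M := Submonoid.powers s) (S := As) hu, ?_⟩
  rw [IsLocalization.lift_injective_iff]
  intro x y
  rw [IsLocalization.eq_iff_exists (Submonoid.powers s) As,
    IsLocalization.eq_iff_exists 𝔭.primeCompl B]
  constructor
  · rintro ⟨c, hc⟩
    exact ⟨⟨c.1, hpow c⟩, hc⟩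
  · rintro ⟨c, hc⟩
    refine ⟨⟨s, Submonoid.mem_powers s⟩, ?_⟩
    have h1 : s * (x - y) = 0 := hker (x - y) ⟨c.1, c.2, by rw [mul_sub, hc, sub_self]⟩
    rw [mul_sub, sub_eq_zero] at h1
    exact h1

theorem exists_isPrime_nilradical_away {A : Type*} [CommRing A] [IsNoetherianRing A]
    (𝔭 : Ideal A) [𝔭.IsPrime] (B : Type*) [CommRing B] [Algebra A B] [IsLocalization.AtPrime B 𝔭]
    (hB : (nilradical B).IsPrime) :
    ∃ s ∈ 𝔭.primeCompl, ∀ (As : Type*) [CommRing As] [Algebra A As] [IsLocalization.Away s As],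
      (nilradical As).IsPrime := by
  classical
  have h𝔮 : ((nilradical B).comap (algebraMap A B)).IsPrime := Ideal.comap_isPrime _ _
  have h𝔮𝔭 : (nilradical B).comap (algebraMap A B) ≤ 𝔭 := by
    intro a ha
    by_contra hna
    have hu : IsUnit (algebraMap A B a) := (IsLocalization.AtPrime.isUnit_to_map_iff B 𝔭 a).mpr hna
    obtain ⟨n, hn⟩ : IsNilpotent (algebraMap A B a) := ha
    have hu0 : IsUnit (0 : B) := hn ▸ hu.pow n
    have h01 : (1 : B) = 0 := (isUnit_zero_iff.mp hu0).symm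
    apply hB.ne_top
    rw [Ideal.eq_top_iff_one, h01]
    exact Ideal.zero_mem _
  obtain ⟨S, hS⟩ := (IsNoetherian.noetherian ((nilradical B).comap (algebraMap A B)) :
    Submodule.FG _)
  have hmem : ∀ g ∈ S, ∃ t ∈ 𝔭.primeCompl, IsNilpotent (t * g) := by
    intro g hg
    have hgq : g ∈ (nilradical B).comap (algebraMap A B) := hS ▸ Submodule.subset_span hg
    obtain ⟨n, hn⟩ : IsNilpotent (algebraMap A B g) := hgq
    rw [← map_pow, IsLocalization.map_eq_zero_iff 𝔭.primeCompl] at hn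
    obtain ⟨m, hm⟩ := hn
    refine ⟨m.1, m.2, n + 1, ?_⟩
    have h2 : (m.1 * g) ^ (n + 1) = m.1 ^ n * g * (m.1 * g ^ n) := by ring
    rw [h2, hm, mul_zero]
  choose! t ht using hmem
  refine ⟨∏ g ∈ S, t g, Submonoid.prod_mem _ (fun g hg => (ht g hg).1), ?_⟩
  intro As _ _ _
  have hsq : ∀ a ∈ (nilradical B).comap (algebraMap A B), IsNilpotent ((∏ g ∈ S, t g) * a) := by
    intro a ha
    have haK : a ∈ Submodule.span A (S : Set A) := by rw [hS]; exact ha
    have hmemnil : ∀ x : A, IsNilpotent x ↔ x ∈ nilradical A := fun x => Iff.rfl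
    clear ha
    induction haK using Submodule.span_induction with
    | mem g hg =>
      obtain ⟨c, hc⟩ := Finset.dvd_prod_of_mem t hg
      rw [hc, mul_comm (t g) c, mul_assoc]
      rw [hmemnil]
      exact (nilradical A).mul_mem_left c ((hmemnil _).mp (ht g hg).2)
    | zero => rw [mul_zero]; exact IsNilpotent.zero
    | add x y _ _ hx hy =>
      rw [mul_add, hmemnil]
      exact (nilradical A).add_mem hx hy
    | smul c x _ hx =>
      rw [smul_eq_mul, mul_left_comm, hmemnil]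
      exact (nilradical A).mul_mem_left c hx
  have hs𝔭 : (∏ g ∈ S, t g) ∈ 𝔭.primeCompl := Submonoid.prod_mem _ (fun g hg => (ht g hg).1)
  have hdisj : Disjoint ((Submonoid.powers (∏ g ∈ S, t g) : Submonoid A) : Set A)
      (((nilradical B).comap (algebraMap A B) : Ideal A) : Set A) := by
    rw [Set.disjoint_left]
    rintro _ ⟨n, rfl⟩ hn
    exact hs𝔭 (h𝔮𝔭 (h𝔮.mem_of_pow_mem n hn))
  have hprime := IsLocalization.isPrime_of_isPrime_disjoint (Submonoid.powers (∏ g ∈ S, t g)) As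
    _ h𝔮 hdisj
  have heq : nilradical As = ((nilradical B).comap (algebraMap A B)).map (algebraMap A As) := by
    apply le_antisymm
    · exact nilradical_le_prime _
    · rw [Ideal.map_le_iff_le_comap]
      intro a ha
      obtain ⟨n, hn⟩ := hsq a ha
      have hu : IsUnit (algebraMap A As (∏ g ∈ S, t g)) :=
        IsLocalization.Away.algebraMap_isUnit _
      show IsNilpotent (algebraMap A As a)
      refine ⟨n, ?_⟩
      have h1 : algebraMap A As (((∏ g ∈ S, t g) * a) ^ n) = 0 := by rw [hn, map_zero]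
      rw [mul_pow, map_mul, map_pow, map_pow] at h1
      exact (hu.pow n).mul_right_eq_zero.mp h1
  rw [heq]
  exact hprime

end Alg

section Sch

/-- Common setup: an affine neighbourhood `X.basicOpen s` of `x` whose ring of sections injects
into the stalk at `x`. -/
theorem exists_basicOpen_injective_stalk (X : Scheme.{u}) [IsLocallyNoetherian X] (x : X) :
    ∃ (U : X.Opens), IsAffineOpen U ∧ x ∈ U ∧
      ∃ φ : Γ(X, U) →+* X.presheaf.stalk x, Function.Injective φ := by
  obtain ⟨_, ⟨V, hV, rfl⟩, hxV, -⟩ :=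
    X.isBasis_affineOpens.exists_subset_of_mem_open (Set.mem_univ x) isOpen_univ
  have hN : IsNoetherianRing Γ(X, V) := IsLocallyNoetherian.component_noetherian ⟨V, hV⟩
  letI : Algebra Γ(X, V) (X.presheaf.stalk x) :=
    TopCat.Presheaf.algebra_section_stalk X.presheaf ⟨x, hxV⟩
  have hloc : IsLocalization.AtPrime (X.presheaf.stalk x) (hV.primeIdealOf ⟨x, hxV⟩).asIdeal :=
    hV.isLocalization_stalk ⟨x, hxV⟩
  obtain ⟨s, hs, hker⟩ := exists_mul_eq_zero_of_ker (hV.primeIdealOf ⟨x, hxV⟩).asIdeal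
  have hloc2 := hV.isLocalization_basicOpen s
  obtain ⟨φ, hφ⟩ := exists_injective_away_to_atPrime (hV.primeIdealOf ⟨x, hxV⟩).asIdeal s hs hker
    Γ(X, X.basicOpen s) (X.presheaf.stalk x)
  refine ⟨X.basicOpen s, hV.basicOpen s, ?_, φ, hφ⟩
  rw [Scheme.mem_basicOpen X s x hxV]
  exact (IsLocalization.AtPrime.isUnit_to_map_iff (X.presheaf.stalk x)
    (hV.primeIdealOf ⟨x, hxV⟩).asIdeal s).mpr hs

theorem S2259 (X : Scheme.{u}) [IsLocallyNoetherian X] (x : X)
    [_root_.IsReduced (X.presheaf.stalk x)] :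
    ∃ U : X.Opens, x ∈ U ∧ IsReduced (U : Scheme.{u}) := by
  obtain ⟨U, hU, hxU, φ, hφ⟩ := exists_basicOpen_injective_stalk X x
  refine ⟨U, hxU, ?_⟩
  have h1 : _root_.IsReduced Γ(X, U) := isReduced_of_injective φ hφ
  have h2 : _root_.IsReduced Γ((U : Scheme.{u}), ⊤) :=
    isReduced_of_injective U.topIso.commRingCatIsoToRingEquiv.toRingHom
      U.topIso.commRingCatIsoToRingEquiv.injective
  have : IsAffine (U : Scheme.{u}) := hU
  exact isReduced_of_isAffine_isReduced _

theorem S2260 (X : Scheme.{u}) [IsLocallyNoetherian X] (x : X)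
    [IsDomain (X.presheaf.stalk x)] :
    ∃ U : X.Opens, x ∈ U ∧ IsIntegral (U : Scheme.{u}) := by
  obtain ⟨U, hU, hxU, φ, hφ⟩ := exists_basicOpen_injective_stalk X x
  refine ⟨U, hxU, ?_⟩
  have h1 : IsDomain Γ(X, U) := hφ.isDomain φ
  have h2 : IsDomain Γ((U : Scheme.{u}), ⊤) :=
    U.topIso.commRingCatIsoToRingEquiv.injective.isDomain
      U.topIso.commRingCatIsoToRingEquiv.toRingHom
  have : IsAffine (U : Scheme.{u}) := hU
  have : Nonempty (U : Scheme.{u}) := ⟨⟨x, hxU⟩⟩
  exact isIntegral_of_isAffine_of_isDomain _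

theorem S2258 (X : Scheme.{u}) [IsLocallyNoetherian X] (x : X)
    (hx : (nilradical (X.presheaf.stalk x)).IsPrime) :
    ∃ U : X.Opens, x ∈ U ∧ IsIrreducible (U : Set X) := by
  obtain ⟨_, ⟨V, hV, rfl⟩, hxV, -⟩ :=
    X.isBasis_affineOpens.exists_subset_of_mem_open (Set.mem_univ x) isOpen_univ
  have hN : IsNoetherianRing Γ(X, V) := IsLocallyNoetherian.component_noetherian ⟨V, hV⟩
  letI : Algebra Γ(X, V) (X.presheaf.stalk x) :=
    TopCat.Presheaf.algebra_section_stalk X.presheaf ⟨x, hxV⟩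
  have hloc : IsLocalization.AtPrime (X.presheaf.stalk x) (hV.primeIdealOf ⟨x, hxV⟩).asIdeal :=
    hV.isLocalization_stalk ⟨x, hxV⟩
  obtain ⟨s, hs, hprime⟩ := exists_isPrime_nilradical_away (hV.primeIdealOf ⟨x, hxV⟩).asIdeal
    (X.presheaf.stalk x) hx
  have hloc2 := hV.isLocalization_basicOpen s
  have hp : (nilradical Γ(X, X.basicOpen s)).IsPrime := hprime Γ(X, X.basicOpen s)
  refine ⟨X.basicOpen s, ?_, ?_⟩
  · rw [Scheme.mem_basicOpen X s x hxV]
    exact (IsLocalization.AtPrime.isUnit_to_map_iff (X.presheaf.stalk x)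
      (hV.primeIdealOf ⟨x, hxV⟩).asIdeal s).mpr hs
  · have hU : IsAffineOpen (X.basicOpen s) := hV.basicOpen s
    have h1 : IsIrreducible (Set.univ : Set ↥(Spec Γ(X, X.basicOpen s))) := by
      show IsIrreducible (Set.univ : Set (PrimeSpectrum Γ(X, X.basicOpen s)))
      rw [← PrimeSpectrum.zeroLocus_bot, PrimeSpectrum.isIrreducible_zeroLocus_iff]
      exact hp
    have h2 := h1.image hU.fromSpec hU.fromSpec.continuous.continuousOn
    rw [Set.image_univ] at h2
    rw [← hU.range_fromSpec]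
    exact h2

end Sch

end Groth.Agent.Lib.Helper4.SchNbhdCopy
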