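import Mathlib
import Groth.Agent.Lib.Helper4.RatSection1
import Groth.Agent.Lib.Helper4.RationalExt1
import Groth.Agent.Lib.Helper4.FlatDVR1
import Groth.Agent.Lib.Helper4.SchNbhdCopy

/-!
# Extension of sections at normal points: DVR criteria (helper4)
-/

set_option backward.isDefEq.respectTransparency.types false
set_option synthInstance.maxHeartbeats 400000
set_option autoImplicit false
set_option linter.unusedSectionVars false
set_option linter.style.haveILetI false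
set_option linter.unusedSimpArgs false
universe u v w
open CategoryTheory CategoryTheory.Limits AlgebraicGeometry TopologicalSpace IsLocalRing

namespace Groth.Agent.Lib.Helper4.RatSection2

theorem glue_of_inf {X Y : Scheme.{u}} {J : Type u} (𝒱 : J → X.Opens)
    (g : ∀ j, ((𝒱 j : X.Opens) : Scheme.{u}) ⟶ Y)
    (hc : ∀ j₁ j₂, X.homOfLE (inf_le_left : 𝒱 j₁ ⊓ 𝒱 j₂ ≤ 𝒱 j₁) ≫ g j₁ =
      X.homOfLE (inf_le_right : 𝒱 j₁ ⊓ 𝒱 j₂ ≤ 𝒱 j₂) ≫ g j₂) :
    ∃ s' : ((⨆ j, 𝒱 j : X.Opens) : Scheme.{u}) ⟶ Y,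
      (∀ j, X.homOfLE (le_iSup 𝒱 j) ≫ s' = g j) ∧
      ∀ (q : Y ⟶ X), (∀ j, g j ≫ q = (𝒱 j).ι) → s' ≫ q = (⨆ j, 𝒱 j).ι := by
  let 𝒰 := Scheme.Opens.iSupOpenCover 𝒱
  have compat : ∀ j₁ j₂ : J, pullback.fst (𝒰.f j₁) (𝒰.f j₂) ≫ g j₁ =
      pullback.snd (𝒰.f j₁) (𝒰.f j₂) ≫ g j₂ := by
    intro j₁ j₂
    have hu : pullback.fst (𝒰.f j₁) (𝒰.f j₂) ≫ (𝒱 j₁).ι =
        pullback.snd (𝒰.f j₁) (𝒰.f j₂) ≫ (𝒱 j₂).ι := by
      have e1 : (𝒱 j₁).ι = 𝒰.f j₁ ≫ (⨆ j, 𝒱 j).ι := (Scheme.homOfLE_ι X (le_iSup 𝒱 j₁)).symm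
      have e2 : (𝒱 j₂).ι = 𝒰.f j₂ ≫ (⨆ j, 𝒱 j).ι := (Scheme.homOfLE_ι X (le_iSup 𝒱 j₂)).symm
      rw [e1, e2, pullback.condition_assoc]
    have hr : Set.range (pullback.fst (𝒰.f j₁) (𝒰.f j₂) ≫ (𝒱 j₁).ι) ⊆
        Set.range (𝒱 j₁ ⊓ 𝒱 j₂).ι := by
      rintro _ ⟨w, rfl⟩
      rw [Scheme.Opens.range_ι]
      refine ⟨?_, ?_⟩
      · rw [Scheme.Hom.comp_apply]; exact (pullback.fst (𝒰.f j₁) (𝒰.f j₂) w).2
      · rw [hu, Scheme.Hom.comp_apply]; exact (pullback.snd (𝒰.f j₁) (𝒰.f j₂) w).2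
    let l := IsOpenImmersion.lift (𝒱 j₁ ⊓ 𝒱 j₂).ι (pullback.fst (𝒰.f j₁) (𝒰.f j₂) ≫ (𝒱 j₁).ι) hr
    have hl : l ≫ (𝒱 j₁ ⊓ 𝒱 j₂).ι = pullback.fst (𝒰.f j₁) (𝒰.f j₂) ≫ (𝒱 j₁).ι :=
      IsOpenImmersion.lift_fac _ _ _
    have h1 : (pullback.fst (𝒰.f j₁) (𝒰.f j₂) :
        pullback (𝒰.f j₁) (𝒰.f j₂) ⟶ ((𝒱 j₁ : X.Opens) : Scheme.{u})) =
        l ≫ X.homOfLE (inf_le_left : 𝒱 j₁ ⊓ 𝒱 j₂ ≤ 𝒱 j₁) := by
      refine (cancel_mono (𝒱 j₁).ι).mp ?_
      rw [Category.assoc, Scheme.homOfLE_ι, hl]; rfl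
    have h2 : (pullback.snd (𝒰.f j₁) (𝒰.f j₂) :
        pullback (𝒰.f j₁) (𝒰.f j₂) ⟶ ((𝒱 j₂ : X.Opens) : Scheme.{u})) =
        l ≫ X.homOfLE (inf_le_right : 𝒱 j₁ ⊓ 𝒱 j₂ ≤ 𝒱 j₂) := by
      refine (cancel_mono (𝒱 j₂).ι).mp ?_
      rw [Category.assoc, Scheme.homOfLE_ι, hl, hu]; rfl
    calc pullback.fst (𝒰.f j₁) (𝒰.f j₂) ≫ g j₁
        = (l ≫ X.homOfLE (inf_le_left : 𝒱 j₁ ⊓ 𝒱 j₂ ≤ 𝒱 j₁)) ≫ g j₁ := by rw [← h1]; rfl
      _ = (l ≫ X.homOfLE (inf_le_right : 𝒱 j₁ ⊓ 𝒱 j₂ ≤ 𝒱 j₂)) ≫ g j₂ := by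
          rw [Category.assoc, Category.assoc, hc j₁ j₂]
      _ = pullback.snd (𝒰.f j₁) (𝒰.f j₂) ≫ g j₂ := by rw [← h2]; rfl
  refine ⟨𝒰.glueMorphisms g compat, ?_, ?_⟩
  · intro j
    exact 𝒰.ι_glueMorphisms _ compat j
  · intro q hq
    refine 𝒰.hom_ext _ _ fun j => ?_
    rw [Scheme.Cover.ι_glueMorphisms_assoc]
    exact (hq j).trans (Scheme.homOfLE_ι X (le_iSup 𝒱 j)).symm

/-- gluing two morphisms -/
theorem glue_two {X Y : Scheme.{u}} (U V : X.Opens) (a : (U : Scheme.{u}) ⟶ Y)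
    (b : (V : Scheme.{u}) ⟶ Y)
    (hab : X.homOfLE (inf_le_left : U ⊓ V ≤ U) ≫ a = X.homOfLE (inf_le_right : U ⊓ V ≤ V) ≫ b) :
    ∃ (U' : X.Opens) (hU : U ≤ U') (hV : V ≤ U') (c : (U' : Scheme.{u}) ⟶ Y),
      X.homOfLE hU ≫ c = a ∧ X.homOfLE hV ≫ c = b ∧
      ∀ (q : Y ⟶ X), a ≫ q = U.ι → b ≫ q = V.ι → c ≫ q = U'.ι := by
  let 𝒱 : ULift.{u} Bool → X.Opens := fun j => if j.down then U else V
  let g : ∀ j, ((𝒱 j : X.Opens) : Scheme.{u}) ⟶ Y := fun j =>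
    match j with
    | ⟨true⟩ => a
    | ⟨false⟩ => b
  have hc : ∀ j₁ j₂, X.homOfLE (inf_le_left : 𝒱 j₁ ⊓ 𝒱 j₂ ≤ 𝒱 j₁) ≫ g j₁ =
      X.homOfLE (inf_le_right : 𝒱 j₁ ⊓ 𝒱 j₂ ≤ 𝒱 j₂) ≫ g j₂ := by
    rintro ⟨_ | _⟩ ⟨_ | _⟩
    · rfl
    · show X.homOfLE (inf_le_left : V ⊓ U ≤ V) ≫ b = X.homOfLE (inf_le_right : V ⊓ U ≤ U) ≫ a
      have e : V ⊓ U ≤ U ⊓ V := le_of_eq (inf_comm V U)
      rw [← Scheme.homOfLE_homOfLE X e (inf_le_right : U ⊓ V ≤ V),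
        ← Scheme.homOfLE_homOfLE X e (inf_le_left : U ⊓ V ≤ U), Category.assoc, Category.assoc, hab]
    · exact hab
    · rfl
  obtain ⟨s', h1, h2⟩ := glue_of_inf 𝒱 g hc
  refine ⟨⨆ j, 𝒱 j, le_iSup 𝒱 ⟨true⟩, le_iSup 𝒱 ⟨false⟩, s', h1 ⟨true⟩, h1 ⟨false⟩, ?_⟩
  intro q ha hb
  apply h2 q
  rintro ⟨_ | _⟩
  · exact hb
  · exact ha



/-- a point at which `q` is quasi-finite is isolated in its fibre -/
theorem exists_open_isolating {X Y : Scheme.{u}} (q : Y ⟶ X) [LocallyOfFiniteType q] (y : Y)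
    (h : q.QuasiFiniteAt y) : ∃ W : Y.Opens, (W : Set Y) ∩ q ⁻¹' {q y} = {y} := by
  rw [Scheme.Hom.quasiFiniteAt_iff_isOpen_singleton_asFiber,
    ← (q.fiberHomeo (q y)).isOpen_image] at h
  simp only [Set.image_singleton, Scheme.Hom.asFiber, Homeomorph.apply_symm_apply] at h
  obtain ⟨W', hW', hW'eq⟩ := isOpen_induced_iff.mp h
  refine ⟨⟨W', hW'⟩, ?_⟩
  ext w
  simp only [Set.mem_inter_iff, Set.mem_preimage, Set.mem_singleton_iff]
  constructor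
  · rintro ⟨h1, h2⟩
    have : (⟨w, h2⟩ : q ⁻¹' {q y}) ∈ Subtype.val ⁻¹' W' := h1
    rw [hW'eq] at this
    exact congrArg Subtype.val this
  · rintro rfl
    have : (⟨w, rfl⟩ : q ⁻¹' {q w}) ∈ Subtype.val ⁻¹' W' := by rw [hW'eq]; rfl
    exact ⟨this, rfl⟩

/-- the closed point of a local domain is in the closure of the image of the generic point -/
theorem closedPoint_mem_closure_range {R : Type u} [CommRing R] [IsDomain R] [IsLocalRing R]
    {X Y : Scheme.{u}} (U : X.Opens) (h : (U : Scheme.{u}) ⟶ Y)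
    (ub : Spec (CommRingCat.of (FractionRing R)) ⟶ (U : Scheme.{u}))
    (h₁ : Spec (CommRingCat.of R) ⟶ Y)
    (hc : Spec.map (CommRingCat.ofHom (algebraMap R (FractionRing R))) ≫ h₁ = ub ≫ h) :
    h₁ (IsLocalRing.closedPoint R) ∈ closure (Set.range h) := by
  let pt : Spec (CommRingCat.of (FractionRing R)) := ⟨⊥, Ideal.isPrime_bot⟩
  have h1 : (Spec.map (CommRingCat.ofHom (algebraMap R (FractionRing R)))) pt ⤳
      IsLocalRing.closedPoint R :=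
    Groth.Agent.Lib.Helper4.RationalExt1.specMap_fractionMap_specializes R (FractionRing R) pt _
  have h2 := h1.map h₁.continuous
  have h3 : h₁ ((Spec.map (CommRingCat.ofHom (algebraMap R (FractionRing R)))) pt) =
      h (ub pt) := by
    rw [← Scheme.Hom.comp_apply, hc, Scheme.Hom.comp_apply]
  rw [h3] at h2
  have h4 : ({h (ub pt)} : Set Y) ⊆ Set.range h := Set.singleton_subset_iff.mpr ⟨ub pt, rfl⟩
  exact closure_mono h4 (specializes_iff_mem_closure.mp h2)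

theorem S3849_mpr {X Y : Scheme.{u}} [IsLocallyNoetherian X] (q : Y ⟶ X)
    [LocallyOfFiniteType q] [IsSeparated q] [LocallyQuasiFinite q] (U : X.Opens)
    (hU : Dense (U : Set ↥X))
    (h : (U : Scheme.{u}) ⟶ Y) (hh : h ≫ q = U.ι) (x : ↥X) [IsDomain ↑(X.presheaf.stalk x)]
    (hx : IsIntegrallyClosed ↑(X.presheaf.stalk x))
    (R : Type u) [CommRing R] [IsDomain R] [IsDiscreteValuationRing R]
    (u : Spec (CommRingCat.of R) ⟶ X) (ub : Spec (CommRingCat.of (FractionRing R)) ⟶ (U : Scheme.{u}))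
    (h₁ : Spec (CommRingCat.of R) ⟶ Y) (hux : u (IsLocalRing.closedPoint R) = x)
    (hq : h₁ ≫ q = u)
    (hc : Spec.map (CommRingCat.ofHom (algebraMap R (FractionRing R))) ≫ h₁ = ub ≫ h) :
    ∃ (U' : X.Opens) (hUU' : U ≤ U') (h' : (U' : Scheme.{u}) ⟶ Y),
        x ∈ U' ∧ h' ≫ q = U'.ι ∧ X.homOfLE hUU' ≫ h' = h := by
  have hqy : q (h₁ (IsLocalRing.closedPoint R)) = x := by
    rw [← Scheme.Hom.comp_apply, hq, hux]
  subst hqy
  obtain ⟨X₀, hxX₀, hint⟩ := Groth.Agent.Lib.Helper4.SchNbhdCopy.S2260 X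
    (q (h₁ (IsLocalRing.closedPoint R)))
  have hne : ((U ⊓ X₀ : X.Opens) : Set X).Nonempty := by
    obtain ⟨w, hw1, hw2⟩ := hU.inter_open_nonempty _ X₀.isOpen ⟨_, hxX₀⟩
    exact ⟨w, hw2, hw1⟩
  obtain ⟨W, hW⟩ := exists_open_isolating q (h₁ (IsLocalRing.closedPoint R))
    (q.quasiFiniteAt _)
  have hzΓ := closedPoint_mem_closure_range U h ub h₁ hc
  have hW' : (W : Set Y) ∩ closure (Set.range h) ∩ q ⁻¹' {q (h₁ (IsLocalRing.closedPoint R))} =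
      {h₁ (IsLocalRing.closedPoint R)} := by
    rw [Set.inter_assoc, Set.inter_comm (closure _), ← Set.inter_assoc, hW]
    exact Set.inter_eq_left.mpr (Set.singleton_subset_iff.mpr hzΓ)
  obtain ⟨V, hxV, σ, -, hσ, -, hagree⟩ :=
    Groth.Agent.Lib.Helper4.RatSection1.section_extends_of_isolated q U h hh X₀ hne
      (h₁ (IsLocalRing.closedPoint R)) hxX₀ hx hzΓ W hW'
  obtain ⟨U', hUU', hVU', c, hc1, hc2, hc3⟩ := glue_two U V h σ hagree.symm
  exact ⟨U', hUU', c, hVU' hxV, hc3 q hh hσ, hc1⟩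



/-- a dense open meets the generizations of a point with domain stalk (loc. Noetherian) -/
theorem exists_mem_specializes {X : Scheme.{u}} [IsLocallyNoetherian X] (U : X.Opens)
    (hU : Dense (U : Set X)) (x : X) [IsDomain (X.presheaf.stalk x)] :
    ∃ y ∈ U, y ⤳ x := by
  obtain ⟨X₀, hxX₀, hint⟩ := Groth.Agent.Lib.Helper4.SchNbhdCopy.S2260 X x
  have hne : ((X₀.ι ⁻¹ᵁ U : (X₀ : Scheme.{u}).Opens) : Set (X₀ : Scheme.{u})).Nonempty := by
    obtain ⟨w, hw1, hw2⟩ := hU.inter_open_nonempty _ X₀.isOpen ⟨_, hxX₀⟩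
    exact ⟨⟨w, hw1⟩, hw2⟩
  have hη : genericPoint (X₀ : Scheme.{u}) ∈ X₀.ι ⁻¹ᵁ U :=
    ((genericPoint_spec (X₀ : Scheme.{u})).mem_open_set_iff (X₀.ι ⁻¹ᵁ U).isOpen).mpr
      (by simpa using hne)
  refine ⟨X₀.ι (genericPoint (X₀ : Scheme.{u})), hη, ?_⟩
  have h1 : genericPoint (X₀ : Scheme.{u}) ⤳ (⟨x, hxX₀⟩ : X₀) :=
    (genericPoint_spec (X₀ : Scheme.{u})).specializes trivial
  exact h1.map X₀.ι.continuous

theorem not_isField_stalk {X : Scheme.{u}} [IsLocallyNoetherian X] (U : X.Opens)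
    (hU : Dense (U : Set X)) (x : X) (hxU : x ∉ U) [IsDomain (X.presheaf.stalk x)] :
    ¬ IsField (X.presheaf.stalk x) := by
  intro hF
  obtain ⟨y, hyU, hyx⟩ := exists_mem_specializes U hU x
  have hy : y ∈ Set.range (X.fromSpecStalk x) := by
    rw [Scheme.range_fromSpecStalk]; exact hyx
  obtain ⟨p, rfl⟩ := hy
  have hp : p = IsLocalRing.closedPoint (X.presheaf.stalk x) := by
    apply PrimeSpectrum.ext
    letI := hF.toField
    rw [Ideal.eq_bot_of_prime p.asIdeal]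
    exact (Ideal.eq_bot_of_prime (IsLocalRing.maximalIdeal (X.presheaf.stalk x))).symm
  rw [hp, Scheme.fromSpecStalk_closedPoint] at hyU
  exact hxU hyU

theorem exists_dvr_through {X : Scheme.{u}} [IsLocallyNoetherian X] (U : X.Opens)
    (hU : Dense (U : Set X)) (x : X) (hxU : x ∉ U) [IsDomain (X.presheaf.stalk x)] :
    ∃ (R : Type u) (_ : CommRing R) (_ : IsDomain R) (_ : IsDiscreteValuationRing R)
      (u : Spec (CommRingCat.of R) ⟶ X)
      (ub : Spec (CommRingCat.of (FractionRing R)) ⟶ (U : Scheme.{u})),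
      u (IsLocalRing.closedPoint R) = x ∧
        ub ≫ U.ι = Spec.map (CommRingCat.ofHom (algebraMap R (FractionRing R))) ≫ u := by
  have hA := not_isField_stalk U hU x hxU
  obtain ⟨R, _, _, _, φ, hφinj, hφloc⟩ :=
    Groth.Agent.Lib.Helper4.FlatDVR1.exists_dvr_dominating (X.presheaf.stalk x) hA
  refine ⟨R, inferInstance, inferInstance, inferInstance,
    Spec.map (CommRingCat.ofHom φ) ≫ X.fromSpecStalk x, ?_⟩
  have hcl : (Spec.map (CommRingCat.ofHom φ) ≫ X.fromSpecStalk x) (IsLocalRing.closedPoint R) =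
      x := by
    rw [Scheme.Hom.comp_apply]
    have : (Spec.map (CommRingCat.ofHom φ)) (IsLocalRing.closedPoint R) =
        IsLocalRing.closedPoint (X.presheaf.stalk x) := PrimeSpectrum.ext hφloc
    rw [this, Scheme.fromSpecStalk_closedPoint]
  -- the generic point lands in U
  have hr : Set.range (Spec.map (CommRingCat.ofHom (algebraMap R (FractionRing R))) ≫
      Spec.map (CommRingCat.ofHom φ) ≫ X.fromSpecStalk x) ⊆ Set.range U.ι := by
    rintro _ ⟨pt, rfl⟩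
    rw [Scheme.Opens.range_ι]
    obtain ⟨y, hyU, hyx⟩ := exists_mem_specializes U hU x
    have hy : y ∈ Set.range (X.fromSpecStalk x) := by
      rw [Scheme.range_fromSpecStalk]; exact hyx
    obtain ⟨p, rfl⟩ := hy
    have h1 : (Spec.map (CommRingCat.ofHom φ))
        ((Spec.map (CommRingCat.ofHom (algebraMap R (FractionRing R)))) pt) ⤳ p := by
      refine (PrimeSpectrum.le_iff_specializes _ p).mp ?_
      intro a ha
      have ha' : (algebraMap R (FractionRing R)) (φ a) ∈ pt.asIdeal := ha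
      rw [Ideal.eq_bot_of_prime pt.asIdeal, Ideal.mem_bot] at ha'
      have h0 : φ a = 0 := (IsFractionRing.injective R (FractionRing R)) (by rw [ha', map_zero])
      have : a = 0 := hφinj (by rw [h0, map_zero])
      rw [this]; exact zero_mem _
    have h2 := h1.map (X.fromSpecStalk x).continuous
    rw [Scheme.Hom.comp_apply, Scheme.Hom.comp_apply]
    exact h2.mem_open U.isOpen hyU
  refine ⟨IsOpenImmersion.lift U.ι _ hr, hcl, IsOpenImmersion.lift_fac _ _ _⟩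



/-- a morphism from the spectrum of a local ring factors through any open containing the image
of the closed point -/
theorem range_subset_of_closedPoint_mem {R : Type u} [CommRing R] [IsLocalRing R] {X : Scheme.{u}}
    (u : Spec (CommRingCat.of R) ⟶ X) (U' : X.Opens) (h : u (IsLocalRing.closedPoint R) ∈ U') :
    Set.range u ⊆ Set.range U'.ι := by
  rintro _ ⟨w, rfl⟩
  rw [Scheme.Opens.range_ι]
  have h1 : w ⤳ IsLocalRing.closedPoint R := IsLocalRing.specializes_closedPoint w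
  exact (h1.map u.continuous).mem_open U'.isOpen h

theorem lift_of_extension {X Y : Scheme.{u}} (q : Y ⟶ X) (U : X.Opens)
    (h : (U : Scheme.{u}) ⟶ Y)
    (U' : X.Opens) (hUU' : U ≤ U') (h' : (U' : Scheme.{u}) ⟶ Y)
    (hq : h' ≫ q = U'.ι) (hres : X.homOfLE hUU' ≫ h' = h)
    (R : Type u) [CommRing R] [IsDomain R] [IsLocalRing R]
    (u : Spec (CommRingCat.of R) ⟶ X)
    (ub : Spec (CommRingCat.of (FractionRing R)) ⟶ (U : Scheme.{u}))
    (hu : u (IsLocalRing.closedPoint R) ∈ U')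
    (hub : ub ≫ U.ι = Spec.map (CommRingCat.ofHom (algebraMap R (FractionRing R))) ≫ u) :
    ∃ h₁ : Spec (CommRingCat.of R) ⟶ Y, h₁ ≫ q = u ∧
      h₁ (IsLocalRing.closedPoint R) = h' ⟨u (IsLocalRing.closedPoint R), hu⟩ ∧
      Spec.map (CommRingCat.ofHom (algebraMap R (FractionRing R))) ≫ h₁ = ub ≫ h := by
  have hr := range_subset_of_closedPoint_mem u U' hu
  have hl : IsOpenImmersion.lift U'.ι u hr ≫ U'.ι = u := IsOpenImmersion.lift_fac _ _ _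
  refine ⟨IsOpenImmersion.lift U'.ι u hr ≫ h', ?_, ?_, ?_⟩
  · rw [Category.assoc, hq, hl]
  · rw [Scheme.Hom.comp_apply]
    congr 1
    apply Subtype.ext
    have := congrArg (fun φ => φ.base (IsLocalRing.closedPoint R)) hl
    exact this
  · rw [← hres, ← Category.assoc, ← Category.assoc]
    congr 1
    rw [← cancel_mono U'.ι, Category.assoc, hl, Category.assoc, Scheme.homOfLE_ι, hub]

theorem S3849_main {X Y : Scheme.{u}} [IsLocallyNoetherian X] (q : Y ⟶ X)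
    [LocallyOfFiniteType q] [IsSeparated q] [LocallyQuasiFinite q] (U : X.Opens)
    (hU : Dense (U : Set ↥X))
    (h : (U : Scheme.{u}) ⟶ Y) (hh : h ≫ q = U.ι) (x : ↥X) (hxU : x ∉ U)
    [IsDomain ↑(X.presheaf.stalk x)]
    (hx : IsIntegrallyClosed ↑(X.presheaf.stalk x)) :
    (∃ (U' : X.Opens) (hUU' : U ≤ U') (h' : (U' : Scheme.{u}) ⟶ Y),
        x ∈ U' ∧ h' ≫ q = U'.ι ∧ X.homOfLE hUU' ≫ h' = h) ↔
      ∃ (R : Type u) (_ : CommRing R) (_ : IsDomain R) (_ : IsDiscreteValuationRing R)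
        (u : Spec (CommRingCat.of R) ⟶ X) (ub : Spec (CommRingCat.of (FractionRing R)) ⟶ (U : Scheme.{u}))
        (h₁ : Spec (CommRingCat.of R) ⟶ Y),
        u (IsLocalRing.closedPoint R) = x ∧
          ub ≫ U.ι = Spec.map (CommRingCat.ofHom (algebraMap R (FractionRing R))) ≫ u ∧
          h₁ ≫ q = u ∧ Spec.map (CommRingCat.ofHom (algebraMap R (FractionRing R))) ≫ h₁ = ub ≫ h := by
  constructor
  · rintro ⟨U', hUU', h', hxU', hq, hres⟩
    obtain ⟨R, _, _, _, u, ub, hux, hub⟩ := exists_dvr_through U hU x hxU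
    obtain ⟨h₁, h1, -, h3⟩ := lift_of_extension q U h U' hUU' h' hq hres R u ub
      (by rw [hux]; exact hxU') hub
    exact ⟨R, inferInstance, inferInstance, inferInstance, u, ub, h₁, hux, hub, h1, h3⟩
  · rintro ⟨R, _, _, _, u, ub, h₁, hux, hub, hq, hc⟩
    exact S3849_mpr q U hU h hh x hx R u ub h₁ hux hq hc


end Groth.Agent.Lib.Helper4.RatSection2
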