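import Mathlib
import Groth.Agent.Lib.Helper4.RatSection2
import Groth.Agent.Lib.Helper4.GraphClosure1
import Groth.Agent.Lib.Helper4.CurveValRings1

/-!
# Valuative criterion for extending a rational section at a normal point (S3848) (helper4)
-/

set_option backward.isDefEq.respectTransparency.types false
set_option synthInstance.maxHeartbeats 400000
set_option autoImplicit false
set_option linter.unusedSectionVars false
set_option linter.style.haveILetI false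
set_option linter.unusedSimpArgs false
universe u v w
open CategoryTheory CategoryTheory.Limits AlgebraicGeometry TopologicalSpace IsLocalRing

namespace Groth.Agent.Lib.Helper4.RatSection3

/-- a lift of a dominant morphism through an open immersion is dominant -/
theorem isDominant_lift {T Γ : Scheme.{u}} (t : T ⟶ Γ) [IsDominant t] (O : Γ.Opens)
    (hr : Set.range t ⊆ Set.range O.ι) : IsDominant (IsOpenImmersion.lift O.ι t hr) := by
  have ht₁ : IsOpenImmersion.lift O.ι t hr ≫ O.ι = t := IsOpenImmersion.lift_fac _ _ _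
  constructor
  rw [DenseRange, dense_iff_inter_open]
  intro O' hO hne
  obtain ⟨o, ho⟩ := hne
  have hO' : IsOpen (O.ι '' O') := O.ι.isOpenEmbedding.isOpenMap O' hO
  obtain ⟨_, hwO, ⟨w, rfl⟩⟩ := (IsDominant.denseRange (f := t)).inter_open_nonempty _ hO'
    ⟨_, ⟨o, ho, rfl⟩⟩
  obtain ⟨o', ho', heq⟩ := hwO
  refine ⟨IsOpenImmersion.lift O.ι t hr w, ?_, ⟨w, rfl⟩⟩
  have : o' = IsOpenImmersion.lift O.ι t hr w := by
    apply O.ι.isOpenEmbedding.injective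
    rw [heq, ← Scheme.Hom.comp_apply, ht₁]
  rw [← this]; exact ho'

theorem eq_comp_of_section {X Γ S : Scheme.{u}} [IsReduced Γ] (p : Γ ⟶ X) [IsSeparated p]
    (T : X.Opens) (τ : (T : Scheme.{u}) ⟶ Γ) [IsDominant τ] (hτ : τ ≫ p = T.ι)
    (a : S ⟶ Γ) (b : S ⟶ (T : Scheme.{u})) (hab : a ≫ p = b ≫ T.ι) : a = b ≫ τ := by
  have hr : Set.range τ ⊆ Set.range (p ⁻¹ᵁ T).ι := by
    rintro _ ⟨w, rfl⟩
    rw [Scheme.Opens.range_ι]
    show p (τ w) ∈ T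
    rw [← Scheme.Hom.comp_apply, hτ]
    exact w.2
  let s : (T : Scheme.{u}) ⟶ ((p ⁻¹ᵁ T : Γ.Opens) : Scheme.{u}) :=
    IsOpenImmersion.lift (p ⁻¹ᵁ T).ι τ hr
  have hs : s ≫ (p ⁻¹ᵁ T).ι = τ := IsOpenImmersion.lift_fac _ _ _
  have hsp : s ≫ (p ∣_ T) = 𝟙 _ := by
    rw [← cancel_mono T.ι, Category.assoc, morphismRestrict_ι, reassoc_of% hs, hτ,
      Category.id_comp]
  haveI : IsDominant s := isDominant_lift τ _ hr
  haveI : IsReduced ((p ⁻¹ᵁ T : Γ.Opens) : Scheme.{u}) :=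
    isReduced_of_isOpenImmersion (p ⁻¹ᵁ T).ι
  haveI : IsSchemeTheoreticallyDominant s := IsSchemeTheoreticallyDominant.of_isDominant s
  obtain ⟨hs_iso, -⟩ :=
    Groth.Agent.Lib.Helper4.GraphClosure1.isIso_of_section_of_dominant s (p ∣_ T) hsp
  have hps : (p ∣_ T) ≫ s = 𝟙 _ := by
    rw [← cancel_epi s, reassoc_of% hsp, Category.comp_id]
  have hra : Set.range a ⊆ Set.range (p ⁻¹ᵁ T).ι := by
    rintro _ ⟨w, rfl⟩
    rw [Scheme.Opens.range_ι]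
    show p (a w) ∈ T
    rw [← Scheme.Hom.comp_apply, hab, Scheme.Hom.comp_apply]
    exact (b w).2
  have ha' : IsOpenImmersion.lift (p ⁻¹ᵁ T).ι a hra ≫ (p ⁻¹ᵁ T).ι = a :=
    IsOpenImmersion.lift_fac _ _ _
  have hb : IsOpenImmersion.lift (p ⁻¹ᵁ T).ι a hra ≫ (p ∣_ T) = b := by
    rw [← cancel_mono T.ι, Category.assoc, morphismRestrict_ι, reassoc_of% ha', hab]
  calc a = IsOpenImmersion.lift (p ⁻¹ᵁ T).ι a hra ≫ 𝟙 _ ≫ (p ⁻¹ᵁ T).ι := by
        rw [Category.id_comp, ha']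
    _ = b ≫ τ := by
        rw [← hps, Category.assoc, hs, ← Category.assoc, hb]

theorem fromSpecStalk_bot {Γ : Scheme.{u}} [IsIntegral Γ] (γ : Γ)
    (pt : Spec (Γ.presheaf.stalk γ)) (hpt : pt.asIdeal = ⊥) :
    Γ.fromSpecStalk γ pt = genericPoint Γ := by
  have h1 : genericPoint Γ ∈ Set.range (Γ.fromSpecStalk γ) := by
    rw [Scheme.range_fromSpecStalk]
    exact genericPoint_specializes γ
  obtain ⟨𝔭, h𝔭⟩ := h1
  have h2 : pt ⤳ 𝔭 := by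
    refine (PrimeSpectrum.le_iff_specializes pt 𝔭).mp ?_
    show pt.asIdeal ≤ 𝔭.asIdeal
    rw [hpt]; exact bot_le
  have h3 := h2.map (Γ.fromSpecStalk γ).continuous
  rw [h𝔭] at h3
  exact (h3.antisymm (genericPoint_specializes _)).eq





theorem exists_dvr_through_section {X Γ : Scheme.{u}} [IsLocallyNoetherian X] [IsIntegral Γ]
    (p : Γ ⟶ X) [IsSeparated p] [LocallyOfFiniteType p]
    (T : X.Opens) (τ : (T : Scheme.{u}) ⟶ Γ) [IsDominant τ] (hτ : τ ≫ p = T.ι)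
    (γ' : Γ) (hγ' : p γ' ∉ T) :
    ∃ (R : Type u) (_ : CommRing R) (_ : IsDomain R) (_ : IsDiscreteValuationRing R)
      (v : Spec (CommRingCat.of R) ⟶ Γ)
      (b : Spec (CommRingCat.of (FractionRing R)) ⟶ (T : Scheme.{u})),
      v (IsLocalRing.closedPoint R) = γ' ∧
        Spec.map (CommRingCat.ofHom (algebraMap R (FractionRing R))) ≫ v = b ≫ τ := by
  haveI : IsLocallyNoetherian Γ := LocallyOfFiniteType.isLocallyNoetherian p
  -- the generic point of Γ maps into T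
  have hgen : p (genericPoint Γ) ∈ T := by
    have hopen : IsOpen ((p ⁻¹ᵁ T : Γ.Opens) : Set Γ) := (p ⁻¹ᵁ T).isOpen
    refine ((genericPoint_spec Γ).mem_open_set_iff hopen).mpr ?_
    obtain ⟨_, -, ⟨w, rfl⟩⟩ := (IsDominant.denseRange (f := τ)).inter_open_nonempty _
      isOpen_univ ⟨genericPoint Γ, trivial⟩
    refine ⟨τ w, trivial, ?_⟩
    show p (τ w) ∈ T
    rw [← Scheme.Hom.comp_apply, hτ]
    exact w.2
  have hnf : ¬ IsField (Γ.presheaf.stalk γ') := by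
    intro hF
    have h1 : IsLocalRing.maximalIdeal (Γ.presheaf.stalk γ') = ⊥ :=
      IsLocalRing.isField_iff_maximalIdeal_eq.mp hF
    have h2 := fromSpecStalk_bot γ' (IsLocalRing.closedPoint _) h1
    rw [Scheme.fromSpecStalk_closedPoint] at h2
    rw [h2] at hγ'
    exact hγ' hgen
  obtain ⟨R, _, _, _, φ, hφinj, hφloc⟩ :=
    Groth.Agent.Lib.Helper4.FlatDVR1.exists_dvr_dominating (Γ.presheaf.stalk γ') hnf
  have hcl : (Spec.map (CommRingCat.ofHom φ) ≫ Γ.fromSpecStalk γ') (IsLocalRing.closedPoint R) =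
      γ' := by
    rw [Scheme.Hom.comp_apply]
    have : (Spec.map (CommRingCat.ofHom φ)) (IsLocalRing.closedPoint R) =
        IsLocalRing.closedPoint (Γ.presheaf.stalk γ') := PrimeSpectrum.ext hφloc
    rw [this, Scheme.fromSpecStalk_closedPoint]
  have hgenpt : ∀ pt, (Spec.map (CommRingCat.ofHom (algebraMap R (FractionRing R))) ≫
      Spec.map (CommRingCat.ofHom φ) ≫ Γ.fromSpecStalk γ') pt = genericPoint Γ := by
    intro pt
    rw [Scheme.Hom.comp_apply, Scheme.Hom.comp_apply]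
    apply fromSpecStalk_bot
    rw [eq_bot_iff]
    intro a ha
    have ha' : (algebraMap R (FractionRing R)) (φ a) ∈ pt.asIdeal := ha
    rw [Ideal.eq_bot_of_prime pt.asIdeal, Ideal.mem_bot] at ha'
    have h0 : φ a = 0 := (IsFractionRing.injective R (FractionRing R)) (by rw [ha', map_zero])
    have : a = 0 := hφinj (by rw [h0, map_zero])
    rw [this]; exact zero_mem _
  have hr : Set.range ((Spec.map (CommRingCat.ofHom (algebraMap R (FractionRing R))) ≫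
      Spec.map (CommRingCat.ofHom φ) ≫ Γ.fromSpecStalk γ') ≫ p) ⊆ Set.range T.ι := by
    rintro _ ⟨pt, rfl⟩
    rw [Scheme.Opens.range_ι, Scheme.Hom.comp_apply, hgenpt]
    exact hgen
  refine ⟨R, inferInstance, inferInstance, inferInstance,
    Spec.map (CommRingCat.ofHom φ) ≫ Γ.fromSpecStalk γ', IsOpenImmersion.lift T.ι _ hr, hcl, ?_⟩
  exact eq_comp_of_section p T τ hτ _ _ (IsOpenImmersion.lift_fac _ _ _).symm



theorem isolated_of_dvr {X Y₁ : Scheme.{u}} [IsLocallyNoetherian X] (q₁ : Y₁ ⟶ X) [IsSeparated q₁]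
    [LocallyOfFiniteType q₁] (U₁ : X.Opens) (g₁ : (U₁ : Scheme.{u}) ⟶ Y₁) (hg₁ : g₁ ≫ q₁ = U₁.ι)
    (X₀ : X.Opens) [IsIntegral (X₀ : Scheme.{u})]
    (hne : ((U₁ ⊓ X₀ : X.Opens) : Set X).Nonempty)
    (z : Y₁) (hzX₀ : q₁ z ∈ X₀) (hzU : q₁ z ∉ U₁)
    (H : ∀ (R : Type u) [CommRing R] [IsDomain R] [IsDiscreteValuationRing R]
        (u : Spec (CommRingCat.of R) ⟶ X), u (IsLocalRing.closedPoint R) = q₁ z →
        ∀ ub : Spec (CommRingCat.of (FractionRing R)) ⟶ (U₁ : Scheme.{u}),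
          ub ≫ U₁.ι = Spec.map (CommRingCat.ofHom (algebraMap R (FractionRing R))) ≫ u →
          ∃ h₁ : Spec (CommRingCat.of R) ⟶ Y₁, h₁ ≫ q₁ = u ∧ h₁ (IsLocalRing.closedPoint R) = z ∧
            Spec.map (CommRingCat.ofHom (algebraMap R (FractionRing R))) ≫ h₁ = ub ≫ g₁)
    (y' : Y₁) (hy' : y' ∈ closure (Set.range g₁)) (hqy' : q₁ y' = q₁ z) : y' = z := by
  haveI : Nonempty ((U₁ ⊓ X₀ : X.Opens) : Scheme.{u}) := by
    obtain ⟨w, hw⟩ := hne; exact ⟨⟨w, hw⟩⟩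
  haveI : IsIntegral ((U₁ ⊓ X₀ : X.Opens) : Scheme.{u}) :=
    isIntegral_of_isOpenImmersion (X.homOfLE (inf_le_right : U₁ ⊓ X₀ ≤ X₀))
  haveI : IsIntegral (X.homOfLE (inf_le_left : U₁ ⊓ X₀ ≤ U₁) ≫ g₁).image :=
    Groth.Agent.Lib.Helper4.IntSection1.isIntegral_image _
  haveI : IsDominant (X.homOfLE (inf_le_left : U₁ ⊓ X₀ ≤ U₁) ≫ g₁).toImage :=
    Groth.Agent.Lib.Helper4.RatSection1.isDominant_toImage_of_isReduced _
  have hy'' := Groth.Agent.Lib.Helper4.RatSection1.mem_closure_range_restrict q₁ U₁ X₀ g₁ hg₁ y'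
    (by rw [hqy']; exact hzX₀) hy'
  rw [← Groth.Agent.Lib.Helper4.RatSection1.range_imageι_of_isReduced] at hy''
  obtain ⟨γ', rfl⟩ := hy''
  have hj : (X.homOfLE (inf_le_left : U₁ ⊓ X₀ ≤ U₁) ≫ g₁).toImage ≫
      ((X.homOfLE (inf_le_left : U₁ ⊓ X₀ ≤ U₁) ≫ g₁).imageι ≫ q₁) = (U₁ ⊓ X₀).ι := by
    rw [Scheme.Hom.toImage_imageι_assoc, Category.assoc, hg₁, Scheme.homOfLE_ι]
  have hγ' : ((X.homOfLE (inf_le_left : U₁ ⊓ X₀ ≤ U₁) ≫ g₁).imageι ≫ q₁) γ' ∉ U₁ ⊓ X₀ := by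
    rw [Scheme.Hom.comp_apply, hqy']
    exact fun h => hzU h.1
  obtain ⟨R, _, _, _, v, b, hv, hvb⟩ := exists_dvr_through_section
    ((X.homOfLE (inf_le_left : U₁ ⊓ X₀ ≤ U₁) ≫ g₁).imageι ≫ q₁) (U₁ ⊓ X₀)
    (X.homOfLE (inf_le_left : U₁ ⊓ X₀ ≤ U₁) ≫ g₁).toImage hj γ' hγ'
  obtain ⟨h₁, h1, h2, h3⟩ := H R (v ≫ (X.homOfLE (inf_le_left : U₁ ⊓ X₀ ≤ U₁) ≫ g₁).imageι ≫ q₁)
    (by rw [Scheme.Hom.comp_apply, hv, Scheme.Hom.comp_apply, hqy'])
    (b ≫ X.homOfLE (inf_le_left : U₁ ⊓ X₀ ≤ U₁))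
    (by rw [Category.assoc, Scheme.homOfLE_ι, ← hj, ← Category.assoc b, ← hvb, Category.assoc])
  haveI : IsDominant (Spec.map (CommRingCat.ofHom (algebraMap R (FractionRing R)))) :=
    Groth.Agent.Lib.Helper4.CurveValRings1.isDominant_SpecMap_of_injective _
      (IsFractionRing.injective R (FractionRing R))
  have key : h₁ = v ≫ (X.homOfLE (inf_le_left : U₁ ⊓ X₀ ≤ U₁) ≫ g₁).imageι := by
    refine ext_of_isDominant_of_isSeparated q₁ ?_
      (Spec.map (CommRingCat.ofHom (algebraMap R (FractionRing R)))) ?_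
    · rw [h1, Category.assoc]
    · rw [h3, ← Category.assoc _ v, hvb, Category.assoc, Category.assoc,
        Scheme.Hom.toImage_imageι]
  rw [← h2, key, Scheme.Hom.comp_apply, hv]



/-- in a Noetherian quasi-sober space, a point in the closure of a locally closed set is a
specialization of a point of the set -/
theorem exists_specializes_of_mem_closure_top {N : Type*} [TopologicalSpace N] [NoetherianSpace N]
    [QuasiSober N] (O C : Set N) (hO : IsOpen O) (hC : IsClosed C) (x : N)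
    (hx : x ∈ closure (O ∩ C)) : ∃ b ∈ O ∩ C, b ⤳ x := by
  obtain ⟨S, hSfin, hScl, hSirr, hCS⟩ := NoetherianSpace.exists_finite_set_isClosed_irreducible hC
  rw [hCS, Set.sUnion_eq_biUnion, Set.inter_iUnion₂, hSfin.closure_biUnion] at hx
  simp only [Set.mem_iUnion] at hx
  obtain ⟨t, htS, hxt⟩ := hx
  obtain ⟨η, hη⟩ := QuasiSober.sober (hSirr t htS) (hScl t htS)
  have hne : (O ∩ t).Nonempty := by
    by_contra hcon
    rw [Set.not_nonempty_iff_eq_empty] at hcon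
    rw [hcon, closure_empty] at hxt
    exact hxt
  have hηO : η ∈ O := (hη.mem_open_set_iff hO).mpr (by rwa [Set.inter_comm])
  have hηt : η ∈ t := hη.mem
  refine ⟨η, ⟨hηO, ?_⟩, ?_⟩
  · rw [hCS]; exact ⟨t, htS, hηt⟩
  · have h1 : x ∈ t := by
      have := closure_mono (Set.inter_subset_right : O ∩ t ⊆ t) hxt
      rwa [(hScl t htS).closure_eq] at this
    exact hη.specializes h1

theorem exists_specializes_of_mem_closure {X : Scheme.{u}} [IsLocallyNoetherian X] (O : X.Opens)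
    (C : Set X) (hC : IsClosed C) (x : X) (hx : x ∈ closure ((O : Set X) ∩ C)) :
    ∃ b ∈ (O : Set X) ∩ C, b ⤳ x := by
  obtain ⟨N, hN, hxN, -⟩ := exists_isAffineOpen_mem_and_subset (U := ⊤) (x := x) (by simp)
  haveI : IsNoetherianRing Γ(X, N) := IsLocallyNoetherian.component_noetherian ⟨N, hN⟩
  haveI : NoetherianSpace N := noetherianSpace_of_isAffineOpen N hN
  haveI : QuasiSober N := inferInstanceAs (QuasiSober (N : Scheme.{u}))
  have hx' : (⟨x, hxN⟩ : N) ∈ closure ((N.ι ⁻¹' (O : Set X)) ∩ (N.ι ⁻¹' C)) := by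
    rw [← Set.preimage_inter, ← N.ι.isOpenEmbedding.isOpenMap.preimage_closure_eq_closure_preimage
      N.ι.continuous]
    exact hx
  obtain ⟨b, ⟨hbO, hbC⟩, hb⟩ := exists_specializes_of_mem_closure_top _ _
    (O.isOpen.preimage N.ι.continuous) (hC.preimage N.ι.continuous) _ hx'
  exact ⟨N.ι b, ⟨hbO, hbC⟩, hb.map N.ι.continuous⟩



theorem exists_dvr_of_specializes {X : Scheme.{u}} [IsLocallyNoetherian X] (U : X.Opens)
    (x b : X) (hb : b ⤳ x) (hbU : b ∈ U) (hxU : x ∉ U) :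
    ∃ (R : Type u) (_ : CommRing R) (_ : IsDomain R) (_ : IsDiscreteValuationRing R)
      (u : Spec (CommRingCat.of R) ⟶ X)
      (ub : Spec (CommRingCat.of (FractionRing R)) ⟶ (U : Scheme.{u})),
      u (IsLocalRing.closedPoint R) = x ∧
        ub ≫ U.ι = Spec.map (CommRingCat.ofHom (algebraMap R (FractionRing R))) ≫ u ∧
        ∀ pt, (ub pt).1 = b := by
  have hb' : b ∈ Set.range (X.fromSpecStalk x) := by
    rw [Scheme.range_fromSpecStalk]; exact hb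
  obtain ⟨𝔮, rfl⟩ := hb'
  have hle : 𝔮.asIdeal ≤ IsLocalRing.maximalIdeal (X.presheaf.stalk x) :=
    IsLocalRing.le_maximalIdeal 𝔮.2.ne_top
  have hne : 𝔮.asIdeal ≠ IsLocalRing.maximalIdeal (X.presheaf.stalk x) := by
    intro h
    have : 𝔮 = IsLocalRing.closedPoint (X.presheaf.stalk x) := PrimeSpectrum.ext h
    rw [this, Scheme.fromSpecStalk_closedPoint] at hbU
    exact hxU hbU
  obtain ⟨R, _, _, _, φ, hφ1, hφ2⟩ :=
    Groth.Agent.Lib.Helper4.FlatDVR1.exists_dvr_between 𝔮.asIdeal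
      (IsLocalRing.maximalIdeal (X.presheaf.stalk x)) hle hne
  have hcl : (Spec.map (CommRingCat.ofHom φ) ≫ X.fromSpecStalk x) (IsLocalRing.closedPoint R) =
      x := by
    rw [Scheme.Hom.comp_apply]
    have : (Spec.map (CommRingCat.ofHom φ)) (IsLocalRing.closedPoint R) =
        IsLocalRing.closedPoint (X.presheaf.stalk x) := PrimeSpectrum.ext hφ2
    rw [this, Scheme.fromSpecStalk_closedPoint]
  have hgenpt : ∀ pt, (Spec.map (CommRingCat.ofHom (algebraMap R (FractionRing R))) ≫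
      Spec.map (CommRingCat.ofHom φ) ≫ X.fromSpecStalk x) pt = X.fromSpecStalk x 𝔮 := by
    intro pt
    rw [Scheme.Hom.comp_apply, Scheme.Hom.comp_apply]
    congr 1
    apply PrimeSpectrum.ext
    rw [← hφ1]
    ext a
    show (algebraMap R (FractionRing R)) (φ a) ∈ pt.asIdeal ↔ φ a ∈ (⊥ : Ideal R)
    rw [Ideal.eq_bot_of_prime pt.asIdeal, Ideal.mem_bot, Ideal.mem_bot]
    constructor
    · intro h
      exact (IsFractionRing.injective R (FractionRing R)) (by rw [h, map_zero])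
    · intro h; rw [h, map_zero]
  have hr : Set.range (Spec.map (CommRingCat.ofHom (algebraMap R (FractionRing R))) ≫
      Spec.map (CommRingCat.ofHom φ) ≫ X.fromSpecStalk x) ⊆ Set.range U.ι := by
    rintro _ ⟨pt, rfl⟩
    rw [Scheme.Opens.range_ι, hgenpt]
    exact hbU
  refine ⟨R, inferInstance, inferInstance, inferInstance,
    Spec.map (CommRingCat.ofHom φ) ≫ X.fromSpecStalk x, IsOpenImmersion.lift U.ι _ hr, hcl,
    IsOpenImmersion.lift_fac _ _ _, ?_⟩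
  intro pt
  have := congrArg (fun ψ => ψ.base pt) (IsOpenImmersion.lift_fac U.ι _ hr)
  simp only [Scheme.Hom.comp_base, TopCat.hom_comp, ContinuousMap.comp_apply] at this
  rw [← hgenpt pt]
  exact this



theorem extends_of_dvr_separated {X Y₁ : Scheme.{u}} [IsLocallyNoetherian X] (q₁ : Y₁ ⟶ X)
    [IsSeparated q₁]
    [LocallyOfFiniteType q₁] (U₁ : X.Opens) (g₁ : (U₁ : Scheme.{u}) ⟶ Y₁) (hg₁ : g₁ ≫ q₁ = U₁.ι)
    (X₀ : X.Opens) [IsIntegral (X₀ : Scheme.{u})]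
    (hne : ((U₁ ⊓ X₀ : X.Opens) : Set X).Nonempty)
    (z : Y₁) (x : X) (hzx : q₁ z = x) (hzX₀ : x ∈ X₀) (hzU : x ∉ U₁)
    (hx : IsIntegrallyClosed (X.presheaf.stalk x))
    (hzΓ : z ∈ closure (Set.range g₁))
    (H : ∀ (R : Type u) [CommRing R] [IsDomain R] [IsDiscreteValuationRing R]
        (u : Spec (CommRingCat.of R) ⟶ X), u (IsLocalRing.closedPoint R) = x →
        ∀ ub : Spec (CommRingCat.of (FractionRing R)) ⟶ (U₁ : Scheme.{u}),
          ub ≫ U₁.ι = Spec.map (CommRingCat.ofHom (algebraMap R (FractionRing R))) ≫ u →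
          ∃ h₁ : Spec (CommRingCat.of R) ⟶ Y₁, h₁ ≫ q₁ = u ∧ h₁ (IsLocalRing.closedPoint R) = z ∧
            Spec.map (CommRingCat.ofHom (algebraMap R (FractionRing R))) ≫ h₁ = ub ≫ g₁) :
    ∃ (V : X.Opens) (hxV : x ∈ V) (σ : (V : Scheme.{u}) ⟶ Y₁), V ≤ X₀ ∧ σ ≫ q₁ = V.ι ∧
      σ ⟨x, hxV⟩ = z ∧
      X.homOfLE (inf_le_right : U₁ ⊓ V ≤ V) ≫ σ = X.homOfLE (inf_le_left : U₁ ⊓ V ≤ U₁) ≫ g₁ := by
  subst hzx
  have hW : ((⊤ : Y₁.Opens) : Set Y₁) ∩ closure (Set.range g₁) ∩ q₁ ⁻¹' {q₁ z} = {z} := by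
    ext y'
    simp only [Set.mem_inter_iff, Set.mem_preimage, Set.mem_singleton_iff]
    constructor
    · rintro ⟨⟨-, h1⟩, h2⟩
      exact isolated_of_dvr q₁ U₁ g₁ hg₁ X₀ hne z hzX₀ hzU H y' h1 h2
    · rintro rfl
      exact ⟨⟨trivial, hzΓ⟩, rfl⟩
  exact Groth.Agent.Lib.Helper4.RatSection1.section_extends_of_isolated q₁ U₁ g₁ hg₁ X₀ hne z
    hzX₀ hx hzΓ ⊤ hW



theorem factor_through_open {X Y : Scheme.{u}} (U : X.Opens) (h : (U : Scheme.{u}) ⟶ Y)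
    (Y₁ : Y.Opens) (U₁ : X.Opens) (hU₁U : U₁ ≤ U)
    (hU₁ : ∀ w : U, h w ∈ Y₁ → w.1 ∈ U₁) (g₁ : (U₁ : Scheme.{u}) ⟶ (Y₁ : Scheme.{u}))
    (hg₁ι : g₁ ≫ Y₁.ι = X.homOfLE hU₁U ≫ h)
    (R : Type u) [CommRing R] [IsDomain R] [IsLocalRing R]
    (h₁ : Spec (CommRingCat.of R) ⟶ Y)
    (ub : Spec (CommRingCat.of (FractionRing R)) ⟶ (U : Scheme.{u}))
    (hc : Spec.map (CommRingCat.ofHom (algebraMap R (FractionRing R))) ≫ h₁ = ub ≫ h)
    (hcl : h₁ (IsLocalRing.closedPoint R) ∈ Y₁) :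
    ∃ (h₁' : Spec (CommRingCat.of R) ⟶ (Y₁ : Scheme.{u}))
      (ub₁ : Spec (CommRingCat.of (FractionRing R)) ⟶ (U₁ : Scheme.{u})),
      h₁' ≫ Y₁.ι = h₁ ∧ ub₁ ≫ X.homOfLE hU₁U = ub ∧
      Spec.map (CommRingCat.ofHom (algebraMap R (FractionRing R))) ≫ h₁' = ub₁ ≫ g₁ := by
  have hr := Groth.Agent.Lib.Helper4.RatSection2.range_subset_of_closedPoint_mem h₁ Y₁ hcl
  have hl : IsOpenImmersion.lift Y₁.ι h₁ hr ≫ Y₁.ι = h₁ := IsOpenImmersion.lift_fac _ _ _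
  have hr' : Set.range (ub ≫ U.ι) ⊆ Set.range U₁.ι := by
    rintro _ ⟨pt, rfl⟩
    rw [Scheme.Opens.range_ι, Scheme.Hom.comp_apply]
    apply hU₁
    rw [← Scheme.Hom.comp_apply, ← hc, Scheme.Hom.comp_apply]
    have h1 : (Spec.map (CommRingCat.ofHom (algebraMap R (FractionRing R)))) pt ⤳
        IsLocalRing.closedPoint R := IsLocalRing.specializes_closedPoint _
    exact (h1.map h₁.continuous).mem_open Y₁.isOpen hcl
  have hl' : IsOpenImmersion.lift U₁.ι (ub ≫ U.ι) hr' ≫ U₁.ι = ub ≫ U.ι :=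
    IsOpenImmersion.lift_fac _ _ _
  have hl'' : IsOpenImmersion.lift U₁.ι (ub ≫ U.ι) hr' ≫ X.homOfLE hU₁U = ub := by
    rw [← cancel_mono U.ι, Category.assoc, Scheme.homOfLE_ι, hl']
  refine ⟨IsOpenImmersion.lift Y₁.ι h₁ hr, IsOpenImmersion.lift U₁.ι (ub ≫ U.ι) hr', hl, hl'', ?_⟩
  rw [← cancel_mono Y₁.ι, Category.assoc, hl, Category.assoc, hg₁ι, reassoc_of% hl'', hc]



/-- shrinking: near `x`, `U` is contained in `U₁` -/
theorem exists_nhd_inf_le {X Y : Scheme.{u}} [IsLocallyNoetherian X] (q : Y ⟶ X)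
    (U : X.Opens) (h : (U : Scheme.{u}) ⟶ Y) (x : X) (hxU : x ∉ U) (y₀ : Y)
    (H : ∀ (R : Type u) [CommRing R] [IsDomain R] [IsDiscreteValuationRing R]
        (u : Spec (CommRingCat.of R) ⟶ X), u (IsLocalRing.closedPoint R) = x →
        ∀ ub : Spec (CommRingCat.of (FractionRing R)) ⟶ (U : Scheme.{u}),
          ub ≫ U.ι = Spec.map (CommRingCat.ofHom (algebraMap R (FractionRing R))) ≫ u →
          ∃ h₁ : Spec (CommRingCat.of R) ⟶ Y, h₁ ≫ q = u ∧ h₁ (IsLocalRing.closedPoint R) = y₀ ∧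
            Spec.map (CommRingCat.ofHom (algebraMap R (FractionRing R))) ≫ h₁ = ub ≫ h)
    (Y₁ : Y.Opens) (hy₀ : y₀ ∈ Y₁) (U₁ : X.Opens) (hU₁U : U₁ ≤ U)
    (hU₁ : ∀ w : U, h w ∈ Y₁ → w.1 ∈ U₁) (g₁ : (U₁ : Scheme.{u}) ⟶ (Y₁ : Scheme.{u}))
    (hg₁ι : g₁ ≫ Y₁.ι = X.homOfLE hU₁U ≫ h) :
    ∃ V₀ : X.Opens, x ∈ V₀ ∧ U ⊓ V₀ ≤ U₁ := by
  have hx : x ∉ closure ((U : Set X) ∩ (U₁ : Set X)ᶜ) := by
    intro hcon
    obtain ⟨b, ⟨hbU, hbU₁⟩, hb⟩ := exists_specializes_of_mem_closure U _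
      U₁.isOpen.isClosed_compl x hcon
    obtain ⟨R, _, _, _, u, ub, hux, hub, hpt⟩ := exists_dvr_of_specializes U x b hb hbU hxU
    obtain ⟨h₁, h1, h2, h3⟩ := H R u hux ub hub
    obtain ⟨h₁', ub₁, e1, e2, e3⟩ := factor_through_open U h Y₁ U₁ hU₁U hU₁ g₁ hg₁ι R h₁ ub h3
      (by rw [h2]; exact hy₀)
    apply hbU₁
    let pt : Spec (CommRingCat.of (FractionRing R)) := ⟨⊥, Ideal.isPrime_bot⟩
    rw [← hpt pt, ← e2, Scheme.Hom.comp_apply, Scheme.homOfLE_apply]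
    exact (ub₁ pt).2
  refine ⟨⟨(closure ((U : Set X) ∩ (U₁ : Set X)ᶜ))ᶜ, isClosed_closure.isOpen_compl⟩, hx, ?_⟩
  rintro w ⟨hwU, hw⟩
  by_contra hwU₁
  exact hw (subset_closure ⟨hwU, hwU₁⟩)



theorem main_of_data {X Y : Scheme.{u}} [IsLocallyNoetherian X] (q : Y ⟶ X)
    [LocallyOfFiniteType q] (U : X.Opens) (hU : Dense (U : Set X)) (h : (U : Scheme.{u}) ⟶ Y)
    (hh : h ≫ q = U.ι) (x : X) (hxU : x ∉ U) [IsDomain (X.presheaf.stalk x)]
    (hx : IsIntegrallyClosed (X.presheaf.stalk x)) (y₀ : Y) (hy₀x : q y₀ = x)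
    (H : ∀ (R : Type u) [CommRing R] [IsDomain R] [IsDiscreteValuationRing R]
        (u : Spec (CommRingCat.of R) ⟶ X), u (IsLocalRing.closedPoint R) = x →
        ∀ ub : Spec (CommRingCat.of (FractionRing R)) ⟶ (U : Scheme.{u}),
          ub ≫ U.ι = Spec.map (CommRingCat.ofHom (algebraMap R (FractionRing R))) ≫ u →
          ∃ h₁ : Spec (CommRingCat.of R) ⟶ Y, h₁ ≫ q = u ∧ h₁ (IsLocalRing.closedPoint R) = y₀ ∧
            Spec.map (CommRingCat.ofHom (algebraMap R (FractionRing R))) ≫ h₁ = ub ≫ h)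
    (Y₁ : Y.Opens) (hy₀ : y₀ ∈ Y₁) [IsSeparated (Y₁.ι ≫ q)] (U₁ : X.Opens) (hU₁U : U₁ ≤ U)
    (hU₁ : ∀ w : U, h w ∈ Y₁ → w.1 ∈ U₁) (g₁ : (U₁ : Scheme.{u}) ⟶ (Y₁ : Scheme.{u}))
    (hg₁ι : g₁ ≫ Y₁.ι = X.homOfLE hU₁U ≫ h) :
    ∃ (U' : X.Opens) (hUU' : U ≤ U') (hxU' : x ∈ U') (h' : (U' : Scheme.{u}) ⟶ Y),
        h' ≫ q = U'.ι ∧ X.homOfLE hUU' ≫ h' = h ∧ h' ⟨x, hxU'⟩ = y₀ := by
  have hg₁ : g₁ ≫ (Y₁.ι ≫ q) = U₁.ι := by
    rw [reassoc_of% hg₁ι, hh, Scheme.homOfLE_ι]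
  have hzx : (Y₁.ι ≫ q) (⟨y₀, hy₀⟩ : Y₁) = x := by
    rw [Scheme.Hom.comp_apply]; exact hy₀x
  have hxU₁ : x ∉ U₁ := fun hc => hxU (hU₁U hc)
  -- the hypothesis for `Y₁`
  have H₁ : ∀ (R : Type u) [CommRing R] [IsDomain R] [IsDiscreteValuationRing R]
        (u : Spec (CommRingCat.of R) ⟶ X), u (IsLocalRing.closedPoint R) = x →
        ∀ ub : Spec (CommRingCat.of (FractionRing R)) ⟶ (U₁ : Scheme.{u}),
          ub ≫ U₁.ι = Spec.map (CommRingCat.ofHom (algebraMap R (FractionRing R))) ≫ u →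
          ∃ h₁ : Spec (CommRingCat.of R) ⟶ (Y₁ : Scheme.{u}), h₁ ≫ (Y₁.ι ≫ q) = u ∧
            h₁ (IsLocalRing.closedPoint R) = (⟨y₀, hy₀⟩ : Y₁) ∧
            Spec.map (CommRingCat.ofHom (algebraMap R (FractionRing R))) ≫ h₁ = ub ≫ g₁ := by
    intro R _ _ _ u hux ub₁ hub₁
    obtain ⟨h₁, h1, h2, h3⟩ := H R u hux (ub₁ ≫ X.homOfLE hU₁U)
      (by rw [Category.assoc, Scheme.homOfLE_ι, hub₁])
    obtain ⟨h₁', ub₁', e1, e2, e3⟩ := factor_through_open U h Y₁ U₁ hU₁U hU₁ g₁ hg₁ι R h₁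
      (ub₁ ≫ X.homOfLE hU₁U) h3 (by rw [h2]; exact hy₀)
    have e4 : ub₁' = ub₁ := (cancel_mono (X.homOfLE hU₁U)).mp e2
    refine ⟨h₁', ?_, ?_, ?_⟩
    · rw [reassoc_of% e1, h1]
    · apply Subtype.ext
      have := congrArg (fun ψ => ψ.base (IsLocalRing.closedPoint R)) e1
      simp only [Scheme.Hom.comp_base, TopCat.hom_comp, ContinuousMap.comp_apply] at this
      exact this.trans h2
    · rw [e3, e4]
  -- integral neighbourhood
  obtain ⟨X₀, hxX₀, hint⟩ := Groth.Agent.Lib.Helper4.SchNbhdCopy.S2260 X x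
  -- a DVR through x
  obtain ⟨R, _, _, _, u, ub, hux, hub⟩ :=
    Groth.Agent.Lib.Helper4.RatSection2.exists_dvr_through U hU x hxU
  obtain ⟨h₁, h1, h2, h3⟩ := H R u hux ub hub
  obtain ⟨h₁', ub₁, e1, e2, e3⟩ := factor_through_open U h Y₁ U₁ hU₁U hU₁ g₁ hg₁ι R h₁ ub h3
    (by rw [h2]; exact hy₀)
  have hne : ((U₁ ⊓ X₀ : X.Opens) : Set X).Nonempty := by
    let pt : Spec (CommRingCat.of (FractionRing R)) := ⟨⊥, Ideal.isPrime_bot⟩
    have hub₁ : ub₁ ≫ U₁.ι = Spec.map (CommRingCat.ofHom (algebraMap R (FractionRing R))) ≫ u := by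
      rw [← hub, ← e2, Category.assoc, Scheme.homOfLE_ι]
    refine ⟨u ((Spec.map (CommRingCat.ofHom (algebraMap R (FractionRing R)))) pt), ?_, ?_⟩
    · rw [← Scheme.Hom.comp_apply, ← hub₁, Scheme.Hom.comp_apply]
      exact (ub₁ pt).2
    · have h1 : (Spec.map (CommRingCat.ofHom (algebraMap R (FractionRing R)))) pt ⤳
          IsLocalRing.closedPoint R := IsLocalRing.specializes_closedPoint _
      exact (h1.map u.continuous).mem_open X₀.isOpen (by rw [hux]; exact hxX₀)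
  have hzΓ : (⟨y₀, hy₀⟩ : Y₁) ∈ closure (Set.range g₁) := by
    have := Groth.Agent.Lib.Helper4.RatSection2.closedPoint_mem_closure_range U₁ g₁ ub₁ h₁' e3
    have e : h₁' (IsLocalRing.closedPoint R) = (⟨y₀, hy₀⟩ : Y₁) := by
      apply Subtype.ext
      have := congrArg (fun ψ => ψ.base (IsLocalRing.closedPoint R)) e1
      simp only [Scheme.Hom.comp_base, TopCat.hom_comp, ContinuousMap.comp_apply] at this
      exact this.trans h2
    rwa [e] at this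
  obtain ⟨V, hxV, σ, hVX₀, hσ, hσz, hagree⟩ := extends_of_dvr_separated (Y₁.ι ≫ q) U₁ g₁ hg₁ X₀
    hne ⟨y₀, hy₀⟩ x hzx hxX₀ hxU₁ hx hzΓ H₁
  obtain ⟨V₀, hxV₀, hV₀⟩ := exists_nhd_inf_le q U h x hxU y₀ H Y₁ hy₀ U₁ hU₁U hU₁ g₁ hg₁ι
  -- glue
  have hle : U ⊓ (V ⊓ V₀) ≤ U₁ ⊓ V := by
    apply le_inf
    · exact le_trans (inf_le_inf_left U inf_le_right) hV₀
    · exact le_trans inf_le_right inf_le_left
  have hab : X.homOfLE (inf_le_left : U ⊓ (V ⊓ V₀) ≤ U) ≫ h =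
      X.homOfLE (inf_le_right : U ⊓ (V ⊓ V₀) ≤ V ⊓ V₀) ≫
        (X.homOfLE (inf_le_left : V ⊓ V₀ ≤ V) ≫ σ ≫ Y₁.ι) := by
    rw [← Category.assoc, Scheme.homOfLE_homOfLE,
      ← Scheme.homOfLE_homOfLE X hle (inf_le_right : U₁ ⊓ V ≤ V), Category.assoc,
      reassoc_of% hagree, hg₁ι, ← Category.assoc, ← Category.assoc, Scheme.homOfLE_homOfLE,
      Scheme.homOfLE_homOfLE]
  obtain ⟨U', hUU', hVU', c, hc1, hc2, hc3⟩ :=
    Groth.Agent.Lib.Helper4.RatSection2.glue_two U (V ⊓ V₀) h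
      (X.homOfLE (inf_le_left : V ⊓ V₀ ≤ V) ≫ σ ≫ Y₁.ι) hab
  have hxV' : x ∈ V ⊓ V₀ := ⟨hxV, hxV₀⟩
  refine ⟨U', hUU', hVU' hxV', c, ?_, hc1, ?_⟩
  · apply hc3 q hh
    rw [Category.assoc, Category.assoc, hσ, Scheme.homOfLE_ι]
  · have e : X.homOfLE hVU' (⟨x, hxV'⟩ : (V ⊓ V₀ : X.Opens)) = (⟨x, hVU' hxV'⟩ : U') :=
      Subtype.ext (X.homOfLE_apply hVU' (⟨x, hxV'⟩ : (V ⊓ V₀ : X.Opens)))
    rw [← e, ← Scheme.Hom.comp_apply, hc2, Scheme.Hom.comp_apply, Scheme.Hom.comp_apply]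
    have e' : X.homOfLE (inf_le_left : V ⊓ V₀ ≤ V) (⟨x, hxV'⟩ : (V ⊓ V₀ : X.Opens)) =
        (⟨x, hxV⟩ : V) :=
      Subtype.ext (X.homOfLE_apply (inf_le_left : V ⊓ V₀ ≤ V) (⟨x, hxV'⟩ : (V ⊓ V₀ : X.Opens)))
    rw [e', hσz]
    rfl



theorem S3848_mpr {X Y : Scheme.{u}} [IsLocallyNoetherian X] (q : Y ⟶ X)
    [LocallyOfFiniteType q] (U : X.Opens) (hU : Dense (U : Set X)) (h : (U : Scheme.{u}) ⟶ Y)
    (hh : h ≫ q = U.ι) (x : X) (hxU : x ∉ U) [IsDomain (X.presheaf.stalk x)]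
    (hx : IsIntegrallyClosed (X.presheaf.stalk x)) (y₀ : Y) (hy₀x : q y₀ = x)
    (H : ∀ (R : Type u) [CommRing R] [IsDomain R] [IsDiscreteValuationRing R]
        (u : Spec (CommRingCat.of R) ⟶ X), u (IsLocalRing.closedPoint R) = x →
        ∀ ub : Spec (CommRingCat.of (FractionRing R)) ⟶ (U : Scheme.{u}),
          ub ≫ U.ι = Spec.map (CommRingCat.ofHom (algebraMap R (FractionRing R))) ≫ u →
          ∃ h₁ : Spec (CommRingCat.of R) ⟶ Y, h₁ ≫ q = u ∧ h₁ (IsLocalRing.closedPoint R) = y₀ ∧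
            Spec.map (CommRingCat.ofHom (algebraMap R (FractionRing R))) ≫ h₁ = ub ≫ h) :
    ∃ (U' : X.Opens) (hUU' : U ≤ U') (hxU' : x ∈ U') (h' : (U' : Scheme.{u}) ⟶ Y),
        h' ≫ q = U'.ι ∧ X.homOfLE hUU' ≫ h' = h ∧ h' ⟨x, hxU'⟩ = y₀ := by
  obtain ⟨Y₁, hY₁, hy₀Y₁, -⟩ := exists_isAffineOpen_mem_and_subset (U := ⊤) (x := y₀) (by simp)
  haveI : IsAffine (Y₁ : Scheme.{u}) := hY₁
  haveI : IsSeparated (Y₁.ι ≫ q) := inferInstance
  have hU₁U : U.ι ''ᵁ (h ⁻¹ᵁ Y₁) ≤ U := by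
    rintro _ ⟨w, -, rfl⟩; exact w.2
  have hU₁ : ∀ w : U, h w ∈ Y₁ → w.1 ∈ U.ι ''ᵁ (h ⁻¹ᵁ Y₁) := fun w hw => ⟨w, hw, rfl⟩
  have hr : Set.range (X.homOfLE hU₁U ≫ h) ⊆ Set.range Y₁.ι := by
    rintro _ ⟨w, rfl⟩
    rw [Scheme.Opens.range_ι, Scheme.Hom.comp_apply]
    obtain ⟨w', hw', hww'⟩ := w.2
    have : X.homOfLE hU₁U w = w' := Subtype.ext ((X.homOfLE_apply hU₁U w).trans hww'.symm)
    rw [this]; exact hw'
  exact main_of_data q U hU h hh x hxU hx y₀ hy₀x H Y₁ hy₀Y₁ _ hU₁U hU₁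
    (IsOpenImmersion.lift Y₁.ι _ hr) (IsOpenImmersion.lift_fac _ _ _)

theorem S3848_main {X Y : Scheme.{u}} [IsLocallyNoetherian X] (q : Y ⟶ X)
    [LocallyOfFiniteType q] (U : X.Opens) (hU : Dense (U : Set ↥X)) (h : (U : Scheme.{u}) ⟶ Y)
    (hh : h ≫ q = U.ι) (x : ↥X) (hxU : x ∉ U) [IsDomain ↑(X.presheaf.stalk x)]
    (hx : IsIntegrallyClosed ↑(X.presheaf.stalk x)) (y₀ : ↥Y) (hy₀ : q y₀ = x) :
    (∃ (U' : X.Opens) (hUU' : U ≤ U') (hxU' : x ∈ U') (h' : (U' : Scheme.{u}) ⟶ Y),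
        h' ≫ q = U'.ι ∧ X.homOfLE hUU' ≫ h' = h ∧ h' ⟨x, hxU'⟩ = y₀) ↔
      ∀ (R : Type u) [CommRing R] [IsDomain R] [IsDiscreteValuationRing R]
        (u : Spec (CommRingCat.of R) ⟶ X), u (IsLocalRing.closedPoint R) = x →
        ∀ ub : Spec (CommRingCat.of (FractionRing R)) ⟶ (U : Scheme.{u}),
          ub ≫ U.ι = Spec.map (CommRingCat.ofHom (algebraMap R (FractionRing R))) ≫ u →
          ∃ h₁ : Spec (CommRingCat.of R) ⟶ Y, h₁ ≫ q = u ∧ h₁ (IsLocalRing.closedPoint R) = y₀ ∧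
            Spec.map (CommRingCat.ofHom (algebraMap R (FractionRing R))) ≫ h₁ = ub ≫ h := by
  constructor
  · rintro ⟨U', hUU', hxU', h', hq, hres, hy⟩ R _ _ _ u hux ub hub
    subst hux
    obtain ⟨h₁, h1, h2, h3⟩ := Groth.Agent.Lib.Helper4.RatSection2.lift_of_extension q U h U' hUU'
      h' hq hres R u ub hxU' hub
    exact ⟨h₁, h1, h2.trans hy, h3⟩
  · intro H
    exact S3848_mpr q U hU h hh x hxU hx y₀ hy₀ H


end Groth.Agent.Lib.Helper4.RatSection3
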