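import Mathlib
import Groth.Agent.Lib.Helper4.RatSection1

/-!
# Definedness of a rational map descends along universally open morphisms to normal schemes (S3837) (helper4)
-/

set_option backward.isDefEq.respectTransparency.types false
set_option synthInstance.maxHeartbeats 400000
set_option autoImplicit false
set_option linter.unusedSectionVars false
set_option linter.style.haveILetI false
set_option linter.unusedSimpArgs false
universe u v w
open CategoryTheory CategoryTheory.Limits AlgebraicGeometry TopologicalSpace IsLocalRing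

namespace Groth.Agent.Lib.Helper4.RatSection4

/-- the range of a section of a separated morphism over an open is closed in the preimage -/
theorem mem_range_section_of_mem_closure {P' X' : Scheme.{u}} (p : P' ⟶ X') [IsSeparated p]
    (V' : X'.Opens) (s : (V' : Scheme.{u}) ⟶ P') (hs : s ≫ p = V'.ι) (ζ : P')
    (hζ : ζ ∈ closure (Set.range s)) (hζV : p ζ ∈ V') : ζ ∈ Set.range s := by
  have hr : Set.range s ⊆ Set.range (p ⁻¹ᵁ V').ι := by
    rintro _ ⟨w, rfl⟩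
    rw [Scheme.Opens.range_ι]
    show p (s w) ∈ V'
    rw [← Scheme.Hom.comp_apply, hs]
    exact w.2
  have hs' : IsOpenImmersion.lift (p ⁻¹ᵁ V').ι s hr ≫ (p ⁻¹ᵁ V').ι = s :=
    IsOpenImmersion.lift_fac _ _ _
  have hsp : IsOpenImmersion.lift (p ⁻¹ᵁ V').ι s hr ≫ (p ∣_ V') = 𝟙 _ := by
    rw [← cancel_mono V'.ι, Category.assoc, morphismRestrict_ι, reassoc_of% hs', hs,
      Category.id_comp]
  haveI : IsClosedImmersion (IsOpenImmersion.lift (p ⁻¹ᵁ V').ι s hr ≫ (p ∣_ V')) := by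
    rw [hsp]; infer_instance
  haveI : IsClosedImmersion (IsOpenImmersion.lift (p ⁻¹ᵁ V').ι s hr) :=
    IsClosedImmersion.of_comp _ (p ∣_ V')
  have hcl : IsClosed (Set.range (IsOpenImmersion.lift (p ⁻¹ᵁ V').ι s hr)) :=
    (IsOpenImmersion.lift (p ⁻¹ᵁ V').ι s hr).isClosedEmbedding.isClosed_range
  have hmem : (⟨ζ, hζV⟩ : (p ⁻¹ᵁ V' : P'.Opens)) ∈
      closure (Set.range (IsOpenImmersion.lift (p ⁻¹ᵁ V').ι s hr)) := by
    rw [(p ⁻¹ᵁ V').ι.isEmbedding.closure_eq_preimage_closure_image, ← Set.range_comp]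
    show ζ ∈ closure (Set.range ((p ⁻¹ᵁ V').ι ∘ (IsOpenImmersion.lift (p ⁻¹ᵁ V').ι s hr)))
    have e : ((p ⁻¹ᵁ V').ι : _ → P') ∘ (IsOpenImmersion.lift (p ⁻¹ᵁ V').ι s hr) = s := by
      funext w
      show (p ⁻¹ᵁ V').ι ((IsOpenImmersion.lift (p ⁻¹ᵁ V').ι s hr) w) = s w
      rw [← Scheme.Hom.comp_apply, hs']
    rw [e]; exact hζ
  rw [hcl.closure_eq] at hmem
  obtain ⟨w, hw⟩ := hmem
  refine ⟨w, ?_⟩
  have := congrArg (fun t => (p ⁻¹ᵁ V').ι t) hw
  simp only at this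
  rw [← Scheme.Hom.comp_apply, hs'] at this
  exact this




theorem factor_through_section {X X' Y S Q : Scheme.{u}} (pX : X ⟶ S) (pY : Y ⟶ S)
    (U : X.Opens) (h : (U : Scheme.{u}) ⟶ Y)
    (f : X' ⟶ X) (V' : X'.Opens) (v' : (V' : Scheme.{u}) ⟶ Y)
    (hagree : X'.homOfLE (inf_le_right : f ⁻¹ᵁ U ⊓ V' ≤ V') ≫ v' =
          X'.homOfLE (inf_le_left : f ⁻¹ᵁ U ⊓ V' ≤ f ⁻¹ᵁ U) ≫ (f ∣_ U) ≫ h)
    (s : (V' : Scheme.{u}) ⟶ pullback f (pullback.fst pX pY))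
    (hs1 : s ≫ pullback.fst f (pullback.fst pX pY) = V'.ι)
    (hs2 : s ≫ pullback.snd f (pullback.fst pX pY) ≫ pullback.snd pX pY = v')
    (a : Q ⟶ pullback f (pullback.fst pX pY)) (b : Q ⟶ (U : Scheme.{u}))
    (hbU : b ≫ U.ι = a ≫ pullback.fst f (pullback.fst pX pY) ≫ f)
    (hbh : b ≫ h = a ≫ pullback.snd f (pullback.fst pX pY) ≫ pullback.snd pX pY)
    (t : Q) (ht : pullback.fst f (pullback.fst pX pY) (a t) ∈ V') : a t ∈ Set.range s := by
  have hr : Set.range (((a ≫ pullback.fst f (pullback.fst pX pY)) ⁻¹ᵁ V').ι ≫ a ≫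
      pullback.fst f (pullback.fst pX pY)) ⊆ Set.range V'.ι := by
    rintro _ ⟨w, rfl⟩
    rw [Scheme.Opens.range_ι]
    exact w.2
  have hc : IsOpenImmersion.lift V'.ι _ hr ≫ V'.ι =
      ((a ≫ pullback.fst f (pullback.fst pX pY)) ⁻¹ᵁ V').ι ≫ a ≫
      pullback.fst f (pullback.fst pX pY) := IsOpenImmersion.lift_fac _ _ _
  generalize IsOpenImmersion.lift V'.ι _ hr = c at hc
  have hrD : Set.range (c ≫ V'.ι) ⊆ Set.range (f ⁻¹ᵁ U ⊓ V').ι := by
    rintro _ ⟨w, rfl⟩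
    rw [Scheme.Opens.range_ι]
    refine ⟨?_, (c w).2⟩
    show f ((c ≫ V'.ι) w) ∈ U
    rw [← Scheme.Hom.comp_apply, hc, Category.assoc, Category.assoc, ← hbU,
      Scheme.Hom.comp_apply, Scheme.Hom.comp_apply]
    exact (b _).2
  have hcD : IsOpenImmersion.lift (f ⁻¹ᵁ U ⊓ V').ι _ hrD ≫ (f ⁻¹ᵁ U ⊓ V').ι = c ≫ V'.ι :=
    IsOpenImmersion.lift_fac _ _ _
  generalize IsOpenImmersion.lift (f ⁻¹ᵁ U ⊓ V').ι _ hrD = cD at hcD
  have hcD' : cD ≫ X'.homOfLE (inf_le_right : f ⁻¹ᵁ U ⊓ V' ≤ V') = c := by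
    rw [← cancel_mono V'.ι, Category.assoc, Scheme.homOfLE_ι, hcD]
  have hcb : cD ≫ X'.homOfLE (inf_le_left : f ⁻¹ᵁ U ⊓ V' ≤ f ⁻¹ᵁ U) ≫ (f ∣_ U) =
      ((a ≫ pullback.fst f (pullback.fst pX pY)) ⁻¹ᵁ V').ι ≫ b := by
    rw [← cancel_mono U.ι]
    simp only [Category.assoc]
    rw [morphismRestrict_ι, Scheme.homOfLE_ι_assoc, reassoc_of% hcD, reassoc_of% hc, hbU]
  have key : ((a ≫ pullback.fst f (pullback.fst pX pY)) ⁻¹ᵁ V').ι ≫ a = c ≫ s := by
    apply pullback.hom_ext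
    · rw [Category.assoc, Category.assoc, hs1, hc]
    · apply pullback.hom_ext
      · simp only [Category.assoc]
        rw [← pullback.condition, reassoc_of% hs1, reassoc_of% hc]
      · simp only [Category.assoc]
        rw [hs2, ← hbh, ← hcD', Category.assoc, hagree, reassoc_of% hcb]
  refine ⟨c ⟨t, ht⟩, ?_⟩
  rw [← Scheme.Hom.comp_apply, ← key, Scheme.Hom.comp_apply]
  rfl

theorem preimage_graph_subset_range_section {X X' Y S : Scheme.{u}} (pX : X ⟶ S) (pY : Y ⟶ S)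
    (U : X.Opens) (h : (U : Scheme.{u}) ⟶ Y) (hh : U.ι ≫ pX = h ≫ pY)
    (f : X' ⟶ X) (V' : X'.Opens) (v' : (V' : Scheme.{u}) ⟶ Y)
    (hagree : X'.homOfLE (inf_le_right : f ⁻¹ᵁ U ⊓ V' ≤ V') ≫ v' =
          X'.homOfLE (inf_le_left : f ⁻¹ᵁ U ⊓ V' ≤ f ⁻¹ᵁ U) ≫ (f ∣_ U) ≫ h)
    (s : (V' : Scheme.{u}) ⟶ pullback f (pullback.fst pX pY))
    (hs1 : s ≫ pullback.fst f (pullback.fst pX pY) = V'.ι)
    (hs2 : s ≫ pullback.snd f (pullback.fst pX pY) ≫ pullback.snd pX pY = v')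
    (ζ : ↥(pullback f (pullback.fst pX pY)))
    (hζ : pullback.snd f (pullback.fst pX pY) ζ ∈ Set.range (pullback.lift U.ι h hh))
    (hζV : pullback.fst f (pullback.fst pX pY) ζ ∈ V') : ζ ∈ Set.range s := by
  -- the pullback of the graph
  have hζ' : ζ ∈ Set.range (pullback.snd (pullback.lift U.ι h hh)
      (pullback.snd f (pullback.fst pX pY))) := by
    rw [Scheme.Pullback.range_snd]; exact hζ
  obtain ⟨t, rfl⟩ := hζ'
  -- notation
  have hcond : pullback.fst (pullback.lift U.ι h hh) (pullback.snd f (pullback.fst pX pY)) ≫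
      pullback.lift U.ι h hh = pullback.snd (pullback.lift U.ι h hh)
        (pullback.snd f (pullback.fst pX pY)) ≫ pullback.snd f (pullback.fst pX pY) :=
    pullback.condition
  -- generalize
  generalize pullback.snd (pullback.lift U.ι h hh) (pullback.snd f (pullback.fst pX pY)) = a
    at hcond hζV ⊢
  generalize pullback.fst (pullback.lift U.ι h hh) (pullback.snd f (pullback.fst pX pY)) = b
    at hcond
  -- b ≫ U.ι = a ≫ fst' ≫ f
  have hbU : b ≫ U.ι = a ≫ pullback.fst f (pullback.fst pX pY) ≫ f := by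
    rw [pullback.condition, ← Category.assoc a, ← hcond, Category.assoc, pullback.lift_fst]
  have hbh : b ≫ h = a ≫ pullback.snd f (pullback.fst pX pY) ≫ pullback.snd pX pY := by
    rw [← Category.assoc a, ← hcond, Category.assoc, pullback.lift_snd]
  exact factor_through_section pX pY U h f V' v' hagree s hs1 hs2 a b hbU hbh t hζV



theorem S3837_mpr {X X' Y S : Scheme.{u}} (pX : X ⟶ S) (pY : Y ⟶ S)
    [LocallyOfFiniteType pY] [IsSeparated pY]
    (hX : ∀ y : ↥X, ∃ W : X.Opens, y ∈ W ∧ IsIntegral (W : Scheme.{u}))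
    (hXn : ∀ y : ↥X, IsIntegrallyClosed (X.presheaf.stalk y))
    (U : X.Opens) (hU : Dense (U : Set ↥X)) (h : (U : Scheme.{u}) ⟶ Y) (hh : U.ι ≫ pX = h ≫ pY)
    (f : X' ⟶ X) [UniversallyOpen f] (x' : ↥X')
    (V' : X'.Opens) (v' : (V' : Scheme.{u}) ⟶ Y) (hx' : x' ∈ V')
    (hv' : v' ≫ pY = V'.ι ≫ f ≫ pX)
    (hagree : X'.homOfLE (inf_le_right : f ⁻¹ᵁ U ⊓ V' ≤ V') ≫ v' =
          X'.homOfLE (inf_le_left : f ⁻¹ᵁ U ⊓ V' ≤ f ⁻¹ᵁ U) ≫ (f ∣_ U) ≫ h) :
    ∃ (V : X.Opens) (v : (V : Scheme.{u}) ⟶ Y), f x' ∈ V ∧ v ≫ pY = V.ι ≫ pX ∧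
        X.homOfLE (inf_le_right : U ⊓ V ≤ V) ≫ v = X.homOfLE (inf_le_left : U ⊓ V ≤ U) ≫ h := by
  -- the section
  have hγcond : (V'.ι ≫ f) ≫ pX = v' ≫ pY := by rw [Category.assoc, hv']
  have hscond : V'.ι ≫ f = pullback.lift (V'.ι ≫ f) v' hγcond ≫ pullback.fst pX pY := by
    rw [pullback.lift_fst]
  have hs1 : pullback.lift V'.ι (pullback.lift (V'.ι ≫ f) v' hγcond) hscond ≫
      pullback.fst f (pullback.fst pX pY) = V'.ι := pullback.lift_fst _ _ _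
  have hs2 : pullback.lift V'.ι (pullback.lift (V'.ι ≫ f) v' hγcond) hscond ≫
      pullback.snd f (pullback.fst pX pY) ≫ pullback.snd pX pY = v' := by
    rw [pullback.lift_snd_assoc, pullback.lift_snd]
  have hs3 : pullback.lift V'.ι (pullback.lift (V'.ι ≫ f) v' hγcond) hscond ≫
      pullback.snd f (pullback.fst pX pY) ≫ pullback.fst pX pY = V'.ι ≫ f := by
    rw [pullback.lift_snd_assoc, pullback.lift_fst]
  generalize pullback.lift V'.ι (pullback.lift (V'.ι ≫ f) v' hγcond) hscond = s at hs1 hs2 hs3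
  -- the point
  have hz : pullback.fst pX pY (pullback.snd f (pullback.fst pX pY) (s ⟨x', hx'⟩)) = f x' := by
    have := congrArg (fun ψ => ψ.base ⟨x', hx'⟩) hs3
    simp only [Scheme.Hom.comp_base, TopCat.hom_comp, ContinuousMap.comp_apply] at this
    exact this
  -- restriction identity
  have hres : X'.homOfLE (inf_le_right : f ⁻¹ᵁ U ⊓ V' ≤ V') ≫ s ≫
      pullback.snd f (pullback.fst pX pY) =
      (X'.homOfLE (inf_le_left : f ⁻¹ᵁ U ⊓ V' ≤ f ⁻¹ᵁ U) ≫ (f ∣_ U)) ≫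
        pullback.lift U.ι h hh := by
    apply pullback.hom_ext
    · simp only [Category.assoc]
      rw [hs3, pullback.lift_fst, morphismRestrict_ι, Scheme.homOfLE_ι_assoc,
        Scheme.homOfLE_ι_assoc]
    · simp only [Category.assoc]
      rw [hs2, pullback.lift_snd, hagree]
  have hfopen : IsOpenMap f := f.isOpenMap
  have hzΓ : pullback.snd f (pullback.fst pX pY) (s ⟨x', hx'⟩) ∈
      closure (Set.range (pullback.lift U.ι h hh)) := by
    have hd1 : Dense (f ⁻¹' (U : Set X)) := hU.preimage hfopen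
    have hd2 : Dense (V'.ι ⁻¹' (f ⁻¹' (U : Set X))) :=
      hd1.preimage V'.ι.isOpenEmbedding.isOpenMap
    have hmem : (⟨x', hx'⟩ : V') ∈ closure (V'.ι ⁻¹' (f ⁻¹' (U : Set X))) := hd2 _
    have hcont : Continuous (s ≫ pullback.snd f (pullback.fst pX pY)) :=
      (s ≫ pullback.snd f (pullback.fst pX pY)).continuous
    have h1 := image_closure_subset_closure_image hcont ⟨_, hmem, rfl⟩
    rw [Scheme.Hom.comp_apply] at h1
    refine closure_mono ?_ h1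
    rintro _ ⟨w, hw, rfl⟩
    have hwD : w.1 ∈ f ⁻¹ᵁ U ⊓ V' := ⟨hw, w.2⟩
    have e : w = X'.homOfLE (inf_le_right : f ⁻¹ᵁ U ⊓ V' ≤ V')
        (⟨w.1, hwD⟩ : (f ⁻¹ᵁ U ⊓ V' : X'.Opens)) :=
      Subtype.ext (X'.homOfLE_apply (inf_le_right : f ⁻¹ᵁ U ⊓ V' ≤ V')
        (⟨w.1, hwD⟩ : (f ⁻¹ᵁ U ⊓ V' : X'.Opens))).symm
    rw [e, ← Scheme.Hom.comp_apply, hres, Scheme.Hom.comp_apply]
    exact ⟨_, rfl⟩
  have hπopen : IsOpenMap (pullback.snd f (pullback.fst pX pY)) :=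
    (pullback.snd f (pullback.fst pX pY)).isOpenMap
  have hiso : ∃ W : (pullback pX pY).Opens, (W : Set ↥(pullback pX pY)) ∩
      closure (Set.range (pullback.lift U.ι h hh)) ∩
      (pullback.fst pX pY) ⁻¹' {f x'} = {pullback.snd f (pullback.fst pX pY) (s ⟨x', hx'⟩)} := by
    refine ⟨⊤, ?_⟩
    ext z₂
    simp only [Set.mem_inter_iff, Set.mem_preimage, Set.mem_singleton_iff]
    constructor
    · rintro ⟨⟨-, h1⟩, h2⟩
      obtain ⟨ζ, hζ1, hζ2⟩ := Scheme.Pullback.exists_preimage_pullback (f := f)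
        (g := pullback.fst pX pY) x' z₂ h2.symm
      have hζV : ζ ∈ (pullback.fst f (pullback.fst pX pY)) ⁻¹' (V' : Set X') := by
        show pullback.fst f (pullback.fst pX pY) ζ ∈ V'
        rw [hζ1]; exact hx'
      have hζc : ζ ∈ closure ((pullback.snd f (pullback.fst pX pY)) ⁻¹'
          (Set.range (pullback.lift U.ι h hh))) := by
        rw [← hπopen.preimage_closure_eq_closure_preimage
          (pullback.snd f (pullback.fst pX pY)).continuous]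
        show pullback.snd f (pullback.fst pX pY) ζ ∈
          closure (Set.range (pullback.lift U.ι h hh))
        rw [hζ2]; exact h1
      have hVopen : IsOpen ((pullback.fst f (pullback.fst pX pY)) ⁻¹' (V' : Set X')) :=
        V'.isOpen.preimage (pullback.fst f (pullback.fst pX pY)).continuous
      have h3 := hVopen.inter_closure ⟨hζV, hζc⟩
      have h4 : ζ ∈ closure (Set.range s) := by
        refine closure_mono ?_ h3
        rintro ζ₁ ⟨hζ₁V, hζ₁g⟩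
        exact preimage_graph_subset_range_section pX pY U h hh f V' v' hagree s hs1 hs2 ζ₁
          hζ₁g hζ₁V
      obtain ⟨w, rfl⟩ := mem_range_section_of_mem_closure (pullback.fst f (pullback.fst pX pY))
        V' s hs1 ζ h4 hζV
      have hw : w = ⟨x', hx'⟩ := by
        apply Subtype.ext
        have := congrArg (fun ψ => ψ.base w) hs1
        simp only [Scheme.Hom.comp_base, TopCat.hom_comp, ContinuousMap.comp_apply] at this
        exact this.symm.trans hζ1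
      rw [← hζ2, hw]
    · rintro rfl
      exact ⟨⟨trivial, hzΓ⟩, hz⟩
  exact Groth.Agent.Lib.Helper4.RatSection1.S3836_main pX pY hX U hU h hh (f x') (hXn _) _ hz
    hzΓ hiso



theorem morphismRestrict_homOfLE {X' X : Scheme.{u}} (f : X' ⟶ X) (A B : X.Opens) (hAB : A ≤ B)
    (hAB' : f ⁻¹ᵁ A ≤ f ⁻¹ᵁ B) :
    X'.homOfLE hAB' ≫ (f ∣_ B) = (f ∣_ A) ≫ X.homOfLE hAB := by
  rw [← cancel_mono B.ι, Category.assoc, morphismRestrict_ι, Scheme.homOfLE_ι_assoc,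
    Category.assoc, Scheme.homOfLE_ι, morphismRestrict_ι]

theorem S3837_main {X X' Y S : Scheme.{u}} (pX : X ⟶ S) (pY : Y ⟶ S)
    [LocallyOfFiniteType pY] [IsSeparated pY]
    (hX : ∀ y : ↥X, ∃ W : X.Opens, y ∈ W ∧ IsIntegral (W : Scheme.{u}))
    (hXn : ∀ y : ↥X, IsIntegrallyClosed (X.presheaf.stalk y))
    (U : X.Opens) (hU : Dense (U : Set ↥X)) (h : (U : Scheme.{u}) ⟶ Y) (hh : h ≫ pY = U.ι ≫ pX)
    (f : X' ⟶ X) [UniversallyOpen f] (x' : ↥X') :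
    (∃ (V : X.Opens) (v : (V : Scheme.{u}) ⟶ Y), f x' ∈ V ∧ v ≫ pY = V.ι ≫ pX ∧
        X.homOfLE (inf_le_right : U ⊓ V ≤ V) ≫ v = X.homOfLE (inf_le_left : U ⊓ V ≤ U) ≫ h) ↔
      ∃ (V' : X'.Opens) (v' : (V' : Scheme.{u}) ⟶ Y), x' ∈ V' ∧ v' ≫ pY = V'.ι ≫ f ≫ pX ∧
        X'.homOfLE (inf_le_right : f ⁻¹ᵁ U ⊓ V' ≤ V') ≫ v' =
          X'.homOfLE (inf_le_left : f ⁻¹ᵁ U ⊓ V' ≤ f ⁻¹ᵁ U) ≫ (f ∣_ U) ≫ h := by
  constructor
  · rintro ⟨V, v, hxV, hv, hagree⟩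
    refine ⟨f ⁻¹ᵁ V, (f ∣_ V) ≫ v, hxV, ?_, ?_⟩
    · rw [Category.assoc, hv, ← Category.assoc, morphismRestrict_ι, Category.assoc]
    · have e : f ⁻¹ᵁ U ⊓ f ⁻¹ᵁ V ≤ f ⁻¹ᵁ (U ⊓ V) := fun w hw => hw
      have e1 : X'.homOfLE (inf_le_right : f ⁻¹ᵁ U ⊓ f ⁻¹ᵁ V ≤ f ⁻¹ᵁ V) ≫ (f ∣_ V) =
          X'.homOfLE e ≫ (f ∣_ (U ⊓ V)) ≫ X.homOfLE (inf_le_right : U ⊓ V ≤ V) := by
        rw [← morphismRestrict_homOfLE f (U ⊓ V) V inf_le_right
          (fun w hw => hw.2), ← Category.assoc, Scheme.homOfLE_homOfLE]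
      have e2 : X'.homOfLE (inf_le_left : f ⁻¹ᵁ U ⊓ f ⁻¹ᵁ V ≤ f ⁻¹ᵁ U) ≫ (f ∣_ U) =
          X'.homOfLE e ≫ (f ∣_ (U ⊓ V)) ≫ X.homOfLE (inf_le_left : U ⊓ V ≤ U) := by
        rw [← morphismRestrict_homOfLE f (U ⊓ V) U inf_le_left
          (fun w hw => hw.1), ← Category.assoc, Scheme.homOfLE_homOfLE]
      rw [reassoc_of% e1, reassoc_of% e2, hagree]
  · rintro ⟨V', v', hx', hv', hagree⟩
    exact S3837_mpr pX pY hX hXn U hU h hh.symm f x' V' v' hx' hv' hagree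


end Groth.Agent.Lib.Helper4.RatSection4
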