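import Mathlib
import Groth.Prelude.Def_ChGrp

/-!
# Reduction of structure group from a section of the quotient F/G (S16226) (helper4)
-/

set_option backward.isDefEq.respectTransparency.types false
set_option synthInstance.maxHeartbeats 400000
set_option autoImplicit false
set_option linter.unusedSectionVars false
set_option linter.style.haveILetI false
set_option linter.unusedSimpArgs false
universe u v w
open CategoryTheory CategoryTheory.Limits MonoidalCategory CartesianMonoidalCategory MonObj AlgebraicGeometry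
open AlgGrp AlgGrp.Action

namespace Groth.Agent.Lib.Helper4.RedStr1
noncomputable section

variable {S : Scheme.{u}} {G H F Q : Over S} [GrpObj G] [GrpObj H]
  (i : G ⟶ H) [IsMonHom i]
  (aF : AlgGrp.Action H F)
  (π : F ⟶ Q)
  (hsq : IsPullback (aF.restrict i).act (snd G F) π π)
  (σ : 𝟙_ (Over S) ⟶ Q)

/-- the reduction: the fibre of `π` over the section -/
abbrev EE : Over S := pullback π σ

/-- the inclusion of the reduction -/
abbrev φE : EE π σ ⟶ F := pullback.fst π σ

lemma φE_π : φE π σ ≫ π = toUnit (EE π σ) ≫ σ := by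
  rw [pullback.condition]
  congr 1
  exact toUnit_unique _ _

instance isSplitMono_σ : IsSplitMono σ := ⟨⟨⟨toUnit Q, toUnit_unique _ _⟩⟩⟩

instance mono_φE : Mono (φE π σ) := pullback.fst_of_mono

include hsq in
lemma act_cond : ((G ◁ φE π σ) ≫ (aF.restrict i).act) ≫ π = toUnit (G ⊗ EE π σ) ≫ σ := by
  rw [Category.assoc, hsq.w, whiskerLeft_snd_assoc, φE_π, ← Category.assoc]
  congr 1
  exact toUnit_unique _ _

/-- the action on the reduction -/
def actE : G ⊗ EE π σ ⟶ EE π σ :=
  pullback.lift ((G ◁ φE π σ) ≫ (aF.restrict i).act) (toUnit _) (act_cond i aF π hsq σ)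

lemma actE_φ : actE i aF π hsq σ ≫ φE π σ = (G ◁ φE π σ) ≫ (aF.restrict i).act :=
  pullback.lift_fst _ _ _

lemma lift_actE_φ {T : Over S} (g : T ⟶ G) (e : T ⟶ EE π σ) :
    lift g e ≫ actE i aF π hsq σ ≫ φE π σ = lift g (e ≫ φE π σ) ≫ (aF.restrict i).act := by
  rw [actE_φ, lift_whiskerLeft_assoc]

/-- the action of `G` on the reduction -/
def aE : AlgGrp.Action G (EE π σ) where
  act := actE i aF π hsq σ
  one_act := by
    rw [← cancel_mono (φE π σ), Category.assoc, actE_φ, ← whisker_exchange_assoc,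
      (aF.restrict i).one_act, leftUnitor_naturality]
  mul_act := by
    rw [← cancel_mono (φE π σ)]
    apply hom_ext_lift₃
    intro T g g' e
    simp only [Category.assoc]
    rw [lift_whiskerRight_assoc, ← Hom.mul_def, lift_actE_φ, lift_mul_act,
      lift_lift_associator_hom_assoc, lift_whiskerLeft_assoc, lift_actE_φ, Category.assoc,
      lift_actE_φ]

lemma aE_act : (aE i aF π hsq σ).act = actE i aF π hsq σ := rfl

lemma isEquivariant_φE :
    AlgGrp.Action.IsEquivariant (aE i aF π hsq σ) (aF.restrict i) (φE π σ) :=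
  actE_φ i aF π hsq σ

lemma isPullback_φE : IsPullback (φE π σ) (toUnit (EE π σ)) π σ := by
  have h := IsPullback.of_hasPullback π σ
  have e : pullback.snd π σ = toUnit (EE π σ) := toUnit_unique _ _
  rw [e] at h
  exact h

/-! ### the reduction is a pseudo-torsor -/

include hsq in
lemma d_cond : (fst (EE π σ) (EE π σ) ≫ φE π σ) ≫ π = (snd (EE π σ) (EE π σ) ≫ φE π σ) ≫ π := by
  rw [Category.assoc, Category.assoc, φE_π, ← Category.assoc, ← Category.assoc]
  congr 1
  exact toUnit_unique _ _

/-- the difference map, with values in `G ⊗ F` -/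
def dd : EE π σ ⊗ EE π σ ⟶ G ⊗ F :=
  hsq.lift (fst _ _ ≫ φE π σ) (snd _ _ ≫ φE π σ) (d_cond i aF π hsq σ)

lemma dd_act : dd i aF π hsq σ ≫ (aF.restrict i).act = fst _ _ ≫ φE π σ := hsq.lift_fst _ _ _

lemma dd_snd : dd i aF π hsq σ ≫ snd G F = snd _ _ ≫ φE π σ := hsq.lift_snd _ _ _

theorem isPseudoTorsor_aE : NonAbH1.IsPseudoTorsorSch (aE i aF π hsq σ) := by
  refine ⟨⟨lift (dd i aF π hsq σ ≫ fst G F) (snd _ _), ?_, ?_⟩⟩
  · -- `G ⊗ E ⟶ E ⊗ E ⟶ G ⊗ E`
    have hw : lift (aE i aF π hsq σ).act (snd G (EE π σ)) ≫ dd i aF π hsq σ = G ◁ φE π σ := by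
      apply hsq.hom_ext
      · rw [Category.assoc, dd_act, lift_fst_assoc, aE_act, actE_φ]
      · rw [Category.assoc, dd_snd, lift_snd_assoc, whiskerLeft_snd]
    apply CartesianMonoidalCategory.hom_ext
    · rw [Category.assoc, lift_fst, ← Category.assoc, hw, whiskerLeft_fst, Category.id_comp]
    · rw [Category.assoc, lift_snd, lift_snd, Category.id_comp]
  · apply CartesianMonoidalCategory.hom_ext
    · rw [Category.assoc, lift_fst, Category.id_comp, ← cancel_mono (φE π σ), Category.assoc,
        aE_act, actE_φ, lift_whiskerLeft_assoc]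
      have h1 : lift (dd i aF π hsq σ ≫ fst G F) (snd (EE π σ) (EE π σ) ≫ φE π σ) =
          dd i aF π hsq σ := by
        apply CartesianMonoidalCategory.hom_ext
        · rw [lift_fst]
        · rw [lift_snd, dd_snd]
      rw [h1, dd_act]
    · rw [Category.assoc, lift_snd, lift_snd, Category.id_comp]

/-! ### local triviality of the reduction -/

theorem isLocallyTrivialFor_EE (K : Precoverage Scheme.{u}) [K.IsStableUnderBaseChange]
    (hloc : NonAbH1.IsLocallyTrivialFor K (Over.mk π.left : Over Q.left)) :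
    NonAbH1.IsLocallyTrivialFor K (EE π σ) := by
  obtain ⟨R₀, hR₀, hs⟩ := hloc
  obtain ⟨J, V, g, rfl⟩ := R₀.exists_eq_ofArrows
  choose s hs' using fun j => hs (g j) (Presieve.ofArrows.mk j)
  have hs'' : ∀ j, s j ≫ π.left = g j := hs'
  have hσ : σ.left ≫ Q.hom = 𝟙 S := Over.w σ
  refine ⟨Presieve.ofArrows (fun j => pullback σ.left (g j)) (fun j => pullback.fst σ.left (g j)),
    ?_, ?_⟩
  · exact Precoverage.mem_coverings_of_isPullback (J := K) g hR₀ σ.left _
      (fun j => pullback.snd σ.left (g j)) (fun j => IsPullback.of_hasPullback _ _)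
  · rintro S' f ⟨j⟩
    -- the test object
    let T : Over S := Over.mk (pullback.fst σ.left (g j))
    have hF : (pullback.snd σ.left (g j) ≫ s j) ≫ F.hom = pullback.fst σ.left (g j) := by
      rw [← Over.w π, Category.assoc, ← Category.assoc (s j), hs'', ← Category.assoc,
        ← pullback.condition, Category.assoc, hσ]
      exact Category.comp_id _
    let a : T ⟶ F := Over.homMk (pullback.snd σ.left (g j) ≫ s j) hF
    have hT : (toUnit T).left = pullback.fst σ.left (g j) := by
      have := Over.w (toUnit T)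
      exact (Category.comp_id _).symm.trans this
    have ha : a ≫ π = toUnit T ≫ σ := by
      apply Over.OverMorphism.ext
      change (pullback.snd σ.left (g j) ≫ s j) ≫ π.left = (toUnit T).left ≫ σ.left
      rw [Category.assoc, hs'', hT, pullback.condition]
    let e : T ⟶ EE π σ := pullback.lift a (toUnit T) ha
    exact ⟨e.left, Over.w e⟩

theorem main
    {S : Scheme.{u}} {G H F Q : Over S} [GrpObj G] [GrpObj H]
    (i : G ⟶ H) [IsMonHom i] [IsClosedImmersion i.left]
    (aF : AlgGrp.Action H F) (hF : NonAbH1.IsTorsorFor Scheme.etalePrecoverage aF)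
    (π : F ⟶ Q)
    (hsq : IsPullback (aF.restrict i).act (snd G F) π π)
    (hloc : NonAbH1.IsLocallyTrivialFor Scheme.etalePrecoverage (Over.mk π.left : Over Q.left))
    (σ : 𝟙_ (Over S) ⟶ Q) :
    ∃ (E : Over S) (aE : AlgGrp.Action G E) (φ : E ⟶ F),
      NonAbH1.IsTorsorFor Scheme.etalePrecoverage aE ∧
      AlgGrp.Action.IsEquivariant aE (aF.restrict i) φ ∧
      IsPullback φ (toUnit E) π σ :=
  haveI : Scheme.etalePrecoverage.{u}.IsStableUnderBaseChange := by
    unfold Scheme.etalePrecoverage; infer_instance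
  ⟨EE π σ, aE i aF π hsq σ, φE π σ,
    ⟨isPseudoTorsor_aE i aF π hsq σ, isLocallyTrivialFor_EE π σ Scheme.etalePrecoverage hloc⟩,
    isEquivariant_φE i aF π hsq σ, isPullback_φE π σ⟩

end
end Groth.Agent.Lib.Helper4.RedStr1
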