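import Mathlib
import Groth.Prelude.Def_ChGrp
import Groth.Prelude.Def_BigSite
import Groth.Agent.Lib.Helper2.Sch.LocTrivDesc

/-!
# Section of the quotient F/G from a reduction of structure group (S16227) (helper4)
-/

set_option backward.isDefEq.respectTransparency.types false
set_option synthInstance.maxHeartbeats 400000
set_option autoImplicit false
set_option linter.unusedSectionVars false
set_option linter.style.haveILetI false
set_option linter.unusedSimpArgs false
universe u v w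
open CategoryTheory CategoryTheory.Limits MonoidalCategory CartesianMonoidalCategory MonObj AlgebraicGeometry
open AlgGrp AlgGrp.Action
open Groth.Agent.Helper2.LocTrivLift

namespace Groth.Agent.Lib.Helper4.RedStr2
noncomputable section

variable {S : Scheme.{u}}

/-! ### local triviality of projections -/

lemma toUnit_left (E : Over S) : (toUnit E).left = E.hom := by
  have := Over.w (toUnit E)
  exact (Category.comp_id _).symm.trans this

theorem isLocallyTrivialFor_toUnit {K K' : Precoverage Scheme.{u}} (hK : K ≤ K') (E : Over S)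
    (h : NonAbH1.IsLocallyTrivialFor K E) :
    NonAbH1.IsLocallyTrivialFor K' (Over.mk (toUnit E).left : Over (𝟙_ (Over S)).left) := by
  obtain ⟨R, hR, hs⟩ := h
  refine ⟨R, hK _ hR, fun S' f hf => ?_⟩
  obtain ⟨s, hs'⟩ := hs f hf
  refine ⟨s, ?_⟩
  change s ≫ (toUnit E).left = f
  rw [toUnit_left]
  exact hs'

theorem isLocallyTrivialFor_fst {K K' : Precoverage Scheme.{u}} [K.IsStableUnderBaseChange]
    (hK : K ≤ K') (T E : Over S) (h : NonAbH1.IsLocallyTrivialFor K E) :
    NonAbH1.IsLocallyTrivialFor K' (Over.mk (fst T E).left : Over T.left) := by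
  obtain ⟨R₀, hR₀, hs⟩ := h
  obtain ⟨J, V, g, rfl⟩ := R₀.exists_eq_ofArrows
  choose s hs' using fun j => hs (g j) (Presieve.ofArrows.mk j)
  refine ⟨Presieve.ofArrows (fun j => pullback T.hom (g j)) (fun j => pullback.fst T.hom (g j)),
    hK _ ?_, ?_⟩
  · exact Precoverage.mem_coverings_of_isPullback (J := K) g hR₀ T.hom _
      (fun j => pullback.snd T.hom (g j)) (fun j => IsPullback.of_hasPullback _ _)
  · rintro S' f ⟨j⟩
    let W : Over S := Over.mk (pullback.fst T.hom (g j) ≫ T.hom)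
    let a : W ⟶ T := Over.homMk (pullback.fst T.hom (g j)) rfl
    have hb : (pullback.snd T.hom (g j) ≫ s j) ≫ E.hom = pullback.fst T.hom (g j) ≫ T.hom := by
      rw [Category.assoc, hs' j, pullback.condition]
    let b : W ⟶ E := Over.homMk (pullback.snd T.hom (g j) ≫ s j) hb
    refine ⟨(lift a b).left, ?_⟩
    change (lift a b).left ≫ (fst T E).left = pullback.fst T.hom (g j)
    rw [← Over.comp_left, lift_fst]
    rfl

/-! ### the section attached to a reduction -/

section Red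

variable {G H F Q E : Over S} [GrpObj G] [GrpObj H]
  (i : G ⟶ H) [IsMonHom i]
  (aF : AlgGrp.Action H F)
  (π : F ⟶ Q)
  (hsq : IsPullback (aF.restrict i).act (snd G F) π π)
  (aE : AlgGrp.Action G E) (hE : NonAbH1.IsTorsorFor Scheme.etalePrecoverage aE)
  (φ : E ⟶ F) (hφ : AlgGrp.Action.IsEquivariant aE (aF.restrict i) φ)

include hφ in
lemma lift_act_φ {T : Over S} (g : T ⟶ G) (e : T ⟶ E) :
    lift g e ≫ aE.act ≫ φ = lift g (e ≫ φ) ≫ (aF.restrict i).act := by
  have h : aE.act ≫ φ = (G ◁ φ) ≫ (aF.restrict i).act := hφ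
  rw [h, lift_whiskerLeft_assoc]

/-- two points of a pseudo-torsor differ by a point of the group -/
lemma exists_act_eq (hps : NonAbH1.IsPseudoTorsorSch aE) {T : Over S} (e₁ e₂ : T ⟶ E) :
    ∃ g : T ⟶ G, lift g e₂ ≫ aE.act = e₁ := by
  haveI : IsIso (lift aE.act (snd G E)) := hps
  refine ⟨lift e₁ e₂ ≫ inv (lift aE.act (snd G E)) ≫ fst G E, ?_⟩
  have h2 : lift e₁ e₂ ≫ inv (lift aE.act (snd G E)) ≫ snd G E = e₂ := by
    have : inv (lift aE.act (snd G E)) ≫ snd G E = snd E E := by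
      rw [IsIso.inv_comp_eq, lift_snd]
    rw [this, lift_snd]
  have h1 : lift e₁ e₂ ≫ inv (lift aE.act (snd G E)) ≫ aE.act = e₁ := by
    have : inv (lift aE.act (snd G E)) ≫ aE.act = fst E E := by
      rw [IsIso.inv_comp_eq, lift_fst]
    rw [this, lift_fst]
  have h3 : lift (lift e₁ e₂ ≫ inv (lift aE.act (snd G E)) ≫ fst G E) e₂ =
      lift e₁ e₂ ≫ inv (lift aE.act (snd G E)) := by
    apply CartesianMonoidalCategory.hom_ext
    · rw [lift_fst, Category.assoc]
    · rw [lift_snd, Category.assoc, h2]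
  rw [h3, Category.assoc, h1]

include hsq hφ in
theorem mono_φ (hps : NonAbH1.IsPseudoTorsorSch aE) : Mono φ := by
  constructor
  intro T e₁ e₂ h12
  obtain ⟨g, hg⟩ := exists_act_eq aE hps e₁ e₂
  have h1 : lift g (e₂ ≫ φ) ≫ (aF.restrict i).act = e₂ ≫ φ := by
    rw [← lift_act_φ i aF aE φ hφ, ← Category.assoc, hg, h12]
  have h2 : lift (1 : T ⟶ G) (e₂ ≫ φ) ≫ (aF.restrict i).act = e₂ ≫ φ :=
    lift_one_act (aF.restrict i) _
  have h3 : lift g (e₂ ≫ φ) = lift (1 : T ⟶ G) (e₂ ≫ φ) := by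
    apply hsq.hom_ext
    · rw [h1, h2]
    · rw [lift_snd, lift_snd]
  have hg1 : g = 1 := by
    have := congrArg (fun ξ => ξ ≫ fst G F) h3
    simpa using this
  rw [← hg, hg1, lift_one_act]

include hsq hφ in
/-- `φ ≫ π` is constant on `E` -/
lemma φπ_const (hps : NonAbH1.IsPseudoTorsorSch aE) {T : Over S} (e₁ e₂ : T ⟶ E) :
    e₁ ≫ φ ≫ π = e₂ ≫ φ ≫ π := by
  obtain ⟨g, hg⟩ := exists_act_eq aE hps e₁ e₂
  rw [← hg, Category.assoc, ← Category.assoc aE.act, ← Category.assoc,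
    lift_act_φ i aF aE φ hφ, Category.assoc, hsq.w, lift_snd_assoc, Category.assoc]

include hsq hφ hE in
/-- lifting a point of `F` over the section to the reduction -/
theorem exists_lift_φ (σ : 𝟙_ (Over S) ⟶ Q) (hσ : toUnit E ≫ σ = φ ≫ π)
    {T : Over S} (f : T ⟶ F) (hf : f ≫ π = toUnit T ≫ σ) : ∃ e : T ⟶ E, e ≫ φ = f := by
  haveI : Scheme.etalePrecoverage.{u}.IsStableUnderBaseChange := by
    unfold Scheme.etalePrecoverage; infer_instance
  haveI := mono_φ i aF π hsq aE φ hφ hE.1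
  have hloc : NonAbH1.IsLocallyTrivialFor Scheme.fppfPrecoverage
      (Over.mk (fst T E).left : Over T.left) :=
    isLocallyTrivialFor_fst BigSite.etalePrecoverage_le_fppfPrecoverage T E hE.2
  -- the difference map
  have hd : (fst T E ≫ f) ≫ π = (snd T E ≫ φ) ≫ π := by
    rw [Category.assoc, Category.assoc, hf, ← hσ, ← Category.assoc, ← Category.assoc]
    congr 1
    exact toUnit_unique _ _
  let d : T ⊗ E ⟶ G ⊗ F := hsq.lift (fst T E ≫ f) (snd T E ≫ φ) hd
  have hd1 : d ≫ (aF.restrict i).act = fst T E ≫ f := hsq.lift_fst _ _ _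
  have hd2 : d ≫ snd G F = snd T E ≫ φ := hsq.lift_snd _ _ _
  obtain ⟨ψ, hψ⟩ : ∃ ψ : T ⊗ E ⟶ E, ψ ≫ φ = fst T E ≫ f := by
    refine ⟨lift (d ≫ fst G F) (snd T E) ≫ aE.act, ?_⟩
    rw [Category.assoc, lift_act_φ i aF aE φ hφ]
    have h1 : lift (d ≫ fst G F) (snd T E ≫ φ) = d := by
      apply CartesianMonoidalCategory.hom_ext
      · rw [lift_fst]
      · rw [lift_snd, hd2]
    rw [h1, hd1]
  obtain ⟨e, he⟩ := exists_desc_of_isLocallyTrivialFor (fst T E) hloc ψ (by
    intro T' e₁ e₂ h12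
    rw [← cancel_mono φ, Category.assoc, Category.assoc, hψ, ← Category.assoc, h12,
      Category.assoc])
  haveI := epi_of_isLocallyTrivialFor (fst T E) hloc
  refine ⟨e, ?_⟩
  rw [← cancel_epi (fst T E), ← Category.assoc, he, hψ]

include hsq hφ hE in
theorem main_aux (hloc : NonAbH1.IsLocallyTrivialFor Scheme.etalePrecoverage (Over.mk π.left : Over Q.left)) :
    (∃! σ : 𝟙_ (Over S) ⟶ Q, toUnit E ≫ σ = φ ≫ π) ∧
      ∀ σ : 𝟙_ (Over S) ⟶ Q, toUnit E ≫ σ = φ ≫ π → IsPullback φ (toUnit E) π σ := by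
  have hlocE : NonAbH1.IsLocallyTrivialFor Scheme.fppfPrecoverage
      (Over.mk (toUnit E).left : Over (𝟙_ (Over S)).left) :=
    isLocallyTrivialFor_toUnit BigSite.etalePrecoverage_le_fppfPrecoverage E hE.2
  haveI := epi_of_isLocallyTrivialFor (toUnit E) hlocE
  haveI := mono_φ i aF π hsq aE φ hφ hE.1
  constructor
  · obtain ⟨σ, hσ⟩ := exists_desc_of_isLocallyTrivialFor (toUnit E) hlocE (φ ≫ π) (by
      intro T' e₁ e₂ _
      exact φπ_const i aF π hsq aE φ hφ hE.1 e₁ e₂)
    refine ⟨σ, hσ, fun σ' hσ' => ?_⟩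
    rw [← cancel_epi (toUnit E), hσ', hσ]
  · intro σ hσ
    have hs : ∀ s : PullbackCone π σ, ∃ e : s.pt ⟶ E, e ≫ φ = s.fst := fun s =>
      exists_lift_φ i aF π hsq aE hE φ hφ σ hσ s.fst (by
        rw [s.condition]
        congr 1
        exact toUnit_unique _ _)
    choose l hl using hs
    exact IsPullback.of_isLimit (PullbackCone.IsLimit.mk hσ.symm l hl
      (fun s => toUnit_unique _ _)
      (fun s m h1 _ => by rw [← cancel_mono φ, h1, hl]))

end Red

theorem main
    {S : Scheme.{u}} {G H F Q : Over S} [GrpObj G] [GrpObj H]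
    (i : G ⟶ H) [IsMonHom i] [IsClosedImmersion i.left]
    (aF : AlgGrp.Action H F) (hF : NonAbH1.IsTorsorFor Scheme.etalePrecoverage aF)
    (π : F ⟶ Q)
    (hsq : IsPullback (aF.restrict i).act (snd G F) π π)
    (hloc : NonAbH1.IsLocallyTrivialFor Scheme.etalePrecoverage (Over.mk π.left : Over Q.left))
    {E : Over S} (aE : AlgGrp.Action G E) (hE : NonAbH1.IsTorsorFor Scheme.etalePrecoverage aE)
    (φ : E ⟶ F) (hφ : AlgGrp.Action.IsEquivariant aE (aF.restrict i) φ) :
    (∃! σ : 𝟙_ (Over S) ⟶ Q, toUnit E ≫ σ = φ ≫ π) ∧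
      ∀ σ : 𝟙_ (Over S) ⟶ Q, toUnit E ≫ σ = φ ≫ π → IsPullback φ (toUnit E) π σ :=
  main_aux i aF π hsq aE hE φ hφ hloc

end
end Groth.Agent.Lib.Helper4.RedStr2
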