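import Mathlib
import Groth.Prelude.Def_CAlg
import Groth.Agent.Lib.Helper8.ABS19
import Groth.Agent.Lib.Helper8.FlatReg8
import Groth.Agent.Lib.Helper8.Refl2
import Groth.Prelude.Def_FlatMod2
import Groth.Prelude.Def_Coh
import Groth.Agent.Lib.Lead.SD1
import Groth.Agent.Lib.Lead.FLF4
import Groth.Agent.Lib.Helper7.CohStalk.Finite
import Groth.Agent.Lib.Helper4.BirationalNormal1
import Groth.Agent.Lib.Helper4.CohSk1

/-!
# Reflexive coherent modules on regular schemes of dim ≤ 2 are finite locally free (S1689) (helper4)
-/

set_option backward.isDefEq.respectTransparency.types false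
set_option synthInstance.maxHeartbeats 400000
set_option autoImplicit false
set_option linter.unusedSectionVars false
set_option linter.style.haveILetI false
set_option linter.unusedSimpArgs false
universe u v w
open CategoryTheory CategoryTheory.Limits AlgebraicGeometry TopologicalSpace IsLocalRing Opposite Topology

namespace Groth.Agent.Lib.Helper4.ReflFree1

theorem free_of_reflexive_regular (R : Type u) [CommRing R] [IsRegularLocalRing R]
    (hdim : ringKrullDim R ≤ 2) (M : Type u) [AddCommGroup M] [Module R M] [Module.Finite R M]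
    [Module.IsReflexive R M] : Module.Free R M := by
  rcases subsingleton_or_nontrivial M with hs | hnt
  · exact Module.Free.of_subsingleton R M
  · have hreg := Groth.Agent.Helper8.ABS.depth_eq_dim_of_regular R
    have hrefl := Groth.Agent.Helper8.Refl.idealDepth_of_isReflexive (maximalIdeal R) M
    have h1 : ((LocCoh.depth R M : ℕ∞) : WithBot ℕ∞) ≤ Module.supportDim R M :=
      Groth.Agent.Helper8.Depth.depth_le_supportDim
    have h2 : Module.supportDim R M ≤ ringKrullDim R := Module.supportDim_le_ringKrullDim R M
    apply Groth.Agent.Helper8.FlatReg.free_of_depth_eq_dim R M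
    apply le_antisymm (h1.trans h2)
    rw [← hreg]
    have hle : LocCoh.depth R R ≤ 2 := by
      rw [← hreg, ← WithBot.coe_ofNat, WithBot.coe_le_coe] at hdim
      exact hdim
    have key : LocCoh.depth R R ≤ LocCoh.depth R M := by
      have hne : LocCoh.depth R R ≠ ⊤ := ne_top_of_le_ne_top (by simp) hle
      obtain ⟨n, hn⟩ := ENat.ne_top_iff_exists.1 hne
      rw [← hn] at hle ⊢
      have hn2 : n ≤ 2 := by exact_mod_cast hle
      interval_cases n
      · simp
      · exact hrefl.1 (by show (1 : ℕ∞) ≤ LocCoh.depth R R; rw [← hn]; rfl)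
      · exact hrefl.2.1 (by show (2 : ℕ∞) ≤ LocCoh.depth R R; rw [← hn]; rfl)
    exact_mod_cast key

theorem S1689_main (X : Scheme.{u}) [IsLocallyNoetherian X]
    (hreg : ∀ x : ↥X, IsRegularLocalRing (X.presheaf.stalk x)) (hdim : topologicalKrullDim ↥X ≤ 2) (F : X.Modules)
    (hF : Coh.IsCoh F) : (∀ x : ↥X, Module.IsReflexive (X.presheaf.stalk x) (F.presheaf.stalk x)) ↔ FlatMod.IsFinLocFree F := by
  haveI : F.IsQuasicoherent := hF.1
  constructor
  · intro h
    rw [Groth.Agent.Lead.FLF.isFinLocFree_iff_affineOpens]
    intro V hV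
    haveI : IsNoetherianRing Γ(X, V) := IsLocallyNoetherian.component_noetherian ⟨V, hV⟩
    haveI hfin : Module.Finite Γ(X, V) Γ(F, V) :=
      Groth.Agent.Lib.Helper4.CohSk1.finite_sections F hV hF.2
    refine ⟨hfin, ?_⟩
    haveI : Module.FinitePresentation Γ(X, V) Γ(F, V) := Module.finitePresentation_of_finite _ _
    haveI : Module.Flat Γ(X, V) Γ(F, V) := by
      apply Groth.Agent.Lead.SD.flat_sections_of_flat_stalks F hV
      intro z
      haveI := hreg z.1
      haveI := h z.1
      haveI : Module.Finite (X.presheaf.stalk z.1) (F.presheaf.stalk z.1) :=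
        Groth.Agent.Helper7.FinType.stalk_finite_of_isCoh F hF z.1
      haveI : Module.Free (X.presheaf.stalk z.1) (F.presheaf.stalk z.1) :=
        free_of_reflexive_regular _
          ((Groth.Agent.Lib.Helper4.BirationalNormal1.ringKrullDim_stalk_le_topologicalKrullDim X z.1).trans hdim) _
      infer_instance
    exact Module.Flat.projective_of_finitePresentation
  · intro h x
    rw [Groth.Agent.Lead.FLF.isFinLocFree_iff_affineOpens] at h
    obtain ⟨V, hV, hxV, -⟩ := exists_isAffineOpen_mem_and_subset (x := x) (U := ⊤) trivial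
    obtain ⟨h1, h2⟩ := h V hV
    haveI := Groth.Agent.Lead.SD.finite_stalk_of_finite_sections F hV ⟨x, hxV⟩ h1
    haveI := Groth.Agent.Lead.SD.free_stalk_of_projective_sections F hV ⟨x, hxV⟩ h1 h2
    infer_instance

end Groth.Agent.Lib.Helper4.ReflFree1
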