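import Mathlib
import Groth.Prelude.Def_RegImm
import Groth.Agent.Lib.Helper4.FlatDimK1
import Groth.Agent.Lib.Helper4.IntersectProp1
import Groth.Agent.Lib.Helper4.DimFT3
import Groth.Agent.Lib.Helper4.RadBir3
import Groth.Agent.Lib.Helper4.PropDim1
import Groth.Agent.Lib.Helper4.FibDim4
import Groth.Agent.Lib.Helper4.ConjDense1

/-!
# components of the preimage of a subvariety under an immersion locally cut out by c equations have codimension at most c (Krull height theorem, geometric form) (helper4) (helper4)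
-/

set_option backward.isDefEq.respectTransparency.types false
set_option synthInstance.maxHeartbeats 400000
set_option autoImplicit false
set_option linter.unusedSectionVars false
set_option linter.style.haveILetI false
set_option linter.unusedSimpArgs false
universe u v w
open CategoryTheory CategoryTheory.Limits AlgebraicGeometry TopologicalSpace Opposite
open MonoidalCategory CartesianMonoidalCategory MonObj GrpObj

namespace Groth.Agent.Lib.Helper4.RegImmDim1

open Groth.Agent.Lib.Helper4.FibDim1 Groth.Agent.Lib.Helper4.FlatDimK1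
  Groth.Agent.Lib.Helper4.RadBir3 in
/-- Krull's height theorem, geometric form: a point of an affine chart of an integral scheme
locally of finite type over a field whose prime is minimal over an ideal with `c` generators has
codimension at most `c` -/
theorem dim_le_tr_add_of_minimal (k : Type u) [Field k] {Z : Scheme.{u}}
    (gZ : Z ⟶ Spec (CommRingCat.of k)) [LocallyOfFiniteType gZ] [IsIntegral Z]
    {V : Z.Opens} (hV : IsAffineOpen V) (ζ : Z) (hζ : ζ ∈ V) (s : Finset Γ(Z, V)) (c : ℕ)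
    (hc : s.card ≤ c)
    (hmin : (hV.primeIdealOf ⟨ζ, hζ⟩).asIdeal ∈ (Ideal.span (s : Set Γ(Z, V))).minimalPrimes) :
    topologicalKrullDim Z ≤ ((tr gZ ζ : ℕ) : WithBot ℕ∞) + (c : WithBot ℕ∞) := by
  haveI : IsLocallyNoetherian Z := LocallyOfFiniteType.isLocallyNoetherian gZ
  haveI : IsNoetherianRing Γ(Z, V) := IsLocallyNoetherian.component_noetherian ⟨V, hV⟩
  have hht : (hV.primeIdealOf ⟨ζ, hζ⟩).asIdeal.height ≤ (s.card : ℕ∞) :=
    Ideal.height_le_card_of_mem_minimalPrimes_span_finset hmin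
  obtain ⟨ξ, hξζ, hξmax, heq⟩ := exists_max_gen_stalk_dim k gZ ζ
  have hξ : ξ = genericPoint Z := (hξmax _ (genericPoint_specializes ξ)).symm
  rw [dim_of_irreducible k gZ, ← hξ, ← heq,
    Groth.Agent.Lib.Helper4.DimFT3.ringKrullDim_stalk_eq_height hV ζ hζ, add_comm]
  gcongr
  have h2 : (s.card : ℕ∞) ≤ (c : ℕ∞) := by exact_mod_cast hc
  exact_mod_cast hht.trans h2


/-- a point of an open in which the image of `f` is closed lies in the image as soon as it lies in
its closure -/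
theorem mem_range_of_mem_closure {X Y : Scheme.{u}} (f : X ⟶ Y) (U : Y.Opens)
    [IsClosedImmersion (f ∣_ U)] (y : Y) (hy : y ∈ U) (hcl : y ∈ closure (Set.range f)) :
    y ∈ Set.range f := by
  have h0 : IsClosed (Set.range (f ∣_ U)) := (f ∣_ U).isClosedEmbedding.isClosed_range
  have hr : Set.range (f ∣_ U) = (Subtype.val : U → Y) ⁻¹' Set.range f := by
    ext u
    constructor
    · rintro ⟨w, rfl⟩
      exact ⟨w.1, (morphismRestrict_base_coe f U w).symm⟩
    · rintro ⟨x', hx'⟩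
      refine ⟨⟨x', by show f x' ∈ U; rw [hx']; exact u.2⟩, Subtype.ext ?_⟩
      rw [morphismRestrict_base_coe]
      exact hx'
  have h1 : IsClosed ((Subtype.val : U → Y) ⁻¹' Set.range f) := hr ▸ h0
  have h2 : (⟨y, hy⟩ : U) ∈ closure ((Subtype.val : U → Y) ⁻¹' Set.range f) := by
    have hop : IsOpenMap (Subtype.val : U → Y) := U.2.isOpenMap_subtype_val
    rw [← hop.preimage_closure_eq_closure_preimage continuous_subtype_val]
    exact hcl
  rw [h1.closure_eq] at h2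
  exact h2

open Groth.Agent.Lib.Helper4.FibDim1 Groth.Agent.Lib.Helper4.FlatDimK1
  Groth.Agent.Lib.Helper4.RadBir3 Groth.Agent.Lib.Helper4.FibDim4
  Groth.Agent.Lib.Helper4.PropDim1 Groth.Agent.Lib.Helper4.ConjDense1 in
theorem main (K : Type u) [Field K] [IsAlgClosed K] (X Y Z : Scheme.{u}) (gX : X ⟶ Spec (CommRingCat.of K)) (gY : Y ⟶ Spec (CommRingCat.of K)) [IsSeparated gX] [LocallyOfFiniteType gX] [QuasiCompact gX] [IsIntegral X] [IsSeparated gY] [LocallyOfFiniteType gY] [QuasiCompact gY] [IsIntegral Y] (f : X ⟶ Y) (hf : f ≫ gY = gX) (c : ℕ) (hreg : RegImm.IsRegularImmersionOfCodim RegImm.Kind.regular c f) (j : Z ⟶ Y) [IsClosedImmersion j] [IsIntegral Z] (d : ℕ) (hd : topologicalKrullDim Z = d) (T : Set ↥(pullback f j)) (hT : T ∈ irreducibleComponents ↥(pullback f j)) : ((d : ℕ) : WithBot ℕ∞) ≤ topologicalKrullDim ↥T + c := by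
  obtain ⟨himm, hloc⟩ := hreg
  haveI := himm
  haveI : QuasiCompact f := by
    haveI : QuasiCompact (f ≫ gY) := hf ▸ inferInstance
    exact QuasiCompact.of_comp f gY
  haveI : LocallyOfFiniteType f := by
    haveI : LocallyOfFiniteType (f ≫ gY) := hf ▸ inferInstance
    exact locallyOfFiniteType_of_comp f gY
  haveI : Mono f := inferInstance
  obtain ⟨τ, hτmax, hτT⟩ := exists_isMax_closure_eq (F := pullback f j) T hT
  have hmax : ∀ τ' : ↥(pullback f j), τ' ⤳ τ → τ' = τ :=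
    fun τ' h => eq_of_isMax_of_specializes τ hτmax τ' h
  obtain ⟨x, hxdef⟩ : ∃ x, x = pullback.fst f j τ := ⟨_, rfl⟩
  obtain ⟨ζ, hζdef⟩ : ∃ ζ, ζ = pullback.snd f j τ := ⟨_, rfl⟩
  have hxζ : f x = j ζ := by
    rw [hxdef, hζdef, ← Scheme.Hom.comp_apply, pullback.condition]; rfl
  obtain ⟨U, hxU, hclU, rs, hlen, -, hker⟩ := hloc x
  haveI := hclU
  have hV : IsAffineOpen (j ⁻¹ᵁ U.1) := U.2.preimage j
  have hζV : ζ ∈ j ⁻¹ᵁ U.1 := by
    show j ζ ∈ U.1
    rw [← hxζ]; exact hxU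
  classical
  let s : Finset Γ(Z, j ⁻¹ᵁ U.1) := rs.toFinset.image (j.app U.1).hom
  have hs : s.card ≤ c := Finset.card_image_le.trans ((List.toFinset_card_le rs).trans hlen.le)
  have hspan : Ideal.span (s : Set Γ(Z, j ⁻¹ᵁ U.1)) =
      Ideal.map (j.app U.1).hom (Ideal.ofList rs) := by
    rw [Ideal.ofList, Ideal.map_span]
    congr 1
    ext a
    simp [s]
  have hkerU : f.ker.ideal U = Ideal.ofList rs := by rw [Scheme.Hom.ker_apply, hker]
  have hcomap : ∀ (z : Z) (hz : z ∈ j ⁻¹ᵁ U.1),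
      (hV.primeIdealOf ⟨z, hz⟩).asIdeal.comap (j.app U.1).hom =
        (U.2.primeIdealOf ⟨j z, hz⟩).asIdeal := by
    intro z hz
    have h := IsAffineOpen.comap_primeIdealOf_appLE (f := j) U.1 U.2 (j ⁻¹ᵁ U.1) hV le_rfl hz
    rw [← Scheme.Hom.app_eq_appLE] at h
    exact congrArg PrimeSpectrum.asIdeal h
  have hsupp : ∀ (z : Z) (hz : z ∈ j ⁻¹ᵁ U.1),
      Ideal.map (j.app U.1).hom (Ideal.ofList rs) ≤ (hV.primeIdealOf ⟨z, hz⟩).asIdeal ↔
        j z ∈ closure (Set.range f) := by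
    intro z hz
    rw [Ideal.map_le_iff_le_comap, hcomap z hz, ← hkerU,
      ← Groth.Agent.Lib.Helper4.IntersectProp1.mem_support_iff f.ker U (j z) hz,
      ← Scheme.Hom.support_ker]
    rfl
  have hmin : (hV.primeIdealOf ⟨ζ, hζV⟩).asIdeal ∈
      (Ideal.span (s : Set Γ(Z, j ⁻¹ᵁ U.1))).minimalPrimes := by
    rw [hspan]
    refine ⟨⟨(hV.primeIdealOf ⟨ζ, hζV⟩).isPrime,
      (hsupp ζ hζV).mpr (subset_closure ⟨x, hxζ⟩)⟩, ?_⟩
    rintro 𝔮 ⟨h𝔮prime, h𝔮J⟩ h𝔮le
    obtain ⟨ζ', hζ'def⟩ : ∃ ζ' : Z, ζ' = hV.fromSpec ⟨𝔮, h𝔮prime⟩ := ⟨_, rfl⟩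
    have hζ'V : ζ' ∈ j ⁻¹ᵁ U.1 := by rw [hζ'def]; exact fromSpec_mem hV _
    have hζ'P : hV.primeIdealOf ⟨ζ', hζ'V⟩ = ⟨𝔮, h𝔮prime⟩ := by
      have := primeIdealOf_fromSpec hV ⟨𝔮, h𝔮prime⟩
      have h2 : hV.primeIdealOf ⟨ζ', hζ'V⟩ =
          hV.primeIdealOf ⟨hV.fromSpec ⟨𝔮, h𝔮prime⟩, fromSpec_mem hV _⟩ := by
        congr 1
        exact Subtype.ext hζ'def
      rw [h2, this]
    have hsp : ζ' ⤳ ζ := by
      rw [specializes_iff_primeIdealOf_le hV ⟨ζ', hζ'V⟩ ⟨ζ, hζV⟩, hζ'P]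
      exact h𝔮le
    have hj : j ζ' ∈ closure (Set.range f) := by
      rw [← hsupp ζ' hζ'V, hζ'P]
      exact h𝔮J
    obtain ⟨x', hx'⟩ := mem_range_of_mem_closure f U.1 (j ζ') hζ'V hj
    obtain ⟨τ', -, hτ'⟩ := Scheme.Pullback.exists_preimage_pullback x' ζ' hx'
    have hsp' : τ' ⤳ τ := by
      rw [← (pullback.snd f j).isEmbedding.isInducing.specializes_iff, hτ', ← hζdef]
      exact hsp
    have : ζ' = ζ := by rw [← hτ', hmax τ' hsp', hζdef]
    subst this
    rw [hζ'P]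
  have h1 := dim_le_tr_add_of_minimal K (j ≫ gY) hV ζ hζV s c hs hmin
  haveI : Mono (pullback.snd f j) := inferInstance
  have h2 : topologicalKrullDim ↥T = ((tr (j ≫ gY) ζ : ℕ) : WithBot ℕ∞) := by
    rw [← hτT, dim_closure_of_field K (pullback.snd f j ≫ j ≫ gY) τ,
      Groth.Agent.Lib.Helper4.PropDim1.tr_comp, tr_eq_zero_of_mono (pullback.snd f j) τ,
      add_zero, hζdef]
  rw [hd] at h1
  rw [h2]
  exact h1

end Groth.Agent.Lib.Helper4.RegImmDim1
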