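import Mathlib
import Groth.Agent.Lib.Helper4.KosC4

/-!
# Surjectivity of the multiplication maps H^0(F(d)) ⊗ H^0(O(e)) → H^0(F(d+e)) for regular sheaves (helper4)
-/

set_option backward.isDefEq.respectTransparency.types false
set_option synthInstance.maxHeartbeats 400000
set_option autoImplicit false
set_option linter.unusedSectionVars false
set_option linter.style.haveILetI false
set_option linter.unusedSimpArgs false
universe u v w
open CategoryTheory CategoryTheory.Limits AlgebraicGeometry TopologicalSpace Opposite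
open Groth.Agent.Helper1
open Groth.Agent.Helper1.QcCech Groth.Agent.Helper1.LGen Groth.Agent.Helper1.TensGen Groth.Agent.Helper1.TmulLib
open Groth.Agent.Lib.Helper4.KosB1
open Groth.Agent.Lib.Helper4.KosB2
open Groth.Agent.Lib.Helper4.KosC1
open Groth.Agent.Lib.Helper4.KosC3
open Groth.Agent.Lib.Helper4.KosC4
open Groth.Agent.Lib.Helper4.SerreVan
open Groth.Agent.Lib.Helper4.DuA1
open Groth.Agent.Lib.Helper4

namespace Groth.Agent.Lib.Helper4.RegMul1

section S19605
variable (n : ℕ) (k : Type u) [Field k] (G : (CohB1.ProjSpace n k).Modules)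

/-- the subgroup of `Γ(G(e), ⊤)` generated by products of global sections -/
noncomputable def Prd (e : ℤ) : AddSubgroup Γ(CohB1.tensorMod G (Twist.twistProjSpace n k e), ⊤) :=
  AddSubgroup.closure (Set.range fun p : Γ(G, ⊤) × Γ(Twist.twistProjSpace n k e, ⊤) =>
    tm G (Twist.twistProjSpace n k e) ⊤ p.1 p.2)

theorem prd_zero : Prd n k G 0 = ⊤ := by
  rw [eq_top_iff]
  intro u _
  obtain ⟨g, hg⟩ := (bijective_tm_of_isGen G (isGen_one0 n k)).2 u
  exact AddSubgroup.subset_closure ⟨(g, one0 n k), hg⟩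

theorem mu_mem_prd (e e' : ℤ) (hc : e' = ((1 : ℕ) : ℤ) + e) (l : Fin (n + 1))
    (t : Γ(CohB1.tensorMod G (Twist.twistProjSpace n k e), ⊤)) (ht : t ∈ Prd n k G e) :
    (mu n k G e e' hc l).app ⊤ t ∈ Prd n k G e' := by
  unfold Prd at ht
  induction ht using AddSubgroup.closure_induction with
  | mem x hx =>
    obtain ⟨⟨g, σ⟩, rfl⟩ := hx
    refine AddSubgroup.subset_closure ⟨(g, (mulBy (xv n k l) e e' hc).app ⊤ σ), ?_⟩
    change _ = (mu n k G e e' hc l).app ⊤ (tm G _ ⊤ g σ)
    unfold mu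
    rw [tensorMap_tm]
    rfl
  | zero => rw [map_zero]; exact AddSubgroup.zero_mem _
  | add a b _ _ ha hb => rw [map_add]; exact AddSubgroup.add_mem _ ha hb
  | neg a _ ha => rw [map_neg]; exact AddSubgroup.neg_mem _ ha

variable [hG : G.IsQuasicoherent]

theorem prd_succ (e e' : ℤ) (hc : e' = ((1 : ℕ) : ℤ) + e)
    (hreg : ∀ q' : ℕ, 1 ≤ q' → q' ≤ n →
      Subsingleton (Coh.HH (CohB1.ProjSpace n k) (CohB1.tensorMod G (Twist.twistProjSpace n k (e - q'))) q'))
    (h : Prd n k G e = ⊤) : Prd n k G e' = ⊤ := by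
  rw [eq_top_iff]
  intro u _
  obtain ⟨t, ht⟩ := exists_sum_mul' n k G e e' hc hreg u
  rw [ht]
  apply AddSubgroup.sum_mem
  intro l _
  exact mu_mem_prd n k G e e' hc l (t l) (by rw [h]; trivial)

theorem surj_of_prd (e : ℤ) (h : Prd n k G e = ⊤) :
    Function.Surjective
      ((toSheafify (Opens.grothendieckTopology (CohB1.ProjSpace n k))
        (CohB1.tensorPre G (Twist.twistProjSpace n k e)).presheaf).app (Opposite.op ⊤)) := by
  intro u
  have hu : u ∈ Prd n k G e := by rw [h]; trivial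
  unfold Prd at hu
  induction hu using AddSubgroup.closure_induction with
  | mem x hx =>
    obtain ⟨⟨g, σ⟩, rfl⟩ := hx
    exact ⟨pure G _ ⊤ g σ, rfl⟩
  | zero => exact ⟨0, map_zero _⟩
  | add a b _ _ ha hb =>
    obtain ⟨pa, rfl⟩ := ha
    obtain ⟨pb, rfl⟩ := hb
    exact ⟨pa + pb, map_add _ _ _⟩
  | neg a _ ha =>
    obtain ⟨pa, rfl⟩ := ha
    exact ⟨-pa, map_neg _ _⟩

end S19605

section Final
variable (n : ℕ) (k : Type u) [Field k]

theorem s19605 (F : (CohB1.ProjSpace n k).Modules) (hF : Coh.IsCoh F) (m d : ℤ) (hd : m ≤ d)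
    (h : Curv2.IsMRegular k n F m) (e : ℕ) :
    Function.Surjective
      ((toSheafify (Opens.grothendieckTopology (CohB1.ProjSpace n k))
        (CohB1.tensorPre (CohB1.tensorMod F (Twist.twistProjSpace n k d))
          (Twist.twistProjSpace n k (e : ℤ))).presheaf).app (Opposite.op ⊤)) := by
  let G := CohB1.tensorMod F (Twist.twistProjSpace n k d)
  haveI : G.IsQuasicoherent := (SerreVan.isCoh_Tw n k d F hF).1
  have hreg : ∀ (e : ℤ), 0 ≤ e → ∀ q' : ℕ, 1 ≤ q' → q' ≤ n →
      Subsingleton (Coh.HH (CohB1.ProjSpace n k)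
        (CohB1.tensorMod G (Twist.twistProjSpace n k (e - q'))) q') := by
    intro e he q' hq hq'
    obtain ⟨ε⟩ := nonempty_twist_twist_iso n k F d (e - q')
    have h1 := isMRegular_of_le n k F hF m h (d + e) (by omega) q' hq hq'
    have h2 := subsingleton_twist_congr n k F (show d + e - (q' : ℤ) = d + (e - q') by ring) q' h1
    exact SerreVan.subsingleton_of_iso k (X := CohB1.ProjSpace n k) ε.symm q' h2
  apply surj_of_prd n k G
  induction e with
  | zero => exact prd_zero n k G
  | succ e ih =>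
    exact prd_succ n k G (e : ℤ) ((e + 1 : ℕ) : ℤ) (by push_cast; ring) (hreg e (by positivity)) ih

end Final

end Groth.Agent.Lib.Helper4.RegMul1
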