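import Mathlib
import Groth.Prelude.Def_ModelsG
import Groth.Agent.Lib.Helper3.SchlR

/-!
# Regular special fibre stalk at an unramified point (S19912) (helper4)
-/

set_option backward.isDefEq.respectTransparency.types false
set_option synthInstance.maxHeartbeats 400000
set_option autoImplicit false
set_option linter.unusedSectionVars false
set_option linter.style.haveILetI false
set_option linter.unusedSimpArgs false
universe u v w
open CategoryTheory CategoryTheory.Limits AlgebraicGeometry TopologicalSpace Opposite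

namespace Groth.Agent.Lib.Helper4.RegSpecialFibre1

theorem germ_stalkClosedPointTo_of_eq {R S : CommRingCat.{u}} [IsLocalRing S] (φ : R ⟶ S)
    (f : Spec S ⟶ Spec R) (hf : f = Spec.map φ) :
    (Spec R).presheaf.germ ⊤ _ trivial ≫ Scheme.stalkClosedPointTo f =
      (Scheme.ΓSpecIso R).hom ≫ φ := by
  subst hf
  exact Scheme.germ_stalkClosedPointTo_Spec φ

theorem psi_stalkHom (R : Type u) [CommRing R]
    (YR : Over (Spec (CommRingCat.of R)))
    (V : Type u) [CommRing V] [IsLocalRing V] [Algebra R V]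
    (σ : Spec (CommRingCat.of V) ⟶ YR.left)
    (hσ : σ ≫ YR.hom = Spec.map (CommRingCat.ofHom (algebraMap R V))) (r : R) :
    (Scheme.stalkClosedPointTo σ).hom
      (Models.stalkHom R YR (σ (IsLocalRing.closedPoint V)) r) = algebraMap R V r := by
  have h1 := germ_stalkClosedPointTo_of_eq (CommRingCat.ofHom (algebraMap R V)) (σ ≫ YR.hom) hσ
  rw [Scheme.stalkClosedPointTo_comp] at h1
  have h2 := congr($(h1).hom ((Scheme.ΓSpecIso (CommRingCat.of R)).inv.hom r))
  simp only [CommRingCat.hom_comp, RingHom.comp_apply, CommRingCat.hom_ofHom] at h2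
  have h3 : (Scheme.ΓSpecIso (CommRingCat.of R)).hom.hom
      ((Scheme.ΓSpecIso (CommRingCat.of R)).inv.hom r) = r := by
    rw [← RingHom.comp_apply, ← CommRingCat.hom_comp, Iso.inv_hom_id]
    rfl
  rw [h3] at h2
  have h4 : Models.stalkHom R YR (σ (IsLocalRing.closedPoint V)) r =
      (YR.hom.stalkMap (σ (IsLocalRing.closedPoint V))).hom
        (((Spec (CommRingCat.of R)).presheaf.germ ⊤ (YR.hom (σ (IsLocalRing.closedPoint V)))
          trivial).hom ((Scheme.ΓSpecIso (CommRingCat.of R)).inv.hom r)) := by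
    unfold Models.stalkHom Coh.toGlobal
    simp only [RingHom.comp_apply]
    exact (Scheme.Hom.germ_stalkMap_apply YR.hom ⊤ _ trivial _).symm
  rw [h4]
  exact h2

theorem main
    (R : Type u) [CommRing R] [IsDomain R] [IsDiscreteValuationRing R]
    (YR : Over (Spec (CommRingCat.of R)))
    (V : Type u) [CommRing V] [IsDomain V] [IsDiscreteValuationRing V] [Algebra R V]
    (hV : Ideal.map (algebraMap R V) (IsLocalRing.maximalIdeal R) = IsLocalRing.maximalIdeal V)
    (σ : Spec (CommRingCat.of V) ⟶ YR.left)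
    (hσ : σ ≫ YR.hom = Spec.map (CommRingCat.ofHom (algebraMap R V)))
    (y : YR.left) (hy : σ.base (IsLocalRing.closedPoint V) = y)
    (hreg : IsRegularLocalRing (YR.left.presheaf.stalk y)) :
    IsRegularLocalRing (YR.left.presheaf.stalk y ⧸
      Ideal.map (Models.stalkHom R YR y) (IsLocalRing.maximalIdeal R)) := by
  subst hy
  obtain ⟨ϖ, hϖ⟩ := IsDiscreteValuationRing.exists_irreducible R
  have hm : IsLocalRing.maximalIdeal R = Ideal.span {ϖ} := hϖ.maximalIdeal_eq
  let ψ : YR.left.presheaf.stalk (σ (IsLocalRing.closedPoint V)) →+* V :=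
    (Scheme.stalkClosedPointTo σ).hom
  haveI : IsLocalHom ψ := Scheme.isLocalHom_stalkClosedPointTo' σ
  have hψa : ψ (Models.stalkHom R YR (σ (IsLocalRing.closedPoint V)) ϖ) = algebraMap R V ϖ :=
    psi_stalkHom R YR V σ hσ ϖ
  have hmV : IsLocalRing.maximalIdeal V = Ideal.span {algebraMap R V ϖ} := by
    rw [← hV, hm, Ideal.map_span, Set.image_singleton]
  have hmap : Ideal.map (Models.stalkHom R YR (σ (IsLocalRing.closedPoint V)))
      (IsLocalRing.maximalIdeal R) =
      Ideal.span {Models.stalkHom R YR (σ (IsLocalRing.closedPoint V)) ϖ} := by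
    rw [hm, Ideal.map_span, Set.image_singleton]
  have hmem : algebraMap R V ϖ ∈ IsLocalRing.maximalIdeal V := by
    rw [hmV]; exact Ideal.mem_span_singleton_self _
  have hne : algebraMap R V ϖ ≠ 0 := by
    intro h0
    rw [h0, Ideal.span_singleton_eq_bot.mpr rfl] at hmV
    exact IsDiscreteValuationRing.not_a_field V hmV
  have ha1 : Models.stalkHom R YR (σ (IsLocalRing.closedPoint V)) ϖ ∈
      IsLocalRing.maximalIdeal (YR.left.presheaf.stalk (σ (IsLocalRing.closedPoint V))) := by
    rw [IsLocalRing.mem_maximalIdeal, mem_nonunits_iff]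
    intro hu
    have h1 : IsUnit (ψ (Models.stalkHom R YR (σ (IsLocalRing.closedPoint V)) ϖ)) := hu.map ψ
    rw [hψa] at h1
    exact (IsLocalRing.mem_maximalIdeal _).mp hmem h1
  have ha2 : Models.stalkHom R YR (σ (IsLocalRing.closedPoint V)) ϖ ∉
      IsLocalRing.maximalIdeal (YR.left.presheaf.stalk (σ (IsLocalRing.closedPoint V))) ^ 2 := by
    intro h2
    have hle : Ideal.map ψ (IsLocalRing.maximalIdeal
        (YR.left.presheaf.stalk (σ (IsLocalRing.closedPoint V)))) ≤ IsLocalRing.maximalIdeal V := by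
      rw [Ideal.map_le_iff_le_comap]
      intro z hz
      rw [Ideal.mem_comap, IsLocalRing.mem_maximalIdeal, mem_nonunits_iff]
      intro hu
      exact (IsLocalRing.mem_maximalIdeal _).mp hz (isUnit_of_map_unit ψ z hu)
    have h3 : ψ (Models.stalkHom R YR (σ (IsLocalRing.closedPoint V)) ϖ) ∈
        IsLocalRing.maximalIdeal V ^ 2 := by
      have h4 := Ideal.mem_map_of_mem ψ h2
      rw [Ideal.map_pow] at h4
      exact Ideal.pow_right_mono hle 2 h4
    rw [hψa, hmV, Ideal.span_singleton_pow, Ideal.mem_span_singleton] at h3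
    obtain ⟨c, hc⟩ := h3
    have h5 : (1 : V) = algebraMap R V ϖ * c :=
      mul_left_cancel₀ hne (by linear_combination hc)
    exact (IsLocalRing.mem_maximalIdeal _).mp hmem (IsUnit.of_mul_eq_one c h5.symm)
  rw [hmap]
  exact Groth.Agent.Helper3.ArtFunLib.isRegularLocalRing_quotient_of_notMem_sq ha1 ha2

end Groth.Agent.Lib.Helper4.RegSpecialFibre1
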