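import Mathlib
import Groth.Agent.Lib.Helper4.Hyp2
import Groth.Agent.Lib.Helper4.ZeroDim2
import Groth.Agent.Lib.Helper8.TopDim3
import Groth.Agent.Lib.Lead.TilT6

/-!
# Regularity is inherited along monomorphisms with zero-dimensional cokernel (helper4)
-/

set_option backward.isDefEq.respectTransparency.types false
set_option synthInstance.maxHeartbeats 400000
set_option autoImplicit false
set_option linter.unusedSectionVars false
set_option linter.style.haveILetI false
set_option linter.unusedSimpArgs false
universe u v w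
open CategoryTheory CategoryTheory.Limits AlgebraicGeometry TopologicalSpace Opposite
open Groth.Agent.Helper1
open Groth.Agent.Lib.Helper4.KosC1
open Groth.Agent.Lib.Helper4.KosC4
open Groth.Agent.Lib.Helper4.SerreVan
open Groth.Agent.Lib.Helper4.RegRes1
open Groth.Agent.Lib.Helper4

namespace Groth.Agent.Lib.Helper4.RegZero1

theorem isClosed_singleton_of_mem {X : Type*} [TopologicalSpace X] [T0Space X] (Z : Set X)
    (hZ : IsClosed Z) (h : topologicalKrullDim Z ≤ 0) (x : X) (hx : x ∈ Z) :
    IsClosed ({x} : Set X) := by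
  have h1 := Groth.Agent.Helper8.TopDim2.isClosed_singleton_of_dim_le_zero h ⟨x, hx⟩
  have h2 := hZ.isClosedEmbedding_subtypeVal.isClosedMap _ h1
  simpa using h2

section General
variable (k : Type u) [Field k] {X : Scheme.{u}} [X.Over (Spec (CommRingCat.of k))]
include k

theorem subsingleton_X₂ {S : ShortComplex X.Modules} (hS : S.ShortExact) (i : ℕ)
    (h1 : Subsingleton (Coh.HH X S.X₁ i)) (h3 : Subsingleton (Coh.HH X S.X₃ i)) :
    Subsingleton (Coh.HH X S.X₂ i) := by
  refine subsingleton_of_forall_eq 0 fun x => ?_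
  obtain ⟨y, hy⟩ := HHFin2.exact_f_g k hS i x (Subsingleton.elim (h := h3) _ _)
  rw [← hy, Subsingleton.elim (h := h1) y 0, map_zero]

end General

section Pn
variable (n : ℕ) (k : Type u) [Field k]

/-- cohomology of twists of a coherent sheaf with zero-dimensional support vanishes -/
theorem subsingleton_Tw_of_dim_zero (C : (CohB1.ProjSpace n k).Modules) (hC : Coh.IsCoh C)
    (hsupp : topologicalKrullDim (CohB1.support C) ≤ 0) (c : ℤ) (i : ℕ) (hi : 0 < i) :
    Subsingleton (Coh.HH (CohB1.ProjSpace n k) ((Tw n k c).obj C) i) := by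
  have hCt : Coh.IsCoh ((Tw n k c).obj C) := isCoh_Tw n k c C hC
  apply ZeroDim2.s0047 _ hCt _ i hi
  intro x hx
  haveI : C.IsQuasicoherent := hC.1
  haveI : (Twist.twistProjSpace n k c).IsQuasicoherent := (SerreFin.isCoh_twist n k c).1
  have hx' : x ∈ CohB1.support C := by
    have := Groth.Agent.Lead.TilT.support_tensorMod C (Twist.twistProjSpace n k c) hC.2
      (SerreFin.isCoh_twist n k c).2
    change x ∈ CohB1.support (CohB1.tensorMod C (Twist.twistProjSpace n k c)) at hx
    rw [this] at hx
    exact hx.1
  exact isClosed_singleton_of_mem _ (FtGen.isClosed_support C hC.2) hsupp x hx'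

theorem s12905 (F' F : (CohB1.ProjSpace n k).Modules) (hF' : Coh.IsCoh F') (hF : Coh.IsCoh F)
    (φ : F' ⟶ F) [Mono φ]
    (hsupp : topologicalKrullDim (CohB1.support (cokernel φ)) ≤ 0) (m : ℤ)
    (h : Curv2.IsMRegular k n F' m) : Curv2.IsMRegular k n F m := by
  intro i hi hin
  have hSE : (ShortComplex.mk φ (cokernel.π φ) (cokernel.condition φ)).ShortExact := by
    have hS' : (ShortComplex.mk φ (cokernel.π φ) (cokernel.condition φ)).Exact :=
      ShortComplex.exact_of_g_is_cokernel _ (cokernelIsCokernel φ)
    have : Mono (ShortComplex.mk φ (cokernel.π φ) (cokernel.condition φ)).f := inferInstanceAs (Mono φ)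
    have : Epi (ShortComplex.mk φ (cokernel.π φ) (cokernel.condition φ)).g :=
      inferInstanceAs (Epi (cokernel.π φ))
    exact { exact := hS' }
  have hT := TwExact.shortExact_map (SerreVan.locGen_twist n k (m - i)) hSE
  have hC : Coh.IsCoh (cokernel φ) := FtLocal.isCoh_cokernel hF' hF φ
  have h3 := subsingleton_Tw_of_dim_zero n k (cokernel φ) hC hsupp (m - i) i hi
  exact subsingleton_X₂ k hT i (h i hi hin) h3

end Pn

end Groth.Agent.Lib.Helper4.RegZero1
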