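import Mathlib
import Groth.Prelude.Def_Cyc
import Groth.Agent.Lib.Helper4.JacDim1

/-!
# Local dimension and specialization in fibres (S9356) (helper4)
-/

set_option backward.isDefEq.respectTransparency.types false
set_option synthInstance.maxHeartbeats 400000
set_option autoImplicit false
set_option linter.unusedSectionVars false
set_option linter.style.haveILetI false
set_option linter.unusedSimpArgs false
universe u v w
open CategoryTheory CategoryTheory.Limits AlgebraicGeometry TopologicalSpace IsLocalRing Opposite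
open Cardinal
open Groth.Agent.Lib.Helper4.DimIneq1 Groth.Agent.Lib.Helper4.DimFT2 Groth.Agent.Lib.Helper4.Catenary1
open Groth.Agent.Lib.Helper4.DimEq1 Groth.Agent.Lib.Helper4.DimIneq2 Groth.Agent.Lib.Helper4.DimEq2
open Groth.Agent.Lib.Helper4.DimIneq3 Groth.Agent.Lib.Helper4.DimIneq4
open Groth.Agent.Lib.Helper4.NormFibre2 Groth.Agent.Lib.Helper4.RadBir3 Groth.Agent.Lib.Helper4.DimFT3
open Groth.Agent.Lib.Helper4.FibDim1 Groth.Agent.Lib.Helper4.FibDim2 Groth.Agent.Lib.Helper4.LocUC1
open Groth.Agent.Lib.Helper4.FibDim3 Groth.Agent.Lib.Helper4.FibDim4 Groth.Agent.Lib.Helper4.FibDim5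
open Groth.Agent.Lib.Helper4.FibDim6 Groth.Agent.Lib.Helper4.FibDim7 Groth.Agent.Lib.Helper4.JacDim1

namespace Groth.Agent.Lib.Helper4.RelDim2

section S9356

theorem localDim_le_of_specializes {α : Type*} [TopologicalSpace α] (x x' : α) (hsp : x ⤳ x') :
    FlatMor.localDim α x ≤ FlatMor.localDim α x' := by
  unfold FlatMor.localDim
  refine le_iInf fun U => ?_
  exact iInf_le (fun U : {U : TopologicalSpace.Opens α // x ∈ U} =>
    topologicalKrullDim (U.1 : Set α)) ⟨U.1, hsp.mem_open U.1.isOpen U.2⟩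

theorem S9356_main {X S : Scheme.{u}} (f : X ⟶ S) [LocallyOfFiniteType f] (s : S)
    (x x' : ↑(f.fiber s)) (hsp : x ⤳ x') (hne : x ≠ x') :
    FlatMor.localDim ↑(f.fiber s) x ≤ FlatMor.localDim ↑(f.fiber s) x' ∧
      ringKrullDim ((f.fiber s).presheaf.stalk x) < ringKrullDim ((f.fiber s).presheaf.stalk x') := by
  refine ⟨localDim_le_of_specializes x x' hsp, ?_⟩
  haveI : LocallyOfFiniteType (f.fiberToSpecResidueField s) :=
    MorphismProperty.pullback_snd _ _ inferInstance
  haveI : IsLocallyNoetherian (f.fiber s) :=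
    LocallyOfFiniteType.isLocallyNoetherian (f.fiberToSpecResidueField s)
  have hlt : x' < x := by
    rw [lt_iff_le_not_ge]
    refine ⟨hsp, fun h => hne ?_⟩
    have h' : x' ⤳ x := h
    exact (hsp.antisymm h').eq
  have h1 := Order.coheight_add_one_le hlt
  obtain ⟨m, hm⟩ := exists_stalk_dim_nat (Y := f.fiber s) x
  obtain ⟨m', hm'⟩ := exists_stalk_dim_nat (Y := f.fiber s) x'
  rw [hm, hm']
  rw [AlgebraicGeometry.ringKrullDim_stalk_eq_coheight] at hm hm'
  have e1 : Order.coheight x = (m : ℕ∞) := by exact_mod_cast hm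
  have e2 : Order.coheight x' = (m' : ℕ∞) := by exact_mod_cast hm'
  rw [e1, e2] at h1
  have : m + 1 ≤ m' := by exact_mod_cast h1
  have : m < m' := by omega
  exact_mod_cast this

end S9356

end Groth.Agent.Lib.Helper4.RelDim2
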