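import Mathlib
import Groth.Prelude.Def_BlowUp2
import Groth.Agent.Lib.Helper4.ChartFib1
import Groth.Agent.Lib.Helper4.ComplNear1
import Groth.Agent.Lib.Helper7.FormalCompl
import Groth.Agent.Lib.Helper4.DvrSection1

/-!
# Relative effective Cartier divisors: D ≤ D' iff fibrewise (S17814) (helper4)
-/

set_option backward.isDefEq.respectTransparency.types false
set_option synthInstance.maxHeartbeats 400000
set_option autoImplicit false
set_option linter.unusedSectionVars false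
set_option linter.style.haveILetI false
set_option linter.unusedSimpArgs false
universe u v w
open CategoryTheory CategoryTheory.Limits AlgebraicGeometry TopologicalSpace Opposite TensorProduct

namespace Groth.Agent.Lib.Helper4.RelDivLe1

section Alg

/-- in a reduced ring, elements of a minimal prime are killed by an element outside it -/
theorem exists_mul_eq_zero_of_mem_minimalPrimes {A : Type*} [CommRing A] [IsReduced A]
    (p : Ideal A) (hp : p ∈ minimalPrimes A) (a : A) (ha : a ∈ p) : ∃ u ∉ p, u * a = 0 := by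
  haveI : p.IsPrime := hp.1.1
  have h1 := IsLocalization.AtPrime.radical_map_of_mem_minimalPrimes
    (A := Localization.AtPrime p) p ⊥ hp
  rw [Ideal.map_bot] at h1
  haveI : IsReduced (Localization.AtPrime p) := inferInstanceAs (IsReduced (Localization p.primeCompl))
  have h2 : (⊥ : Ideal (Localization.AtPrime p)).radical = ⊥ := by
    show nilradical (Localization.AtPrime p) = ⊥
    exact nilradical_eq_zero _
  rw [h2] at h1
  have h3 : algebraMap A (Localization.AtPrime p) a = 0 := by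
    have : algebraMap A (Localization.AtPrime p) a ∈ p.map (algebraMap A (Localization.AtPrime p)) :=
      Ideal.mem_map_of_mem _ ha
    rw [← h1] at this
    exact this
  obtain ⟨u, hu⟩ := (IsLocalization.map_eq_zero_iff p.primeCompl (Localization.AtPrime p) a).1 h3
  exact ⟨u.1, u.2, hu⟩

/-- an element avoiding all minimal primes of a reduced ring is regular -/
theorem isSMulRegular_of_notMem_minimalPrimes {A : Type*} [CommRing A] [IsReduced A] (s : A)
    (hs : ∀ p ∈ minimalPrimes A, s ∉ p) : IsSMulRegular A s := by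
  intro a b hab
  have h0 : s * (a - b) = 0 := by
    have : s * a = s * b := hab
    rw [mul_sub, this, sub_self]
  have h1 : a - b ∈ sInf (minimalPrimes A) := by
    rw [Submodule.mem_sInf]
    intro (p : Ideal A) hp
    haveI : p.IsPrime := hp.1.1
    have : s * (a - b) ∈ p := by rw [h0]; exact p.zero_mem
    exact (Ideal.IsPrime.mem_or_mem inferInstance this).resolve_left (hs p hp)
  have h2 : sInf (minimalPrimes A) = (⊥ : Ideal A) := by
    rw [minimalPrimes, Ideal.sInf_minimalPrimes]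
    show nilradical A = ⊥
    exact nilradical_eq_zero _
  rw [h2] at h1
  exact sub_eq_zero.mp h1

theorem alg1 {A C C'' K : Type u} [CommRing A] [CommRing C] [CommRing C''] [Field K]
    (ψ : A →+* C) (σ : C →+* C'') (φ : A →+* K) (p : Ideal A) [p.IsPrime]
    (hker : RingHom.ker φ = p)
    (hfrac : ∀ b : K, ∃ a s : A, φ s ≠ 0 ∧ b * φ s = φ a)
    (hloc : ∀ a ∈ p, ∃ u ∉ p, u * a = 0) (g : C)
    (hg : letI := ψ.toAlgebra; letI := φ.toAlgebra;
      (Algebra.TensorProduct.includeLeftRingHom : C →+* C ⊗[A] K) g ∈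
        (RingHom.ker σ).map (Algebra.TensorProduct.includeLeftRingHom : C →+* C ⊗[A] K)) :
    ∃ u ∉ p, σ (ψ u * g) = 0 := by
  letI := ψ.toAlgebra
  letI := φ.toAlgebra
  letI : Algebra A C'' := (σ.comp ψ).toAlgebra
  let σₐ : C →ₐ[A] C'' := { σ with commutes' := fun a => rfl }
  let Θ : C ⊗[A] K →ₐ[A] C'' ⊗[A] K := Algebra.TensorProduct.map σₐ (AlgHom.id A K)
  have h1 : (RingHom.ker σ).map (Algebra.TensorProduct.includeLeftRingHom : C →+* C ⊗[A] K) ≤
      RingHom.ker Θ.toRingHom := by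
    rw [Ideal.map_le_iff_le_comap]
    intro c hc
    rw [Ideal.mem_comap, RingHom.mem_ker]
    show Θ (c ⊗ₜ 1) = 0
    rw [Algebra.TensorProduct.map_tmul]
    have : σₐ c = 0 := hc
    rw [this, zero_tmul]
  have h2 : (σ g) ⊗ₜ[A] (1 : K) = 0 := by
    have := h1 hg
    rw [RingHom.mem_ker] at this
    exact this
  haveI : IsLocalization p.primeCompl K :=
    { map_units := fun y => by
        have : φ y.1 ≠ 0 := fun h0 => y.2 (by
          have h00 : y.1 ∈ RingHom.ker φ := h0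
          rw [hker] at h00; exact h00)
        exact IsUnit.mk0 _ this
      surj := fun b => by
        obtain ⟨a, s, hs, hb⟩ := hfrac b
        exact ⟨(a, ⟨s, fun hsp => hs (by
          have h00 : s ∈ RingHom.ker φ := by rw [hker]; exact hsp
          exact h00)⟩), hb⟩
      exists_of_eq := fun {a b} hab => by
        have h0 : a - b ∈ p := by
          rw [← hker, RingHom.mem_ker, map_sub]
          exact sub_eq_zero.mpr hab
        obtain ⟨u, hu, hu0⟩ := hloc _ h0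
        exact ⟨⟨u, hu⟩, by
          have : u * a - u * b = 0 := by rw [← mul_sub]; exact hu0
          exact sub_eq_zero.mp this⟩ }
  have h3 : IsLocalizedModule p.primeCompl (TensorProduct.mk A K C'' 1) :=
    (isLocalizedModule_iff_isBaseChange p.primeCompl K _).2 (TensorProduct.isBaseChange A C'' K)
  have h4 : (TensorProduct.mk A K C'' 1) (σ g) = 0 := by
    show (1 : K) ⊗ₜ[A] σ g = 0
    have := congrArg (TensorProduct.comm A C'' K) h2
    simpa using this
  obtain ⟨c, hc⟩ := (IsLocalizedModule.eq_zero_iff p.primeCompl _).1 h4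
  refine ⟨c.1, c.2, ?_⟩
  rw [map_mul]
  exact hc

theorem alg_main {A C'' : Type u} [CommRing A] [IsNoetherianRing A] [IsReduced A] [CommRing C'']
    (θ : A →+* C'') (hθ : θ.Flat) (x : C'')
    (h : ∀ p ∈ minimalPrimes A, ∃ u ∉ p, θ u * x = 0) : x = 0 := by
  classical
  let I : Ideal A :=
    { carrier := {a | θ a * x = 0}
      add_mem' := fun {a b} ha hb => by
        show θ (a + b) * x = 0
        rw [map_add, add_mul, ha, hb, add_zero]
      zero_mem' := by show θ 0 * x = 0; rw [map_zero, zero_mul]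
      smul_mem' := fun c a ha => by
        show θ (c • a) * x = 0
        rw [smul_eq_mul, map_mul, mul_assoc, ha, mul_zero] }
  have hfin := minimalPrimes.finite_of_isNoetherianRing A
  have hnot : ¬ ((I : Set A) ⊆ ⋃ p ∈ (hfin.toFinset : Set (Ideal A)), (p : Set A)) := by
    rw [Ideal.subset_union_prime ⊥ ⊥ (fun p hp _ _ => (hfin.mem_toFinset.1 hp).1.1)]
    rintro ⟨p, hp, hIp⟩
    obtain ⟨u, hu, hux⟩ := h p (hfin.mem_toFinset.1 hp)
    exact hu (hIp hux)
  obtain ⟨s, hsI, hs⟩ := Set.not_subset.1 hnot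
  have hs' : ∀ p ∈ minimalPrimes A, s ∉ p := by
    intro p hp hsp
    apply hs
    simp only [Set.mem_iUnion]
    exact ⟨p, by simpa using hp, hsp⟩
  have hreg := isSMulRegular_of_notMem_minimalPrimes s hs'
  have hreg' : IsSMulRegular C'' (θ s) :=
    Groth.Agent.Lib.Helper4.DvrSection1.regular_of_flat θ hθ s hreg
  have hsI' : θ s * x = 0 := hsI
  exact hreg' (show θ s * x = θ s * 0 by rw [hsI', mul_zero])

end Alg

section Geo
variable {𝒞 T : Scheme.{u}}

/-- global sections of the test map `Spec E → Spec Γ(𝒞, W) → 𝒞` -/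
theorem appLE_test {W : 𝒞.Opens} (hW : IsAffineOpen W) {E : CommRingCat.{u}} (i : Γ(𝒞, W) ⟶ E)
    (e : (⊤ : (Spec E).Opens) ≤ (Spec.map i ≫ hW.fromSpec) ⁻¹ᵁ W) :
    (Spec.map i ≫ hW.fromSpec).appLE W ⊤ e ≫ (Scheme.ΓSpecIso E).hom = i := by
  have e1 : (⊤ : (Spec Γ(𝒞, W)).Opens) ≤ hW.fromSpec ⁻¹ᵁ W := by
    rw [hW.fromSpec_preimage_self]
  have e2 : (⊤ : (Spec E).Opens) ≤ (Spec.map i) ⁻¹ᵁ ⊤ := le_rfl
  have h1 := Scheme.Hom.appLE_comp_appLE (Spec.map i) hW.fromSpec W ⊤ ⊤ e1 e2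
  have h2 : hW.fromSpec.appLE W ⊤ e1 = (Scheme.ΓSpecIso Γ(𝒞, W)).inv := by
    rw [Scheme.Hom.appLE, hW.fromSpec_app_self, Category.assoc, ← Functor.map_comp]
    have : ∀ (m : op (⊤ : (Spec Γ(𝒞, W)).Opens) ⟶ op ⊤), (Spec Γ(𝒞, W)).presheaf.map m = 𝟙 _ := by
      intro m
      have : m = 𝟙 _ := Subsingleton.elim _ _
      rw [this, CategoryTheory.Functor.map_id]
    rw [this, Category.comp_id]
  have h3 : (Spec.map i).appLE ⊤ ⊤ e2 = (Spec.map i).appTop :=
    Scheme.Hom.appLE_eq_app (Spec.map i) (U := ⊤)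
  rw [← h1, h2, h3, Category.assoc, Scheme.ΓSpecIso_naturality, Iso.inv_hom_id_assoc]

theorem ideal_le_of_affine [IsLocallyNoetherian T] [IsReduced T] (π : 𝒞 ⟶ T)
    (D D' : 𝒞.IdealSheafData) (hfl : Flat (D'.subschemeι ≫ π))
    (hfib : ∀ t : ↥T, D.comap (pullback.fst π (T.fromSpecResidueField t)) ≤
      D'.comap (pullback.fst π (T.fromSpecResidueField t)))
    {W : 𝒞.Opens} (hW : IsAffineOpen W) {V : T.Opens} (hV : IsAffineOpen V) (hWV : W ≤ π ⁻¹ᵁ V) :
    D.ideal ⟨W, hW⟩ ≤ D'.ideal ⟨W, hW⟩ := by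
  intro g hg
  haveI : IsNoetherianRing Γ(T, V) := IsLocallyNoetherian.component_noetherian ⟨V, hV⟩
  haveI : IsReduced Γ(T, V) := inferInstance
  have hN : IsAffineOpen (D'.subschemeι ⁻¹ᵁ W) := hW.preimage D'.subschemeι
  let ψ : Γ(T, V) →+* Γ(𝒞, W) := (π.appLE V W hWV).hom
  let σ : Γ(𝒞, W) →+* Γ(D'.subscheme, D'.subschemeι ⁻¹ᵁ W) := (D'.subschemeι.app W).hom
  have hσk : RingHom.ker σ = D'.ideal ⟨W, hW⟩ := D'.ker_subschemeι_app ⟨W, hW⟩
  have hNV : D'.subschemeι ⁻¹ᵁ W ≤ (D'.subschemeι ≫ π) ⁻¹ᵁ V := fun z hz => hWV hz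
  have hflat : ((D'.subschemeι ≫ π).appLE V (D'.subschemeι ⁻¹ᵁ W) hNV).hom.Flat :=
    HasRingHomProperty.appLE (P := @Flat) (D'.subschemeι ≫ π) hfl ⟨V, hV⟩ ⟨_, hN⟩ hNV
  have hcomp : ((D'.subschemeι ≫ π).appLE V (D'.subschemeι ⁻¹ᵁ W) hNV).hom = σ.comp ψ := by
    have h0 := Scheme.Hom.appLE_comp_appLE D'.subschemeι π V W (D'.subschemeι ⁻¹ᵁ W) hWV le_rfl
    rw [← h0, CommRingCat.hom_comp, Scheme.Hom.appLE_eq_app]
  rw [hcomp] at hflat
  rw [← hσk, RingHom.mem_ker]
  apply alg_main (σ.comp ψ) hflat (σ g)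
  intro p hp
  haveI : p.IsPrime := hp.1.1
  let y' : ↑(Spec (CommRingCat.of Γ(T, V))) := (⟨p, inferInstance⟩ : PrimeSpectrum Γ(T, V))
  let φ := Groth.Agent.Lib.Helper4.ChartFib1.phiV hV y'
  have hφ := Groth.Agent.Lib.Helper4.ChartFib1.map_phiV hV y'
  have hker : RingHom.ker φ = p := Groth.Agent.Lib.Helper4.ChartFib1.ker_phiV hV y'
  have hfrac := Groth.Agent.Lib.Helper4.ChartFib1.hfrac_phiV hV y'
  have hloc := exists_mul_eq_zero_of_mem_minimalPrimes p hp
  suffices h : ∃ u ∉ p, σ (ψ u * g) = 0 by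
    obtain ⟨u, hu, hu0⟩ := h
    refine ⟨u, hu, ?_⟩
    rw [RingHom.comp_apply, ← map_mul]; exact hu0
  apply alg1 ψ σ φ p hker hfrac hloc g
  letI := ψ.toAlgebra
  letI := φ.toAlgebra
  let E : CommRingCat.{u} :=
    CommRingCat.of (Γ(𝒞, W) ⊗[Γ(T, V)] (T.residueField (hV.fromSpec y')))
  let iC : Γ(𝒞, W) →+* E := Algebra.TensorProduct.includeLeftRingHom
  let iK : (T.residueField (hV.fromSpec y')) →+* E :=
    (Algebra.TensorProduct.includeRight :
      (T.residueField (hV.fromSpec y')) →ₐ[Γ(T, V)] _).toRingHom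
  have hi : iC.comp ψ = iK.comp φ := by
    ext a
    show (algebraMap Γ(T, V) Γ(𝒞, W) a) ⊗ₜ[Γ(T, V)] (1 : T.residueField (hV.fromSpec y')) =
      (1 : Γ(𝒞, W)) ⊗ₜ[Γ(T, V)] (algebraMap Γ(T, V) (T.residueField (hV.fromSpec y')) a)
    rw [Algebra.algebraMap_eq_smul_one, Algebra.algebraMap_eq_smul_one, smul_tmul]
  let β : Spec E ⟶ 𝒞 := Spec.map (CommRingCat.ofHom iC) ≫ hW.fromSpec
  let γ : Spec E ⟶ Spec (T.residueField (hV.fromSpec y')) := Spec.map (CommRingCat.ofHom iK)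
  have hcomm : β ≫ π = γ ≫ T.fromSpecResidueField (hV.fromSpec y') := by
    show (Spec.map (CommRingCat.ofHom iC) ≫ hW.fromSpec) ≫ π =
      Spec.map (CommRingCat.ofHom iK) ≫ T.fromSpecResidueField (hV.fromSpec y')
    rw [Category.assoc, ← IsAffineOpen.SpecMap_appLE_fromSpec π hV hW hWV, ← hφ,
      ← Category.assoc, ← Category.assoc, ← Spec.map_comp, ← Spec.map_comp]
    congr 2
    ext a
    exact congrArg (fun χ : Γ(T, V) →+* E => χ a) hi
  let ρ : Spec E ⟶ pullback π (T.fromSpecResidueField (hV.fromSpec y')) :=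
    pullback.lift β γ hcomm
  have hρ : ρ ≫ pullback.fst π (T.fromSpecResidueField (hV.fromSpec y')) = β :=
    pullback.lift_fst _ _ _
  have hle : D.comap β ≤ D'.comap β := by
    have h0 := Scheme.IdealSheafData.comap_mono (f := ρ) (hfib (hV.fromSpec y'))
    simp only at h0
    rwa [← Scheme.IdealSheafData.comap_comp, ← Scheme.IdealSheafData.comap_comp, hρ] at h0
  have e : (⊤ : (Spec E).Opens) ≤ β ⁻¹ᵁ W := by
    intro z _
    show (Spec.map (CommRingCat.ofHom iC) ≫ hW.fromSpec) z ∈ W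
    rw [Scheme.Hom.comp_apply]
    have := hW.range_fromSpec
    have h2 : hW.fromSpec ((Spec.map (CommRingCat.ofHom iC)) z) ∈ Set.range hW.fromSpec := ⟨_, rfl⟩
    rw [this] at h2
    exact h2
  have hle' := Scheme.IdealSheafData.le_def.1 hle ⟨⊤, isAffineOpen_top _⟩
  rw [Groth.Agent.Helper7.FormalCompl.ideal_comap_eq_map β D W hW ⊤ (isAffineOpen_top _) e,
    Groth.Agent.Helper7.FormalCompl.ideal_comap_eq_map β D' W hW ⊤ (isAffineOpen_top _) e] at hle'
  have h1 : (β.appLE W ⊤ e).hom g ∈ (D'.ideal ⟨W, hW⟩).map (β.appLE W ⊤ e).hom :=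
    hle' (Ideal.mem_map_of_mem _ hg)
  have h2 := Ideal.mem_map_of_mem (Scheme.ΓSpecIso E).hom.hom h1
  rw [Ideal.map_map] at h2
  have h3 : (Scheme.ΓSpecIso E).hom.hom.comp (β.appLE W ⊤ e).hom = iC := by
    have := appLE_test hW (CommRingCat.ofHom iC) e
    exact congrArg CommRingCat.Hom.hom this
  rw [h3] at h2
  have h4 : (Scheme.ΓSpecIso E).hom.hom ((β.appLE W ⊤ e).hom g) = iC g :=
    congrArg (fun χ : Γ(𝒞, W) →+* E => χ g) h3
  rw [h4, ← hσk] at h2
  exact h2

theorem main {𝒞 T : Scheme.{u}} [IsLocallyNoetherian T] [AlgebraicGeometry.IsReduced T]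
    (π : 𝒞 ⟶ T) [IsProper π] [SmoothOfRelativeDimension 1 π]
    (D D' : 𝒞.IdealSheafData)
    (hD : BlowUp.IsEffCartierIdeal D ∧ Flat (D.subschemeι ≫ π))
    (hD' : BlowUp.IsEffCartierIdeal D' ∧ Flat (D'.subschemeι ≫ π))
    (hfib : ∀ t : ↥T, D.comap (pullback.fst π (T.fromSpecResidueField t)) ≤
      D'.comap (pullback.fst π (T.fromSpecResidueField t))) :
    D ≤ D' := by
  let ι : Type u := {W : 𝒞.affineOpens // ∃ V : T.affineOpens, W.1 ≤ π ⁻¹ᵁ V.1}
  apply Scheme.IdealSheafData.le_of_iSup_eq_top (fun i : ι => i.1)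
  · rw [eq_top_iff]
    intro x _
    obtain ⟨_, ⟨V, hV, rfl⟩, hxV, -⟩ :=
      T.isBasis_affineOpens.exists_subset_of_mem_open (Set.mem_univ (π x)) isOpen_univ
    obtain ⟨_, ⟨W, hW, rfl⟩, hxW, hWV⟩ :=
      𝒞.isBasis_affineOpens.exists_subset_of_mem_open (show x ∈ π ⁻¹ᵁ V from hxV)
        (π ⁻¹ᵁ V).isOpen
    exact Opens.mem_iSup.2 ⟨⟨⟨W, hW⟩, ⟨V, hV⟩, hWV⟩, hxW⟩
  · rintro ⟨⟨W, hW⟩, ⟨V, hV⟩, hWV⟩
    exact ideal_le_of_affine π D D' hD'.2 hfib hW hV hWV

end Geo

end Groth.Agent.Lib.Helper4.RelDivLe1
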