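import Mathlib
import Groth.Prelude.Def_Flat
import Groth.Agent.Lib.Helper4.NormFibre2

/-!
# Residue degrees of a finite universal homeomorphism (helper4)
-/

set_option backward.isDefEq.respectTransparency.types false
set_option synthInstance.maxHeartbeats 400000
set_option autoImplicit false
set_option linter.unusedSectionVars false
set_option linter.style.haveILetI false
set_option linter.unusedSimpArgs false
universe u v w
open CategoryTheory CategoryTheory.Limits AlgebraicGeometry TopologicalSpace IsLocalRing Opposite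
open Groth.Agent.Lib.Helper4.NormFibre2

namespace Groth.Agent.Lib.Helper4.ResidueDegUnivHomeo1

theorem finrank_le_of_generators {A B K L : Type*} [CommRing A] [CommRing B] [Field K] [Field L]
    [Algebra A B] [Algebra K L] [Algebra.IsAlgebraic K L] (ι : A →+* K) (ρ : B →+* L)
    (hcomm : (algebraMap K L).comp ι = ρ.comp (algebraMap A B))
    (hgen : ∀ y : L, ∃ b s : B, ρ s ≠ 0 ∧ y * ρ s = ρ b)
    (s : Finset B) (hs : Submodule.span A (s : Set B) = ⊤) :
    Module.Finite K L ∧ Module.finrank K L ≤ s.card := by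
  classical
  have hW : ∀ b : B, ρ b ∈ Submodule.span K ((s.image ρ : Finset L) : Set L) := by
    intro b
    have hb : b ∈ Submodule.span A (s : Set B) := hs ▸ Submodule.mem_top
    induction hb using Submodule.span_induction with
    | mem x hx =>
      apply Submodule.subset_span
      simp only [Finset.coe_image]
      exact ⟨x, hx, rfl⟩
    | zero => rw [map_zero]; exact Submodule.zero_mem _
    | add x y _ _ hx hy => rw [map_add]; exact Submodule.add_mem _ hx hy
    | smul a x _ hx =>
      rw [Algebra.smul_def, map_mul]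
      have : ρ (algebraMap A B a) = algebraMap K L (ι a) := (RingHom.congr_fun hcomm a).symm
      rw [this, ← Algebra.smul_def]
      exact Submodule.smul_mem _ _ hx
  have hSle : (Algebra.adjoin K (Set.range ρ)).toSubmodule ≤
      Submodule.span K ((s.image ρ : Finset L) : Set L) := by
    rw [Algebra.adjoin_eq_span]
    apply Submodule.span_le.mpr
    intro y hy
    have hle : Submonoid.closure (Set.range ρ) ≤ ρ.range.toSubmonoid := by
      apply Submonoid.closure_le.mpr
      rintro _ ⟨b, rfl⟩
      exact ⟨b, rfl⟩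
    obtain ⟨b, rfl⟩ := hle hy
    exact hW b
  have hS : Algebra.adjoin K (Set.range ρ) = ⊤ := by
    rw [eq_top_iff]
    intro y _
    obtain ⟨b, t, ht, hy⟩ := hgen y
    have hy' : y = ρ b * (ρ t)⁻¹ := by
      rw [← hy, mul_assoc, mul_inv_cancel₀ ht, mul_one]
    rw [hy']
    apply Subalgebra.mul_mem
    · exact Algebra.subset_adjoin ⟨b, rfl⟩
    · exact (Algebra.adjoin K (Set.range ρ)).inv_mem_of_algebraic
        (x := ⟨ρ t, Algebra.subset_adjoin ⟨t, rfl⟩⟩)
        (Algebra.IsAlgebraic.isAlgebraic _)
  have htop : Submodule.span K ((s.image ρ : Finset L) : Set L) = ⊤ := by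
    rw [eq_top_iff]
    intro y _
    apply hSle
    have : y ∈ Algebra.adjoin K (Set.range ρ) := by
      rw [hS]; exact Algebra.mem_top
    exact this
  have h1 := finrank_span_finset_le_card (R := K) (s.image ρ)
  rw [Set.finrank, htop, finrank_top] at h1
  exact ⟨⟨⟨s.image ρ, htop⟩⟩, h1.trans Finset.card_image_le⟩

theorem residue_mk'_mul {B R : Type*} [CommRing B] [CommRing R] [IsLocalRing R] [Algebra B R]
    (M : Submonoid B) [IsLocalization M R] (b : B) (t : M) :
    residue R (IsLocalization.mk' R b t) * residue R (algebraMap B R t) =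
      residue R (algebraMap B R b) := by
  rw [← map_mul, IsLocalization.mk'_spec]

theorem exists_local_bound {T' T : Scheme.{u}} (p : T' ⟶ T) [IsFinite p] (U : T.Opens)
    (hU : IsAffineOpen U) :
    ∃ N : ℕ, ∀ t' : T', p t' ∈ U →
      @Module.Finite (T.residueField (p t')) (T'.residueField t') _ _
        (p.residueFieldMap t').hom.toAlgebra.toModule ∧
      @Module.finrank (T.residueField (p t')) (T'.residueField t') _ _
        (p.residueFieldMap t').hom.toAlgebra.toModule ≤ N := by
  letI alg : Algebra Γ(T, U) Γ(T', p ⁻¹ᵁ U) := (p.app U).hom.toAlgebra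
  haveI hfin : Module.Finite Γ(T, U) Γ(T', p ⁻¹ᵁ U) := p.finite_app U hU
  obtain ⟨s, hs⟩ := hfin.fg_top
  refine ⟨s.card, fun t' ht' => ?_⟩
  have hV : IsAffineOpen (p ⁻¹ᵁ U) := hU.preimage p
  letI := (p.residueFieldMap t').hom.toAlgebra
  haveI := isAlgebraic_residueFieldMap p t'
  refine finrank_le_of_generators (rho (V := U) (p t') ht') (rho (V := p ⁻¹ᵁ U) t' ht')
    (rho_comp_app p t' ht').symm ?_ s hs
  intro y
  letI := T'.presheaf.algebra_section_stalk (U := p ⁻¹ᵁ U) ⟨t', ht'⟩
  haveI := hV.isLocalization_stalk ⟨t', ht'⟩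
  obtain ⟨a, rfl⟩ := IsLocalRing.residue_surjective y
  obtain ⟨b, t, rfl⟩ := IsLocalization.exists_mk'_eq
    (hV.primeIdealOf ⟨t', ht'⟩).asIdeal.primeCompl a
  refine ⟨b, t, ?_, ?_⟩
  · intro h0
    have hmem : (t : Γ(T', p ⁻¹ᵁ U)) ∈ RingHom.ker (rho (V := p ⁻¹ᵁ U) t' ht') := h0
    rw [ker_rho hV] at hmem
    exact t.2 hmem
  · exact residue_mk'_mul (hV.primeIdealOf ⟨t', ht'⟩).asIdeal.primeCompl b t

theorem main {T' T : Scheme.{u}} (p : T' ⟶ T) [IsFinite p] (hp : FlatMor.IsUnivHomeo p)
    [IsNoetherian T] :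
    ∃ d : ℕ, 0 < d ∧ ∀ t' : T', ∃ e : ℕ,
      @Module.finrank (T.residueField (p t')) (T'.residueField t') _ _
          (p.residueFieldMap t').hom.toAlgebra.toModule =
        ringExpChar (T.residueField (p t')) ^ e ∧
      ringExpChar (T.residueField (p t')) ^ e ∣ d := by
  classical
  haveI : UniversallyInjective p := ⟨fun X' Y' i₁ i₂ f' hpb => (hp i₁ i₂ f' hpb).injective⟩
  have htf := (tfae_universallyInjective p).out 0 2
  have hpi : ∀ t' : T', (p.residueFieldMap t').hom.IsPurelyInseparable :=
    (htf.mp ‹UniversallyInjective p›).2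
  -- local bounds
  have hloc : ∀ t : T, ∃ U : T.Opens, t ∈ U ∧ ∃ N : ℕ, ∀ t' : T', p t' ∈ U →
      @Module.Finite (T.residueField (p t')) (T'.residueField t') _ _
        (p.residueFieldMap t').hom.toAlgebra.toModule ∧
      @Module.finrank (T.residueField (p t')) (T'.residueField t') _ _
        (p.residueFieldMap t').hom.toAlgebra.toModule ≤ N := by
    intro t
    obtain ⟨U, hU, htU, -⟩ := exists_isAffineOpen_mem_and_subset (U := (⊤ : T.Opens)) (x := t)
      (by simp)
    exact ⟨U, htU, exists_local_bound p U hU⟩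
  choose U hU N hN using hloc
  obtain ⟨F, hF⟩ := isCompact_univ.elim_finite_subcover (fun t => ((U t : T.Opens) : Set T))
    (fun t => (U t).isOpen) (fun t _ => Set.mem_iUnion.mpr ⟨t, hU t⟩)
  refine ⟨(F.sup N).factorial, Nat.factorial_pos _, fun t' => ?_⟩
  have hmem := hF (Set.mem_univ (p t'))
  simp only [Set.mem_iUnion] at hmem
  obtain ⟨t, htF, ht⟩ := hmem
  obtain ⟨hfin, hle⟩ := hN t t' ht
  letI := (p.residueFieldMap t').hom.toAlgebra
  haveI : IsPurelyInseparable (T.residueField (p t')) (T'.residueField t') := hpi t'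
  haveI : FiniteDimensional (T.residueField (p t')) (T'.residueField t') := hfin
  obtain ⟨e, he⟩ := IsPurelyInseparable.finrank_eq_pow (F := T.residueField (p t'))
    (E := T'.residueField t') (ringExpChar (T.residueField (p t')))
  refine ⟨e, he, ?_⟩
  rw [← he]
  apply Nat.dvd_factorial Module.finrank_pos
  exact hle.trans (Finset.le_sup (f := N) htF)

end Groth.Agent.Lib.Helper4.ResidueDegUnivHomeo1
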