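import Mathlib
import Groth.Prelude.Def_ModSite2
import Groth.Agent.Lib.Helper4.RestrTensorA
import Groth.Agent.Lib.Helper4.MateCube
import Groth.Agent.Lib.Helper5.LTen.Assoc1

/-!
# The canonical map Hom(F,G) ⊗ H ⟶ Hom(F, G ⊗ H) and restriction to a slice site: naturality of restrTensorIso, the swap isomorphism, the hexagon, and the cube (helper4)
-/

set_option backward.isDefEq.respectTransparency.types false
set_option synthInstance.maxHeartbeats 400000
set_option autoImplicit false
set_option linter.unusedSectionVars false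
set_option linter.style.haveILetI false
set_option linter.unusedSimpArgs false
universe u v w
open CategoryTheory CategoryTheory.Limits Opposite

namespace Groth.Agent.Lib.Helper4.RestrTensorK
open MonoidalCategory
open Groth.Agent.Lib.Helper5.TensorSheaf Groth.Agent.Lib.Helper5.TensorOver
  Groth.Agent.Lib.Helper5.ShriekSheaf Groth.Agent.Lib.Helper5
  Groth.Agent.Lib.Helper4.RestrTensorA Groth.Agent.Lib.Helper4.MateCube
  Groth.Agent.Lib.Helper4.SheafHomColim

variable {C : Type u} [SmallCategory C] {J : GrothendieckTopology C}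
  (O : Sheaf J CommRingCat.{u}) (W : C)

/-- naturality of `rspT` in the first variable -/
lemma rspT_nat_left {M M' : ModSite.Mod O} (f : M ⟶ M') (N : ModSite.Mod O) :
    ((fgt (O.over W)).map ((ModSite.restr O W).map f) ▷
        (fgt (O.over W)).obj ((ModSite.restr O W).obj N)) ≫ rspT O W M' N =
      rspT O W M N ≫ (fgt (O.over W)).map ((ModSite.restr O W).map
        (((ModSite.tensorBi O).map f).app N)) := by
  unfold rspT
  have h1 := respTensor_inv_nat_left O W ((fgt O).map f) ((fgt O).obj N)
  have h2 := congrArg (fun k => (resp O W).map k) (un_nat O ((fgt O).map f ▷ (fgt O).obj N))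
  simp only [Functor.map_comp] at h2
  rw [Category.assoc]
  refine (Category.assoc _ _ _).symm.trans ?_
  refine (congrArg (fun k => k ≫ (resp O W).map ((unit' O).app
    ((fgt O).obj M' ⊗ (fgt O).obj N))) h1).trans ?_
  rw [Category.assoc]
  congr 1
  exact h2.symm

lemma un_comp_map {O' : Sheaf J CommRingCat.{u}} {Q : PM O'} {G G' : ModSite.Mod O'}
    (a : (shf O').obj Q ⟶ G) (b : G ⟶ G') :
    (unit' O').app Q ≫ (fgt O').map (a ≫ b) =
      ((unit' O').app Q ≫ (fgt O').map a) ≫ (fgt O').map b := by
  rw [Functor.map_comp, Category.assoc]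

/-- naturality of `restrTensorIso.inv` in the first variable -/
lemma tauInv_nat_left {M M' : ModSite.Mod O} (f : M ⟶ M') (N : ModSite.Mod O) :
    ((ModSite.tensorBi (O.over W)).map ((ModSite.restr O W).map f)).app
        ((ModSite.restr O W).obj N) ≫ (restrTensorIso O W M' N).inv =
      (restrTensorIso O W M N).inv ≫
        (ModSite.restr O W).map (((ModSite.tensorBi O).map f).app N) := by
  apply adjunct_ext (Q := (fgt (O.over W)).obj ((ModSite.restr O W).obj M) ⊗
    (fgt (O.over W)).obj ((ModSite.restr O W).obj N))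
  have h1 := un_map_comp ((fgt (O.over W)).map ((ModSite.restr O W).map f) ▷
        (fgt (O.over W)).obj ((ModSite.restr O W).obj N)) (restrTensorIso O W M' N).inv
  refine h1.trans ?_
  have h2 := un_comp_map (Q := (fgt (O.over W)).obj ((ModSite.restr O W).obj M) ⊗
    (fgt (O.over W)).obj ((ModSite.restr O W).obj N)) (restrTensorIso O W M N).inv
    ((ModSite.restr O W).map (((ModSite.tensorBi O).map f).app N))
  refine Eq.trans ?_ h2.symm
  rw [un_restrTensorIso_inv, rspT_nat_left, un_restrTensorIso_inv]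

/-- the mate of the projection isomorphism under `j_! ⊣ ρ` -/
noncomputable def mu (N : ModSite.Mod O) :
    ModSite.restr O W ⋙ (ModSite.tensorBi (O.over W)).flip.obj ((ModSite.restr O W).obj N) ⟶
      (ModSite.tensorBi O).flip.obj N ⋙ ModSite.restr O W :=
  mateEquiv (ModSite.extZeroAdj O W) (ModSite.extZeroAdj O W) (projNatIso' W N).hom

lemma mu_app (N X : ModSite.Mod O) :
    (mu O W N).app X = lhsA O W ((ModSite.restr O W).obj X) N ≫
      (ModSite.restr O W).map (((ModSite.tensorBi O).map
        ((ModSite.extZeroAdj O W).counit.app X)).app N) := by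
  unfold mu lhsA
  simp only [mateEquiv_apply, Functor.comp_obj, NatTrans.comp_app, Functor.rightUnitor_inv_app,
    Functor.whiskerLeft_app, Functor.associator_hom_app, Functor.associator_inv_app,
    Functor.whiskerRight_app, Functor.leftUnitor_hom_app, Functor.id_obj, Category.id_comp,
    Category.comp_id, Category.assoc]
  rfl

/-- (B) the mate of the projection isomorphism is the inverse of `restrTensorIso` -/
theorem mu_app_eq (N X : ModSite.Mod O) :
    (mu O W N).app X = (restrTensorIso O W X N).inv := by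
  rw [mu_app, lhsA_eq_rhsA]
  unfold rhsA
  rw [Category.assoc, ← tauInv_nat_left, ← Category.assoc, ← NatTrans.comp_app,
    ← Functor.map_comp, (ModSite.extZeroAdj O W).right_triangle_components]
  have e : ((ModSite.tensorBi (O.over W)).map (𝟙 ((ModSite.restr O W).obj X))).app
      ((ModSite.restr O W).obj N) = 𝟙 _ := by
    rw [(ModSite.tensorBi (O.over W)).map_id]
    rfl
  rw [e]
  exact Category.id_comp _

/-! ### the swap isomorphism `(X ⊗ H) ⊗ F ≅ (X ⊗ F) ⊗ H` -/

section swap

open Groth.Agent.Lib.Helper5.TenAssoc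

variable {O}

/-- presheaf-level swap -/
noncomputable def sigPre (P Q R : PM O) : (P ⊗ Q) ⊗ R ≅ (P ⊗ R) ⊗ Q :=
  α_ P Q R ≪≫ whiskerLeftIso P (β_ Q R) ≪≫ (α_ P R Q).symm

lemma sigPre_nat₁ {P P' : PM O} (f : P ⟶ P') (Q R : PM O) :
    ((f ▷ Q) ▷ R) ≫ (sigPre P' Q R).hom = (sigPre P Q R).hom ≫ ((f ▷ R) ▷ Q) := by
  unfold sigPre
  simp only [Iso.trans_hom, whiskerLeftIso_hom, Iso.symm_hom, Category.assoc]
  rw [associator_naturality_left_assoc, ← whisker_exchange_assoc,
    associator_inv_naturality_left]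

lemma sigPre_nat₃ (P Q : PM O) {R R' : PM O} (g : R ⟶ R') :
    ((P ⊗ Q) ◁ g) ≫ (sigPre P Q R').hom = (sigPre P Q R).hom ≫ ((P ◁ g) ▷ Q) := by
  unfold sigPre
  simp only [Iso.trans_hom, whiskerLeftIso_hom, Iso.symm_hom, Category.assoc]
  rw [associator_naturality_right_assoc, ← MonoidalCategory.whiskerLeft_comp_assoc,
    BraidedCategory.braiding_naturality_right, MonoidalCategory.whiskerLeft_comp_assoc,
    associator_inv_naturality_middle]

/-- sheaf-level swap -/
noncomputable def sigObj (X H F : ModSite.Mod O) :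
    ((T O).obj (((T O).obj X).obj H)).obj F ≅ ((T O).obj (((T O).obj X).obj F)).obj H :=
  (asIso (a₁ X H F)).symm ≪≫
    (shf O).mapIso (sigPre ((fgt O).obj X) ((fgt O).obj H) ((fgt O).obj F)) ≪≫ asIso (a₁ X F H)

@[reassoc]
lemma a₁_sigObj_hom (X H F : ModSite.Mod O) :
    a₁ X H F ≫ (sigObj X H F).hom =
      (shf O).map (sigPre ((fgt O).obj X) ((fgt O).obj H) ((fgt O).obj F)).hom ≫ a₁ X F H := by
  simp [sigObj]

lemma sigObj_nat₁ {X X' : ModSite.Mod O} (f : X ⟶ X') (H F : ModSite.Mod O) :
    ((T O).map (((T O).map f).app H)).app F ≫ (sigObj X' H F).hom =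
      (sigObj X H F).hom ≫ ((T O).map (((T O).map f).app F)).app H := by
  rw [← cancel_epi (a₁ X H F), a₁_nat₁_assoc, a₁_sigObj_hom, a₁_sigObj_hom_assoc,
    a₁_nat₁, ← Functor.map_comp_assoc, ← Functor.map_comp_assoc, sigPre_nat₁]

lemma sigObj_nat₃ (X H : ModSite.Mod O) {F F' : ModSite.Mod O} (g : F ⟶ F') :
    ((T O).obj (((T O).obj X).obj H)).map g ≫ (sigObj X H F').hom =
      (sigObj X H F).hom ≫ ((T O).map (((T O).obj X).map g)).app H := by
  rw [← cancel_epi (a₁ X H F), a₁_nat₃_assoc, a₁_sigObj_hom, a₁_sigObj_hom_assoc,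
    a₁_nat₂, ← Functor.map_comp_assoc, ← Functor.map_comp_assoc, sigPre_nat₃]

variable (O)

/-- the swap as a natural transformation `(- ⊗ H) ⊗ F ⟶ (- ⊗ F) ⊗ H` -/
noncomputable def sig (H F : ModSite.Mod O) :
    (ModSite.tensorBi O).flip.obj H ⋙ (ModSite.tensorBi O).flip.obj F ⟶
      (ModSite.tensorBi O).flip.obj F ⋙ (ModSite.tensorBi O).flip.obj H where
  app X := (sigObj X H F).hom
  naturality X X' f := sigObj_nat₁ f H F

instance (H F X : ModSite.Mod O) : IsIso ((sig O H F).app X) :=
  inferInstanceAs (IsIso (sigObj X H F).hom)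

end swap

/-! ### the hexagon (K) -/

/-- restriction and triple tensor products of presheaves -/
noncomputable def rT3inv (P Q R : PM O) :
    ((resp O W).obj P ⊗ (resp O W).obj Q) ⊗ (resp O W).obj R ⟶ (resp O W).obj ((P ⊗ Q) ⊗ R) :=
  ((respTensor O W P Q).inv ▷ (resp O W).obj R) ≫ (respTensor O W (P ⊗ Q) R).inv

lemma rT3inv_sigPre (P Q R : PM O) :
    rT3inv O W P Q R ≫ (resp O W).map (sigPre P Q R).hom =
      (sigPre ((resp O W).obj P) ((resp O W).obj Q) ((resp O W).obj R)).hom ≫
        rT3inv O W P R Q := by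
  apply PresheafOfModules.hom_ext
  intro Y
  apply ModuleCat.MonoidalCategory.tensor_ext₃'
  intro a b c
  rfl

open Groth.Agent.Lib.Helper5.TenAssoc in
/-- the transpose of the triple comparison map -/
noncomputable def rspT3 (X H F : ModSite.Mod O) :
    ((fgt (O.over W)).obj ((ModSite.restr O W).obj X) ⊗
        (fgt (O.over W)).obj ((ModSite.restr O W).obj H)) ⊗
        (fgt (O.over W)).obj ((ModSite.restr O W).obj F) ⟶
      (fgt (O.over W)).obj ((ModSite.restr O W).obj
        (((T O).obj (((T O).obj X).obj H)).obj F)) :=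
  (rspT O W X H ▷ (fgt (O.over W)).obj ((ModSite.restr O W).obj F)) ≫
    rspT O W (((T O).obj X).obj H) F

open Groth.Agent.Lib.Helper5.TenAssoc in
/-- the second description of `rspT3` -/
noncomputable def rspT3' (X H F : ModSite.Mod O) :
    ((fgt (O.over W)).obj ((ModSite.restr O W).obj X) ⊗
        (fgt (O.over W)).obj ((ModSite.restr O W).obj H)) ⊗
        (fgt (O.over W)).obj ((ModSite.restr O W).obj F) ⟶
      (fgt (O.over W)).obj ((ModSite.restr O W).obj
        (((T O).obj (((T O).obj X).obj H)).obj F)) :=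
  rT3inv O W ((fgt O).obj X) ((fgt O).obj H) ((fgt O).obj F) ≫
    (resp O W).map ((unit' O).app (((fgt O).obj X ⊗ (fgt O).obj H) ⊗ (fgt O).obj F)) ≫
      (fgt (O.over W)).map ((ModSite.restr O W).map (a₁ X H F))

/-- presheaf-level naturality of the restricted unit on tensor products -/
lemma rspP_nat_left {A S : PM O} (u : A ⟶ S) (R : PM O) :
    ((resp O W).map u ▷ (resp O W).obj R) ≫ (respTensor O W S R).inv ≫
        (resp O W).map ((unit' O).app (S ⊗ R)) =
      (respTensor O W A R).inv ≫ (resp O W).map ((unit' O).app (A ⊗ R)) ≫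
        (resp O W).map ((fgt O).map ((shf O).map (u ▷ R))) := by
  have h1 := respTensor_inv_nat_left O W u R
  have h2 := congrArg (fun k => (resp O W).map k) (un_nat O (u ▷ R))
  simp only [Functor.map_comp] at h2
  rw [← Category.assoc, h1, Category.assoc]
  congr 1
  exact h2.symm

open Groth.Agent.Lib.Helper5.TenAssoc in
lemma rspT3_eq (X H F : ModSite.Mod O) : rspT3 O W X H F = rspT3' O W X H F := by
  unfold rspT3 rspT3' rspT rT3inv
  show (((respTensor O W ((fgt O).obj X) ((fgt O).obj H)).inv ≫
        (resp O W).map ((unit' O).app ((fgt O).obj X ⊗ (fgt O).obj H))) ▷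
        (resp O W).obj ((fgt O).obj F)) ≫
      (respTensor O W ((fgt O).obj (((T O).obj X).obj H)) ((fgt O).obj F)).inv ≫
        (resp O W).map ((unit' O).app ((fgt O).obj (((T O).obj X).obj H) ⊗ (fgt O).obj F)) =
    (((respTensor O W ((fgt O).obj X) ((fgt O).obj H)).inv ▷ (resp O W).obj ((fgt O).obj F)) ≫
        (respTensor O W ((fgt O).obj X ⊗ (fgt O).obj H) ((fgt O).obj F)).inv) ≫
      (resp O W).map ((unit' O).app (((fgt O).obj X ⊗ (fgt O).obj H) ⊗ (fgt O).obj F)) ≫
        (resp O W).map ((fgt O).map ((shf O).map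
          ((unit' O).app ((fgt O).obj X ⊗ (fgt O).obj H) ▷ (fgt O).obj F)))
  rw [MonoidalCategory.comp_whiskerRight, Category.assoc, Category.assoc]
  congr 1
  exact rspP_nat_left O W ((unit' O).app ((fgt O).obj X ⊗ (fgt O).obj H)) ((fgt O).obj F)

open Groth.Agent.Lib.Helper5.TenAssoc in
/-- (T3b) the triple comparison map and the swap -/
lemma rspT3_sigObj (X H F : ModSite.Mod O) :
    rspT3 O W X H F ≫ (fgt (O.over W)).map ((ModSite.restr O W).map (sigObj X H F).hom) =
      (sigPre ((fgt (O.over W)).obj ((ModSite.restr O W).obj X))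
        ((fgt (O.over W)).obj ((ModSite.restr O W).obj H))
        ((fgt (O.over W)).obj ((ModSite.restr O W).obj F))).hom ≫ rspT3 O W X F H := by
  rw [rspT3_eq, rspT3_eq]
  unfold rspT3'
  show (rT3inv O W ((fgt O).obj X) ((fgt O).obj H) ((fgt O).obj F) ≫
      (resp O W).map ((unit' O).app (((fgt O).obj X ⊗ (fgt O).obj H) ⊗ (fgt O).obj F)) ≫
        (resp O W).map ((fgt O).map (a₁ X H F))) ≫
      (resp O W).map ((fgt O).map (sigObj X H F).hom) =
    (sigPre ((resp O W).obj ((fgt O).obj X)) ((resp O W).obj ((fgt O).obj H))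
        ((resp O W).obj ((fgt O).obj F))).hom ≫
      rT3inv O W ((fgt O).obj X) ((fgt O).obj F) ((fgt O).obj H) ≫
      (resp O W).map ((unit' O).app (((fgt O).obj X ⊗ (fgt O).obj F) ⊗ (fgt O).obj H)) ≫
        (resp O W).map ((fgt O).map (a₁ X F H))
  have h1 : (resp O W).map ((fgt O).map (a₁ X H F)) ≫
      (resp O W).map ((fgt O).map (sigObj X H F).hom) =
      (resp O W).map ((fgt O).map ((shf O).map
        (sigPre ((fgt O).obj X) ((fgt O).obj H) ((fgt O).obj F)).hom)) ≫
      (resp O W).map ((fgt O).map (a₁ X F H)) := by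
    rw [← Functor.map_comp, ← Functor.map_comp, a₁_sigObj_hom, Functor.map_comp, Functor.map_comp]
  have h2 := congrArg (fun k => (resp O W).map k)
    (un_nat O (sigPre ((fgt O).obj X) ((fgt O).obj H) ((fgt O).obj F)).hom)
  simp only [Functor.map_comp] at h2
  have h3 := rT3inv_sigPre O W ((fgt O).obj X) ((fgt O).obj H) ((fgt O).obj F)
  simp only [Category.assoc]
  rw [h1, ← Category.assoc ((resp O W).map ((unit' O).app _))]
  rw [h2, Category.assoc, ← Category.assoc (rT3inv O W _ _ _), h3, Category.assoc]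

open Groth.Agent.Lib.Helper5.TenAssoc in
/-- the triple comparison map -/
noncomputable def t3 (X H F : ModSite.Mod O) :
    (shf (O.over W)).obj (((fgt (O.over W)).obj ((ModSite.restr O W).obj X) ⊗
        (fgt (O.over W)).obj ((ModSite.restr O W).obj H)) ⊗
        (fgt (O.over W)).obj ((ModSite.restr O W).obj F)) ⟶
      (ModSite.restr O W).obj (((T O).obj (((T O).obj X).obj H)).obj F) :=
  a₁ ((ModSite.restr O W).obj X) ((ModSite.restr O W).obj H) ((ModSite.restr O W).obj F) ≫
    ((T (O.over W)).map (restrTensorIso O W X H).inv).app ((ModSite.restr O W).obj F) ≫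
      (restrTensorIso O W (((T O).obj X).obj H) F).inv

open Groth.Agent.Lib.Helper5.TenAssoc in
/-- (T3a) -/
lemma un_t3 (X H F : ModSite.Mod O) :
    (unit' (O.over W)).app (((fgt (O.over W)).obj ((ModSite.restr O W).obj X) ⊗
        (fgt (O.over W)).obj ((ModSite.restr O W).obj H)) ⊗
        (fgt (O.over W)).obj ((ModSite.restr O W).obj F)) ≫
      (fgt (O.over W)).map (t3 O W X H F) = rspT3 O W X H F := by
  unfold t3 rspT3 a₁
  have h1 := un_map_comp
    (un ((fgt (O.over W)).obj ((ModSite.restr O W).obj X) ⊗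
      (fgt (O.over W)).obj ((ModSite.restr O W).obj H)) ▷
      (fgt (O.over W)).obj ((ModSite.restr O W).obj F))
    (((T (O.over W)).map (restrTensorIso O W X H).inv).app ((ModSite.restr O W).obj F) ≫
      (restrTensorIso O W (((T O).obj X).obj H) F).inv)
  have h2 := un_map_comp
    ((fgt (O.over W)).map (restrTensorIso O W X H).inv ▷
      (fgt (O.over W)).obj ((ModSite.restr O W).obj F))
    (restrTensorIso O W (((T O).obj X).obj H) F).inv
  have h3 := un_restrTensorIso_inv O W (((T O).obj X).obj H) F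
  have h4 := un_restrTensorIso_inv O W X H
  refine h1.trans ?_
  refine (congrArg (fun k => (un ((fgt (O.over W)).obj ((ModSite.restr O W).obj X) ⊗
      (fgt (O.over W)).obj ((ModSite.restr O W).obj H)) ▷
      (fgt (O.over W)).obj ((ModSite.restr O W).obj F)) ≫ k) (h2.trans
      (congrArg (fun k => ((fgt (O.over W)).map (restrTensorIso O W X H).inv ▷
      (fgt (O.over W)).obj ((ModSite.restr O W).obj F)) ≫ k) h3))).trans ?_
  refine (Category.assoc _ _ _).symm.trans ?_
  refine congrArg (fun k => k ≫ rspT O W (((T O).obj X).obj H) F) ?_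
  refine (MonoidalCategory.comp_whiskerRight _ _ _).symm.trans ?_
  exact congrArg (fun k => k ▷ (fgt (O.over W)).obj ((ModSite.restr O W).obj F)) h4

open Groth.Agent.Lib.Helper5.TenAssoc in
/-- (K), in terms of `t3` -/
lemma t3_sigObj (X H F : ModSite.Mod O) :
    t3 O W X H F ≫ (ModSite.restr O W).map (sigObj X H F).hom =
      (shf (O.over W)).map (sigPre ((fgt (O.over W)).obj ((ModSite.restr O W).obj X))
        ((fgt (O.over W)).obj ((ModSite.restr O W).obj H))
        ((fgt (O.over W)).obj ((ModSite.restr O W).obj F))).hom ≫ t3 O W X F H := by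
  apply adjunct_ext
  refine (un_comp_map _ _).trans ?_
  rw [un_t3, rspT3_sigObj]
  refine Eq.trans ?_ (un_map_comp _ _).symm
  rw [un_t3]

open Groth.Agent.Lib.Helper5.TenAssoc in
/-- (K) the hexagon for `restrTensorIso.inv` and the swap -/
theorem hexagon (X H F : ModSite.Mod O) :
    ((T (O.over W)).map (restrTensorIso O W X H).inv).app ((ModSite.restr O W).obj F) ≫
        (restrTensorIso O W (((T O).obj X).obj H) F).inv ≫
        (ModSite.restr O W).map (sigObj X H F).hom =
      (sigObj ((ModSite.restr O W).obj X) ((ModSite.restr O W).obj H)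
          ((ModSite.restr O W).obj F)).hom ≫
        ((T (O.over W)).map (restrTensorIso O W X F).inv).app ((ModSite.restr O W).obj H) ≫
        (restrTensorIso O W (((T O).obj X).obj F) H).inv := by
  rw [← cancel_epi (a₁ ((ModSite.restr O W).obj X) ((ModSite.restr O W).obj H)
    ((ModSite.restr O W).obj F))]
  have h := t3_sigObj O W X H F
  unfold t3 at h
  simp only [Category.assoc] at h
  rw [h, a₁_sigObj_hom_assoc]

/-! ### the canonical map and its restriction -/

/-- the canonical map `Hom(F,G) ⊗ H ⟶ Hom(F, G ⊗ H)` -/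
noncomputable def cF {O' : Sheaf J CommRingCat.{u}} (F H : ModSite.Mod O') :
    ModSite.sheafHom F ⋙ (ModSite.tensorBi O').flip.obj H ⟶
      (ModSite.tensorBi O').flip.obj H ⋙ ModSite.sheafHom F :=
  cmate (ModSite.sheafHomAdj F) (sig O' H F)

instance isIso_mu_app (N X : ModSite.Mod O) : IsIso ((mu O W N).app X) := by
  rw [mu_app_eq]
  infer_instance

lemma thmate_mu (F : ModSite.Mod O) :
    thmate (ModSite.sheafHomAdj F) (ModSite.sheafHomAdj ((ModSite.restr O W).obj F)) (mu O W F) =
      (restrSheafHomIso W F).hom := by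
  unfold thmate mu restrSheafHomIso
  exact iterated_mateEquiv_conjugateEquiv (ModSite.extZeroAdj O W) (ModSite.extZeroAdj O W)
    (ModSite.sheafHomAdj ((ModSite.restr O W).obj F)) (ModSite.sheafHomAdj F)
    (projNatIso' W F).hom

instance isIso_thmate_mu_app (F X : ModSite.Mod O) :
    IsIso ((thmate (ModSite.sheafHomAdj F) (ModSite.sheafHomAdj ((ModSite.restr O W).obj F))
      (mu O W F)).app X) := by
  rw [thmate_mu]
  infer_instance

/-- if the canonical map of the restrictions is an isomorphism, so is the restriction of the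
canonical map -/
theorem isIso_restr_cF (F H G : ModSite.Mod O)
    (h : IsIso ((cF ((ModSite.restr O W).obj F) ((ModSite.restr O W).obj H)).app
      ((ModSite.restr O W).obj G))) :
    IsIso ((ModSite.restr O W).map ((cF F H).app G)) := by
  haveI : IsIso ((cmate (ModSite.sheafHomAdj ((ModSite.restr O W).obj F))
      (sig (O.over W) ((ModSite.restr O W).obj H) ((ModSite.restr O W).obj F))).app
      ((ModSite.restr O W).obj G)) := h
  refine isIso_map_cmate (ρ := ModSite.restr O W) (ModSite.sheafHomAdj F)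
    (ModSite.sheafHomAdj ((ModSite.restr O W).obj F)) (sig O H F)
    (sig (O.over W) ((ModSite.restr O W).obj H) ((ModSite.restr O W).obj F))
    (mu O W F) (mu O W H) ?_ G
  intro X
  rw [mu_app_eq, mu_app_eq, mu_app_eq, mu_app_eq]
  exact hexagon O W X H F

end Groth.Agent.Lib.Helper4.RestrTensorK
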