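import Mathlib
import Groth.Prelude.Def_W4c1tameactTame
import Groth.Agent.Lib.Helper4.ConvHopfMod

/-!
Total integrals: the comodule retraction `lam α : M ⊗ A → M`, `m ⊗ a ↦ Σ α (a * S m₁) • m₀`, of the
coaction of a relative Hopf module, and the Reynolds operator.
-/

universe u v w w' w''

open TensorProduct WithConv

namespace Groth.Agent.Helper4.Conv

theorem sum_comp' {k : Type*} [CommRing k] {M N P ι' : Type*} [AddCommGroup M] [Module k M]
    [AddCommGroup N] [Module k N] [AddCommGroup P] [Module k P]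
    (s : Finset ι') (f : ι' → N →ₗ[k] P) (g : M →ₗ[k] N) :
    (∑ i ∈ s, f i) ∘ₗ g = ∑ i ∈ s, f i ∘ₗ g := by
  ext x; simp [LinearMap.sum_apply]

section Integral
variable {k : Type u} [CommRing k] {A : Type v} [CommRing A] [HopfAlgebra k A]
variable {B : Type w} [CommRing B] [Algebra k B]

/-- `Φ α a = (c ↦ α (a * S c))` -/
noncomputable def Φ (α : A →ₗ[k] B) (a : A) : A →ₗ[k] B :=
  α ∘ₗ LinearMap.mulLeft k a ∘ₗ HopfAlgebra.antipode k

@[simp] theorem Φ_apply (α : A →ₗ[k] B) (a c : A) : Φ α a c = α (a * HopfAlgebra.antipode k c) := rfl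

theorem Φ_add (α : A →ₗ[k] B) (a a' : A) : Φ α (a + a') = Φ α a + Φ α a' := by
  ext c; simp [add_mul]

theorem Φ_smul (α : A →ₗ[k] B) (r : k) (a : A) : Φ α (r • a) = r • Φ α a := by
  ext c; simp

variable (M : Type w') [AddCommGroup M] [Module k M] [Module B M] [IsScalarTower k B M]

/-- `(x ⊗ c) ⊗ a ↦ α (a * S c) • x` -/
noncomputable def lamAux (α : A →ₗ[k] B) : (M ⊗[k] A) ⊗[k] A →ₗ[k] M :=
  TensorProduct.lift (LinearMap.mk₂ k
    (fun y a => capAux (μB k B M) LinearMap.id (Φ α a) y)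
    (fun y y' a => by simp)
    (fun r y a => by simp)
    (fun y a a' => by simp [Φ_add, capAux_add])
    (fun r y a => by simp [Φ_smul, capAux_smul]))

@[simp] theorem lamAux_tmul (α : A →ₗ[k] B) (y : M ⊗[k] A) (a : A) :
    lamAux M α (y ⊗ₜ[k] a) = capAux (μB k B M) LinearMap.id (Φ α a) y := by
  simp [lamAux]

variable [HopfRep.Comod k A M]

/-- `m ⊗ a ↦ Σ α (a * S m₁) • m₀` -/
noncomputable def lam (α : A →ₗ[k] B) : M ⊗[k] A →ₗ[k] M :=
  lamAux M α ∘ₗ (HopfRep.Comod.coact (k := k) (A := A) (V := M)).rTensor A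

theorem lam_tmul (α : A →ₗ[k] B) (m : M) (a : A) :
    lam M α (m ⊗ₜ[k] a) = cap (μB k B M) LinearMap.id (toConv (Φ α a)) m := by
  simp [lam, cap]

/-- the retraction property -/
theorem lam_comp_coact (α : A →ₗ[k] B) (h1 : α 1 = 1) :
    lam M α ∘ₗ HopfRep.Comod.coact (k := k) (A := A) = LinearMap.id := by
  have h : lamAux M α ∘ₗ Hoch.Ind.coactAux k A M =
      (TensorProduct.rid k M).toLinearMap ∘ₗ (Coalgebra.counit (R := k) (A := A)).lTensor M := by
    refine TensorProduct.ext' fun x c => ?_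
    have key : ∀ t : A ⊗[k] A, lamAux M α ((TensorProduct.assoc k M A A).symm (x ⊗ₜ[k] t)) =
        α (LinearMap.mul' k A ((HopfAlgebra.antipode k).rTensor A t)) • x := by
      intro t
      induction t using TensorProduct.induction_on with
      | zero => simp
      | tmul a b => simp [mul_comm]
      | add s t hs ht => simp only [tmul_add, map_add, hs, ht, add_smul]
    simp only [LinearMap.comp_apply, Hoch.Ind.coactAux_tmul, key,
      HopfAlgebra.mul_antipode_rTensor_comul_apply, Algebra.algebraMap_eq_smul_one, map_smul, h1]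
    simp
  rw [lam, LinearMap.comp_assoc, HochLib.coassoc', ← LinearMap.comp_assoc, h,
    LinearMap.comp_assoc, HochLib.counit_coact]

variable [HopfRep.Comod k A B] [GLin.IsCoactAlg k A B] [TameAct.IsHopfMod k A B M]

theorem coact_comp_alpha (α : A →ₗ[k] B) (hα : Hoch.IsComodHom A α) :
    (HopfRep.Comod.coact (k := k) (A := A) (V := B)) ∘ₗ α =
      (toConv ((Algebra.TensorProduct.includeLeft : B →ₐ[k] B ⊗[k] A).toLinearMap ∘ₗ α) *
        toConv (Algebra.TensorProduct.includeRight : A →ₐ[k] B ⊗[k] A).toLinearMap).ofConv := by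
  unfold Hoch.IsComodHom at hα
  rw [hα, LinearMap.convMul_def, WithConv.ofConv_toConv, WithConv.ofConv_toConv,
    WithConv.ofConv_toConv, ← LinearMap.comp_assoc]
  congr 1
  ext x y
  simp

/-- the key formula: the coaction of `Σ α (a * S m₁) • m₀` -/
theorem coact_comp_cap_Φ {ι' : Type*} (α : A →ₗ[k] B) (hα : Hoch.IsComodHom A α) (a : A)
    (𝓡 : Coalgebra.Repr k a ι') :
    (HopfRep.Comod.coact (k := k) (A := A) (V := M)) ∘ₗ
        cap (μB k B M) LinearMap.id (toConv (Φ α a)) =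
      ∑ i ∈ 𝓡.index, μBA k A B M ((1 : B) ⊗ₜ[k] 𝓡.right i) ∘ₗ ι k A M ∘ₗ
        cap (μB k B M) LinearMap.id (toConv (Φ α (𝓡.left i))) := by
  have hid : Hoch.IsComodHom A (LinearMap.id : M →ₗ[k] M) := by
    unfold Hoch.IsComodHom; simp
  rw [coact_comp_cap (LinearMap.id : M →ₗ[k] M) hid]
  -- the convolution computation
  set J₂ : WithConv (A →ₗ[k] B ⊗[k] A) :=
    toConv (Algebra.TensorProduct.includeRight : A →ₐ[k] B ⊗[k] A).toLinearMap with hJ₂
  have hC : J₂ * toConv ((HopfRep.Comod.coact (k := k) (A := A) (V := B)) ∘ₗ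
        (toConv (Φ α a)).ofConv) =
      ∑ i ∈ 𝓡.index, ((1 : B) ⊗ₜ[k] 𝓡.right i) •
        toConv ((Algebra.TensorProduct.includeLeft : B →ₐ[k] B ⊗[k] A).toLinearMap ∘ₗ
          Φ α (𝓡.left i)) := by
    have e1 : (HopfRep.Comod.coact (k := k) (A := A) (V := B)) ∘ₗ (toConv (Φ α a)).ofConv =
        ((toConv ((Algebra.TensorProduct.includeLeft : B →ₐ[k] B ⊗[k] A).toLinearMap ∘ₗ α) *
          J₂).ofConv ∘ₗ LinearMap.mulLeft k a) ∘ₗ HopfAlgebra.antipode k := by
      rw [← coact_comp_alpha α hα]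
      rfl
    have e2 := convMul_comp_mulLeft
      (toConv ((Algebra.TensorProduct.includeLeft : B →ₐ[k] B ⊗[k] A).toLinearMap ∘ₗ α)) J₂ a 𝓡
    have e2' := congrArg WithConv.ofConv e2
    rw [WithConv.ofConv_toConv] at e2'
    rw [e1, e2', WithConv.ofConv_sum, sum_comp', WithConv.toConv_sum, Finset.mul_sum]
    refine Finset.sum_congr rfl fun i _ => ?_
    rw [convMul_comp_antipode]
    have e3 : toConv ((toConv (J₂.ofConv ∘ₗ LinearMap.mulLeft k (𝓡.right i))).ofConv ∘ₗ
        HopfAlgebra.antipode k) =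
        ((1 : B) ⊗ₜ[k] 𝓡.right i) • toConv (J₂.ofConv ∘ₗ HopfAlgebra.antipode k) := by
      apply WithConv.ofConv_injective
      ext c
      simp [hJ₂]
    rw [e3, ← mul_assoc, mul_smul_comm, smul_mul_assoc]
    have e4 : J₂ * toConv (J₂.ofConv ∘ₗ HopfAlgebra.antipode k) = 1 :=
      algHom_mul_algHom_comp_antipode (Algebra.TensorProduct.includeRight : A →ₐ[k] B ⊗[k] A)
    rw [e4, one_mul]
    rfl
  rw [hC, cap_sum]
  refine Finset.sum_congr rfl fun i _ => ?_
  rw [cap_rsmul, ← ι_comp_cap]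

/-- `lam α` is a comodule map from the induced comodule. -/
theorem coact_comp_lam (α : A →ₗ[k] B) (hα : Hoch.IsComodHom A α) :
    (HopfRep.Comod.coact (k := k) (A := A) (V := M)) ∘ₗ lam M α =
      (lam M α).rTensor A ∘ₗ Hoch.Ind.coactAux k A M := by
  refine TensorProduct.ext' fun m a => ?_
  simp only [LinearMap.comp_apply, Hoch.Ind.coactAux_tmul, lam_tmul]
  have h := LinearMap.congr_fun (coact_comp_cap_Φ M α hα a (Coalgebra.Repr.arbitrary k a)) m
  simp only [LinearMap.comp_apply] at h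
  rw [h, ← (Coalgebra.Repr.arbitrary k a).eq]
  simp only [tmul_sum, map_sum, LinearMap.sum_apply, LinearMap.comp_apply, ι_apply, μBA_tmul,
    TensorProduct.assoc_symm_tmul, LinearMap.rTensor_tmul, lam_tmul, one_smul, mul_one]

end Integral

end Groth.Agent.Helper4.Conv
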