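import Mathlib
import Groth.Prelude.Def_W4c1tameactTame
import Groth.Agent.Lib.Helper4.TotalIntegral

/-!
The Reynolds operator of a total integral.
-/

universe u v w w' w''

open TensorProduct WithConv

namespace Groth.Agent.Helper4.Conv

section
variable {k : Type u} [CommRing k] {A : Type v} [CommRing A] [HopfAlgebra k A]
variable {B : Type w} [CommRing B] [Algebra k B]

/-- `B` is a relative Hopf module over itself. -/
theorem isHopfMod_self [HopfRep.Comod k A B] [GLin.IsCoactAlg k A B] : TameAct.IsHopfMod k A B B where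
  coact_smul b m := by
    rw [smul_eq_mul, GLin.IsCoactAlg.coact_mul (k := k) (A := A)]
    generalize HopfRep.Comod.coact (k := k) (A := A) b = x
    generalize HopfRep.Comod.coact (k := k) (A := A) m = y
    induction x using TensorProduct.induction_on with
    | zero => simp
    | tmul b a =>
      induction y using TensorProduct.induction_on with
      | zero => simp
      | tmul b' a' => simp
      | add y y' hy hy' => simp only [mul_add, map_add, hy, hy']
    | add x x' hx hx' => simp only [add_mul, map_add, LinearMap.add_apply, hx, hx']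

variable (M : Type w') [AddCommGroup M] [Module k M] [Module B M] [IsScalarTower k B M]
variable [HopfRep.Comod k A M]

theorem reynolds_eq_cap (α : A →ₗ[k] B) :
    TameAct.reynolds k A B M α =
      cap (μB k B M) LinearMap.id (toConv (α ∘ₗ HopfAlgebra.antipode k)) := by
  unfold TameAct.reynolds cap
  congr 1

theorem Φ_one (α : A →ₗ[k] B) : Φ α 1 = α ∘ₗ HopfAlgebra.antipode k := by
  ext c; simp

theorem reynolds_eq_lam (α : A →ₗ[k] B) (m : M) :
    TameAct.reynolds k A B M α m = lam M α (m ⊗ₜ[k] (1 : A)) := by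
  rw [reynolds_eq_cap, lam_tmul, Φ_one]

/-- Reynolds is the identity on invariants. -/
theorem reynolds_eq_self (α : A →ₗ[k] B) (h1 : α 1 = 1) (m : M)
    (hm : m ∈ HopfRep.fixedPts k A M) : TameAct.reynolds k A B M α m = m := by
  have hm' : HopfRep.Comod.coact (k := k) (A := A) m = m ⊗ₜ[k] (1 : A) := hm
  rw [TameAct.reynolds_apply_of_coact_eq k A B M α m m 1 hm', HopfAlgebra.antipode_one, h1, one_smul]

/-- Reynolds commutes with `B`-linear comodule maps. -/
theorem reynolds_comm {N : Type w''} [AddCommGroup N] [Module k N] [Module B N]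
    [IsScalarTower k B N] [HopfRep.Comod k A N] (α : A →ₗ[k] B)
    (f : M →ₗ[B] N) (hf : Hoch.IsComodHom A (f.restrictScalars k)) (m : M) :
    f (TameAct.reynolds k A B M α m) = TameAct.reynolds k A B N α (f m) := by
  rw [reynolds_eq_cap, reynolds_eq_cap]
  have h1 := comp_cap (μB k B M) (μB k B N) (f.restrictScalars k) (AlgHom.id k B)
    (fun r => by ext x; simp) (LinearMap.id : M →ₗ[k] M)
    (toConv (α ∘ₗ HopfAlgebra.antipode k))
  have h2 := cap_comp_hom (μB k B N) (LinearMap.id : N →ₗ[k] N)
    (toConv (α ∘ₗ HopfAlgebra.antipode k)) (f.restrictScalars k) hf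
  have e1 := LinearMap.congr_fun h1 m
  have e2 := LinearMap.congr_fun h2 m
  simp only [LinearMap.comp_apply, LinearMap.coe_restrictScalars] at e1 e2
  rw [e1, e2]
  rfl

/-- Reynolds preserves submodules `W` stable under `B` whose coaction lands in `W ⊗ A`. -/
theorem reynolds_mem_of_isSubcomod (α : A →ₗ[k] B) (W : Submodule B M)
    (hW : HopfRep.IsSubcomod (k := k) (A := A) (W.restrictScalars k)) (m : M) (hm : m ∈ W) :
    TameAct.reynolds k A B M α m ∈ W := by
  obtain ⟨t, ht⟩ := hW m hm
  rw [reynolds_eq_cap, cap, LinearMap.comp_apply, ← ht]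
  clear ht
  induction t using TensorProduct.induction_on with
  | zero => simp
  | tmul x c =>
    simp only [LinearMap.rTensor_tmul, Submodule.subtype_apply, capAux_tmul, LinearMap.id_apply,
      μB_apply]
    exact W.smul_mem _ x.2
  | add s t hs ht => rw [map_add, map_add]; exact W.add_mem hs ht

variable [HopfRep.Comod k A B] [GLin.IsCoactAlg k A B] [TameAct.IsHopfMod k A B M]

/-- Reynolds lands in the invariants. -/
theorem reynolds_mem_fixedPts (α : A →ₗ[k] B) (hα : Hoch.IsComodHom A α) (m : M) :
    TameAct.reynolds k A B M α m ∈ HopfRep.fixedPts k A M := by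
  change HopfRep.Comod.coact (k := k) (A := A) _ = _ ⊗ₜ[k] (1 : A)
  rw [reynolds_eq_lam]
  have h := LinearMap.congr_fun (coact_comp_lam M α hα) (m ⊗ₜ[k] (1 : A))
  simp only [LinearMap.comp_apply, Hoch.Ind.coactAux_tmul, Bialgebra.comul_one,
    Algebra.TensorProduct.one_def, TensorProduct.assoc_symm_tmul, LinearMap.rTensor_tmul] at h
  exact h

/-- multiplication by an invariant is a comodule map -/
theorem isComodHom_lsmul_of_invariant (c : B)
    (hc : HopfRep.Comod.coact (k := k) (A := A) c = c ⊗ₜ[k] (1 : A)) :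
    Hoch.IsComodHom A ((LinearMap.lsmul B M c).restrictScalars k) := by
  unfold Hoch.IsComodHom
  ext m
  simp only [LinearMap.comp_apply, LinearMap.coe_restrictScalars, LinearMap.lsmul_apply]
  rw [TameAct.IsHopfMod.coact_smul (k := k) (A := A), hc]
  generalize HopfRep.Comod.coact (k := k) (A := A) m = t
  induction t using TensorProduct.induction_on with
  | zero => simp
  | tmul x a => simp
  | add s t hs ht => simp only [map_add, hs, ht]

/-- Reynolds is linear over the invariants. -/
theorem reynolds_smul_of_invariant (α : A →ₗ[k] B) (c : B)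
    (hc : HopfRep.Comod.coact (k := k) (A := A) c = c ⊗ₜ[k] (1 : A)) (m : M) :
    TameAct.reynolds k A B M α (c • m) = c • TameAct.reynolds k A B M α m := by
  have := reynolds_comm M α (LinearMap.lsmul B M c) (isComodHom_lsmul_of_invariant M c hc) m
  simpa using this.symm

end

section
variable {k : Type u} [CommRing k] {A : Type v} [CommRing A] [HopfAlgebra k A]
variable {B : Type w} [CommRing B] [Algebra k B] [HopfRep.Comod k A B] [GLin.IsCoactAlg k A B]

/-- The Reynolds operator of `B` maps the extension `cB` of an ideal `c` of the invariants into `c`. -/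
theorem reynolds_mem_of_mem_map (α : A →ₗ[k] B) (hα : Hoch.IsComodHom A α)
    (c : Ideal (GLin.invariants k A B)) (y : B)
    (hy : y ∈ c.map (algebraMap (GLin.invariants k A B) B)) :
    ∃ z ∈ c, (z : B) = TameAct.reynolds k A B B α y := by
  haveI := isHopfMod_self (k := k) (A := A) (B := B)
  have hE : ∀ b : B, TameAct.reynolds k A B B α b ∈ GLin.invariants k A B := fun b =>
    reynolds_mem_fixedPts B α hα b
  have key : ∀ y ∈ c.map (algebraMap (GLin.invariants k A B) B), ∀ b' : B,
      ∃ z ∈ c, (z : B) = TameAct.reynolds k A B B α (b' * y) := by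
    intro y hy
    refine Submodule.span_induction ?_ ?_ ?_ ?_ hy
    · rintro _ ⟨c₀, hc₀, rfl⟩ b'
      refine ⟨c₀ * ⟨TameAct.reynolds k A B B α b', hE b'⟩, c.mul_mem_right _ hc₀, ?_⟩
      have h := reynolds_smul_of_invariant B α (c₀ : B) c₀.2 b'
      rw [smul_eq_mul] at h
      change (c₀ : B) * TameAct.reynolds k A B B α b' = TameAct.reynolds k A B B α (b' * (c₀ : B))
      rw [mul_comm b', h, smul_eq_mul]
    · intro b'
      exact ⟨0, c.zero_mem, by simp⟩
    · intro y y' _ _ hy hy' b'
      obtain ⟨z, hz, e⟩ := hy b'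
      obtain ⟨z', hz', e'⟩ := hy' b'
      exact ⟨z + z', c.add_mem hz hz', by simp [mul_add, e, e']⟩
    · intro b y _ hy b'
      obtain ⟨z, hz, e⟩ := hy (b' * b)
      exact ⟨z, hz, by rw [e, smul_eq_mul, mul_assoc]⟩
  obtain ⟨z, hz, e⟩ := key y hy 1
  rw [one_mul] at e
  exact ⟨z, hz, e⟩

end

end Groth.Agent.Helper4.Conv
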