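import Mathlib

/-!
# Content lemma over valuation rings and the transcendence contradiction for rig-points (S11543) (helper4)
-/

set_option backward.isDefEq.respectTransparency.types false
set_option synthInstance.maxHeartbeats 400000
set_option autoImplicit false
set_option linter.unusedSectionVars false
set_option linter.style.haveILetI false
set_option linter.unusedSimpArgs false
universe u v w
open IsLocalRing

namespace Groth.Agent.Lib.Helper4.RigMax1

noncomputable section

variable {R : Type u} [CommRing R] [IsDomain R] [ValuationRing R]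

/-- In a valuation ring, a nonempty finite family has a member dividing all the others. -/
theorem exists_dvd_all {ι : Type*} (s : Finset ι) (hs : s.Nonempty) (f : ι → R) :
    ∃ i ∈ s, ∀ j ∈ s, f i ∣ f j := by
  classical
  induction hs using Finset.Nonempty.cons_induction with
  | singleton k =>
    exact ⟨k, Finset.mem_singleton_self k, fun j hj => by
      rw [Finset.mem_singleton.mp hj]⟩
  | cons k s hk hs ih =>
    obtain ⟨i, his, hi⟩ := ih
    rcases ValuationRing.dvd_total (f i) (f k) with h | h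
    · refine ⟨i, Finset.mem_cons.mpr (Or.inr his), fun j hj => ?_⟩
      rcases Finset.mem_cons.mp hj with rfl | hj
      · exact h
      · exact hi j hj
    · refine ⟨k, Finset.mem_cons_self k s, fun j hj => ?_⟩
      rcases Finset.mem_cons.mp hj with rfl | hj
      · exact dvd_rfl
      · exact h.trans (hi j hj)

variable {B : Type v} [CommRing B] [IsDomain B] [Algebra R B] {σ : Type w}

/-- The content lemma: if the reduction of `aeval y` modulo the maximal ideal is injective, then
`aeval y P ∈ a B` forces `a` to divide all the coefficients of `P`. -/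
theorem dvd_coeff_of_mem (hinj : Function.Injective (algebraMap R B)) (y : σ → B)
    (hres : ∀ P : MvPolynomial σ R,
      MvPolynomial.aeval y P ∈ (maximalIdeal R).map (algebraMap R B) →
      ∀ ν, P.coeff ν ∈ maximalIdeal R)
    (P : MvPolynomial σ R) (a : R) (ha : a ≠ 0)
    (hP : MvPolynomial.aeval y P ∈ Ideal.span {algebraMap R B a}) :
    ∀ ν, a ∣ P.coeff ν := by
  classical
  by_contra hcon
  push Not at hcon
  obtain ⟨ν₀, hν₀⟩ := hcon
  have hP0 : P ≠ 0 := by
    rintro rfl
    exact hν₀ (by simp)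
  have hsupp : P.support.Nonempty := by
    rwa [Finset.nonempty_iff_ne_empty, Ne, MvPolynomial.support_eq_empty]
  obtain ⟨μ, hμ, hdiv⟩ := exists_dvd_all P.support hsupp (fun ν => P.coeff ν)
  have hdiv' : ∀ ν, P.coeff μ ∣ P.coeff ν := by
    intro ν
    by_cases hν : ν ∈ P.support
    · exact hdiv ν hν
    · rw [MvPolynomial.notMem_support_iff.mp hν]
      exact dvd_zero _
  have hc0 : P.coeff μ ≠ 0 := MvPolynomial.mem_support_iff.mp hμ
  have hnd : ¬ a ∣ P.coeff μ := fun h => hν₀ (h.trans (hdiv' ν₀))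
  obtain ⟨e, he⟩ : P.coeff μ ∣ a := (ValuationRing.dvd_total _ _).resolve_right hnd
  have hem : e ∈ maximalIdeal R := by
    rw [IsLocalRing.mem_maximalIdeal, mem_nonunits_iff]
    intro hu
    apply hnd
    obtain ⟨e', he'⟩ := hu.exists_right_inv
    exact ⟨e', by rw [he, mul_assoc, he', mul_one]⟩
  choose r hr using hdiv'
  have hrμ : r μ = 1 := by
    have := hr μ
    exact (mul_left_cancel₀ hc0 (by rw [← this, mul_one])).symm
  set P₀ : MvPolynomial σ R := ∑ ν ∈ P.support, MvPolynomial.monomial ν (r ν) with hP₀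
  have hPP₀ : MvPolynomial.C (P.coeff μ) * P₀ = P := by
    conv_rhs => rw [← MvPolynomial.support_sum_monomial_coeff P]
    rw [hP₀, Finset.mul_sum]
    refine Finset.sum_congr rfl (fun ν _ => ?_)
    rw [MvPolynomial.C_mul_monomial, ← hr ν]
  have hcoeff : P₀.coeff μ = 1 := by
    rw [hP₀, MvPolynomial.coeff_sum]
    simp only [MvPolynomial.coeff_monomial]
    rw [Finset.sum_ite_eq' P.support μ, if_pos hμ, hrμ]
  rw [Ideal.mem_span_singleton'] at hP
  obtain ⟨b, hb⟩ := hP
  have h1 : algebraMap R B (P.coeff μ) * MvPolynomial.aeval y P₀ =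
      algebraMap R B (P.coeff μ) * (algebraMap R B e * b) := by
    calc algebraMap R B (P.coeff μ) * MvPolynomial.aeval y P₀
        = MvPolynomial.aeval y (MvPolynomial.C (P.coeff μ) * P₀) := by
          rw [map_mul, MvPolynomial.aeval_C]
      _ = b * algebraMap R B a := by rw [hPP₀, hb]
      _ = algebraMap R B (P.coeff μ) * (algebraMap R B e * b) := by
          rw [he, map_mul]; ring
  have hcB : algebraMap R B (P.coeff μ) ≠ 0 := by
    rw [Ne, ← map_zero (algebraMap R B)]
    exact fun h => hc0 (hinj h)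
  have h2 : MvPolynomial.aeval y P₀ = algebraMap R B e * b := mul_left_cancel₀ hcB h1
  have h3 : MvPolynomial.aeval y P₀ ∈ (maximalIdeal R).map (algebraMap R B) := by
    rw [h2]
    exact Ideal.mul_mem_right _ _ (Ideal.mem_map_of_mem _ hem)
  have h4 := hres P₀ h3 μ
  rw [hcoeff] at h4
  exact (Ideal.ne_top_iff_one _).mp (IsLocalRing.maximalIdeal.isMaximal R).ne_top h4

/-- Elements of `𝔪 B` lie in `π B` for a single `π ∈ 𝔪`. -/
theorem exists_mem_span_of_mem_map (x : B) (hx : x ∈ (maximalIdeal R).map (algebraMap R B)) :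
    ∃ π ∈ maximalIdeal R, x ∈ Ideal.span {algebraMap R B π} := by
  unfold Ideal.map at hx
  induction hx using Submodule.span_induction with
  | mem x hx =>
    obtain ⟨r, hr, rfl⟩ := hx
    exact ⟨r, hr, Ideal.mem_span_singleton_self _⟩
  | zero => exact ⟨0, Ideal.zero_mem _, Ideal.zero_mem _⟩
  | add x y _ _ hx hy =>
    obtain ⟨π₁, h1, hx⟩ := hx
    obtain ⟨π₂, h2, hy⟩ := hy
    rcases ValuationRing.dvd_total π₁ π₂ with h | h
    · refine ⟨π₁, h1, Ideal.add_mem _ hx ?_⟩
      have : Ideal.span {algebraMap R B π₂} ≤ Ideal.span {algebraMap R B π₁} := by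
        rw [Ideal.span_singleton_le_span_singleton]
        exact map_dvd _ h
      exact this hy
    · refine ⟨π₂, h2, Ideal.add_mem _ ?_ hy⟩
      have : Ideal.span {algebraMap R B π₁} ≤ Ideal.span {algebraMap R B π₂} := by
        rw [Ideal.span_singleton_le_span_singleton]
        exact map_dvd _ h
      exact this hx
  | smul a x _ hx =>
    obtain ⟨π, h1, hx⟩ := hx
    exact ⟨π, h1, Ideal.mul_mem_left _ _ hx⟩

theorem false_of_transcendental
    (t : R) (htm : t ∈ maximalIdeal R) (ht0 : t ≠ 0)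
    (hrad : ∀ r ∈ maximalIdeal R, ∃ j : ℕ, t ∣ r ^ j)
    (hinj : Function.Injective (algebraMap R B))
    (hfield : ∀ b : B, b ≠ 0 → ∃ (b' : B) (j : ℕ), b * b' = algebraMap R B t ^ j)
    {n : ℕ} (ζ : Fin n → B)
    (hdense : ∀ b : B, ∃ (F : MvPolynomial (Fin n) R) (b' : B),
      b = MvPolynomial.aeval ζ F + algebraMap R B t * b')
    {d : ℕ} (y : Fin d → B)
    (hres : ∀ P : MvPolynomial (Fin d) R,
      MvPolynomial.aeval y P ∈ (maximalIdeal R).map (algebraMap R B) →
      ∀ ν, P.coeff ν ∈ maximalIdeal R)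
    (hint : ∀ i : Fin n, ∃ G : Polynomial (MvPolynomial (Fin d) R), G.Monic ∧
      Polynomial.eval₂ (MvPolynomial.aeval y : MvPolynomial (Fin d) R →ₐ[R] B).toRingHom (ζ i) G ∈
        (maximalIdeal R).map (algebraMap R B))
    (i₀ : Fin d) : False := by
  classical
  choose G hGm hG using hint
  have h1 : ∀ i, ∃ π ∈ maximalIdeal R,
      Polynomial.eval₂ (MvPolynomial.aeval y : MvPolynomial (Fin d) R →ₐ[R] B).toRingHom (ζ i) (G i) ∈
        Ideal.span {algebraMap R B π} := fun i => exists_mem_span_of_mem_map _ (hG i)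
  choose ρ hρm hρ using h1
  obtain ⟨o, -, ho⟩ := exists_dvd_all (Finset.univ : Finset (Option (Fin n)))
    ⟨none, Finset.mem_univ _⟩ (fun o => o.elim t ρ)
  obtain ⟨π, hπ⟩ : ∃ π : R, π = o.elim t ρ := ⟨_, rfl⟩
  have hπm : π ∈ maximalIdeal R := by
    rw [hπ]
    cases o with
    | none => exact htm
    | some i => exact hρm i
  have hπt : π ∣ t := by rw [hπ]; exact ho none (Finset.mem_univ _)
  have hπρ : ∀ i, π ∣ ρ i := fun i => by rw [hπ]; exact ho (some i) (Finset.mem_univ _)
  have hπ0 : π ≠ 0 := fun h => ht0 (by rw [h] at hπt; exact zero_dvd_iff.mp hπt)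
  -- the algebra structure
  obtain ⟨θ, hθ⟩ : ∃ θ : MvPolynomial (Fin d) R →ₐ[R] B, θ = MvPolynomial.aeval y := ⟨_, rfl⟩
  letI : Algebra (MvPolynomial (Fin d) R) B := θ.toRingHom.toAlgebra
  have halg : ∀ c : MvPolynomial (Fin d) R, algebraMap (MvPolynomial (Fin d) R) B c = θ c :=
    fun c => rfl
  haveI : IsScalarTower R (MvPolynomial (Fin d) R) B :=
    IsScalarTower.of_algebraMap_eq (fun r => (θ.commutes r).symm)
  -- `B / π B` is a finite `D`-module
  obtain ⟨J, hJ⟩ : ∃ J : Ideal B, J = Ideal.span {algebraMap R B π} := ⟨_, rfl⟩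
  have hmkalg : ∀ c : MvPolynomial (Fin d) R,
      algebraMap (MvPolynomial (Fin d) R) (B ⧸ J) c = Ideal.Quotient.mk J (θ c) := fun c => rfl
  have hint' : ∀ i, IsIntegral (MvPolynomial (Fin d) R) (Ideal.Quotient.mk J (ζ i)) := by
    intro i
    refine ⟨G i, hGm i, ?_⟩
    have h2 : Polynomial.eval₂ (algebraMap (MvPolynomial (Fin d) R) (B ⧸ J))
        (Ideal.Quotient.mk J (ζ i)) (G i) =
        Ideal.Quotient.mk J (Polynomial.eval₂ θ.toRingHom (ζ i) (G i)) := by
      rw [Polynomial.hom_eval₂]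
      rfl
    rw [h2, Ideal.Quotient.eq_zero_iff_mem, hJ]
    have h3 : Ideal.span {algebraMap R B (ρ i)} ≤ Ideal.span {algebraMap R B π} := by
      rw [Ideal.span_singleton_le_span_singleton]
      exact map_dvd _ (hπρ i)
    rw [hθ]
    exact h3 (hρ i)
  have htJ : algebraMap R B t ∈ J := by
    rw [hJ, Ideal.mem_span_singleton]
    exact map_dvd _ hπt
  have hmem : ∀ F : MvPolynomial (Fin n) R, Ideal.Quotient.mk J (MvPolynomial.aeval ζ F) ∈
      Algebra.adjoin (MvPolynomial (Fin d) R) (Set.range fun i => Ideal.Quotient.mk J (ζ i)) := by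
    intro F
    induction F using MvPolynomial.induction_on with
    | C r =>
      rw [MvPolynomial.aeval_C]
      have : Ideal.Quotient.mk J (algebraMap R B r) =
          algebraMap (MvPolynomial (Fin d) R) (B ⧸ J) (MvPolynomial.C r) := by
        rw [hmkalg, ← MvPolynomial.algebraMap_eq, θ.commutes]
      rw [this]
      exact Subalgebra.algebraMap_mem _ _
    | add p q hp hq =>
      rw [map_add, map_add]
      exact Subalgebra.add_mem _ hp hq
    | mul_X p i hp =>
      rw [map_mul, map_mul, MvPolynomial.aeval_X]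
      exact Subalgebra.mul_mem _ hp (Algebra.subset_adjoin ⟨i, rfl⟩)
  have hadj : Algebra.adjoin (MvPolynomial (Fin d) R)
      (Set.range fun i => Ideal.Quotient.mk J (ζ i)) = ⊤ := by
    rw [eq_top_iff]
    rintro z -
    obtain ⟨b, rfl⟩ := Ideal.Quotient.mk_surjective z
    obtain ⟨F, b', hb⟩ := hdense b
    have h4 : Ideal.Quotient.mk J b = Ideal.Quotient.mk J (MvPolynomial.aeval ζ F) := by
      rw [hb, map_add, map_mul, Ideal.Quotient.eq_zero_iff_mem.mpr htJ, zero_mul, add_zero]
    rw [h4]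
    exact hmem F
  have hfg := fg_adjoin_of_finite (R := MvPolynomial (Fin d) R)
    (Set.finite_range fun i => Ideal.Quotient.mk J (ζ i))
    (by rintro _ ⟨i, rfl⟩; exact hint' i)
  rw [hadj, Algebra.top_toSubmodule] at hfg
  have hfin : Module.Finite (MvPolynomial (Fin d) R) (B ⧸ J) := ⟨hfg⟩
  obtain ⟨s, wbar, hwbar⟩ := Module.Finite.exists_fin (R := MvPolynomial (Fin d) R) (M := B ⧸ J)
  choose w hw using fun j => Ideal.Quotient.mk_surjective (wbar j)
  have hsplit : ∀ b : B, ∃ (c : Fin s → MvPolynomial (Fin d) R) (b' : B),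
      b = ∑ j, θ (c j) * w j + algebraMap R B π * b' := by
    intro b
    have h5 : Ideal.Quotient.mk J b ∈ Submodule.span (MvPolynomial (Fin d) R) (Set.range wbar) := by
      rw [hwbar]; trivial
    obtain ⟨c, hc⟩ := (Submodule.mem_span_range_iff_exists_fun _).1 h5
    have h6 : b - ∑ j, θ (c j) * w j ∈ J := by
      rw [← Ideal.Quotient.eq_zero_iff_mem, map_sub, map_sum, ← hc, sub_eq_zero]
      refine Finset.sum_congr rfl (fun j _ => ?_)
      rw [map_mul, hw j, Algebra.smul_def, hmkalg]
    rw [hJ, Ideal.mem_span_singleton'] at h6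
    obtain ⟨b', hb'⟩ := h6
    refine ⟨c, b', ?_⟩
    rw [mul_comm, hb']
    ring
  have hsplitN : ∀ (N : ℕ) (b : B), ∃ (c : Fin s → MvPolynomial (Fin d) R) (b' : B),
      b = ∑ j, θ (c j) * w j + algebraMap R B (π ^ N) * b' := by
    intro N
    induction N with
    | zero =>
      intro b
      exact ⟨0, b, by simp⟩
    | succ N ih =>
      intro b
      obtain ⟨c, b', hb⟩ := ih b
      obtain ⟨c', b'', hb'⟩ := hsplit b'
      refine ⟨fun j => c j + MvPolynomial.C (π ^ N) * c' j, b'', ?_⟩
      rw [hb, hb']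
      simp only [map_add, map_mul, add_mul, Finset.sum_add_distrib, Finset.mul_sum]
      have : θ (MvPolynomial.C (π ^ N)) = algebraMap R B (π ^ N) := by
        rw [← MvPolynomial.algebraMap_eq, θ.commutes]
      rw [this, pow_succ, map_mul]
      simp only [map_pow]
      rw [add_assoc]
      congr 1
      rw [mul_add, Finset.mul_sum]
      congr 1
      · refine Finset.sum_congr rfl (fun j _ => ?_)
        ring
      · ring
  -- `y i₀` is nonzero, hence divides a power of `t`
  have hy0 : y i₀ ≠ 0 := by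
    intro h0
    have h7 : MvPolynomial.aeval y (MvPolynomial.X i₀ : MvPolynomial (Fin d) R) ∈
        (maximalIdeal R).map (algebraMap R B) := by
      rw [MvPolynomial.aeval_X, h0]
      exact Ideal.zero_mem _
    have h8 := hres _ h7 (Finsupp.single i₀ 1)
    rw [MvPolynomial.coeff_X, if_pos rfl] at h8
    exact (Ideal.ne_top_iff_one _).mp (IsLocalRing.maximalIdeal.isMaximal R).ne_top h8
  obtain ⟨z, k, hzk⟩ := hfield (y i₀) hy0
  obtain ⟨j₀, hj₀⟩ := hrad π hπm
  obtain ⟨N, hN⟩ : ∃ N : ℕ, N = j₀ * (k * s + 1) := ⟨_, rfl⟩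
  have hdvdN : t ^ (k * s + 1) ∣ π ^ N := by
    rw [hN, pow_mul]
    exact pow_dvd_pow_of_dvd hj₀ _
  obtain ⟨JN, hJN⟩ : ∃ JN : Ideal B, JN = Ideal.span {algebraMap R B (π ^ N)} := ⟨_, rfl⟩
  have hmkalgN : ∀ c : MvPolynomial (Fin d) R,
      algebraMap (MvPolynomial (Fin d) R) (B ⧸ JN) c = Ideal.Quotient.mk JN (θ c) := fun c => rfl
  have hspanN : Submodule.span (MvPolynomial (Fin d) R)
      (Set.range fun j => Ideal.Quotient.mk JN (w j)) = ⊤ := by
    rw [eq_top_iff]
    rintro x -
    obtain ⟨b, rfl⟩ := Ideal.Quotient.mk_surjective x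
    obtain ⟨c, b', hb⟩ := hsplitN N b
    rw [Submodule.mem_span_range_iff_exists_fun]
    refine ⟨c, ?_⟩
    rw [hb, map_add, map_sum]
    have : Ideal.Quotient.mk JN (algebraMap R B (π ^ N) * b') = 0 := by
      rw [Ideal.Quotient.eq_zero_iff_mem, hJN]
      exact Ideal.mul_mem_right _ _ (Ideal.mem_span_singleton_self _)
    rw [this, add_zero]
    refine Finset.sum_congr rfl (fun j _ => ?_)
    rw [map_mul, Algebra.smul_def, hmkalgN]
  have hfinN : Module.Finite (MvPolynomial (Fin d) R) (B ⧸ JN) :=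
    Module.finite_def.2 (Submodule.fg_iff_exists_fin_generating_family.2 ⟨s, _, hspanN⟩)
  have hrank : (⊤ : Submodule (MvPolynomial (Fin d) R) (B ⧸ JN)).spanFinrank ≤ s := by
    rw [← hspanN]
    refine (Submodule.spanFinrank_span_le_ncard_of_finite (Set.finite_range _)).trans ?_
    have : (Set.range fun j => Ideal.Quotient.mk JN (w j)) =
        ↑(Finset.univ.image fun j => Ideal.Quotient.mk JN (w j)) := by
      rw [Finset.coe_image, Finset.coe_univ, Set.image_univ]
    rw [this, Set.ncard_coe_finset]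
    exact Finset.card_image_le.trans (by simp)
  -- Cayley–Hamilton for multiplication by `t ^ k` on `B / π ^ N B`
  obtain ⟨c, hc⟩ : ∃ c : MvPolynomial (Fin d) R, c = MvPolynomial.C (t ^ k) := ⟨_, rfl⟩
  have hθc : θ c = algebraMap R B t ^ k := by
    rw [hc, ← MvPolynomial.algebraMap_eq, θ.commutes, map_pow]
  have hθX : θ (MvPolynomial.X i₀) = y i₀ := by rw [hθ, MvPolynomial.aeval_X]
  have hrange : LinearMap.range (algebraMap (MvPolynomial (Fin d) R)
      (Module.End (MvPolynomial (Fin d) R) (B ⧸ JN)) c) ≤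
      (Ideal.span {(MvPolynomial.X i₀ : MvPolynomial (Fin d) R)}) •
        (⊤ : Submodule (MvPolynomial (Fin d) R) (B ⧸ JN)) := by
    rintro _ ⟨x, rfl⟩
    obtain ⟨b, rfl⟩ := Ideal.Quotient.mk_surjective x
    rw [Module.algebraMap_end_apply]
    have h9 : c • Ideal.Quotient.mk JN b =
        (MvPolynomial.X i₀ : MvPolynomial (Fin d) R) • Ideal.Quotient.mk JN (z * b) := by
      rw [Algebra.smul_def, Algebra.smul_def, hmkalgN, hmkalgN, hθc, hθX, ← map_mul, ← map_mul,
        ← hzk]
      congr 1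
      ring
    rw [h9]
    exact Submodule.smul_mem_smul (Ideal.mem_span_singleton_self _) Submodule.mem_top
  obtain ⟨p, hpm, hpdeg, hpcoeff, hpz⟩ :=
    LinearMap.exists_monic_and_natDegree_eq_and_coeff_mem_pow_and_aeval_eq_zero
      (MvPolynomial (Fin d) R) _ _ hrange
  obtain ⟨m, hm⟩ : ∃ m : ℕ, m = p.natDegree := ⟨_, rfl⟩
  have hms : m ≤ s := by rw [hm, hpdeg]; exact hrank
  obtain ⟨P, hPdef⟩ : ∃ P : MvPolynomial (Fin d) R, P = p.eval c := ⟨_, rfl⟩
  have hP1 : θ P ∈ JN := by
    rw [Polynomial.aeval_algebraMap_apply, Polynomial.coe_aeval_eq_eval, ← hPdef] at hpz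
    have h10 := congrArg (fun f => f (1 : B ⧸ JN)) hpz
    simp only [Module.algebraMap_end_apply, LinearMap.zero_apply] at h10
    rw [Algebra.smul_def, mul_one, hmkalgN, Ideal.Quotient.eq_zero_iff_mem] at h10
    exact h10
  -- the constant coefficient of `P`
  have hPI : P - c ^ m ∈ Ideal.span {(MvPolynomial.X i₀ : MvPolynomial (Fin d) R)} := by
    rw [hPdef, Polynomial.eval_eq_sum_range, ← hm, Finset.sum_range_succ, hm,
      hpm.coeff_natDegree, one_mul, add_sub_cancel_right]
    refine Ideal.sum_mem _ (fun i hi => Ideal.mul_mem_right _ _ ?_)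
    have hi' : i < p.natDegree := Finset.mem_range.mp hi
    exact Ideal.pow_le_self (by omega) (hpcoeff i)
  have hconst : MvPolynomial.constantCoeff P = t ^ (k * m) := by
    have h11 : Ideal.span {(MvPolynomial.X i₀ : MvPolynomial (Fin d) R)} ≤
        RingHom.ker (MvPolynomial.constantCoeff : MvPolynomial (Fin d) R →+* R) := by
      rw [Ideal.span_le, Set.singleton_subset_iff]
      exact MvPolynomial.constantCoeff_X (R := R) i₀
    have h12 := h11 hPI
    rw [RingHom.mem_ker, map_sub, sub_eq_zero] at h12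
    rw [h12, map_pow, hc, MvPolynomial.constantCoeff_C, ← pow_mul]
  -- apply the content lemma
  have hdvd2 : t ^ (k * m + 1) ∣ π ^ N :=
    (pow_dvd_pow t (by nlinarith)).trans hdvdN
  have hP2 : MvPolynomial.aeval y P ∈ Ideal.span {algebraMap R B (t ^ (k * m + 1))} := by
    have : JN ≤ Ideal.span {algebraMap R B (t ^ (k * m + 1))} := by
      rw [hJN, Ideal.span_singleton_le_span_singleton]
      exact map_dvd _ hdvd2
    rw [← hθ]
    exact this hP1
  have h13 := dvd_coeff_of_mem hinj y hres P (t ^ (k * m + 1)) (pow_ne_zero _ ht0) hP2 0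
  rw [← MvPolynomial.constantCoeff_eq, hconst] at h13
  obtain ⟨u, hu⟩ := h13
  have h14 : t ^ (k * m) * 1 = t ^ (k * m) * (t * u) := by
    rw [mul_one, ← mul_assoc, ← pow_succ]
    exact hu
  have h15 : 1 = t * u := mul_left_cancel₀ (pow_ne_zero _ ht0) h14
  exact (IsLocalRing.mem_maximalIdeal _).mp htm (IsUnit.of_mul_eq_one _ h15.symm)

end

end Groth.Agent.Lib.Helper4.RigMax1
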