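import Mathlib
import Groth.Prelude.Def_W4bk4boschfrg79
import Groth.Agent.Lib.Helper4.RigMax1
import Groth.Agent.Lib.Helper6.RigPt.RP1
import Groth.Agent.Lib.Helper8.ValNorm1

/-!
# A domain quotient of restricted power series over a complete height-one valuation ring whose generic fibre is a field has Krull dimension one (S11543) (helper4)
-/

set_option backward.isDefEq.respectTransparency.types false
set_option synthInstance.maxHeartbeats 400000
set_option autoImplicit false
set_option linter.unusedSectionVars false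
set_option linter.style.haveILetI false
set_option linter.unusedSimpArgs false
universe u v w
open IsLocalRing Groth.Agent.Lib.Helper4.RigMax1 Groth.Agent.Lib.Helper6.RigPt Groth.Agent.Helper8.ValNorm

namespace Groth.Agent.Lib.Helper4.RigMax2

noncomputable section

variable (R : Type u) [CommRing R] [IsDomain R] [ValuationRing R] [Ring.KrullDimLE 1 R]
  (t : R) (ht : t ≠ 0) [IsAdicComplete (Ideal.span {t}) R]

include ht in
theorem exists_dvd_pow (r : R) (hr : r ∈ maximalIdeal R) : ∃ j : ℕ, t ∣ r ^ j := by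
  have htm := mem_maximalIdeal_of_isAdicComplete R t
  rw [← radical_span_eq R t ht htm] at hr
  obtain ⟨j, hj⟩ := hr
  exact ⟨j, Ideal.mem_span_singleton.mp hj⟩

theorem exists_dvd_pow' (r : R) (hr : r ≠ 0) : ∃ j : ℕ, r ∣ t ^ j := by
  by_cases hu : IsUnit r
  · exact ⟨0, hu.dvd⟩
  · have hrm : r ∈ maximalIdeal R := (mem_maximalIdeal r).mpr hu
    have htm := mem_maximalIdeal_of_isAdicComplete R t
    have h1 : t ∈ (Ideal.span {r}).radical := by
      rw [radical_span_eq R r hr hrm]; exact htm
    obtain ⟨j, hj⟩ := h1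
    exact ⟨j, Ideal.mem_span_singleton.mp hj⟩

variable (B : Type u) [CommRing B] [Algebra R B] (n : ℕ)
  (ψ : AdicRing.RPow R (Ideal.span {t}) n →ₐ[R] B) (hψ : Function.Surjective ψ)

include hψ in
theorem algebraMap_mem_jacobson : algebraMap R B t ∈ (⊥ : Ideal B).jacobson := by
  rw [Ideal.mem_jacobson_bot]
  intro b
  obtain ⟨x, rfl⟩ := hψ b
  have h1 := of_mem_jacobson (MvPolynomial.C t)
    ((Ideal.span {t}).map (MvPolynomial.C : R →+* MvPolynomial (Fin n) R)) (rpow_ideal_eq t n)
  have h2 := (Ideal.mem_jacobson_bot.mp h1) x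
  have h3 : ψ (AdicCompletion.of _ (MvPolynomial (Fin n) R) (MvPolynomial.C t) * x + 1) =
      algebraMap R B t * ψ x + 1 := by
    rw [map_add, map_mul, map_one]
    congr 2
    have := ψ.commutes t
    rw [rpow_algebraMap] at this
    exact this
  rw [← h3]
  exact h2.map ψ

include hψ in
theorem dense (b : B) : ∃ (F : MvPolynomial (Fin n) R) (b' : B),
    b = MvPolynomial.aeval (fun i => ψ (AdicCompletion.of _ (MvPolynomial (Fin n) R)
      (MvPolynomial.X i))) F + algebraMap R B t * b' := by
  obtain ⟨x, rfl⟩ := hψ b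
  obtain ⟨F, x', hx⟩ := exists_of_add_mul (MvPolynomial.C t)
    ((Ideal.span {t}).map (MvPolynomial.C : R →+* MvPolynomial (Fin n) R)) (rpow_ideal_eq t n) x
  refine ⟨F, ψ x', ?_⟩
  have h2 : ψ (AdicCompletion.of _ (MvPolynomial (Fin n) R) (MvPolynomial.C t)) =
      algebraMap R B t := by
    have := ψ.commutes t
    rw [rpow_algebraMap] at this
    exact this
  obtain ⟨θ, hθ⟩ : ∃ θ : MvPolynomial (Fin n) R →ₐ[R] B, θ = ψ.comp
      (IsScalarTower.toAlgHom R (MvPolynomial (Fin n) R) (AdicRing.RPow R (Ideal.span {t}) n)) :=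
    ⟨_, rfl⟩
  have h3 : θ = MvPolynomial.aeval (fun i => ψ (AdicCompletion.of _ (MvPolynomial (Fin n) R)
      (MvPolynomial.X i))) := by
    rw [MvPolynomial.aeval_unique θ, hθ]
    rfl
  conv_lhs => rw [hx]
  rw [map_add, map_mul, h2, ← h3, hθ]
  rfl

variable [IsDomain B]

include ht hψ in
theorem isIntegral_residue (htB : algebraMap R B t ≠ 0)
    (hfield : ∀ b : B, b ≠ 0 → ∃ (b' : B) (j : ℕ), b * b' = algebraMap R B t ^ j) :
    letI : Field (R ⧸ maximalIdeal R) := Ideal.Quotient.field _
    Algebra.IsIntegral (R ⧸ maximalIdeal R) (B ⧸ (maximalIdeal R).map (algebraMap R B)) := by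
  letI : Field (R ⧸ maximalIdeal R) := Ideal.Quotient.field _
  have htm := mem_maximalIdeal_of_isAdicComplete R t
  have hinj : Function.Injective (algebraMap R B) := by
    rw [injective_iff_map_eq_zero]
    intro r hr
    by_contra hr0
    obtain ⟨j, u, hj⟩ := exists_dvd_pow' R t r hr0
    apply htB
    have h1 : algebraMap R B (t ^ j) = 0 := by rw [hj, map_mul, hr, zero_mul]
    rw [map_pow] at h1
    exact eq_zero_of_pow_eq_zero h1
  have hne : (maximalIdeal R).map (algebraMap R B) ≠ ⊤ := by
    intro htop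
    have h1 : (1 : B) ∈ (maximalIdeal R).map (algebraMap R B) := by rw [htop]; trivial
    obtain ⟨π, hπm, hπ⟩ := exists_mem_span_of_mem_map 1 h1
    have hu : IsUnit (algebraMap R B π) := by
      rw [Ideal.mem_span_singleton'] at hπ
      obtain ⟨b, hb⟩ := hπ
      exact IsUnit.of_mul_eq_one _ (by rw [mul_comm]; exact hb)
    obtain ⟨j, hj⟩ := exists_dvd_pow R t ht π hπm
    have hut : IsUnit (algebraMap R B t) := by
      refine isUnit_of_dvd_unit (map_dvd (algebraMap R B) hj) ?_
      rw [map_pow]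
      exact hu.pow j
    have hjac := algebraMap_mem_jacobson R t B n ψ hψ
    obtain ⟨b, hb⟩ := hut.exists_right_inv
    have h2 := (Ideal.mem_jacobson_bot.mp hjac) (-b)
    rw [mul_neg, hb, neg_add_cancel] at h2
    exact not_isUnit_zero h2
  haveI : Nontrivial (B ⧸ (maximalIdeal R).map (algebraMap R B)) :=
    Ideal.Quotient.nontrivial_iff.mpr hne
  obtain ⟨ζ, hζ⟩ : ∃ ζ : Fin n → B, ζ = fun i => ψ (AdicCompletion.of _ (MvPolynomial (Fin n) R)
      (MvPolynomial.X i)) := ⟨_, rfl⟩
  have hdense : ∀ b : B, ∃ (F : MvPolynomial (Fin n) R) (b' : B),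
      b = MvPolynomial.aeval ζ F + algebraMap R B t * b' := by
    rw [hζ]; exact dense R t B n ψ hψ
  have htmB : algebraMap R B t ∈ (maximalIdeal R).map (algebraMap R B) :=
    Ideal.mem_map_of_mem _ htm
  -- finite type
  have hsurj : Function.Surjective
      ((Ideal.Quotient.mkₐ R ((maximalIdeal R).map (algebraMap R B))).comp
        (MvPolynomial.aeval ζ)) := by
    intro x
    obtain ⟨b, rfl⟩ := Ideal.Quotient.mk_surjective x
    obtain ⟨F, b', hb⟩ := hdense b
    refine ⟨F, ?_⟩
    show Ideal.Quotient.mk _ (MvPolynomial.aeval ζ F) = Ideal.Quotient.mk _ b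
    rw [hb, map_add, map_mul, Ideal.Quotient.eq_zero_iff_mem.mpr htmB, zero_mul, add_zero]
  have hft : Algebra.FiniteType R (B ⧸ (maximalIdeal R).map (algebraMap R B)) :=
    Algebra.FiniteType.of_surjective _ hsurj
  have hft' : Algebra.FiniteType (R ⧸ maximalIdeal R)
      (B ⧸ (maximalIdeal R).map (algebraMap R B)) :=
    Algebra.FiniteType.of_restrictScalars_finiteType R _ _
  obtain ⟨d, g, hginj, hgint⟩ := exists_integral_inj_algHom_of_fg (R ⧸ maximalIdeal R)
    (B ⧸ (maximalIdeal R).map (algebraMap R B))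
  choose y hy using fun i : Fin d => Ideal.Quotient.mk_surjective (g (MvPolynomial.X i))
  have hcomp : (Ideal.Quotient.mk ((maximalIdeal R).map (algebraMap R B))).comp
      (MvPolynomial.aeval y : MvPolynomial (Fin d) R →ₐ[R] B).toRingHom =
      g.toRingHom.comp (MvPolynomial.map (Ideal.Quotient.mk (maximalIdeal R))) := by
    apply MvPolynomial.ringHom_ext
    · intro r
      simp only [RingHom.comp_apply, AlgHom.toRingHom_eq_coe, RingHom.coe_coe,
        MvPolynomial.map_C]
      rw [← MvPolynomial.algebraMap_eq, AlgHom.commutes, ← MvPolynomial.algebraMap_eq,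
        AlgHom.commutes]
      rfl
    · intro i
      simp only [RingHom.comp_apply, AlgHom.toRingHom_eq_coe, RingHom.coe_coe,
        MvPolynomial.map_X, MvPolynomial.aeval_X]
      exact hy i
  have hcomp' : ∀ P : MvPolynomial (Fin d) R,
      Ideal.Quotient.mk ((maximalIdeal R).map (algebraMap R B)) (MvPolynomial.aeval y P) =
      g (MvPolynomial.map (Ideal.Quotient.mk (maximalIdeal R)) P) := fun P =>
    congrArg (fun f => f P) hcomp
  have hres : ∀ P : MvPolynomial (Fin d) R,
      MvPolynomial.aeval y P ∈ (maximalIdeal R).map (algebraMap R B) →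
      ∀ ν, P.coeff ν ∈ maximalIdeal R := by
    intro P hP ν
    rw [← Ideal.Quotient.eq_zero_iff_mem, hcomp' P] at hP
    have h3 : MvPolynomial.map (Ideal.Quotient.mk (maximalIdeal R)) P = 0 :=
      (injective_iff_map_eq_zero g).mp hginj _ hP
    have h4 := congrArg (MvPolynomial.coeff ν) h3
    rw [MvPolynomial.coeff_map, MvPolynomial.coeff_zero] at h4
    exact Ideal.Quotient.eq_zero_iff_mem.mp h4
  have hint : ∀ i : Fin n, ∃ G : Polynomial (MvPolynomial (Fin d) R), G.Monic ∧
      Polynomial.eval₂ (MvPolynomial.aeval y : MvPolynomial (Fin d) R →ₐ[R] B).toRingHom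
        (ζ i) G ∈ (maximalIdeal R).map (algebraMap R B) := by
    intro i
    obtain ⟨G₀, hG₀m, hG₀⟩ := hgint (Ideal.Quotient.mk _ (ζ i))
    have hsurjm : Function.Surjective
        (MvPolynomial.map (Ideal.Quotient.mk (maximalIdeal R)) :
          MvPolynomial (Fin d) R →+* MvPolynomial (Fin d) (R ⧸ maximalIdeal R)) :=
      MvPolynomial.map_surjective _ Ideal.Quotient.mk_surjective
    have hl : G₀ ∈ Polynomial.lifts
        (MvPolynomial.map (Ideal.Quotient.mk (maximalIdeal R)) :
          MvPolynomial (Fin d) R →+* MvPolynomial (Fin d) (R ⧸ maximalIdeal R)) := by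
      rw [Polynomial.mem_lifts]
      exact Polynomial.map_surjective _ hsurjm G₀
    obtain ⟨G, hGmap, -, hGm⟩ := Polynomial.lifts_and_natDegree_eq_and_monic hl hG₀m
    refine ⟨G, hGm, ?_⟩
    rw [← Ideal.Quotient.eq_zero_iff_mem, Polynomial.hom_eval₂, hcomp, ← Polynomial.eval₂_map,
      hGmap]
    exact hG₀
  have hd : d = 0 := by
    by_contra hd0
    exact false_of_transcendental t htm ht (exists_dvd_pow R t ht) hinj hfield ζ hdense y hres hint
      ⟨0, Nat.pos_of_ne_zero hd0⟩
  subst hd
  have h5 : (algebraMap (R ⧸ maximalIdeal R) (B ⧸ (maximalIdeal R).map (algebraMap R B))) =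
      g.toRingHom.comp (MvPolynomial.C : (R ⧸ maximalIdeal R) →+* MvPolynomial (Fin 0) _) := by
    ext x
    simp only [RingHom.comp_apply, AlgHom.toRingHom_eq_coe, RingHom.coe_coe]
    rw [← MvPolynomial.algebraMap_eq, AlgHom.commutes]
  have h6 : (algebraMap (R ⧸ maximalIdeal R)
      (B ⧸ (maximalIdeal R).map (algebraMap R B))).IsIntegral := by
    rw [h5]
    exact RingHom.IsIntegral.trans _ _
      (RingHom.isIntegral_of_surjective _ (MvPolynomial.C_surjective (Fin 0))) hgint
  exact ⟨h6⟩

include ht hψ in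
theorem krullDim_eq_one (htB : algebraMap R B t ≠ 0)
    (hfield : ∀ b : B, b ≠ 0 → ∃ (b' : B) (j : ℕ), b * b' = algebraMap R B t ^ j) :
    ringKrullDim B = 1 := by
  letI : Field (R ⧸ maximalIdeal R) := Ideal.Quotient.field _
  haveI hint := isIntegral_residue R t ht B n ψ hψ htB hfield
  have hmax : ∀ P : Ideal B, P ≠ ⊥ → P.IsPrime → P.IsMaximal := by
    intro P hP0 hPp
    obtain ⟨b, hbP, hb0⟩ := Submodule.exists_mem_ne_zero_of_ne_bot hP0
    obtain ⟨b', j, hbj⟩ := hfield b hb0
    have htP : algebraMap R B t ∈ P :=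
      hPp.mem_of_pow_mem j (hbj ▸ P.mul_mem_right _ hbP)
    have hmP : (maximalIdeal R).map (algebraMap R B) ≤ P := by
      rw [Ideal.map_le_iff_le_comap]
      intro r hr
      obtain ⟨j, u, hu⟩ := exists_dvd_pow R t ht r hr
      rw [Ideal.mem_comap]
      apply hPp.mem_of_pow_mem j
      rw [← map_pow, hu, map_mul]
      exact P.mul_mem_right _ htP
    have hker : RingHom.ker (Ideal.Quotient.mk ((maximalIdeal R).map (algebraMap R B))) ≤ P := by
      rwa [Ideal.mk_ker]
    haveI hP₀p : (P.map (Ideal.Quotient.mk ((maximalIdeal R).map (algebraMap R B)))).IsPrime :=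
      Ideal.map_isPrime_of_surjective Ideal.Quotient.mk_surjective hker
    have hcm : ((P.map (Ideal.Quotient.mk ((maximalIdeal R).map (algebraMap R B)))).comap
        (algebraMap (R ⧸ maximalIdeal R) (B ⧸ (maximalIdeal R).map (algebraMap R B)))).IsMaximal := by
      have hpr : ((P.map (Ideal.Quotient.mk ((maximalIdeal R).map (algebraMap R B)))).comap
        (algebraMap (R ⧸ maximalIdeal R)
          (B ⧸ (maximalIdeal R).map (algebraMap R B)))).IsPrime := Ideal.comap_isPrime _ _
      rw [Ideal.eq_bot_of_prime _ (h := hpr)]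
      exact Ideal.bot_isMaximal
    have hP₀m := Ideal.isMaximal_of_isIntegral_of_isMaximal_comap _ hcm
    have hPeq : P = (P.map (Ideal.Quotient.mk ((maximalIdeal R).map (algebraMap R B)))).comap
        (Ideal.Quotient.mk ((maximalIdeal R).map (algebraMap R B))) := by
      rw [Ideal.comap_map_of_surjective _ Ideal.Quotient.mk_surjective, left_eq_sup]
      rw [← RingHom.ker_eq_comap_bot]
      exact hker
    rw [hPeq]
    exact Ideal.comap_isMaximal_of_surjective _ Ideal.Quotient.mk_surjective
  have hle : Ring.KrullDimLE 1 B := Ring.KrullDimLE.mk₁' hmax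
  have hle' : ringKrullDim B ≤ 1 := Ring.krullDimLE_iff.mp hle
  have hge : (1 : WithBot ℕ∞) ≤ ringKrullDim B := by
    rw [ringKrullDim, Order.one_le_krullDim_iff]
    obtain ⟨M, hM⟩ := Ideal.exists_maximal B
    have htM : algebraMap R B t ∈ M := by
      have hjac := algebraMap_mem_jacobson R t B n ψ hψ
      rw [Ideal.jacobson, Ideal.mem_sInf] at hjac
      exact hjac ⟨bot_le, hM⟩
    refine ⟨⟨⊥, Ideal.isPrime_bot⟩, ⟨M, hM.isPrime⟩, ?_⟩
    rw [← PrimeSpectrum.asIdeal_lt_asIdeal]
    show (⊥ : Ideal B) < M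
    rw [bot_lt_iff_ne_bot]
    rintro rfl
    exact htB (by simpa using htM)
  exact le_antisymm hle' hge

end

end Groth.Agent.Lib.Helper4.RigMax2
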