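import Mathlib
import Groth.Prelude.Def_W4bk4boschfrg79
import Groth.Agent.Lib.Helper4.RigMax2

/-!
# Non-open primes of dimension one correspond to maximal ideals of the generic fibre (S11543) (helper4)
-/

set_option backward.isDefEq.respectTransparency.types false
set_option synthInstance.maxHeartbeats 400000
set_option autoImplicit false
set_option linter.unusedSectionVars false
set_option linter.style.haveILetI false
set_option linter.unusedSimpArgs false
universe u v w
open IsLocalRing Groth.Agent.Lib.Helper4.RigMax2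
open scoped TensorProduct

namespace Groth.Agent.Lib.Helper4.RigMax3

noncomputable section

variable (R : Type u) [CommRing R] [IsDomain R] [ValuationRing R] [Ring.KrullDimLE 1 R]
  (t : R) (ht : t ≠ 0) [IsAdicComplete (Ideal.span {t}) R]

include ht in
theorem isLocalization_away_fractionRing : IsLocalization.Away t (FractionRing R) := by
  have h1 : Submonoid.powers t ≤ nonZeroDivisors R :=
    Submonoid.powers_le.mpr (mem_nonZeroDivisors_of_ne_zero ht)
  refine (IsLocalization.iff_of_le_of_exists_dvd (Submonoid.powers t) (nonZeroDivisors R) h1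
    ?_).mpr inferInstance
  intro r hr
  obtain ⟨j, hj⟩ := exists_dvd_pow' R t r (nonZeroDivisors.ne_zero hr)
  exact ⟨t ^ j, ⟨j, rfl⟩, hj⟩

variable (A : Type u) [CommRing A] [Algebra R A]

include ht in
theorem isLocalization_away_tensor :
    IsLocalization.Away (algebraMap R A t) (A ⊗[R] FractionRing R) := by
  haveI := isLocalization_away_fractionRing R t ht
  infer_instance

theorem algebraMap_tensor_eq : (algebraMap A (A ⊗[R] FractionRing R)) =
    (Algebra.TensorProduct.includeLeftRingHom : A →+* A ⊗[R] FractionRing R) := rfl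

variable (S : Type u) [CommRing S] [Algebra A S] [IsLocalization.Away (algebraMap R A t) S]
  (n : ℕ) (φ : AdicRing.RPow R (Ideal.span {t}) n →ₐ[R] A) (hφ : Function.Surjective φ)

include hφ in
theorem mem_of_isMaximal (P : Ideal A) (hP : P.IsMaximal) : algebraMap R A t ∈ P := by
  have hjac := algebraMap_mem_jacobson R t A n φ hφ
  rw [Ideal.jacobson, Ideal.mem_sInf] at hjac
  exact hjac ⟨bot_le, hP⟩

omit [IsDomain R] [ValuationRing R] [Ring.KrullDimLE 1 R] [IsAdicComplete (Ideal.span {t}) R] in
theorem notMem_comap (J : Ideal S) (hJ : J ≠ ⊤) : algebraMap R A t ∉ J.comap (algebraMap A S) := by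
  intro h
  rw [Ideal.mem_comap] at h
  have hu : IsUnit (algebraMap A S (algebraMap R A t)) :=
    IsLocalization.map_units S (⟨algebraMap R A t, Submonoid.mem_powers _⟩ :
      Submonoid.powers (algebraMap R A t))
  exact hJ (Ideal.eq_top_of_isUnit_mem _ h hu)

omit [IsDomain R] [ValuationRing R] [Ring.KrullDimLE 1 R] [IsAdicComplete (Ideal.span {t}) R] in
theorem disjoint_of_notMem (p : Ideal A) (hp : p.IsPrime) (htp : algebraMap R A t ∉ p) :
    Disjoint (Submonoid.powers (algebraMap R A t) : Set A) (p : Set A) := by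
  rw [Set.disjoint_left]
  rintro x ⟨j, rfl⟩ hx
  exact htp (hp.mem_of_pow_mem j hx)

include hφ in
theorem part1 (p : Ideal A) (hp : p.IsPrime) (htp : algebraMap R A t ∉ p)
    (hdim : ringKrullDim (A ⧸ p) = 1) :
    (p.map (algebraMap A S)).IsMaximal ∧ (p.map (algebraMap A S)).comap (algebraMap A S) = p := by
  have hdisj := disjoint_of_notMem R t A p hp htp
  have hcm : (p.map (algebraMap A S)).comap (algebraMap A S) = p :=
    IsLocalization.under_map_of_isPrime_disjoint (Submonoid.powers (algebraMap R A t)) S hp hdisj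
  refine ⟨?_, hcm⟩
  have hpe : (p.map (algebraMap A S)).IsPrime :=
    IsLocalization.isPrime_of_isPrime_disjoint (Submonoid.powers (algebraMap R A t)) S p hp hdisj
  obtain ⟨Mx, hMx, hle⟩ := Ideal.exists_le_maximal _ hpe.ne_top
  have hPp : (Mx.comap (algebraMap A S)).IsPrime := Ideal.comap_isPrime _ _
  have htP : algebraMap R A t ∉ Mx.comap (algebraMap A S) := notMem_comap R t A S Mx hMx.ne_top
  have hpP : p ≤ Mx.comap (algebraMap A S) := by
    rw [← hcm]
    exact Ideal.comap_mono hle
  have hPeq : Mx.comap (algebraMap A S) = p := by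
    by_contra hne
    haveI := hp
    haveI : Ring.KrullDimLE 1 (A ⧸ p) := Ring.krullDimLE_iff.mpr (by rw [hdim]; rfl)
    have hker : RingHom.ker (Ideal.Quotient.mk p) ≤ Mx.comap (algebraMap A S) := by
      rwa [Ideal.mk_ker]
    have hP'p : ((Mx.comap (algebraMap A S)).map (Ideal.Quotient.mk p)).IsPrime :=
      Ideal.map_isPrime_of_surjective Ideal.Quotient.mk_surjective hker
    have hcomap : ((Mx.comap (algebraMap A S)).map (Ideal.Quotient.mk p)).comap
        (Ideal.Quotient.mk p) = Mx.comap (algebraMap A S) := by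
      rw [Ideal.comap_map_of_surjective _ Ideal.Quotient.mk_surjective, sup_eq_left,
        ← RingHom.ker_eq_comap_bot]
      exact hker
    have hP'0 : (Mx.comap (algebraMap A S)).map (Ideal.Quotient.mk p) ≠ ⊥ := by
      intro h0
      apply hne
      rw [← hcomap, h0, ← RingHom.ker_eq_comap_bot, Ideal.mk_ker]
    have hP'm := hP'p.isMaximal_of_ne_bot hP'0
    have hPm : (Mx.comap (algebraMap A S)).IsMaximal := by
      rw [← hcomap]
      exact Ideal.comap_isMaximal_of_surjective _ Ideal.Quotient.mk_surjective
    exact htP (mem_of_isMaximal R t A n φ hφ _ hPm)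
  have hMxeq : Mx = p.map (algebraMap A S) := by
    rw [← hPeq]
    exact (IsLocalization.map_under (Submonoid.powers (algebraMap R A t)) S Mx).symm
  rw [← hMxeq]
  exact hMx

include ht hφ in
theorem part2 (m : Ideal S) (hm : m.IsMaximal) :
    algebraMap R A t ∉ m.comap (algebraMap A S) ∧
      ringKrullDim (A ⧸ m.comap (algebraMap A S)) = 1 ∧
      (m.comap (algebraMap A S)).map (algebraMap A S) = m := by
  have htq := notMem_comap R t A S m hm.ne_top
  refine ⟨htq, ?_, IsLocalization.map_under (Submonoid.powers (algebraMap R A t)) S m⟩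
  haveI hqp : (m.comap (algebraMap A S)).IsPrime := Ideal.comap_isPrime _ _
  obtain ⟨ψ, hψdef⟩ : ∃ ψ : AdicRing.RPow R (Ideal.span {t}) n →ₐ[R] (A ⧸ m.comap (algebraMap A S)),
      ψ = (Ideal.Quotient.mkₐ R (m.comap (algebraMap A S))).comp φ := ⟨_, rfl⟩
  have hψ : Function.Surjective ψ := by
    rw [hψdef]
    exact (Ideal.Quotient.mkₐ_surjective R _).comp hφ
  have htB : algebraMap R (A ⧸ m.comap (algebraMap A S)) t ≠ 0 := by
    intro h
    apply htq
    rw [← Ideal.Quotient.eq_zero_iff_mem]
    exact h
  refine krullDim_eq_one R t ht (A ⧸ m.comap (algebraMap A S)) n ψ hψ htB ?_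
  intro b hb
  obtain ⟨a, rfl⟩ := Ideal.Quotient.mk_surjective b
  have ha : algebraMap A S a ∉ m := by
    intro h
    apply hb
    rw [Ideal.Quotient.eq_zero_iff_mem, Ideal.mem_comap]
    exact h
  obtain ⟨s, i, hi, hsi⟩ := hm.exists_inv ha
  obtain ⟨⟨a', ⟨c, j, hj⟩⟩, hs⟩ := IsLocalization.surj (Submonoid.powers (algebraMap R A t)) s
  simp only at hs hj
  refine ⟨Ideal.Quotient.mk _ a', j, ?_⟩
  have h1 : algebraMap A S (a * a' - algebraMap R A t ^ j) ∈ m := by
    have h2 : algebraMap A S (a * a' - algebraMap R A t ^ j) = - (i * algebraMap A S c) := by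
      rw [map_sub, map_mul, ← hs, hj]
      have : algebraMap A S c = (s * algebraMap A S a + i) * algebraMap A S c := by
        rw [hsi, one_mul]
      rw [← hj] at this ⊢
      linear_combination (-1 : S) * this
    rw [h2]
    exact m.neg_mem (m.mul_mem_right _ hi)
  have h3 : a * a' - algebraMap R A t ^ j ∈ m.comap (algebraMap A S) := h1
  rw [← Ideal.Quotient.eq_zero_iff_mem, map_sub, sub_eq_zero, map_mul, map_pow] at h3
  exact h3

include ht in
theorem main (hA : AdicRing.Admissible R (Ideal.span {t}) A) :
    (∀ p : Ideal A, p.IsPrime → algebraMap R A t ∉ p → ringKrullDim (A ⧸ p) = 1 →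
        (p.map (Algebra.TensorProduct.includeLeftRingHom :
          A →+* A ⊗[R] FractionRing R)).IsMaximal ∧
        (p.map (Algebra.TensorProduct.includeLeftRingHom :
          A →+* A ⊗[R] FractionRing R)).comap (Algebra.TensorProduct.includeLeftRingHom :
          A →+* A ⊗[R] FractionRing R) = p) ∧
      (∀ m : Ideal (A ⊗[R] FractionRing R), m.IsMaximal →
        algebraMap R A t ∉ m.comap (Algebra.TensorProduct.includeLeftRingHom :
            A →+* A ⊗[R] FractionRing R) ∧
          ringKrullDim (A ⧸ m.comap (Algebra.TensorProduct.includeLeftRingHom :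
            A →+* A ⊗[R] FractionRing R)) = 1 ∧
          (m.comap (Algebra.TensorProduct.includeLeftRingHom :
            A →+* A ⊗[R] FractionRing R)).map (Algebra.TensorProduct.includeLeftRingHom :
            A →+* A ⊗[R] FractionRing R) = m) := by
  obtain ⟨⟨n, φ, hφ, -⟩, -⟩ := hA
  haveI := isLocalization_away_tensor R t ht A
  exact ⟨fun p hp htp hdim => part1 R t A (A ⊗[R] FractionRing R) n φ hφ p hp htp hdim,
    fun m hm => part2 R t ht A (A ⊗[R] FractionRing R) n φ hφ m hm⟩

end

end Groth.Agent.Lib.Helper4.RigMax3
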