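import Mathlib
import Groth.Agent.Lib.Helper4.Blanchard2

/-!
# rigidity lemma for product families X x Y -> Y over a field, contraction along a field-valued point (S18368) (helper4)
-/

set_option backward.isDefEq.respectTransparency.types false
set_option synthInstance.maxHeartbeats 400000
set_option autoImplicit false
set_option linter.unusedSectionVars false
set_option linter.style.haveILetI false
set_option linter.unusedSimpArgs false
universe u v w
open CategoryTheory CategoryTheory.Limits AlgebraicGeometry TopologicalSpace Opposite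
open MonoidalCategory CartesianMonoidalCategory MonObj GrpObj
open Groth.Agent.Lib.Helper4.Blanchard1 Groth.Agent.Lib.Helper4.RigidProper1
open Groth.Agent.Lib.Helper4.Blanchard2

namespace Groth.Agent.Lib.Helper4.RigidProd1

/-- rigidity for a product family `V ×_Ω S → S` over a field, `Γ(V, O) = Ω`, contraction along a
field-valued point -/
theorem rigidity_product_gen (Ω : Type u) [Field Ω] {S V Y' : Scheme.{u}}
    [IsLocallyNoetherian S] [ConnectedSpace S]
    (vΩ : V ⟶ Spec (CommRingCat.of Ω)) (pΩ : S ⟶ Spec (CommRingCat.of Ω)) [IsProper vΩ]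
    [IsIso vΩ.appTop] [Nonempty ↥V]
    (gY : Y' ⟶ S) [IsSeparated gY] (π : pullback vΩ pΩ ⟶ Y') (hπ : π ≫ gY = pullback.snd vΩ pΩ)
    (K : Type u) [Field K]
    (e : Spec (CommRingCat.of K) ⟶ S) (c : Spec (CommRingCat.of K) ⟶ Y')
    (hc : pullback.fst (pullback.snd vΩ pΩ) e ≫ π = pullback.snd (pullback.snd vΩ pΩ) e ≫ c) :
    Epi (pullback.snd vΩ pΩ) ∧ ∃ σ : S ⟶ Y', σ ≫ gY = 𝟙 S ∧ π = pullback.snd vΩ pΩ ≫ σ := by
  haveI hsub : Subsingleton ↥(Spec (CommRingCat.of Ω)) :=
    inferInstanceAs (Subsingleton (PrimeSpectrum Ω))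
  haveI hsubK : Subsingleton ↥(Spec (CommRingCat.of K)) :=
    inferInstanceAs (Subsingleton (PrimeSpectrum K))
  have hV : ∀ U : (Spec (CommRingCat.of Ω)).Opens, IsIso (vΩ.app U) :=
    isIso_app_all_of_field Ω V vΩ
  haveI : Surjective vΩ := by
    refine ⟨fun z => ?_⟩
    obtain ⟨v⟩ : Nonempty ↥V := inferInstance
    exact ⟨v, Subsingleton.elim _ _⟩
  haveI : Flat vΩ := inferInstance
  have hall : ∀ (T : Scheme.{u}) (t : T ⟶ S) (U : T.Opens),
      IsIso ((pullback.snd (pullback.snd vΩ pΩ) t).app U) := by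
    intro T t U
    haveI : Flat (t ≫ pΩ) := inferInstance
    have H : IsPullback (pullback.fst (pullback.snd vΩ pΩ) t ≫ pullback.fst vΩ pΩ)
        (pullback.snd (pullback.snd vΩ pΩ) t) vΩ (t ≫ pΩ) :=
      IsPullback.paste_horiz (IsPullback.of_hasPullback (pullback.snd vΩ pΩ) t)
        (IsPullback.of_hasPullback vΩ pΩ)
    exact isIso_app_of_flat_baseChange_all vΩ (t ≫ pΩ) _ _ H hV U
  let pt : ↥(Spec (CommRingCat.of K)) := (⊥ : PrimeSpectrum K)
  refine ⟨epi_self (pullback.snd vΩ pΩ) hall, ?_⟩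
  refine rigidity_proper (pullback.snd vΩ pΩ) hall gY π hπ (e pt) ?_
  intro z₁ z₂ hz₁ hz₂
  obtain ⟨w₁, hw₁, -⟩ := Scheme.Pullback.exists_preimage_pullback
    (f := pullback.snd vΩ pΩ) (g := e) z₁ pt hz₁
  obtain ⟨w₂, hw₂, -⟩ := Scheme.Pullback.exists_preimage_pullback
    (f := pullback.snd vΩ pΩ) (g := e) z₂ pt hz₂
  have k₁ : π z₁ = c pt := by
    rw [← hw₁, ← Scheme.Hom.comp_apply, hc, Scheme.Hom.comp_apply]
    congr 1
    exact Subsingleton.elim _ _
  have k₂ : π z₂ = c pt := by
    rw [← hw₂, ← Scheme.Hom.comp_apply, hc, Scheme.Hom.comp_apply]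
    congr 1
    exact Subsingleton.elim _ _
  rw [k₁, k₂]

open Groth.Agent.Helper7.GeomConn in
/-- global functions of a proper geometrically integral scheme over a field are constants -/
theorem isIso_appTop_of_geomIntegral (k : Type u) [Field k] (X : Scheme.{u})
    (p : X ⟶ Spec (CommRingCat.of k)) [IsProper p] [GeometricallyIntegral p] :
    IsIso p.appTop := by
  haveI : GeometricallyConnected p := by
    refine ⟨fun K _ y Z fst snd h => ?_⟩
    haveI : IrreducibleSpace Z :=
      GeometricallyIrreducible.geometrically_irreducibleSpace (f := p) y fst snd h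
    infer_instance
  letI a1 : Algebra k Γ(X, ⊤) := (toΓ k X p).toAlgebra
  have hfin : Module.Finite k Γ(X, ⊤) := finite_globalSections k X p
  have hs : Function.Surjective (toΓ k X p) := toΓ_surjective_of_geometrically k X p hfin
  haveI : Surjective p := inferInstance
  haveI : Nonempty ↥X := by
    obtain ⟨x, -⟩ := p.surjective (⊥ : PrimeSpectrum k)
    exact ⟨x⟩
  haveI : Nonempty ↥(⊤ : X.Opens) := by
    obtain ⟨x⟩ : Nonempty ↥X := inferInstance
    exact ⟨⟨x, trivial⟩⟩
  haveI : Nontrivial Γ(X, ⊤) := inferInstance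
  have hb' : Function.Bijective (toΓ k X p) := ⟨(toΓ k X p).injective, hs⟩
  have hb'' : Function.Bijective p.appTop.hom := by
    have : (p.appTop.hom : _ → _) =
        (toΓ k X p) ∘ (Scheme.ΓSpecIso (CommRingCat.of k)).hom.hom := by
      funext z
      simp only [toΓ, Function.comp, RingHom.comp_apply]
      congr 1
      exact (congrArg (fun φ => φ.hom z) (Scheme.ΓSpecIso (CommRingCat.of k)).hom_inv_id).symm
    rw [this]
    exact hb'.comp (ConcreteCategory.bijective_of_isIso (Scheme.ΓSpecIso (CommRingCat.of k)).hom)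
  exact (ConcreteCategory.isIso_iff_bijective p.appTop).mpr hb''


/-- **S18368** -/
theorem main_S18368 (k : Type u) [Field k]
    (X Y Z : Over (Spec (CommRingCat.of k)))
    [IsProper X.hom] [GeometricallyIntegral X.hom]
    [LocallyOfFiniteType Y.hom] [QuasiCompact Y.hom] [GeometricallyIntegral Y.hom]
    [IsSeparated Z.hom] (f : X ⊗ Y ⟶ Z)
    (K : Type u) [Field K] [Algebra k K] [IsAlgClosed K]
    (y₀ : (Over.mk (Spec.map (CommRingCat.ofHom (algebraMap k K))) : Over (Spec (CommRingCat.of k))) ⟶ Y)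
    (z₀ : (Over.mk (Spec.map (CommRingCat.ofHom (algebraMap k K))) : Over (Spec (CommRingCat.of k))) ⟶ Z)
    (h : (X ◁ y₀) ≫ f = snd X _ ≫ z₀) :
    ∃! g : Y ⟶ Z, f = snd X Y ≫ g := by
  haveI : Subsingleton ↥(Spec (CommRingCat.of k)) := inferInstanceAs (Subsingleton (PrimeSpectrum k))
  haveI : IsLocallyNoetherian Y.left := LocallyOfFiniteType.isLocallyNoetherian Y.hom
  haveI : GeometricallyConnected Y.hom := by
    refine ⟨fun K _ y Z fst snd h => ?_⟩
    haveI : IrreducibleSpace Z :=
      GeometricallyIrreducible.geometrically_irreducibleSpace (f := Y.hom) y fst snd h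
    infer_instance
  haveI : ConnectedSpace ↥Y.left :=
    GeometricallyConnected.connectedSpace_of_subsingleton (f := Y.hom)
  haveI : IsIso X.hom.appTop := isIso_appTop_of_geomIntegral k X.left X.hom
  haveI : Surjective X.hom := inferInstance
  haveI : Nonempty ↥X.left := by
    obtain ⟨x, -⟩ := X.hom.surjective (⊥ : PrimeSpectrum k)
    exact ⟨x⟩
  let T : Over (Spec (CommRingCat.of k)) := Over.mk (Spec.map (CommRingCat.ofHom (algebraMap k K)))
  have hsq := Groth.Agent.Lib.Helper4.ContentRep2.isPullback_whiskerLeft X Y y₀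
  -- the map `π : X × Y → Y × Z`
  have hπ0 : (snd X Y).left ≫ Y.hom = f.left ≫ Z.hom := by
    rw [Over.w (snd X Y), Over.w f]
  let π : (X ⊗ Y).left ⟶ pullback Y.hom Z.hom := pullback.lift (snd X Y).left f.left hπ0
  have hπ₁ : π ≫ pullback.fst Y.hom Z.hom = pullback.snd X.hom Y.hom := pullback.lift_fst _ _ _
  have hπ₂ : π ≫ pullback.snd Y.hom Z.hom = f.left := pullback.lift_snd _ _ _
  have hc0 : y₀.left ≫ Y.hom = z₀.left ≫ Z.hom := by rw [Over.w y₀, Over.w z₀]
  let c : Spec (CommRingCat.of K) ⟶ pullback Y.hom Z.hom := pullback.lift y₀.left z₀.left hc0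
  have hc₁ : c ≫ pullback.fst Y.hom Z.hom = y₀.left := pullback.lift_fst _ _ _
  have hc₂ : c ≫ pullback.snd Y.hom Z.hom = z₀.left := pullback.lift_snd _ _ _
  have hE : pullback.fst (pullback.snd X.hom Y.hom) y₀.left ≫ pullback.snd X.hom Y.hom =
      pullback.snd (pullback.snd X.hom Y.hom) y₀.left ≫ y₀.left := pullback.condition
  have hc : pullback.fst (pullback.snd X.hom Y.hom) y₀.left ≫ π =
      pullback.snd (pullback.snd X.hom Y.hom) y₀.left ≫ c := by
    refine pullback.hom_ext ?_ ?_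
    · rw [Category.assoc, hπ₁, Category.assoc, hc₁, hE]
    · rw [Category.assoc, hπ₂, Category.assoc, hc₂]
      let j : pullback (pullback.snd X.hom Y.hom) y₀.left ⟶ (X ⊗ T).left :=
        hsq.lift (pullback.fst (pullback.snd X.hom Y.hom) y₀.left)
          (pullback.snd (pullback.snd X.hom Y.hom) y₀.left) hE
      have hj₁ : j ≫ (X ◁ y₀).left = pullback.fst (pullback.snd X.hom Y.hom) y₀.left :=
        hsq.lift_fst _ _ _
      have hj₂ : j ≫ (snd X T).left = pullback.snd (pullback.snd X.hom Y.hom) y₀.left :=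
        hsq.lift_snd _ _ _
      have h' : (X ◁ y₀).left ≫ f.left = (snd X T).left ≫ z₀.left :=
        congrArg (fun t => t.left) h
      rw [← hj₁, Category.assoc, h', ← Category.assoc, hj₂]
  obtain ⟨hepi, σ, hσ₁, hσ₂⟩ := rigidity_product_gen k X.hom Y.hom
    (pullback.fst Y.hom Z.hom) π hπ₁ K y₀.left c hc
  have hgw : (σ ≫ pullback.snd Y.hom Z.hom) ≫ Z.hom = Y.hom := by
    rw [Category.assoc, ← pullback.condition, ← Category.assoc, hσ₁, Category.id_comp]
  let g : Y ⟶ Z := Over.homMk (σ ≫ pullback.snd Y.hom Z.hom) hgw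
  haveI : Epi (snd X Y).left := hepi
  haveI : Epi (snd X Y) := Over.epi_of_epi_left _
  refine ⟨g, ?_, ?_⟩
  · apply Over.OverMorphism.ext
    change f.left = pullback.snd X.hom Y.hom ≫ σ ≫ pullback.snd Y.hom Z.hom
    rw [← Category.assoc, ← hσ₂, hπ₂]
  · intro g' hg'
    have hfg : f = snd X Y ≫ g := by
      apply Over.OverMorphism.ext
      change f.left = pullback.snd X.hom Y.hom ≫ σ ≫ pullback.snd Y.hom Z.hom
      rw [← Category.assoc, ← hσ₂, hπ₂]
    rw [← cancel_epi (snd X Y), ← hg', ← hfg]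

end Groth.Agent.Lib.Helper4.RigidProd1
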