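import Mathlib
import Groth.Agent.Lib.Helper7.RootD.Faithful
import Groth.Agent.Lib.Helper7.RootD.Trans

/-! Root data over `ℤ`: dominance orders on `Hom(M, Γ)` (uses helper7 RootD library). -/
set_option autoImplicit false
set_option linter.unusedSectionVars false

namespace Groth.Agent.Helper4.RootDom

open RootPairing RootD Set Function Groth.Agent.Helper7.RD

variable {ι M N : Type*} [AddCommGroup M] [AddCommGroup N] {P : RootPairing ι ℤ M N}
  {Γ : Type*} [AddCommGroup Γ] [LinearOrder Γ] [IsOrderedAddMonoid Γ] {Δ : Set ι}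

/-- The sum of the positive roots pairs strictly positively with each positive coroot. -/
lemma two_rho_pos [Fintype ι] {S : Set ι} [DecidablePred (· ∈ S)] (hS : IsPosSys P S) {i : ι}
    (hi : i ∈ S) :
    0 < P.coroot' i (∑ k ∈ Finset.univ.filter (· ∈ S), P.root k) := by
  classical
  rw [map_sum]
  simp only [root_coroot'_eq_pairing]
  set σ := P.reflectionPerm i with hσ
  have hσσ : ∀ k, σ (σ k) = k := fun k => P.reflectionPerm_self i k
  have hpσ : ∀ k, P.pairing (σ k) i = - P.pairing k i := by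
    intro k
    rw [← P.pairing_reflectionPerm i k i, P.pairing_reflectionPerm_self_right]
  rw [← Finset.sum_filter_add_sum_filter_not (Finset.univ.filter (· ∈ S)) (fun k => σ k ∈ S)]
  have hT : ∑ k ∈ (Finset.univ.filter (· ∈ S)).filter (fun k => σ k ∈ S), P.pairing k i = 0 := by
    have h1 : ∑ k ∈ (Finset.univ.filter (· ∈ S)).filter (fun k => σ k ∈ S), P.pairing k i =
        ∑ k ∈ (Finset.univ.filter (· ∈ S)).filter (fun k => σ k ∈ S), P.pairing (σ k) i := by
      refine (Finset.sum_equiv σ ?_ ?_).symm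
      · intro k
        simp only [Finset.mem_filter, Finset.mem_univ, true_and, hσσ]
        tauto
      · intro k _; rfl
    simp only [hpσ, Finset.sum_neg_distrib] at h1
    omega
  rw [hT, zero_add]
  apply Finset.sum_pos
  · intro k hk
    simp only [Finset.mem_filter, Finset.mem_univ, true_and] at hk
    by_contra hle
    push Not at hle
    apply hk.2
    apply hS.sat 1 one_pos
    rw [one_smul, hσ, P.root_reflectionPerm, P.reflection_apply_root]
    have h2 : P.root k - P.pairing k i • P.root i = P.root k + (-P.pairing k i).toNat • P.root i := by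
      rw [sub_eq_add_neg, ← neg_smul, ← natCast_zsmul, Int.toNat_of_nonneg (by omega)]
    rw [h2]
    exact (natSpan P S).add_mem (root_mem_natSpan P hk.1)
      ((natSpan P S).nsmul_mem (root_mem_natSpan P hi) _)
  · refine ⟨i, ?_⟩
    simp only [Finset.mem_filter, Finset.mem_univ, true_and]
    exact ⟨hi, hS.disjoint hi⟩


/-- `f` dominant: `f - f ∘ w` is a non-negative combination of simple coroots. -/
lemma exists_coeff [Fintype ι] (hΔ : IsSimpleSys P Δ) (f : M →+ Γ)
    (hdom : ∀ i ∈ posOf P Δ, 0 ≤ f (P.root i)) :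
    ∀ (n : ℕ) (l : List ι), l.length = n → (∀ a ∈ l, a ∈ Δ) →
      ∃ c : ι → Γ, (∀ i, 0 ≤ c i) ∧ (∀ i, i ∉ Δ → c i = 0) ∧
        ∀ m : M, f m - f (wprod P l • m) = ∑ i, (P.coroot' i m) • c i := by
  classical
  intro n
  induction n using Nat.strong_induction_on with
  | _ n ih =>
    intro l hlen hl
    rcases List.eq_nil_or_concat' l with rfl | ⟨l', a, rfl⟩
    · exact ⟨0, fun _ => le_rfl, fun _ _ => rfl, fun m => by simp⟩
    · have ha : a ∈ Δ := hl a (by simp)
      have hl' : ∀ b ∈ l', b ∈ Δ := fun b hb => hl b (by simp [hb])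
      have hw : wprod P (l' ++ [a]) = wprod P l' * Equiv.reflection P a := by
        rw [wprod_append, wprod_singleton]
      have hlen' : l'.length + 1 = n := by simpa using hlen
      rcases mem_posOf_or_neg hΔ (wprod P l' • a) with hpos | hneg
      · obtain ⟨c, hc0, hcΔ, hc⟩ := ih l'.length (by omega) l' rfl hl'
        refine ⟨c + Pi.single a (f (wprod P l' • P.root a)), ?_, ?_, ?_⟩
        · intro i
          simp only [Pi.add_apply]
          refine add_nonneg (hc0 i) ?_
          by_cases h : i = a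
          · subst h
            rw [Pi.single_eq_same, ← root_smul]
            exact hdom _ hpos
          · rw [Pi.single_eq_of_ne h]
        · intro i hi
          have : i ≠ a := fun h => hi (h ▸ ha)
          simp [hcΔ i hi, Pi.single_eq_of_ne this]
        · intro m
          rw [hw, mul_smul, Equiv.reflection_smul, P.reflection_apply, smul_sub, map_sub,
            smul_zsmul, map_zsmul]
          simp only [Pi.add_apply, smul_add, Finset.sum_add_distrib]
          rw [← hc m, Finset.sum_eq_single a]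
          · rw [Pi.single_eq_same]; abel
          · intro b _ hb
            rw [Pi.single_eq_of_ne hb, smul_zero]
          · intro h; exact absurd (Finset.mem_univ _) h
      · obtain ⟨l'', hl'', hlen'', hw''⟩ := exists_shorter hΔ l' hl' ha hneg
        obtain ⟨c, hc0, hcΔ, hc⟩ := ih l''.length (by omega) l'' rfl hl''
        refine ⟨c, hc0, hcΔ, fun m => ?_⟩
        rw [hw, hw'', mul_assoc, reflection_mul_self, mul_one]
        exact hc m


theorem main19156 [Fintype ι] (P : RootPairing ι ℤ M N) (S : Set ι) (hS : RootD.IsPosSys P S)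
    (f : M →+ Γ) :
    ((∀ i ∈ S, 0 ≤ f (P.root i)) ↔
      ∀ g : P.Aut, g ∈ P.weylGroup → ∃ c : ι → Γ, (∀ i, 0 ≤ c i) ∧ (∀ i, i ∉ S → c i = 0) ∧
        ∀ m : M, f m - f (RootPairing.Equiv.weightHom P g m) = ∑ i, (P.coroot' i m) • c i) ∧
    ((∀ i ∈ S, 0 ≤ f (P.root i)) ↔
      ∀ g : P.Aut, g ∈ P.weylGroup → ∀ m : M, (∀ i ∈ S, 0 ≤ P.coroot' i m) →
        f (RootPairing.Equiv.weightHom P g m) ≤ f m) := by
  classical
  obtain ⟨Δ, hΔ, hSΔ⟩ := exists_eq_posOf hS
  have h1 : (∀ i ∈ S, 0 ≤ f (P.root i)) → ∀ g : P.Aut, g ∈ P.weylGroup →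
      ∃ c : ι → Γ, (∀ i, 0 ≤ c i) ∧ (∀ i, i ∉ S → c i = 0) ∧
        ∀ m : M, f m - f (RootPairing.Equiv.weightHom P g m) = ∑ i, (P.coroot' i m) • c i := by
    intro hdom g hg
    rw [← WΔ_eq_weylGroup hΔ] at hg
    obtain ⟨l, hl, rfl⟩ := exists_wprod_eq hg
    obtain ⟨c, hc0, hcΔ, hc⟩ := exists_coeff hΔ f (hSΔ ▸ hdom) _ l rfl hl
    exact ⟨c, hc0, fun i hi => hcΔ i (fun h => hi (hSΔ ▸ subset_posOf hΔ h)), hc⟩
  have h2 : (∀ g : P.Aut, g ∈ P.weylGroup →
      ∃ c : ι → Γ, (∀ i, 0 ≤ c i) ∧ (∀ i, i ∉ S → c i = 0) ∧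
        ∀ m : M, f m - f (RootPairing.Equiv.weightHom P g m) = ∑ i, (P.coroot' i m) • c i) →
      ∀ g : P.Aut, g ∈ P.weylGroup → ∀ m : M, (∀ i ∈ S, 0 ≤ P.coroot' i m) →
        f (RootPairing.Equiv.weightHom P g m) ≤ f m := by
    intro H g hg m hm
    obtain ⟨c, hc0, hcS, hc⟩ := H g hg
    rw [← sub_nonneg, hc m]
    refine Finset.sum_nonneg fun i _ => ?_
    by_cases hi : i ∈ S
    · exact zsmul_nonneg (hc0 i) (hm i hi)
    · rw [hcS i hi, smul_zero]
  have h3 : (∀ g : P.Aut, g ∈ P.weylGroup → ∀ m : M, (∀ i ∈ S, 0 ≤ P.coroot' i m) →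
        f (RootPairing.Equiv.weightHom P g m) ≤ f m) → ∀ i ∈ S, 0 ≤ f (P.root i) := by
    intro H a ha
    have hρ : ∀ i ∈ S, 0 < P.coroot' i (∑ k ∈ Finset.univ.filter (· ∈ S), P.root k) :=
      fun i hi => two_rho_pos hS hi
    have h4 := H (Equiv.reflection P a) (P.reflection_mem_weylGroup a) _
      (fun i hi => (hρ i hi).le)
    change f (P.reflection a _) ≤ f _ at h4
    rw [P.reflection_apply, map_sub, map_zsmul, sub_le_self_iff] at h4
    by_contra hneg
    push Not at hneg
    have h5 : 0 < (P.coroot' a (∑ k ∈ Finset.univ.filter (· ∈ S), P.root k)) • (-(f (P.root a))) :=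
      zsmul_pos (neg_pos.2 hneg) (hρ a ha)
    rw [smul_neg, neg_pos] at h5
    exact absurd h5 (not_lt.2 h4)
  exact ⟨⟨h1, fun H => h3 (h2 H)⟩, ⟨fun hdom => h2 (h1 hdom), h3⟩⟩

end Groth.Agent.Helper4.RootDom
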