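import Mathlib
import Groth.Agent.Lib.Helper4.RootDom
import Groth.Agent.Lib.Helper7.RootD.Form
set_option autoImplicit false
set_option linter.unusedSectionVars false

namespace Groth.Agent.Helper4.RootDom

open RootPairing RootD Set Function Groth.Agent.Helper7.RD

variable {ι M N : Type*} [AddCommGroup M] [AddCommGroup N] {P : RootPairing ι ℤ M N}
  {Γ : Type*} [AddCommGroup Γ] [LinearOrder Γ] [IsOrderedAddMonoid Γ] {Δ : Set ι}

lemma rootForm_mul_coroot' [Fintype ι] (i : ι) (x : M) :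
    P.RootForm (P.root i) (P.root i) * P.coroot' i x = 2 * P.RootForm (P.root i) x := by
  have := congrArg (P.toLinearMap x) (P.rootForm_self_smul_coroot i)
  rw [map_smul, map_nsmul, P.toLinearMap_apply_apply_Polarization] at this
  simpa using this

/-- every Weyl orbit in `M` contains a dominant element -/
lemma exists_dominant_weight [Finite ι] {S : Set ι} (hS : IsPosSys P S) (m : M) :
    ∃ g : P.Aut, g ∈ P.weylGroup ∧ ∀ i ∈ S, 0 ≤ P.coroot' i (g • m) := by
  have _i : Fintype ι := Fintype.ofFinite ι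
  let P' : Set ι := {i | 0 ≤ P.coroot' i m}
  have hP2 : ∀ i, i ∈ P' ∨ P.reflectionPerm i i ∈ P' := by
    intro i
    rcases le_total 0 (P.coroot' i m) with h | h
    · left; exact h
    · right
      show 0 ≤ P.coroot' (P.reflectionPerm i i) m
      have : P.coroot' (P.reflectionPerm i i) m = - P.coroot' i m := by
        show P.toLinearMap m (P.coroot (neg P i)) = - P.toLinearMap m (P.coroot i)
        rw [coroot_neg, map_neg]
      rw [this]; exact neg_nonneg.2 h
  have hcl : IsClosedSub P P' := by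
    intro i j k hi hj hk
    show 0 ≤ P.coroot' k m
    have h1 := rootForm_mul_coroot' (P := P) k m
    have h2 := rootForm_mul_coroot' (P := P) i m
    have h3 := rootForm_mul_coroot' (P := P) j m
    have h4 : P.RootForm (P.root k) m = P.RootForm (P.root i) m + P.RootForm (P.root j) m := by
      rw [hk, map_add, LinearMap.add_apply]
    rw [h4, mul_add, ← h2, ← h3] at h1
    have hk0 := rootForm_root_pos P k
    have hi0 := rootForm_root_pos P i
    have hj0 := rootForm_root_pos P j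
    have hi' : 0 ≤ P.coroot' i m := hi
    have hj' : 0 ≤ P.coroot' j m := hj
    by_contra hneg
    push Not at hneg
    nlinarith [mul_nonneg hi0.le hi', mul_nonneg hj0.le hj', mul_neg_of_pos_of_neg hk0 hneg]
  obtain ⟨g, hg, hsub⟩ := exists_smul_subset hS hP2 hcl
  refine ⟨g⁻¹, inv_mem hg, fun i hi => ?_⟩
  have h1 : g • i ∈ P' := hsub ⟨i, hi, rfl⟩
  have h2 : 0 ≤ P.toLinearMap m (P.coroot (g • i)) := h1
  have h3 := toLinearMap_smul_coroot_smul g (g⁻¹ • m) i
  rw [smul_inv_smul] at h3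
  rw [h3] at h2
  exact h2


theorem main19161 [Finite ι] (P : RootPairing ι ℤ M N) (S : Set ι) (hS : RootD.IsPosSys P S)
    (f₁ f₂ : M →+ Γ)
    (hf₁ : ∀ i ∈ S, 0 ≤ f₁ (P.root i)) (hf₂ : ∀ i ∈ S, 0 ≤ f₂ (P.root i)) :
    (∀ m : M, (∀ i ∈ S, 0 ≤ P.coroot' i m) → f₁ m ≤ f₂ m) ↔
    ∀ (X : Finset M) (hX : X.Nonempty), (∀ g : P.Aut, g ∈ P.weylGroup → ∀ m ∈ X,
        RootPairing.Equiv.weightHom P g m ∈ X) →
      X.sup' hX f₁ ≤ X.sup' hX f₂ := by
  classical
  have _i : Fintype ι := Fintype.ofFinite ι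
  have hw₁ := ((main19156 P S hS f₁).2.1 hf₁)
  have hw₂ := ((main19156 P S hS f₂).2.1 hf₂)
  constructor
  · intro H X hX hstab
    obtain ⟨x₁, hx₁, hsup⟩ := Finset.exists_mem_eq_sup' hX f₁
    obtain ⟨g, hg, hdom⟩ := exists_dominant_weight hS x₁
    have hm : g • x₁ ∈ X := hstab g hg x₁ hx₁
    rw [hsup]
    have h1 : f₁ x₁ ≤ f₁ (g • x₁) := by
      have := hw₁ g⁻¹ (inv_mem hg) (g • x₁) hdom
      change f₁ (g⁻¹ • g • x₁) ≤ _ at this
      rwa [inv_smul_smul] at this
    exact h1.trans ((H _ hdom).trans (Finset.le_sup' f₂ hm))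
  · intro H m hm
    have hfin : Finite P.weylGroup := Finite.of_injective _ (weylGroupToPerm_injective P)
    have hfinX : (Set.range fun g : P.weylGroup => (g : P.Aut) • m).Finite := Set.finite_range _
    have hmX : m ∈ hfinX.toFinset := by
      rw [Set.Finite.mem_toFinset]; exact ⟨1, one_smul _ _⟩
    have hstab : ∀ g : P.Aut, g ∈ P.weylGroup → ∀ x ∈ hfinX.toFinset,
        RootPairing.Equiv.weightHom P g x ∈ hfinX.toFinset := by
      intro g hg x hx
      rw [Set.Finite.mem_toFinset] at hx ⊢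
      obtain ⟨h, rfl⟩ := hx
      refine ⟨⟨g * (h : P.Aut), mul_mem hg h.2⟩, ?_⟩
      show (g * (h : P.Aut)) • m = g • ((h : P.Aut) • m)
      exact mul_smul g (h : P.Aut) m
    have h0 := H hfinX.toFinset ⟨m, hmX⟩ hstab
    have e₁ : hfinX.toFinset.sup' ⟨m, hmX⟩ f₁ = f₁ m := by
      apply le_antisymm
      · apply Finset.sup'_le
        intro x hx
        rw [Set.Finite.mem_toFinset] at hx
        obtain ⟨h, rfl⟩ := hx
        exact hw₁ h h.2 m hm
      · exact Finset.le_sup' f₁ hmX
    have e₂ : hfinX.toFinset.sup' ⟨m, hmX⟩ f₂ = f₂ m := by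
      apply le_antisymm
      · apply Finset.sup'_le
        intro x hx
        rw [Set.Finite.mem_toFinset] at hx
        obtain ⟨h, rfl⟩ := hx
        exact hw₂ h h.2 m hm
      · exact Finset.le_sup' f₂ hmX
    rw [e₁, e₂] at h0
    exact h0

end Groth.Agent.Helper4.RootDom
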