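import Mathlib

/-!
# SL_n is etale-locally in the commutator subgroup of GL_n (Gaussian elimination with etale localisation) (helper4)
-/

set_option backward.isDefEq.respectTransparency.types false
set_option synthInstance.maxHeartbeats 400000
set_option autoImplicit false
set_option linter.unusedSectionVars false
set_option linter.style.haveILetI false
set_option linter.unusedSimpArgs false
universe u v w
open Matrix
open scoped commutatorElement

namespace Groth.Agent.Lib.Helper4.SLComm1

section E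
variable {ι κ : Type*} [DecidableEq ι] [Fintype ι] [DecidableEq κ] [Fintype κ]
variable {R S : Type*} [CommRing R] [CommRing S]

/-- submonoid of matrices generated by transvections -/
def E (ι : Type*) [DecidableEq ι] [Fintype ι] (R : Type*) [CommRing R] : Submonoid (Matrix ι ι R) :=
  Submonoid.closure {M | ∃ (i j : ι) (_ : i ≠ j) (c : R), M = transvection i j c}

lemma transvection_mem_E {i j : ι} (h : i ≠ j) (c : R) : transvection i j c ∈ E ι R :=
  Submonoid.subset_closure ⟨i, j, h, c, rfl⟩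

lemma det_eq_one_of_mem_E {M : Matrix ι ι R} (h : M ∈ E ι R) : M.det = 1 := by
  induction h using Submonoid.closure_induction with
  | mem x hx => obtain ⟨i, j, hij, c, rfl⟩ := hx; exact det_transvection_of_ne i j hij c
  | one => simp
  | mul x y _ _ hx hy => rw [det_mul, hx, hy, one_mul]

lemma exists_inv_of_mem_E {M : Matrix ι ι R} (h : M ∈ E ι R) :
    ∃ N ∈ E ι R, M * N = 1 ∧ N * M = 1 := by
  induction h using Submonoid.closure_induction with
  | mem x hx =>
    obtain ⟨i, j, hij, c, rfl⟩ := hx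
    refine ⟨transvection i j (-c), transvection_mem_E hij _, ?_, ?_⟩
    · rw [transvection_mul_transvection_same i j hij, add_neg_cancel, transvection_zero]
    · rw [transvection_mul_transvection_same i j hij, neg_add_cancel, transvection_zero]
  | one => exact ⟨1, Submonoid.one_mem _, by simp, by simp⟩
  | mul x y _ _ hx hy =>
    obtain ⟨x', hx', h1, h2⟩ := hx
    obtain ⟨y', hy', h3, h4⟩ := hy
    refine ⟨y' * x', Submonoid.mul_mem _ hy' hx', ?_, ?_⟩
    · calc x * y * (y' * x') = x * (y * y') * x' := by simp only [Matrix.mul_assoc]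
        _ = 1 := by rw [h3, Matrix.mul_one, h1]
    · calc y' * x' * (x * y) = y' * (x' * x) * y := by simp only [Matrix.mul_assoc]
        _ = 1 := by rw [h2, Matrix.mul_one, h4]

lemma transvection_map (φ : R →+* S) (i j : ι) (c : R) :
    (transvection i j c).map φ = transvection i j (φ c) := by
  ext a b
  simp only [transvection, map_apply, Matrix.add_apply, one_apply, single_apply, map_add]
  split_ifs <;> simp

lemma map_mem_E (φ : R →+* S) {M : Matrix ι ι R} (h : M ∈ E ι R) : M.map φ ∈ E ι S := by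
  induction h using Submonoid.closure_induction with
  | mem x hx =>
    obtain ⟨i, j, hij, c, rfl⟩ := hx
    rw [transvection_map]; exact transvection_mem_E hij _
  | one => rw [Matrix.map_one _ (map_zero φ) (map_one φ)]; exact Submonoid.one_mem _
  | mul x y _ _ hx hy => rw [Matrix.map_mul]; exact Submonoid.mul_mem _ hx hy

lemma transvection_reindex (e : ι ≃ κ) (i j : ι) (c : R) :
    reindex e e (transvection i j c) = transvection (e i) (e j) c := by
  ext a b
  simp only [transvection, reindex_apply, submatrix_apply, Matrix.add_apply, one_apply,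
    single_apply]
  simp only [Equiv.symm_apply_eq, Equiv.eq_symm_apply, Equiv.symm_apply_apply]
  congr 2
  simp [Equiv.symm_apply_eq, eq_comm]

lemma reindex_mem_E (e : ι ≃ κ) {M : Matrix ι ι R} (h : M ∈ E ι R) :
    reindex e e M ∈ E κ R := by
  induction h using Submonoid.closure_induction with
  | mem x hx =>
    obtain ⟨i, j, hij, c, rfl⟩ := hx
    rw [transvection_reindex]; exact transvection_mem_E (e.injective.ne hij) _
  | one => simp only [reindex_apply, submatrix_one_equiv]; exact Submonoid.one_mem _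
  | mul x y _ _ hx hy =>
    have : reindex e e (x * y) = reindex e e x * reindex e e y := by
      simp only [reindex_apply]; rw [submatrix_mul_equiv]
    rw [this]; exact Submonoid.mul_mem _ hx hy

lemma transvection_fromBlocks (i j : ι) (c : R) :
    fromBlocks (transvection i j c) 0 0 (1 : Matrix Unit Unit R) =
      transvection (Sum.inl i) (Sum.inl j) c := by
  ext (a | a) (b | b) <;>
    simp [transvection, Matrix.add_apply, one_apply, single_apply, fromBlocks]

lemma fromBlocks_mem_E {M : Matrix ι ι R} (h : M ∈ E ι R) :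
    fromBlocks M 0 0 (1 : Matrix Unit Unit R) ∈ E (ι ⊕ Unit) R := by
  induction h using Submonoid.closure_induction with
  | mem x hx =>
    obtain ⟨i, j, hij, c, rfl⟩ := hx
    rw [transvection_fromBlocks]
    exact transvection_mem_E (fun h => hij (Sum.inl_injective h)) _
  | one => rw [fromBlocks_one]; exact Submonoid.one_mem _
  | mul x y _ _ hx hy =>
    have : fromBlocks (x * y) 0 0 (1 : Matrix Unit Unit R) =
        fromBlocks x 0 0 1 * fromBlocks y 0 0 1 := by
      rw [fromBlocks_multiply]; simp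
    rw [this]; exact Submonoid.mul_mem _ hx hy

/-- upper unipotent block matrix -/
def Up (b : ι → R) : Matrix (ι ⊕ Unit) (ι ⊕ Unit) R :=
  fromBlocks 1 (Matrix.of fun i _ => b i) 0 1

/-- lower unipotent block matrix -/
def Lo (c : ι → R) : Matrix (ι ⊕ Unit) (ι ⊕ Unit) R :=
  fromBlocks 1 0 (Matrix.of fun _ i => c i) 1

lemma Up_add (b b' : ι → R) : Up (b + b') = Up b * Up b' := by
  simp only [Up, fromBlocks_multiply]
  congr 1 <;> simp
  ext i k; simp [add_comm]

lemma Lo_add (c c' : ι → R) : Lo (c + c') = Lo c * Lo c' := by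
  simp only [Lo, fromBlocks_multiply]
  congr 1 <;> simp
  ext i k; simp [add_comm]

lemma Up_zero : Up (0 : ι → R) = 1 := by
  simp only [Up]
  rw [← fromBlocks_one]
  congr 1

lemma Lo_zero : Lo (0 : ι → R) = 1 := by
  simp only [Lo]
  rw [← fromBlocks_one]
  congr 1

lemma Up_single (i : ι) (a : R) : Up (Pi.single i a) = transvection (Sum.inl i) (Sum.inr ()) a := by
  ext (x | x) (y | y) <;>
    simp [Up, transvection, Matrix.add_apply, one_apply, single_apply, fromBlocks, Pi.single_apply,
      eq_comm]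

lemma Lo_single (i : ι) (a : R) : Lo (Pi.single i a) = transvection (Sum.inr ()) (Sum.inl i) a := by
  ext (x | x) (y | y) <;>
    simp [Lo, transvection, Matrix.add_apply, one_apply, single_apply, fromBlocks, Pi.single_apply,
      eq_comm]

lemma Up_mem_E (b : ι → R) : Up b ∈ E (ι ⊕ Unit) R := by
  rw [← Finset.univ_sum_single b]
  refine Finset.sum_induction _ (fun b => Up b ∈ E (ι ⊕ Unit) R) ?_ ?_ ?_
  · intro b b' h h'; rw [Up_add]; exact Submonoid.mul_mem _ h h'
  · rw [Up_zero]; exact Submonoid.one_mem _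
  · intro i _; rw [Up_single]; exact transvection_mem_E (by simp) _

lemma Lo_mem_E (c : ι → R) : Lo c ∈ E (ι ⊕ Unit) R := by
  rw [← Finset.univ_sum_single c]
  refine Finset.sum_induction _ (fun b => Lo b ∈ E (ι ⊕ Unit) R) ?_ ?_ ?_
  · intro b b' h h'; rw [Lo_add]; exact Submonoid.mul_mem _ h h'
  · rw [Lo_zero]; exact Submonoid.one_mem _
  · intro i _; rw [Lo_single]; exact transvection_mem_E (by simp) _

/-- block decomposition when the lower right entry is `1` -/
lemma block_decomp (M : Matrix (ι ⊕ Unit) (ι ⊕ Unit) R) (h : M (Sum.inr ()) (Sum.inr ()) = 1) :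
    M = Up (fun i => M (Sum.inl i) (Sum.inr ())) *
      fromBlocks (M.toBlocks₁₁ - M.toBlocks₁₂ * M.toBlocks₂₁) 0 0 1 *
      Lo (fun i => M (Sum.inr ()) (Sum.inl i)) := by
  conv_lhs => rw [← fromBlocks_toBlocks M]
  simp only [Up, Lo, fromBlocks_multiply]
  congr 1
  · simp
    ext i k; simp [toBlocks₁₂, toBlocks₂₁, Matrix.mul_apply]
  · ext i k; simp [toBlocks₁₂]
  · ext i k; simp [toBlocks₂₁]
  · ext i k; simp [toBlocks₂₂, h]

end E

section Pivot
variable {R : Type*} [CommRing R]

lemma pivot (n : ℕ) (M : Matrix (Fin (n + 1)) (Fin (n + 1)) R) (hdet : M.det = 1)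
    (j₀ : Fin (n + 1)) (hu : IsUnit (M (Fin.last n) j₀)) :
    ∃ N ∈ E (Fin (n + 1)) R, (M * N) (Fin.last n) (Fin.last n) = 1 := by
  obtain ⟨v, hv⟩ := hu
  by_cases hj : j₀ = Fin.last n
  · subst hj
    rcases Nat.eq_zero_or_pos n with hn | hn
    · subst hn
      refine ⟨1, Submonoid.one_mem _, ?_⟩
      rw [Matrix.mul_one]
      rw [Matrix.det_fin_one] at hdet
      exact hdet
    · have hne : (Fin.last n) ≠ (0 : Fin (n + 1)) := by
        intro h
        have := congrArg Fin.val h
        simp at this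
        omega
      refine ⟨transvection (Fin.last n) 0 ((1 - M (Fin.last n) 0) * ↑v⁻¹) *
        transvection 0 (Fin.last n) (1 - M (Fin.last n) (Fin.last n)),
        Submonoid.mul_mem _ (transvection_mem_E hne _) (transvection_mem_E hne.symm _), ?_⟩
      rw [← Matrix.mul_assoc, mul_transvection_apply_same, mul_transvection_apply_same,
        mul_transvection_apply_of_ne (Fin.last n) 0 (Fin.last n) (Fin.last n) hne _ M]
      rw [← hv]
      have : (↑v⁻¹ : R) * ↑v = 1 := by simp
      linear_combination (1 - (↑v : R)) * (1 - M (Fin.last n) 0) * this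
  · refine ⟨transvection j₀ (Fin.last n) (↑v⁻¹ * (1 - M (Fin.last n) (Fin.last n))),
      transvection_mem_E hj _, ?_⟩
    rw [mul_transvection_apply_same, ← hv]
    have : (↑v⁻¹ : R) * ↑v = 1 := by simp
    linear_combination (1 - M (Fin.last n) (Fin.last n)) * this

lemma exists_notMem_last_row (n : ℕ) (M : Matrix (Fin (n + 1)) (Fin (n + 1)) R) (hdet : M.det = 1)
    (q : Ideal R) (hq : q ≠ ⊤) : ∃ j, M (Fin.last n) j ∉ q := by
  by_contra hcon
  push Not at hcon
  apply hq
  rw [Ideal.eq_top_iff_one, ← hdet, Matrix.det_succ_row M (Fin.last n)]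
  refine Ideal.sum_mem _ fun j _ => ?_
  exact Ideal.mul_mem_right _ _ (Ideal.mul_mem_left _ _ (hcon j))

end Pivot

section Main

lemma loc_step (R : Type u) [CommRing R] (q : PrimeSpectrum R) (h : R) (hq : h ∉ q.asIdeal) :
    ∃ (R' : Type u) (_ : CommRing R') (φ : R →+* R'), φ.Etale ∧
      (∃ q' : PrimeSpectrum R', q'.asIdeal.comap φ = q.asIdeal) ∧ IsUnit (φ h) := by
  refine ⟨Localization.Away h, inferInstance, algebraMap R _, ?_, ?_, ?_⟩
  · rw [RingHom.etale_algebraMap]; exact Algebra.Etale.of_isLocalizationAway h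
  · have hd : Disjoint (Submonoid.powers h : Set R) (q.asIdeal : Set R) :=
      (Ideal.disjoint_powers_iff_notMem _ q.2.isRadical).mpr hq
    refine ⟨⟨Ideal.map (algebraMap R (Localization.Away h)) q.asIdeal,
      IsLocalization.isPrime_of_isPrime_disjoint (Submonoid.powers h) _ _ q.2 hd⟩, ?_⟩
    exact IsLocalization.comap_map_of_isPrime_disjoint (Submonoid.powers h) _ q.2 hd
  · exact IsLocalization.Away.algebraMap_isUnit h

/-- `Fin (n+1) ≃ Fin n ⊕ Unit`, sending the last element to `inr ()` -/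
def eLast (n : ℕ) : Fin (n + 1) ≃ Fin n ⊕ Unit :=
  finSuccEquivLast.trans (Equiv.optionEquivSumPUnit (Fin n))

lemma eLast_symm_inr (n : ℕ) : (eLast n).symm (Sum.inr ()) = Fin.last n := by
  simp [eLast]

theorem elim (n : ℕ) : ∀ (R : Type u) [CommRing R] (q : PrimeSpectrum R)
    (M : Matrix (Fin n) (Fin n) R), M.det = 1 →
    ∃ (R' : Type u) (_ : CommRing R') (φ : R →+* R'), φ.Etale ∧
      (∃ q' : PrimeSpectrum R', q'.asIdeal.comap φ = q.asIdeal) ∧ M.map φ ∈ E (Fin n) R' := by
  induction n with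
  | zero =>
    intro R _ q M _
    refine ⟨R, inferInstance, RingHom.id R, RingHom.Etale.containsIdentities _, ⟨q, rfl⟩, ?_⟩
    have : M.map (RingHom.id R) = 1 := Subsingleton.elim _ _
    rw [this]; exact Submonoid.one_mem _
  | succ n ih =>
    intro R _ q M hdet
    obtain ⟨j₀, hj₀⟩ := exists_notMem_last_row n M hdet q.asIdeal q.2.ne_top
    obtain ⟨R₁, _, φ₁, hφ₁, ⟨q₁, hq₁⟩, hu⟩ := loc_step R q _ hj₀
    obtain ⟨M₁, hM₁⟩ : ∃ M₁, M₁ = M.map φ₁ := ⟨_, rfl⟩
    have hdet₁ : M₁.det = 1 := by
      rw [hM₁]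
      have := RingHom.map_det φ₁ M
      rw [RingHom.mapMatrix_apply] at this
      rw [← this, hdet, map_one]
    have hu₁ : IsUnit (M₁ (Fin.last n) j₀) := by rw [hM₁]; exact hu
    obtain ⟨N, hN, hpiv⟩ := pivot n M₁ hdet₁ j₀ hu₁
    obtain ⟨M₄, hM₄⟩ : ∃ M₄, M₄ = reindex (eLast n) (eLast n) (M₁ * N) := ⟨_, rfl⟩
    have h44 : M₄ (Sum.inr ()) (Sum.inr ()) = 1 := by
      rw [hM₄, reindex_apply, submatrix_apply, eLast_symm_inr]; exact hpiv
    have hdec := block_decomp M₄ h44
    obtain ⟨A', hA'⟩ : ∃ A', A' = M₄.toBlocks₁₁ - M₄.toBlocks₁₂ * M₄.toBlocks₂₁ := ⟨_, rfl⟩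
    rw [← hA'] at hdec
    have hdetA' : A'.det = 1 := by
      have h1 : M₄.det = 1 := by
        rw [hM₄, det_reindex_self, det_mul, hdet₁, det_eq_one_of_mem_E hN, one_mul]
      rw [hdec, det_mul, det_mul, det_eq_one_of_mem_E (Up_mem_E _),
        det_eq_one_of_mem_E (Lo_mem_E _), det_fromBlocks_zero₂₁, det_one] at h1
      simpa using h1
    obtain ⟨R₂, _, φ₂, hφ₂, ⟨q₂, hq₂⟩, hmem⟩ := ih R₁ q₁ A' hdetA'
    refine ⟨R₂, inferInstance, φ₂.comp φ₁, RingHom.Etale.stableUnderComposition _ _ hφ₁ hφ₂,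
      ⟨q₂, by rw [← Ideal.comap_comap, hq₂, hq₁]⟩, ?_⟩
    obtain ⟨N', hN', hNN', hN'N⟩ := exists_inv_of_mem_E hN
    have h5 : M₁ = reindex (eLast n).symm (eLast n).symm M₄ * N' := by
      rw [hM₄]
      have : reindex (eLast n).symm (eLast n).symm (reindex (eLast n) (eLast n) (M₁ * N)) =
          M₁ * N := by
        ext a b; simp
      rw [this, Matrix.mul_assoc, hNN', Matrix.mul_one]
    have h6 : M.map (φ₂.comp φ₁) = M₁.map φ₂ := by rw [hM₁, Matrix.map_map]; rfl
    rw [h6, h5, Matrix.map_mul]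
    refine Submonoid.mul_mem _ ?_ (map_mem_E φ₂ hN')
    have h7 : (reindex (eLast n).symm (eLast n).symm M₄).map φ₂ =
        reindex (eLast n).symm (eLast n).symm (M₄.map φ₂) := by
      ext a b; simp
    rw [h7]
    apply reindex_mem_E
    rw [hdec, Matrix.map_mul, Matrix.map_mul]
    refine Submonoid.mul_mem _ (Submonoid.mul_mem _ (map_mem_E φ₂ (Up_mem_E _)) ?_)
      (map_mem_E φ₂ (Lo_mem_E _))
    have h8 : (fromBlocks A' 0 0 (1 : Matrix Unit Unit R₁)).map φ₂ =
        fromBlocks (A'.map φ₂) 0 0 (1 : Matrix Unit Unit R₂) := by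
      rw [fromBlocks_map]
      congr 1
      · ext a b; simp
      · ext a b; simp
      · ext a b; simp [one_apply]
    rw [h8]
    exact fromBlocks_mem_E hmem

end Main

section UnitExt
open Polynomial

lemma unit_ext_aux (A : Type u) [CommRing A] (p : PrimeSpectrum A) (d : A) (hd : IsUnit d)
    (h4 : 4 * d + 1 ∉ p.asIdeal) :
    ∃ (A' : Type u) (_ : CommRing A') (φ : A →+* A'), φ.Etale ∧
      (∃ q : PrimeSpectrum A', q.asIdeal.comap φ = p.asIdeal) ∧
      ∃ x : A', IsUnit x ∧ IsUnit (x - 1) := by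
  have hnt : Nontrivial A := p.nontrivial
  obtain ⟨f, hf⟩ : ∃ f : A[X], f = X ^ 2 - (X + C d) := ⟨_, rfl⟩
  have hdeg : degree (X + C d : A[X]) < ((2 : ℕ) : WithBot ℕ) := by
    rw [degree_X_add_C]; norm_num
  have hmonic : f.Monic := by rw [hf]; exact monic_X_pow_sub hdeg
  have hfdeg : f.degree = 2 := by
    rw [hf, degree_sub_eq_left_of_degree_lt]
    · simp
    · rw [degree_X_pow]; exact hdeg
  obtain ⟨P, hP⟩ : ∃ P : StandardEtalePair A, P = ⟨f, hmonic, derivative f, ⟨1, 0, 1, by simp⟩⟩ :=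
    ⟨_, rfl⟩
  have hPf : P.f = f := by rw [hP]
  have hPg : P.g = derivative f := by rw [hP]
  -- the ring B = A[X]/(f)
  have hfin : Module.Finite A (AdjoinRoot f) := hmonic.finite_adjoinRoot
  have hint : Algebra.IsIntegral A (AdjoinRoot f) := Algebra.IsIntegral.of_finite A _
  have hroot : (AdjoinRoot.root f) ^ 2 = AdjoinRoot.root f + algebraMap A _ d := by
    have h1 : AdjoinRoot.mk f f = 0 := AdjoinRoot.mk_self
    rw [hf] at h1
    simp only [map_sub, map_pow, map_add, AdjoinRoot.mk_X, AdjoinRoot.mk_C] at h1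
    rw [hf]
    rw [AdjoinRoot.algebraMap_eq]
    linear_combination h1
  have hg2 : (AdjoinRoot.mk f (derivative f)) ^ 2 = algebraMap A _ (4 * d + 1) := by
    have : AdjoinRoot.mk f (derivative f) = 2 * AdjoinRoot.root f - 1 := by
      rw [hf]
      simp only [derivative_sub, derivative_X_pow, derivative_add, derivative_X, derivative_C,
        map_sub, map_mul, map_add, map_pow, AdjoinRoot.mk_X, AdjoinRoot.mk_C, map_one]
      simp [map_ofNat]
    rw [this]
    simp only [map_add, map_mul, map_one, map_ofNat]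
    linear_combination 4 * hroot
  have hker : (⊥ : Ideal (AdjoinRoot f)).comap (algebraMap A (AdjoinRoot f)) ≤ p.asIdeal := by
    intro a ha
    rw [Ideal.mem_comap, Ideal.mem_bot, AdjoinRoot.algebraMap_eq, AdjoinRoot.of, RingHom.comp_apply,
      AdjoinRoot.mk_eq_zero] at ha
    by_contra hne
    have ha0 : C a ≠ 0 := by
      intro h; apply hne; rw [C_eq_zero.mp h]; exact Ideal.zero_mem _
    refine hmonic.not_dvd_of_degree_lt ha0 ?_ ha
    rw [hfdeg]
    exact lt_of_le_of_lt degree_C_le (by norm_num)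
  obtain ⟨q₀, -, hq₀p, hq₀⟩ := Ideal.exists_ideal_over_prime_of_isIntegral p.asIdeal
    (⊥ : Ideal (AdjoinRoot f)) hker
  have hgq : AdjoinRoot.mk f (derivative f) ∉ q₀ := by
    intro hmem
    apply h4
    rw [← hq₀, Ideal.mem_comap, ← hg2]
    exact Ideal.pow_mem_of_mem _ hmem 2 (by norm_num)
  have hd' : Disjoint (Submonoid.powers (AdjoinRoot.mk f (derivative f)) : Set (AdjoinRoot f))
      (q₀ : Set (AdjoinRoot f)) :=
    (Ideal.disjoint_powers_iff_notMem _ hq₀p.isRadical).mpr hgq
  refine ⟨Localization.Away (AdjoinRoot.mk f (derivative f)), inferInstance, algebraMap A _, ?_, ?_,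
    ?_⟩
  · rw [RingHom.etale_algebraMap]
    have e := P.equivAwayAdjoinRoot
    rw [hP] at e
    exact Algebra.Etale.of_equiv e
  · refine ⟨⟨Ideal.map (algebraMap (AdjoinRoot f) (Localization.Away (AdjoinRoot.mk f (derivative f))))
      q₀, IsLocalization.isPrime_of_isPrime_disjoint (Submonoid.powers _) _ _ hq₀p hd'⟩, ?_⟩
    show Ideal.comap (algebraMap A (Localization.Away (AdjoinRoot.mk f (derivative f)))) _ = _
    have h9 : Ideal.comap (algebraMap (AdjoinRoot f)
        (Localization.Away (AdjoinRoot.mk f (derivative f))))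
        (Ideal.map (algebraMap (AdjoinRoot f) (Localization.Away (AdjoinRoot.mk f (derivative f))))
          q₀) = q₀ :=
      IsLocalization.comap_map_of_isPrime_disjoint (Submonoid.powers _) _ hq₀p hd'
    rw [IsScalarTower.algebraMap_eq A (AdjoinRoot f), ← Ideal.comap_comap]
    dsimp only
    rw [h9, hq₀]
  · refine ⟨algebraMap (AdjoinRoot f) _ (AdjoinRoot.root f), ?_⟩
    have hx : algebraMap (AdjoinRoot f) (Localization.Away (AdjoinRoot.mk f (derivative f)))
        (AdjoinRoot.root f) * (algebraMap (AdjoinRoot f) _ (AdjoinRoot.root f) - 1) =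
        algebraMap (AdjoinRoot f) _ (algebraMap A _ d) := by
      rw [← map_one (algebraMap (AdjoinRoot f)
        (Localization.Away (AdjoinRoot.mk f (derivative f)))), ← map_sub, ← map_mul]
      congr 1
      linear_combination hroot
    have hu : IsUnit (algebraMap (AdjoinRoot f)
        (Localization.Away (AdjoinRoot.mk f (derivative f))) (algebraMap A _ d)) :=
      (hd.map _).map _
    rw [← hx] at hu
    exact ⟨isUnit_of_mul_isUnit_left hu, isUnit_of_mul_isUnit_right hu⟩

lemma unit_ext (A : Type u) [CommRing A] (p : PrimeSpectrum A) :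
    ∃ (A' : Type u) (_ : CommRing A') (φ : A →+* A'), φ.Etale ∧
      (∃ q : PrimeSpectrum A', q.asIdeal.comap φ = p.asIdeal) ∧
      ∃ x : A', IsUnit x ∧ IsUnit (x - 1) := by
  by_cases h5 : (5 : A) ∈ p.asIdeal
  · refine unit_ext_aux A p (-1) isUnit_one.neg ?_
    intro h3
    apply p.2.ne_top
    rw [Ideal.eq_top_iff_one]
    have : (1 : A) = -2 * (4 * (-1) + 1) - 5 := by ring
    rw [this]
    exact Ideal.sub_mem _ (Ideal.mul_mem_left _ _ h3) h5
  · refine unit_ext_aux A p 1 isUnit_one ?_
    intro h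
    apply h5
    have : (5 : A) = 4 * 1 + 1 := by ring
    rw [this]; exact h

end UnitExt

section Comm
variable {ι : Type*} [DecidableEq ι] [Fintype ι] {R : Type*} [CommRing R]

lemma diagonal_mul_transvection (v : ι → R) (i j : ι) (hij : i ≠ j) (b : R) (hj : v j = 1) :
    Matrix.diagonal v * transvection i j b = transvection i j (v i * b) * Matrix.diagonal v := by
  simp only [transvection, Matrix.mul_add, Matrix.add_mul, Matrix.mul_one, Matrix.one_mul]
  congr 1
  ext a k
  simp only [Matrix.diagonal_mul, Matrix.mul_diagonal, single_apply]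
  by_cases h : i = a ∧ j = k
  · obtain ⟨h1, h2⟩ := h
    subst h1; subst h2
    simp [hj]
  · simp [h]

lemma transvection_mem_commutator (x : R) (hx : IsUnit x) (hx1 : IsUnit (x - 1)) (i j : ι)
    (hij : i ≠ j) (c : R) (g : Matrix.GeneralLinearGroup ι R)
    (hg : (g : Matrix ι ι R) = transvection i j c) :
    g ∈ commutator (Matrix.GeneralLinearGroup ι R) := by
  obtain ⟨w, hw⟩ := hx1
  -- b with (x - 1) * b = c
  obtain ⟨b, hb⟩ : ∃ b : R, b = ↑w⁻¹ * c := ⟨_, rfl⟩
  have hbc : (x - 1) * b = c := by rw [hb, ← hw, ← mul_assoc]; simp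
  -- the diagonal matrix
  obtain ⟨v, hv⟩ : ∃ v : ι → R, v = Function.update (fun _ => (1 : R)) i x := ⟨_, rfl⟩
  have hvi : v i = x := by rw [hv]; simp
  have hvj : v j = 1 := by rw [hv, Function.update_of_ne hij.symm]
  have hdet : IsUnit (Matrix.diagonal v).det := by
    rw [Matrix.det_diagonal, hv]
    rw [Finset.prod_update_of_mem (Finset.mem_univ i)]
    simpa using hx
  obtain ⟨d, hd⟩ : ∃ d : Matrix.GeneralLinearGroup ι R, (d : Matrix ι ι R) = Matrix.diagonal v :=
    ⟨Matrix.GeneralLinearGroup.mk'' _ hdet, rfl⟩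
  have hdett : IsUnit (transvection i j b).det := by
    rw [det_transvection_of_ne i j hij]; exact isUnit_one
  obtain ⟨t, ht⟩ : ∃ t : Matrix.GeneralLinearGroup ι R, (t : Matrix ι ι R) = transvection i j b :=
    ⟨Matrix.GeneralLinearGroup.mk'' _ hdett, rfl⟩
  have key : g = ⁅d, t⁆ := by
    rw [commutatorElement_def, eq_mul_inv_iff_mul_eq, eq_mul_inv_iff_mul_eq]
    apply Units.ext
    simp only [Units.val_mul, hg, hd, ht]
    rw [diagonal_mul_transvection v i j hij b hvj, hvi,
      transvection_mul_transvection_same i j hij]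
    congr 2
    rw [← hbc]; ring
  rw [key]
  exact Subgroup.commutator_mem_commutator (Subgroup.mem_top _) (Subgroup.mem_top _)

lemma mem_commutator_of_mem_E (x : R) (hx : IsUnit x) (hx1 : IsUnit (x - 1))
    {M : Matrix ι ι R} (h : M ∈ E ι R) :
    ∃ g : Matrix.GeneralLinearGroup ι R, (g : Matrix ι ι R) = M ∧
      g ∈ commutator (Matrix.GeneralLinearGroup ι R) := by
  induction h using Submonoid.closure_induction with
  | mem y hy =>
    obtain ⟨i, j, hij, c, rfl⟩ := hy
    have hdett : IsUnit (transvection i j c).det := by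
      rw [det_transvection_of_ne i j hij]; exact isUnit_one
    exact ⟨Matrix.GeneralLinearGroup.mk'' _ hdett, rfl,
      transvection_mem_commutator x hx hx1 i j hij c _ rfl⟩
  | one => exact ⟨1, rfl, Subgroup.one_mem _⟩
  | mul y z _ _ hy hz =>
    obtain ⟨g, hg, hg'⟩ := hy
    obtain ⟨g₂, hg₂, hg₂'⟩ := hz
    exact ⟨g * g₂, by rw [Units.val_mul, hg, hg₂], Subgroup.mul_mem _ hg' hg₂'⟩

end Comm

theorem S5658_main (A : Type u) [CommRing A] (n : ℕ)
    (s : Matrix.SpecialLinearGroup (Fin n) A) (p : PrimeSpectrum A) :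
    ∃ (A' : Type u) (_ : CommRing A') (_ : Algebra A A'), Algebra.Etale A A' ∧
      (∃ q : PrimeSpectrum A', q.asIdeal.comap (algebraMap A A') = p.asIdeal) ∧
      (Matrix.GeneralLinearGroup.map (algebraMap A A')) (Matrix.SpecialLinearGroup.toGL s) ∈
        commutator (Matrix.GeneralLinearGroup (Fin n) A') := by
  obtain ⟨A₁, _, φ₁, hφ₁, ⟨q₁, hq₁⟩, x, hx, hx1⟩ := unit_ext A p
  have hdet₁ : ((s : Matrix (Fin n) (Fin n) A).map φ₁).det = 1 := by
    have := RingHom.map_det φ₁ (s : Matrix (Fin n) (Fin n) A)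
    rw [RingHom.mapMatrix_apply] at this
    rw [← this, s.2, map_one]
  obtain ⟨A₂, _, φ₂, hφ₂, ⟨q₂, hq₂⟩, hmem⟩ := elim n A₁ q₁ _ hdet₁
  letI : Algebra A A₂ := (φ₂.comp φ₁).toAlgebra
  have hφ : (φ₂.comp φ₁).Etale := RingHom.Etale.stableUnderComposition _ _ hφ₁ hφ₂
  refine ⟨A₂, inferInstance, inferInstance, hφ, ⟨q₂, ?_⟩, ?_⟩
  · show Ideal.comap (φ₂.comp φ₁) q₂.asIdeal = p.asIdeal
    rw [← Ideal.comap_comap, hq₂, hq₁]
  · obtain ⟨g, hg, hg'⟩ := mem_commutator_of_mem_E (φ₂ x) (hx.map φ₂)
      (by simpa using hx1.map φ₂) hmem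
    have : (Matrix.GeneralLinearGroup.map (algebraMap A A₂)) (Matrix.SpecialLinearGroup.toGL s) = g := by
      apply Units.ext
      rw [hg, Matrix.map_map]
      rfl
    rw [this]; exact hg'

end Groth.Agent.Lib.Helper4.SLComm1
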