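import Mathlib

namespace Groth.Agent.Helper4.SS

open CategoryTheory Simplicial Opposite

universe u

theorem injective_app_of_injOn_nonDegenerate {U V : SSet.{u}} (f : U ⟶ V)
    (ha : ∀ (n : ℕ) (x : U.obj (op (SimplexCategory.mk n))), x ∈ U.nonDegenerate n →
      f.app (op (SimplexCategory.mk n)) x ∈ V.nonDegenerate n)
    (hb : ∀ n : ℕ, Set.InjOn (f.app (op (SimplexCategory.mk n))) (U.nonDegenerate n)) (n : ℕ) :
    Function.Injective (f.app (op (SimplexCategory.mk n))) := by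
  intro x x' hxx'
  obtain ⟨m, σ, hσ, a, rfl⟩ := U.exists_nonDegenerate x
  obtain ⟨m', τ, hτ, b, rfl⟩ := U.exists_nonDegenerate x'
  have e1 : f.app (op (SimplexCategory.mk n)) (U.map σ.op a) =
      V.map σ.op (f.app (op (SimplexCategory.mk m)) a) :=
    NatTrans.naturality_apply f σ.op a.1
  have e2 : f.app (op (SimplexCategory.mk n)) (U.map τ.op b) =
      V.map τ.op (f.app (op (SimplexCategory.mk m')) b) :=
    NatTrans.naturality_apply f τ.op b.1
  have hm : m = m' :=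
    V.unique_nonDegenerate_dim (f.app (op (SimplexCategory.mk n)) (U.map σ.op a)) σ
      ⟨_, ha m a.1 a.2⟩ e1 τ ⟨_, ha m' b.1 b.2⟩ (hxx'.trans e2)
  subst hm
  have h1 := V.unique_nonDegenerate_simplex (f.app (op (SimplexCategory.mk n)) (U.map σ.op a)) σ
      ⟨_, ha m a.1 a.2⟩ e1 τ ⟨_, ha m b.1 b.2⟩ (hxx'.trans e2)
  have h2 := V.unique_nonDegenerate_map (f.app (op (SimplexCategory.mk n)) (U.map σ.op a)) σ
      ⟨_, ha m a.1 a.2⟩ e1 τ ⟨_, ha m b.1 b.2⟩ (hxx'.trans e2)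
  have h3 : (a : U.obj (op (SimplexCategory.mk m))) = b :=
    hb m a.2 b.2 (congrArg Subtype.val h1)
  rw [h2, h3]

theorem surjective_app_of_surjOn_nonDegenerate {U V : SSet.{u}} (f : U ⟶ V)
    (hb : ∀ n : ℕ, Set.SurjOn (f.app (op (SimplexCategory.mk n))) (U.nonDegenerate n)
      (V.nonDegenerate n)) (n : ℕ) :
    Function.Surjective (f.app (op (SimplexCategory.mk n))) := by
  intro y
  obtain ⟨m, σ, hσ, a, rfl⟩ := V.exists_nonDegenerate y
  obtain ⟨x, hx, hxa⟩ := hb m a.2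
  refine ⟨U.map σ.op x, ?_⟩
  have e1 : f.app (op (SimplexCategory.mk n)) (U.map σ.op x) =
      V.map σ.op (f.app (op (SimplexCategory.mk m)) x) :=
    NatTrans.naturality_apply f σ.op x
  rw [e1, hxa]

end Groth.Agent.Helper4.SS
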