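import Mathlib

/-!
# scheme-theoretic image of a section over a retrocompact open (helper4)
-/

set_option backward.isDefEq.respectTransparency.types false
set_option synthInstance.maxHeartbeats 400000
set_option autoImplicit false
set_option linter.unusedSectionVars false
set_option linter.style.haveILetI false
set_option linter.unusedSimpArgs false
universe u v w
open CategoryTheory CategoryTheory.Limits AlgebraicGeometry

namespace Groth.Agent.Lib.Helper4.SchImg1

/-- `toImage` of a quasi-compact morphism is scheme-theoretically dominant. -/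
theorem isSchemeTheoreticallyDominant_toImage {X Y : Scheme.{u}} (s : X ⟶ Y) [QuasiCompact s] :
    IsSchemeTheoreticallyDominant s.toImage := by
  rw [isSchemeTheoreticallyDominant_iff]
  refine Scheme.IdealSheafData.ext_of_iSup_eq_top
    (ι := Y.affineOpens)
    (fun U => ⟨s.imageι ⁻¹ᵁ U.1, U.2.preimage s.imageι⟩) ?_ ?_
  · rw [eq_top_iff]
    intro z _
    obtain ⟨_, ⟨U, hU, rfl⟩, hzU, -⟩ := Y.isBasis_affineOpens.exists_subset_of_mem_open
      (Set.mem_univ (s.imageι z)) isOpen_univ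
    exact TopologicalSpace.Opens.mem_iSup.mpr ⟨⟨U, hU⟩, hzU⟩
  · intro U
    rw [Scheme.Hom.ker_apply]
    simp only [Scheme.IdealSheafData.ideal_bot, Pi.bot_apply]
    rw [← RingHom.injective_iff_ker_eq_bot]
    exact s.toImage_app_injective U

theorem S9361_main {X Y : Scheme.{u}} (f : X ⟶ Y) [IsSeparated f] (V : Y.Opens) [QuasiCompact V.ι]
    (s : (↑V : Scheme.{u}) ⟶ X) (hs : s ≫ f = V.ι) :
    IsIso ((s.imageι ≫ f) ∣_ V) := by
  haveI : QuasiCompact (s ≫ f) := by rw [hs]; infer_instance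
  haveI : QuasiCompact s := QuasiCompact.of_comp s f
  obtain ⟨g, hg⟩ : ∃ g, g = s.imageι ≫ f := ⟨_, rfl⟩
  rw [← hg]
  have htg : s.toImage ≫ g = V.ι := by rw [hg, ← Category.assoc, s.toImage_imageι, hs]
  haveI : IsSeparated g := by rw [hg]; infer_instance
  haveI : IsSchemeTheoreticallyDominant s.toImage := isSchemeTheoreticallyDominant_toImage s
  -- restriction of toImage to W = g⁻¹ V
  haveI : IsSchemeTheoreticallyDominant (s.toImage ∣_ (g ⁻¹ᵁ V)) :=
    IsSchemeTheoreticallyDominant.of_isPullback (isPullback_morphismRestrict s.toImage (g ⁻¹ᵁ V)).flip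
  have hcomp : s.toImage ∣_ (g ⁻¹ᵁ V) ≫ g ∣_ V = (s.toImage ≫ g) ∣_ V :=
    (morphismRestrict_comp s.toImage g V).symm
  have hiso : IsIso ((s.toImage ≫ g) ∣_ V) := by
    have : IsIso (V.ι ∣_ V) := by
      have h1 : IsOpenImmersion (V.ι ∣_ V) := inferInstance
      have h2 : Function.Surjective (V.ι ∣_ V) := by
        intro ⟨y, hy⟩
        refine ⟨⟨⟨y, hy⟩, hy⟩, ?_⟩
        apply Subtype.ext
        rw [morphismRestrict_base_coe]
        rfl
      rw [isIso_iff_isOpenImmersion_and_epi_base]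
      exact ⟨h1, (TopCat.epi_iff_surjective _).mpr h2⟩
    have hh : ∀ (a : (↑V : Scheme.{u}) ⟶ Y) (ha : a = V.ι), IsIso (a ∣_ V) := by
      intro a ha; subst ha; exact this
    exact hh _ htg
  -- g ∣_ V is separated
  haveI : IsSeparated (g ∣_ V) := IsZariskiLocalAtTarget.restrict ‹_› V
  haveI : IsClosedImmersion (s.toImage ∣_ (g ⁻¹ᵁ V) ≫ g ∣_ V) := by
    rw [hcomp]
    have h3 : ∀ {A B : Scheme.{u}} (a : A ⟶ B), IsIso a → IsClosedImmersion a := fun a ha => inferInstance
    exact h3 _ hiso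
  haveI : IsClosedImmersion (s.toImage ∣_ (g ⁻¹ᵁ V)) :=
    IsClosedImmersion.of_comp _ (g ∣_ V)
  haveI : IsIso (s.toImage ∣_ (g ⁻¹ᵁ V)) :=
    IsClosedImmersion.isIso_iff_ker_eq_bot.mpr (Scheme.Hom.ker_eq_bot _)
  have : g ∣_ V = inv (s.toImage ∣_ (g ⁻¹ᵁ V)) ≫ (s.toImage ≫ g) ∣_ V := by
    rw [IsIso.eq_inv_comp, hcomp]
  rw [this]
  exact @IsIso.comp_isIso _ _ _ _ _ _ _ inferInstance hiso

end Groth.Agent.Lib.Helper4.SchImg1
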