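import Mathlib
import Groth.Prelude.Def_Cyc
import Groth.Agent.Lib.Helper4.JacDim1
import Groth.Prelude.Def_EGA43
import Groth.Agent.Lib.Helper4.FibreStalkDim1
import Groth.Agent.Lib.Helper4.DimFT1
import Groth.Agent.Lib.Helper4.DimFT2
import Groth.Agent.Lib.Helper4.Chev8
import Groth.Agent.Lib.Helper4.FibDim7
import Groth.Agent.Lib.Helper4.EffCartierDim1
import Groth.Agent.Lib.Helper4.JacDim4
import Groth.Agent.Lib.Helper4.Chev9
import Groth.Agent.Lib.Helper4.Chev10
import Groth.Agent.Lib.Helper4.Chev11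
import Groth.Agent.Lib.Helper4.Equi1
import Groth.Agent.Lib.Helper4.Equi2
import Groth.Agent.Lib.Helper4.Equi3
import Groth.Agent.Lib.Helper4.Equi4
import Groth.Agent.Lib.Helper4.Equi5
import Groth.Agent.Lib.Helper4.Equi6
import Groth.Agent.Lib.Helper4.Equi7
import Groth.Agent.Lib.Helper4.Aff1
import Groth.Agent.Lib.Helper4.Aff2
import Groth.Agent.Lib.Helper4.Equi10
import Groth.Agent.Lib.Helper4.Val1
import Groth.Agent.Lib.Helper4.BaseChg1
import Groth.Agent.Lib.Helper4.UnivOpen1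
import Groth.Agent.Lib.Helper4.FibClosure1
import Groth.Agent.Lib.Helper4.OpenNoeth1
import Groth.Agent.Lib.Helper4.SecComp1
import Groth.Agent.Lib.Helper4.SecComp2
import Groth.Agent.Lib.Helper4.UnivOpen2
import Groth.Agent.Lib.Helper4.UnivOpenAt
import Groth.Agent.Lib.Helper4.RegularLocalCopy
import Groth.Agent.Lib.Helper4.ZMTNormalPt1
import Groth.Agent.Lib.Helper4.LocFinComp1
import Groth.Agent.Lib.Helper4.SecComp3
import Groth.Agent.Lib.Helper4.PropDim1
import Groth.Prelude.Def_FDesc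
import Groth.Prelude.Def_MoreMor
import Groth.Agent.Lib.Helper4.ChevCrit1
import Groth.Agent.Lib.Helper4.ChevCrit2
import Groth.Agent.Lib.Helper4.ChevCrit3
import Groth.Agent.Lib.Helper4.IrrCompDomain1
import Groth.Agent.Lib.Helper4.ChevCrit4
import Groth.Agent.Lib.Helper4.ChevCrit5
import Groth.Agent.Lib.Helper4.ChevCrit6
import Groth.Agent.Lib.Helper4.ChevCrit7
import Groth.Agent.Lib.Helper4.DedekindOpen1
import Groth.Agent.Lib.Helper4.UnivOpenT1
import Groth.Agent.Lib.Helper4.DvrFlat1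
import Groth.Agent.Lib.Helper4.SatChain1
import Groth.Agent.Lib.Helper4.FlatDimK1
import Groth.Agent.Lib.Helper4.BaseChgMax1
import Groth.Agent.Lib.Helper4.ProdDim1
import Groth.Agent.Lib.Helper4.FibDimBC1
import Groth.Agent.Lib.Helper4.FibMap1
import Groth.Agent.Lib.Helper4.GenFib1
import Groth.Agent.Lib.Helper4.EquiBC1
import Groth.Agent.Lib.Helper4.ValFlat15
import Groth.Agent.S3407
import Groth.Agent.S3420
import Groth.Agent.Lib.Helper4.SecRestrict1
import Groth.Agent.Lib.Helper4.ValFlat12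
import Groth.Agent.Lib.Helper4.ValFlat13
import Groth.Agent.Lib.Helper4.SecComp4

/-!
# EGA IV 15.6.6: local constancy of the dimension of the section components (S5927) (helper4) (helper4)
-/

set_option backward.isDefEq.respectTransparency.types false
set_option synthInstance.maxHeartbeats 400000
set_option autoImplicit false
set_option linter.unusedSectionVars false
set_option linter.style.haveILetI false
set_option linter.unusedSimpArgs false
universe u v w
open CategoryTheory CategoryTheory.Limits AlgebraicGeometry TopologicalSpace IsLocalRing Opposite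
open Cardinal AffineSpace MvPolynomial
open Groth.Agent.Lib.Helper4.DimIneq1 Groth.Agent.Lib.Helper4.DimFT2 Groth.Agent.Lib.Helper4.Catenary1
open Groth.Agent.Lib.Helper4.DimEq1 Groth.Agent.Lib.Helper4.DimIneq2 Groth.Agent.Lib.Helper4.DimEq2
open Groth.Agent.Lib.Helper4.DimIneq3 Groth.Agent.Lib.Helper4.DimIneq4
open Groth.Agent.Lib.Helper4.NormFibre2 Groth.Agent.Lib.Helper4.RadBir3 Groth.Agent.Lib.Helper4.DimFT3
open Groth.Agent.Lib.Helper4.FibDim1 Groth.Agent.Lib.Helper4.FibDim2 Groth.Agent.Lib.Helper4.LocUC1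
open Groth.Agent.Lib.Helper4.FibDim3 Groth.Agent.Lib.Helper4.FibDim4 Groth.Agent.Lib.Helper4.FibDim5
open Groth.Agent.Lib.Helper4.FibDim6 Groth.Agent.Lib.Helper4.FibDim7 Groth.Agent.Lib.Helper4.JacDim1
open Groth.Agent.Lib.Helper4.DimFT1
open Groth.Agent.Lib.Helper4.Chev2 Groth.Agent.Lib.Helper4.Chev5 Groth.Agent.Lib.Helper4.Chev6 Groth.Agent.Lib.Helper4.Chev8
open Groth.Agent.Lib.Helper4.JacDim4 Groth.Agent.Lib.Helper4.EffCartierDim1
open Groth.Agent.Lib.Helper4.Chev9 Groth.Agent.Lib.Helper4.Chev4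
open Groth.Agent.Lib.Helper4.Chev10 Groth.Agent.Lib.Helper4.Chev11 Groth.Agent.Lib.Helper4.Chev3 Groth.Agent.Lib.Helper4.Equi1 Groth.Agent.Lib.Helper4.Equi2 Groth.Agent.Lib.Helper4.OpenAt1 Groth.Agent.Lib.Helper4.Equi3 Groth.Agent.Lib.Helper4.Equi4 Groth.Agent.Lib.Helper4.Equi5 Groth.Agent.Lib.Helper4.Equi6 Groth.Agent.Lib.Helper4.Equi7 Groth.Agent.Lib.Helper4.Aff1 Groth.Agent.Lib.Helper4.Aff2 Groth.Agent.Lib.Helper4.Equi10 Groth.Agent.Lib.Helper4.Val1 Groth.Agent.Lib.Helper4.BaseChg1 Groth.Agent.Lib.Helper4.UnivOpen1 Groth.Agent.Lib.Helper4.FibClosure1 Groth.Agent.Lib.Helper4.OpenNoeth1 Groth.Agent.Lib.Helper4.SecComp1 Groth.Agent.Lib.Helper4.SecComp2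
open Groth.Agent.Lib.Helper4.SecComp3 Groth.Agent.Lib.Helper4.PropDim1 Groth.Agent.Lib.Helper4.ZMTNormalPt1 Groth.Agent.Lib.Helper4.UO Groth.Agent.Lib.Helper4.UOp
open Groth.Agent.Lib.Helper4.ChevCrit1 Groth.Agent.Lib.Helper4.ChevCrit2 Groth.Agent.Lib.Helper4.ChevCrit3
open Groth.Agent.Lib.Helper4.IrrCompDomain1 Groth.Agent.Lib.Helper4.RadBir1
open Groth.Agent.Lib.Helper4.ChevCrit4
open Groth.Agent.Lib.Helper4.ChevCrit5
open Groth.Agent.Lib.Helper4.DedekindOpen1 Groth.Agent.Lib.Helper4.UnivOpenT1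
open Groth.Agent.Lib.Helper4.ChevCrit7
open Groth.Agent.Lib.Helper4.DvrFlat1 Groth.Agent.Lib.Helper4.FlatDimK1 Groth.Agent.Lib.Helper4.BaseChgMax1 Groth.Agent.Lib.Helper4.ProdDim1 Groth.Agent.Lib.Helper4.FibDimBC1 Groth.Agent.Lib.Helper4.FibMap1 Groth.Agent.Lib.Helper4.GenFib1

namespace Groth.Agent.Lib.Helper4.SecComp5
open Groth.Agent.Lib.Helper4.SecRestrict1

open Topology

/-- in a locally Noetherian scheme, a closed set containing all maximal generizations of a point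
is a neighbourhood of that point -/
theorem mem_nhds_of_isClosed_of_max {Y : Scheme.{u}} [IsLocallyNoetherian Y] (y₀ : Y) (C : Set Y)
    (hC : IsClosed C)
    (h : ∀ y' : Y, y' ⤳ y₀ → (∀ y'' : Y, y'' ⤳ y' → y'' = y') → y' ∈ C) : C ∈ nhds y₀ := by
  obtain ⟨W₀, hW₀, hyW₀, -⟩ := exists_isAffineOpen_mem_and_subset (U := (⊤ : Y.Opens))
    (x := y₀) trivial
  haveI : IsNoetherianRing Γ(Y, W₀) := IsLocallyNoetherian.component_noetherian ⟨W₀, hW₀⟩
  haveI : NoetherianSpace ↥(W₀ : Scheme.{u}) := noetherianSpace_of_isAffineOpen W₀ hW₀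
  obtain ⟨U, hUo, hyU, hU⟩ := exists_nhd_max_gen (W₀ : Scheme.{u}) (fun w => W₀.ι w)
    W₀.ι.continuous y₀
  have hsub : U ∩ (W₀ : Set Y) ⊆ C := by
    rintro y ⟨hyU', hyW⟩
    obtain ⟨w, rfl⟩ : y ∈ Set.range W₀.ι := by
      rw [Scheme.Opens.range_ι]; exact hyW
    obtain ⟨σ, hσw, hσy, hσmax⟩ := hU w hyU'
    have hmem : W₀.ι σ ∈ C := by
      apply h _ hσy
      intro y'' hy''
      have hy''W : y'' ∈ (W₀ : Set Y) := by
        have : (W₀ : Set Y) ∈ nhds (W₀.ι σ) := W₀.2.mem_nhds (by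
          have := Set.mem_range_self (f := W₀.ι) σ
          rwa [Scheme.Opens.range_ι] at this)
        exact mem_of_mem_nhds (hy'' this)
      obtain ⟨σ'', rfl⟩ : y'' ∈ Set.range W₀.ι := by
        rw [Scheme.Opens.range_ι]; exact hy''W
      have hsp : σ'' ⤳ σ := W₀.ι.isOpenEmbedding.isInducing.specializes_iff.mp hy''
      have h2 : σ ⤳ σ'' := hσmax hsp
      rw [(hsp.antisymm h2).eq]
    have hsp : W₀.ι σ ⤳ W₀.ι w := hσw.map W₀.ι.continuous
    have h3 : W₀.ι w ∈ closure ({W₀.ι σ} : Set Y) := hsp.mem_closure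
    exact hC.closure_subset (closure_mono (Set.singleton_subset_iff.mpr hmem) h3)
  exact Filter.mem_of_superset (Filter.inter_mem (hUo.mem_nhds hyU) (W₀.2.mem_nhds hyW₀)) hsub



/-- if `f` is universally open with geometrically reduced fibres on an open neighbourhood `W` of
`g y₀`, then every generization `ω` of `g y₀` in the fibre over `y₀` has an open neighbourhood
contained in the union of the section components -/
theorem exists_open_sectionComponents {X Y : Scheme.{u}} [IsLocallyNoetherian Y] (f : X ⟶ Y)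
    [LocallyOfFiniteType f] (g : Y ⟶ X) (hg : g ≫ f = 𝟙 Y) (y₀ : Y)
    (ω : X) (hωy : f ω = y₀) (hωg : ω ⤳ g y₀)
    (W : X.Opens) (hgW : g y₀ ∈ W) (hWUO : UniversallyOpen (W.ι ≫ f))
    (hWred : ∀ x' : X, x' ∈ W →
      FBase.IsGeomReducedAt (f.fiberToSpecResidueField (f.base x')) (f.asFiber x')) :
    ∃ Ω : Set X, IsOpen Ω ∧ ω ∈ Ω ∧ Ω ⊆ MoreMor.sectionComponents f g := by
  have hfg : ∀ t : Y, f (g t) = t := by
    intro t
    rw [← Scheme.Hom.comp_apply, hg]
    rfl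
  obtain ⟨V, U, f', g', hV, hU, hf', hg', hgf'⟩ := exists_restrict f g hg W
  have hy₀V : y₀ ∈ V := by rw [hV]; exact hgW
  have hUW : U ≤ W := by rw [hU]; exact inf_le_left
  have hωW : ω ∈ W := hωg.mem_open W.2 hgW
  have hωU : ω ∈ U := by
    rw [hU]
    refine ⟨hωW, ?_⟩
    show f ω ∈ V
    rw [hωy]; exact hy₀V
  have hgU : g y₀ ∈ U := by
    rw [hU]
    refine ⟨hgW, ?_⟩
    show f (g y₀) ∈ V
    rw [hfg]; exact hy₀V
  haveI : IsLocallyNoetherian (V : Scheme.{u}) := inferInstance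
  haveI : LocallyOfFiniteType f' := by
    haveI : LocallyOfFiniteType (f' ≫ V.ι) := by rw [hf']; infer_instance
    exact locallyOfFiniteType_of_comp f' V.ι
  have hUO' : UniversallyOpen f' := by
    apply MorphismProperty.of_postcomp (W := @UniversallyOpen) (W' := @IsOpenImmersion) f' V.ι
      inferInstance
    have h1 : f' ≫ V.ι = X.homOfLE hUW ≫ (W.ι ≫ f) := by
      rw [hf', ← Category.assoc, Scheme.homOfLE_ι]
    rw [h1]
    infer_instance
  have hred' : ∀ u ∈ MoreMor.sectionComponents f' g',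
      FBase.IsGeomReducedAt (f'.fiberToSpecResidueField (f'.base u)) (f'.asFiber u) := by
    intro u _
    apply Groth.Agent.Lib.Helper4.ValFlat12.isGeomReducedAt_chart f U.ι V.ι f' hf' u
    apply hWred
    exact hUW u.2
  have hopen' : IsOpen (MoreMor.sectionComponents f' g') :=
    (Groth.Agent.S3420.result f' g' hgf').2 hUO' hred'
  refine ⟨U.ι '' MoreMor.sectionComponents f' g', U.ι.isOpenEmbedding.isOpenMap _ hopen', ?_, ?_⟩
  · obtain ⟨u₀, hu₀⟩ : ω ∈ Set.range U.ι := by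
      rw [Scheme.Opens.range_ι]; exact hωU
    refine ⟨u₀, ?_, hu₀⟩
    have hv : V.ι (f' u₀) = y₀ := by
      rw [← Scheme.Hom.comp_apply, hf', Scheme.Hom.comp_apply, hu₀, hωy]
    have hx : ω ∈ connectedComponentIn ((U : Set X) ∩ f ⁻¹' {V.ι (f' u₀)}) (g (V.ι (f' u₀))) := by
      rw [hv]
      have hpre := isPreconnected_closure_inter ω ((U : Set X) ∩ f ⁻¹' {y₀}) ⟨hωU, hωy⟩
      exact hpre.subset_connectedComponentIn ⟨hωg.mem_closure, hgU, hfg y₀⟩ Set.inter_subset_right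
        ⟨subset_closure rfl, hωU, hωy⟩
    obtain ⟨u, hu1, hu2⟩ := mem_connectedComponentIn_restrict f g U V f' g' hf' hg' (f' u₀) ω hx
    have : u = u₀ := U.ι.isOpenEmbedding.injective (hu1.trans hu₀.symm)
    rw [this] at hu2
    exact hu2
  · rintro _ ⟨u, hu, rfl⟩
    exact mem_sectionComponents_of_restrict f g U V f' g' hf' hg' u hu



/-- the generic point of an irreducible section component, which is the only maximal point of the
fibre specializing to the section -/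
theorem generic_sectionComp_facts {X Y : Scheme.{u}} (f : X ⟶ Y) [LocallyOfFiniteType f]
    (g : Y ⟶ X) (hg : g ≫ f = 𝟙 Y) (y₀ : Y)
    (hirr : IsIrreducible (connectedComponentIn (f.base ⁻¹' {y₀}) (g.base y₀))) :
    ∃ ω : X, f ω = y₀ ∧ ω ∈ connectedComponentIn (f.base ⁻¹' {y₀}) (g.base y₀) ∧
      connectedComponentIn (f.base ⁻¹' {y₀}) (g.base y₀) = closure ({ω} : Set X) ∩ f.base ⁻¹' {y₀} ∧
      topologicalKrullDim ↥(connectedComponentIn (f.base ⁻¹' {y₀}) (g.base y₀)) =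
        ((tr f ω : ℕ) : WithBot ℕ∞) ∧ ω ⤳ g y₀ ∧
      ∀ z : ↥(f.fiber (f.base (g y₀))), f.asFiber (g y₀) ∈ closure {z} →
        (∀ z' : ↥(f.fiber (f.base (g y₀))), z ∈ closure {z'} → z' = z) →
        (f.fiberι (f.base (g y₀))).base z = ω := by
  have hfg : ∀ t : Y, f (g t) = t := by
    intro t
    rw [← Scheme.Hom.comp_apply, hg]
    rfl
  obtain ⟨ω, hωy, hωC, hCeq, hdim⟩ := exists_generic_sectionComp f g hg y₀ hirr
  have hgC : g y₀ ∈ connectedComponentIn (f.base ⁻¹' {y₀}) (g.base y₀) :=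
    mem_connectedComponentIn (hfg y₀)
  have hωg : ω ⤳ g y₀ := by
    rw [hCeq] at hgC
    exact specializes_iff_mem_closure.mpr hgC.1
  refine ⟨ω, hωy, hωC, hCeq, hdim, hωg, ?_⟩
  intro z hz hzmax
  have hemb := (f.fiberι (f (g y₀))).isEmbedding
  have hfib : ∀ t : ↥(f.fiber (f (g y₀))), f (f.fiberι (f (g y₀)) t) = f (g y₀) :=
    fun t => fiberι_mem f _ t
  set p : X := f.fiberι (f (g y₀)) z with hp
  have hpy : f p = y₀ := (hfib z).trans (hfg y₀)
  have hpg : p ⤳ g y₀ := by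
    have h1 : z ⤳ f.asFiber (g y₀) := specializes_iff_mem_closure.mpr hz
    have h2 := h1.map (f.fiberι (f (g y₀))).continuous
    rwa [f.fiberι_asFiber] at h2
  have hpC : p ∈ connectedComponentIn (f.base ⁻¹' {y₀}) (g.base y₀) := by
    have hpre := isPreconnected_closure_inter p (f.base ⁻¹' {y₀}) hpy
    exact hpre.subset_connectedComponentIn ⟨hpg.mem_closure, hfg y₀⟩ Set.inter_subset_right
      ⟨subset_closure rfl, hpy⟩
  have hωp : ω ⤳ p := by
    rw [hCeq] at hpC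
    exact specializes_iff_mem_closure.mpr hpC.1
  obtain ⟨w, hw⟩ : ∃ w : ↥(f.fiber (f (g y₀))), f.fiberι (f (g y₀)) w = ω := by
    have : ω ∈ Set.range (f.fiberι (f (g y₀))) := by
      rw [f.range_fiberι]
      exact hωy.trans (hfg y₀).symm
    exact this
  have hwz : w ⤳ z := by
    rw [← hemb.isInducing.specializes_iff, hw]
    exact hωp
  rw [← hw, hzmax w hwz.mem_closure]

theorem S5927_main {X Y : Scheme.{u}} [IsLocallyNoetherian Y] (f : X ⟶ Y)
    [LocallyOfFiniteType f] (g : Y ⟶ X) (hg : g ≫ f = 𝟙 Y)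
    (hirr : ∀ y : Y, IsIrreducible (connectedComponentIn (f.base ⁻¹' {y}) (g.base y)))
    (y₀ : Y) (hopen : ∀ ξ ∈ connectedComponentIn (f.base ⁻¹' {y₀}) (g.base y₀), connectedComponentIn (f.base ⁻¹' {y₀}) (g.base y₀) ⊆ closure {ξ} → EGA43.IsUnivOpenAt f ξ)
    (hαβ : FBase.IsGeomReducedAt (f.fiberToSpecResidueField (f.base (g.base y₀))) (f.asFiber (g.base y₀)) ∨
      (∀ y' : Y, y₀ ∈ closure {y'} → closure {y'} ∈ irreducibleComponents (Y : Type u) →
        topologicalKrullDim ↥(f.fiber y') = topologicalKrullDim ↥(connectedComponentIn (f.base ⁻¹' {y'}) (g.base y')))) :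
    (∃ V ∈ nhds y₀, ∀ z ∈ V, topologicalKrullDim ↥(connectedComponentIn (f.base ⁻¹' {z}) (g.base z)) = topologicalKrullDim ↥(connectedComponentIn (f.base ⁻¹' {y₀}) (g.base y₀))) := by
  have hfg : ∀ t : Y, f (g t) = t := by
    intro t
    rw [← Scheme.Hom.comp_apply, hg]
    rfl
  have hd : ∀ y : Y, topologicalKrullDim ↥(connectedComponentIn (f.base ⁻¹' {y}) (g.base y)) =
      FlatMor.fibreDimAt f (g y) := fun y =>
    dim_sectionComponent_eq_fibreDimAt f g hg y (hirr y)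
  obtain ⟨ω, hωy, hωC, hCeq, hdim, hωg, hωuniq⟩ := generic_sectionComp_facts f g hg y₀ (hirr y₀)
  have hUO : EGA43.IsUnivOpenAt f ω :=
    hopen ω hωC (by rw [hCeq]; exact Set.inter_subset_left)
  have key : ∀ y' : Y, y' ⤳ y₀ → (∀ y'' : Y, y'' ⤳ y' → y'' = y') →
      y' ∈ g.base ⁻¹' {x : X | ((tr f ω : ℕ) : WithBot ℕ∞) ≤ FlatMor.fibreDimAt f x} := by
    intro y' hy' hmax
    show ((tr f ω : ℕ) : WithBot ℕ∞) ≤ FlatMor.fibreDimAt f (g y')
    obtain ⟨ξ', hξ'ω, hξ'y, hge⟩ := exists_generization_tr_ge f ω hUO y' (by rw [hωy]; exact hy')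
    have hge' : ((tr f ω : ℕ) : WithBot ℕ∞) ≤ ((tr f ξ' : ℕ) : WithBot ℕ∞) := by exact_mod_cast hge
    rcases hαβ with hα | hβ
    · have hop3407 : ∀ z : ↥(f.fiber (f.base (g y₀))), f.asFiber (g y₀) ∈ closure {z} →
          (∀ z' : ↥(f.fiber (f.base (g y₀))), z ∈ closure {z'} → z' = z) →
          EGA43.IsUnivOpenAt f ((f.fiberι (f.base (g y₀))).base z) := by
        intro z hz hzmax
        rw [hωuniq z hz hzmax]
        exact hUO
      obtain ⟨W, hgW, hWUO, hWred⟩ := Groth.Agent.S3407.result f (g y₀) hop3407 hα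
      obtain ⟨Ω, hΩo, hωΩ, hΩsub⟩ :=
        exists_open_sectionComponents f g hg y₀ ω hωy hωg W hgW hWUO hWred
      have hξ'Ω : ξ' ∈ Ω := hξ'ω.mem_open hΩo hωΩ
      have hξ'S : ξ' ∈ connectedComponentIn (f.base ⁻¹' {y'}) (g.base y') := by
        have := hΩsub hξ'Ω
        unfold MoreMor.sectionComponents at this
        rw [Set.mem_ofPred_eq, hξ'y] at this
        exact this
      obtain ⟨ω', hω'y, -, hC'eq, hdim', -, -⟩ := generic_sectionComp_facts f g hg y' (hirr y')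
      rw [hC'eq] at hξ'S
      have hsp : ω' ⤳ ξ' := specializes_iff_mem_closure.mpr hξ'S.1
      have h4 := tr_le_of_specializes f ω' ξ' hsp (hω'y.trans hξ'y.symm)
      have h5 : ((tr f ξ' : ℕ) : WithBot ℕ∞) ≤ ((tr f ω' : ℕ) : WithBot ℕ∞) := by exact_mod_cast h4
      rw [← hd y', hdim']
      exact hge'.trans h5
    · have hcomp : closure ({y'} : Set Y) ∈ irreducibleComponents (Y : Type u) :=
        closure_mem_irreducibleComponents_of_isMax Y y' (isMax_of_forall y' hmax)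
      have h1 := hβ y' hy'.mem_closure hcomp
      have h2 : ((tr f ξ' : ℕ) : WithBot ℕ∞) ≤ FlatMor.fibreDimAt f ξ' := tr_le_fibreDimAt_nn f ξ'
      have h3 := fibreDimAt_le_dim_fiber f ξ'
      rw [hξ'y, h1, hd y'] at h3
      exact hge'.trans (h2.trans h3)
  have hC : g.base ⁻¹' {x : X | ((tr f ω : ℕ) : WithBot ℕ∞) ≤ FlatMor.fibreDimAt f x} ∈ nhds y₀ :=
    mem_nhds_of_isClosed_of_max y₀ _
      ((isClosed_setOf_le_fibreDimAt f _).preimage g.continuous) key
  have hO : g.base ⁻¹' {x : X | FlatMor.fibreDimAt f x ≤ (tr f ω : ℕ)} ∈ nhds y₀ := by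
    apply ((S0402_main f (tr f ω)).preimage g.continuous).mem_nhds
    show FlatMor.fibreDimAt f (g y₀) ≤ _
    rw [← hd, hdim]
  refine ⟨_, Filter.inter_mem hC hO, ?_⟩
  rintro z ⟨h1, h2⟩
  rw [hd z, hdim]
  exact le_antisymm h2 h1

end Groth.Agent.Lib.Helper4.SecComp5
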