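import Mathlib
import Groth.Prelude.Def_FDesc
import Groth.Prelude.Def_EGA43
import Groth.Agent.S2561
import Groth.Agent.S4963
import Groth.Agent.S2567
import Groth.Agent.Lib.Helper4.OpenTransfer1
import Groth.Agent.Lib.Helper4.StalkEtale1
import Groth.Agent.Lib.Helper6.RedFib.Sch
import Groth.Agent.Lib.Helper6.EtLoc.SmoothFiber

/-!
# EGA IV 15.2.2 complement: flat reduced neighbourhood (S3408) (helper4)
-/

set_option backward.isDefEq.respectTransparency.types false
set_option synthInstance.maxHeartbeats 400000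
set_option autoImplicit false
set_option linter.unusedSectionVars false
set_option linter.style.haveILetI false
set_option linter.unusedSimpArgs false
universe u v w
open CategoryTheory CategoryTheory.Limits AlgebraicGeometry TopologicalSpace Topology TensorProduct

namespace Groth.Agent.Lib.Helper4.ValFlat12

/-- a point of a locally Noetherian scheme with reduced local ring has a reduced open
neighbourhood -/
theorem exists_reduced_nhd_of_isReduced_stalk {X : Scheme.{u}} [IsLocallyNoetherian X] (x : X)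
    (h : _root_.IsReduced (X.presheaf.stalk x)) :
    ∃ U : X.Opens, x ∈ U ∧ IsReduced (U : Scheme.{u}) := by
  obtain ⟨_, ⟨U₀, hU₀, rfl⟩, hxU₀, -⟩ :=
    X.isBasis_affineOpens.exists_subset_of_mem_open (Set.mem_univ x) isOpen_univ
  have hU₀' : IsAffineOpen U₀ := hU₀
  haveI hN₀ : IsNoetherianRing Γ(X, U₀) := IsLocallyNoetherian.component_noetherian ⟨U₀, hU₀'⟩
  let alg₀ := X.presheaf.algebra_section_stalk ⟨x, hxU₀⟩
  have hloc₀ := hU₀'.isLocalization_stalk ⟨x, hxU₀⟩
  haveI hred₀ : _root_.IsReduced (Localization.AtPrime (hU₀'.primeIdealOf ⟨x, hxU₀⟩).asIdeal) := by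
    let e := IsLocalization.algEquiv (hU₀'.primeIdealOf ⟨x, hxU₀⟩).asIdeal.primeCompl
      (Localization.AtPrime (hU₀'.primeIdealOf ⟨x, hxU₀⟩).asIdeal) (X.presheaf.stalk x)
    exact isReduced_of_injective e.toRingHom e.injective
  obtain ⟨a, ha, hreda⟩ := Groth.Agent.Lib.Helper6.RedFib.exists_isReduced_away
    (hU₀'.primeIdealOf ⟨x, hxU₀⟩).asIdeal
  have hU : IsAffineOpen (X.basicOpen a) := hU₀'.basicOpen a
  have hla : IsLocalization.Away a Γ(X, X.basicOpen a) := hU₀'.isLocalization_basicOpen a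
  have hredU : _root_.IsReduced Γ(X, X.basicOpen a) := by
    let e := IsLocalization.algEquiv (Submonoid.powers a) Γ(X, X.basicOpen a)
      (Localization.Away a)
    exact isReduced_of_injective e.toRingHom e.injective
  refine ⟨X.basicOpen a,
    (Groth.Agent.Lib.Helper4.StalkEtale1.mem_basicOpen_iff_notMem_primeIdealOf hU₀' a x hxU₀).mpr ha,
    ?_⟩
  have : IsAffine (X.basicOpen a) := hU
  have h2 : _root_.IsReduced Γ((X.basicOpen a : Scheme.{u}), ⊤) :=
    isReduced_of_injective (X.basicOpen a).topIso.hom.hom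
      (X.basicOpen a).topIso.commRingCatIsoToRingEquiv.injective
  exact isReduced_of_isAffine_isReduced _
open Groth.Agent.Lib.Helper4.OpenTransfer1 in
/-- geometric reducedness of the fibre passes to charts -/
theorem isGeomReducedAt_chart {X Y U V : Scheme.{u}} (f : X ⟶ Y) (j : U ⟶ X) (i : V ⟶ Y)
    [IsOpenImmersion j] [IsOpenImmersion i] (f' : U ⟶ V) (hc : f' ≫ i = j ≫ f) (u : U)
    (h2 : FBase.IsGeomReducedAt (f.fiberToSpecResidueField (f (j u))) (f.asFiber (j u))) :
    FBase.IsGeomReducedAt (f'.fiberToSpecResidueField (f' u)) (f'.asFiber u) := by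
  obtain ⟨ψ, hψo, hψ1, hψ2⟩ := Groth.Agent.Lib.Helper6.RedFib.exists_fiber_chart f j i f' hc (f' u)
  haveI := hψo
  haveI : IsIso (Spec.map (i.residueFieldMap (f' u))) := inferInstance
  have hmono : Mono (Spec.map (i.residueFieldMap (f' u))) := inferInstance
  refine @isGeomReducedAt_of_isOpenImmersion _ _ _ _ _ _
    (f.fiberToSpecResidueField (i (f' u))) (f'.fiberToSpecResidueField (f' u)) ψ hψo
    (i.residueFieldMap (f' u)) hmono hψ1.symm (f'.asFiber u) ?_
  have heq : f (j u) = i (f' u) := by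
    have := congr($(hc) u)
    simpa [Scheme.Hom.comp_apply] using this.symm
  refine isGeomReducedAt_fiber_congr f _ _ heq (f.asFiber (j u)) _ ?_ h2
  rw [f.fiberι_asFiber, ← Scheme.Hom.comp_apply, hψ2, Scheme.Hom.comp_apply, f'.fiberι_asFiber]

/-- EGA IV 15.2.2, complement -/
theorem S3408_main {X Y : Scheme.{u}} [IsLocallyNoetherian Y] (f : X ⟶ Y)
    [LocallyOfFiniteType f] (x : X)
    (hopen : ∀ z : ↥(f.fiber (f.base x)), f.asFiber x ∈ closure {z} →
      (∀ z' : ↥(f.fiber (f.base x)), z ∈ closure {z'} → z' = z) →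
      EGA43.IsUnivOpenAt f ((f.fiberι (f.base x)).base z))
    (hred : FBase.IsGeomReducedAt (f.fiberToSpecResidueField (f.base x)) (f.asFiber x))
    (hy : _root_.IsReduced (Y.presheaf.stalk (f.base x))) :
    ∃ U : X.Opens, x ∈ U ∧ Flat (U.ι ≫ f) ∧ IsReduced (U : Scheme.{u}) := by
  haveI : IsLocallyNoetherian X := LocallyOfFiniteType.isLocallyNoetherian f
  haveI : LocallyOfFinitePresentation f :=
    LocallyOfFinitePresentation.iff_locallyOfFiniteType.mpr inferInstance
  have hflat := Groth.Agent.S2561.result f x hopen hred hy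
  let W : X.Opens := ⟨_, Groth.Agent.S4963.result f⟩
  have hxW : x ∈ W := ⟨hflat, hred⟩
  have hflW : Flat (W.ι ≫ f) := by
    apply Flat.of_stalkMap
    intro w
    exact (Groth.Agent.Lib.Helper6.EtLoc.flat_stalkMap_comp_iff W.ι f w).mp w.2.1
  have hrW : FBase.IsReducedAt W ⟨x, hxW⟩ := by
    refine Groth.Agent.S2567.result (W.ι ≫ f) ⟨x, hxW⟩ hy ?_
    exact isGeomReducedAt_chart f W.ι (𝟙 Y) (W.ι ≫ f) (by simp) ⟨x, hxW⟩ hred
  obtain ⟨U₁, hxU₁, hU₁⟩ := exists_reduced_nhd_of_isReduced_stalk (X := W) ⟨x, hxW⟩ hrW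
  refine ⟨W.ι ''ᵁ U₁, ⟨⟨x, hxW⟩, hxU₁, rfl⟩, ?_, ?_⟩
  · apply Flat.of_stalkMap
    intro w
    refine (Groth.Agent.Lib.Helper6.EtLoc.flat_stalkMap_comp_iff (W.ι ''ᵁ U₁).ι f w).mp ?_
    obtain ⟨w', -, hw'⟩ := w.2
    have : (W.ι ''ᵁ U₁).ι w = W.ι w' := hw'.symm
    rw [this]
    exact w'.2.1
  · haveI := hU₁
    exact isReduced_of_isOpenImmersion (W.ι.isoImage U₁).inv

end Groth.Agent.Lib.Helper4.ValFlat12
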