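import Mathlib
import Groth.Prelude
import Groth.Agent.Lib.Helper4.SecComp5
import Groth.Agent.Lib.Helper4.GeomRedAt1
import Groth.Agent.Lib.Helper7.ProConsLib3
import Groth.Agent.S9355

/-!
# Local constructibility of the locus where the fibre dimension at a section is bounded below (helper4) (helper4)
-/

set_option backward.isDefEq.respectTransparency.types false
set_option synthInstance.maxHeartbeats 400000
set_option autoImplicit false
set_option linter.unusedSectionVars false
set_option linter.style.haveILetI false
set_option linter.unusedSimpArgs false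
universe u v w
open CategoryTheory CategoryTheory.Limits AlgebraicGeometry TopologicalSpace Topology

namespace Groth.Agent.Lib.Helper4.SecConsA

open Groth.Agent.Lib.Helper4.Chev2 Groth.Agent.Lib.Helper4.Chev3 Groth.Agent.Lib.Helper4.Equi10
  Groth.Agent.Lib.Helper4.FibDim1 Groth.Agent.Lib.Helper4.FibDim2 Groth.Agent.Lib.Helper4.FibDim4
  Groth.Agent.Lib.Helper4.SecComp2 Groth.Agent.Lib.Helper4.SecComp3
  Groth.Agent.Lib.Helper4.SecComp5 Groth.Agent.Lib.Helper4.UnivOpen1
  Groth.Agent.Lib.Helper4.FlatDimK1 Groth.Agent.Lib.Helper4.OpenNoeth1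

/-- the locus where the local dimension of the fibre at the section is at least `c` is locally
constructible, for a morphism locally of finite presentation -/
theorem isLocallyConstructible_setOf_le_fibreDimAt_section {X Y : Scheme.{u}} (f : X ⟶ Y)
    [LocallyOfFinitePresentation f] (g : Y ⟶ X) (c : ℕ) :
    IsLocallyConstructible {y : Y | ((c : ℕ) : WithBot ℕ∞) ≤ FlatMor.fibreDimAt f (g y)} := by
  cases c with
  | zero =>
    have : {y : Y | ((0 : ℕ) : WithBot ℕ∞) ≤ FlatMor.fibreDimAt f (g y)} = Set.univ := by
      ext y
      simp only [Set.mem_ofPred_eq, Set.mem_univ, iff_true]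
      refine le_trans ?_ (tr_le_fibreDimAt_nn f (g y))
      exact_mod_cast Nat.zero_le _
    rw [this]
    exact IsLocallyConstructible.univ
  | succ n =>
    have h1 : IsLocallyConstructible {x : X | FlatMor.fibreDimAt f x ≤ (n : ℕ)} :=
      IsRetrocompact.isLocallyConstructible (S0402_main f n) (Groth.Agent.S9355.result f n)
    have h2 := isLocallyConstructible_compl h1
    have h3 := Groth.Agent.Helper7.ProConsLib.isLocallyConstructible_preimage g h2
    have : {y : Y | ((n + 1 : ℕ) : WithBot ℕ∞) ≤ FlatMor.fibreDimAt f (g y)} =
        g ⁻¹' {x : X | FlatMor.fibreDimAt f x ≤ (n : ℕ)}ᶜ := by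
      ext y
      simp only [Set.mem_ofPred_eq, Set.mem_preimage, Set.mem_compl_iff]
      obtain ⟨d, hd, -⟩ := exists_open_fibreDimAt_le f (g y)
      rw [hd]
      constructor
      · intro h hle
        have h' : n + 1 ≤ d := by exact_mod_cast h
        have hle' : d ≤ n := by exact_mod_cast hle
        omega
      · intro h
        have : ¬ d ≤ n := fun hh => h (by exact_mod_cast hh)
        have h' : n + 1 ≤ d := by omega
        exact_mod_cast h'
    rw [this]
    exact h3

end Groth.Agent.Lib.Helper4.SecConsA
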