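import Mathlib
import Groth.Prelude
import Groth.Agent.Lib.Helper4.SecComp5
import Groth.Agent.Lib.Helper4.GeomRedAt1
import Groth.Agent.Lib.Helper4.SecConsA
import Groth.Agent.Lib.Helper4.OpenTransfer1

/-!
# Case (alpha) of EGA IV 15.6.7 after base change to a locally Noetherian scheme (helper4) (helper4)
-/

set_option backward.isDefEq.respectTransparency.types false
set_option synthInstance.maxHeartbeats 400000
set_option autoImplicit false
set_option linter.unusedSectionVars false
set_option linter.style.haveILetI false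
set_option linter.unusedSimpArgs false
universe u v w
open CategoryTheory CategoryTheory.Limits AlgebraicGeometry TopologicalSpace Topology

namespace Groth.Agent.Lib.Helper4.SecConsB

open Groth.Agent.Lib.Helper4.Chev2 Groth.Agent.Lib.Helper4.Chev3 Groth.Agent.Lib.Helper4.Equi10
  Groth.Agent.Lib.Helper4.FibDim1 Groth.Agent.Lib.Helper4.FibDim2 Groth.Agent.Lib.Helper4.FibDim4
  Groth.Agent.Lib.Helper4.SecComp2 Groth.Agent.Lib.Helper4.SecComp3
  Groth.Agent.Lib.Helper4.SecComp5 Groth.Agent.Lib.Helper4.UnivOpen1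
  Groth.Agent.Lib.Helper4.FlatDimK1 Groth.Agent.Lib.Helper4.OpenNoeth1
  Groth.Agent.Lib.Helper4.SecConsA

open Groth.Agent.Helper7.GeomConn Groth.Agent.Lib.Helper4.OpenTransfer1
  Groth.Agent.Lib.Helper4.GeomRedAt1 in
/-- local constancy of the dimension of the section components after a base change to a locally
Noetherian scheme (case (α) of EGA IV 15.6.7) -/
theorem alpha_aux {X Y Y₁ : Scheme.{u}} (f : X ⟶ Y) [LocallyOfFiniteType f] (g : Y ⟶ X)
    (hg : g ≫ f = 𝟙 Y)
    (hgi : ∀ (y : Y) (K : Type u) [Field K]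
      [Algebra (IsLocalRing.ResidueField (Y.presheaf.stalk y)) K],
      IsIrreducible ((FBase.bcπ (f.fiberToSpecResidueField y) K ≫ f.fiberι y).base ⁻¹'
        (connectedComponentIn (f.base ⁻¹' {y}) (g.base y))))
    (c : Y₁ ⟶ Y) [IsLocallyNoetherian Y₁] (s₁ : Y₁)
    (hopen : ∀ ξ ∈ connectedComponentIn (f.base ⁻¹' {c s₁}) (g.base (c s₁)),
      connectedComponentIn (f.base ⁻¹' {c s₁}) (g.base (c s₁)) ⊆ closure {ξ} →
        EGA43.IsUnivOpenAt f ξ)
    (hα : FBase.IsGeomReducedAt (f.fiberToSpecResidueField (f.base (g.base (c s₁))))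
      (f.asFiber (g.base (c s₁)))) :
    ∃ V₁ ∈ nhds s₁, ∀ t ∈ V₁,
      topologicalKrullDim ↥(connectedComponentIn (f.base ⁻¹' {c t}) (g.base (c t))) =
      topologicalKrullDim ↥(connectedComponentIn (f.base ⁻¹' {c s₁}) (g.base (c s₁))) := by
  have hfg : ∀ t : Y, f (g t) = t := by
    intro t
    rw [← Scheme.Hom.comp_apply, hg]
    rfl
  have hirrY : ∀ y : Y, IsIrreducible (connectedComponentIn (f.base ⁻¹' {y}) (g.base y)) :=
    fun y => isIrreducible_of_geom f y _ (connectedComponentIn_subset _ _) (hgi y)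
  have hirrBC : ∀ t : Y₁, IsIrreducible ((pullback.fst f c).base ⁻¹'
        (connectedComponentIn (f.base ⁻¹' {c t}) (g.base (c t))) ∩
        (pullback.snd f c).base ⁻¹' {t}) := by
    intro t
    letI alg : Algebra (IsLocalRing.ResidueField (Y.presheaf.stalk (c t))) (Y₁.residueField t) :=
      (c.residueFieldMap t).hom.toAlgebra
    have h := hgi (c t) (Y₁.residueField t)
    unfold FBase.bcπ at h
    have e1 : CommRingCat.ofHom (algebraMap (IsLocalRing.ResidueField (Y.presheaf.stalk (c t)))
        (Y₁.residueField t)) = c.residueFieldMap t := rfl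
    exact isIrreducible_preimage_of_bc f c t _ _ e1 h
  have heq := fun t : Y₁ => sectionComp_bc_eq f c g hg t (hirrBC t)
  have hirr₁ : ∀ t : Y₁, IsIrreducible (connectedComponentIn ((pullback.snd f c).base ⁻¹' {t})
      ((bcSection f c g hg).base t)) := fun t => by rw [heq t]; exact hirrBC t
  have hdimeq := fun t : Y₁ => dim_sectionComp_bc_eq f c g hg t (hirrY (c t)) (hirrBC t)
  have hc : IsPullback (pullback.fst f c) (pullback.snd f c) f c := IsPullback.of_hasPullback f c
  have hopen₁ : ∀ ξ₁ ∈ connectedComponentIn ((pullback.snd f c).base ⁻¹' {s₁})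
      ((bcSection f c g hg).base s₁),
      connectedComponentIn ((pullback.snd f c).base ⁻¹' {s₁}) ((bcSection f c g hg).base s₁) ⊆
        closure {ξ₁} → EGA43.IsUnivOpenAt (pullback.snd f c) ξ₁ := by
    intro ξ₁ hξ₁ hcl
    have hξ := hopen (pullback.fst f c ξ₁) ?_ ?_
    · exact Groth.Agent.Lib.Helper4.UO.isUnivOpenAt_of_isPullback hξ hc ξ₁ rfl
    · rw [heq s₁] at hξ₁; exact hξ₁.1
    · intro x hx
      have hfx : f x = c s₁ := (connectedComponentIn_subset (f ⁻¹' {c s₁}) (g (c s₁))) hx
      obtain ⟨x₁, hx₁1, hx₁2⟩ := Scheme.Pullback.exists_preimage_pullback x s₁ hfx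
      have hmem : x₁ ∈ connectedComponentIn ((pullback.snd f c).base ⁻¹' {s₁})
          ((bcSection f c g hg).base s₁) := by
        rw [heq s₁]
        refine ⟨?_, hx₁2⟩
        show pullback.fst f c x₁ ∈ connectedComponentIn (f.base ⁻¹' {c s₁}) (g.base (c s₁))
        rw [hx₁1]; exact hx
      have h2 := hcl hmem
      rw [← hx₁1]
      have h3 := (image_closure_subset_closure_image (pullback.fst f c).continuous)
        (Set.mem_image_of_mem _ h2)
      rwa [Set.image_singleton] at h3
  have hs1 : pullback.snd f c (bcSection f c g hg s₁) = s₁ := by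
    rw [← Scheme.Hom.comp_apply, bcSection_snd]
    rfl
  have hs2 : pullback.fst f c (bcSection f c g hg s₁) = g (c s₁) := by
    rw [← Scheme.Hom.comp_apply, bcSection_fst, Scheme.Hom.comp_apply]
  have hα₁ : FBase.IsGeomReducedAt ((pullback.snd f c).fiberToSpecResidueField
      ((pullback.snd f c).base ((bcSection f c g hg).base s₁)))
      ((pullback.snd f c).asFiber ((bcSection f c g hg).base s₁)) := by
    apply isGeomReducedAt_fibre_ascend f (pullback.snd f c) (pullback.fst f c) c hc
    refine isGeomReducedAt_fiber_congr f (f (g (c s₁))) _ ?_ (f.asFiber (g (c s₁))) _ ?_ hα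
    · rw [hfg, hs1]
    · have hR : f.fiberι (c ((pullback.snd f c) ((bcSection f c g hg) s₁)))
          (fibreMap f (pullback.snd f c) (pullback.fst f c) c hc
            ((pullback.snd f c) ((bcSection f c g hg) s₁))
            ((pullback.snd f c).asFiber ((bcSection f c g hg) s₁))) =
          pullback.fst f c ((bcSection f c g hg) s₁) := by
        rw [← Scheme.Hom.comp_apply, fibreMap_fiberι, Scheme.Hom.comp_apply,
          (pullback.snd f c).fiberι_asFiber]
      rw [f.fiberι_asFiber, hR, hs2]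
  obtain ⟨V₁, hV₁, hV₁d⟩ := S5927_main (pullback.snd f c) (bcSection f c g hg)
    (bcSection_snd f c g hg) hirr₁ s₁ hopen₁ (Or.inl hα₁)
  refine ⟨V₁, hV₁, fun t ht => ?_⟩
  rw [← hdimeq t, ← hdimeq s₁]
  exact hV₁d t ht

end Groth.Agent.Lib.Helper4.SecConsB
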