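import Mathlib
import Groth.Prelude
import Groth.Agent.Lib.Helper4.SecComp5
import Groth.Agent.Lib.Helper4.SecConsA
import Groth.Agent.Lib.Helper4.SecConsB

/-!
# EGA IV 15.6.7 for morphisms of finite presentation (S4956) (helper4) (helper4)
-/

set_option backward.isDefEq.respectTransparency.types false
set_option synthInstance.maxHeartbeats 400000
set_option autoImplicit false
set_option linter.unusedSectionVars false
set_option linter.style.haveILetI false
set_option linter.unusedSimpArgs false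
universe u v w
open CategoryTheory CategoryTheory.Limits AlgebraicGeometry TopologicalSpace Topology

namespace Groth.Agent.Lib.Helper4.SecConsC

open Groth.Agent.Lib.Helper4.Chev2 Groth.Agent.Lib.Helper4.Chev3 Groth.Agent.Lib.Helper4.Equi10
  Groth.Agent.Lib.Helper4.FibDim1 Groth.Agent.Lib.Helper4.FibDim2 Groth.Agent.Lib.Helper4.FibDim4
  Groth.Agent.Lib.Helper4.SecComp2 Groth.Agent.Lib.Helper4.SecComp3
  Groth.Agent.Lib.Helper4.SecComp5 Groth.Agent.Lib.Helper4.UnivOpen1
  Groth.Agent.Lib.Helper4.FlatDimK1 Groth.Agent.Lib.Helper4.OpenNoeth1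
  Groth.Agent.Lib.Helper4.SecConsA Groth.Agent.Lib.Helper4.SecConsB

/-- EGA IV 15.6.7 for morphisms of finite presentation -/
theorem S4956_main {X Y : Scheme.{u}} (f : X ⟶ Y)
    [LocallyOfFinitePresentation f] [QuasiCompact f] [QuasiSeparated f] (g : Y ⟶ X) (hg : g ≫ f = 𝟙 Y)
    (hirr : ∀ y : Y, (∀ (K : Type u) [Field K] [Algebra (IsLocalRing.ResidueField (Y.presheaf.stalk y)) K],
        IsIrreducible ((FBase.bcπ (f.fiberToSpecResidueField y) K ≫ f.fiberι y).base ⁻¹' connectedComponentIn (f.base ⁻¹' {y}) (g.base y))))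
    (y₀ : Y) (hopen : ∀ ξ ∈ connectedComponentIn (f.base ⁻¹' {y₀}) (g.base y₀), connectedComponentIn (f.base ⁻¹' {y₀}) (g.base y₀) ⊆ closure {ξ} → EGA43.IsUnivOpenAt f ξ)
    (hαβ : (FBase.IsGeomReducedAt (f.fiberToSpecResidueField (f.base (g.base y₀))) (f.asFiber (g.base y₀)) ∧
        IsNoetherianRing (Y.presheaf.stalk y₀)) ∨
      (∀ y' : Y, y₀ ∈ closure {y'} → closure {y'} ∈ irreducibleComponents (Y : Type u) →
        topologicalKrullDim ↥(f.fiber y') = topologicalKrullDim ↥(connectedComponentIn (f.base ⁻¹' {y'}) (g.base y')))) :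
    ∃ V ∈ nhds y₀, ∀ z ∈ V, topologicalKrullDim ↥(connectedComponentIn (f.base ⁻¹' {z}) (g.base z)) = topologicalKrullDim ↥(connectedComponentIn (f.base ⁻¹' {y₀}) (g.base y₀)) := by
  have hfg : ∀ t : Y, f (g t) = t := by
    intro t
    rw [← Scheme.Hom.comp_apply, hg]
    rfl
  have hirrY : ∀ y : Y, IsIrreducible (connectedComponentIn (f.base ⁻¹' {y}) (g.base y)) :=
    fun y => isIrreducible_of_geom f y _ (connectedComponentIn_subset _ _) (hirr y)
  have hd : ∀ y : Y, topologicalKrullDim ↥(connectedComponentIn (f.base ⁻¹' {y}) (g.base y)) =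
      FlatMor.fibreDimAt f (g y) := fun y =>
    dim_sectionComponent_eq_fibreDimAt f g hg y (hirrY y)
  obtain ⟨ω, hωy, hωC, hCeq, hdim, hωg, hωuniq⟩ := generic_sectionComp_facts f g hg y₀ (hirrY y₀)
  have hUO : EGA43.IsUnivOpenAt f ω :=
    hopen ω hωC (by rw [hCeq]; exact Set.inter_subset_left)
  have hEcl : IsClosed (g.base ⁻¹' {x : X | ((tr f ω : ℕ) : WithBot ℕ∞) ≤ FlatMor.fibreDimAt f x}) :=
    (isClosed_setOf_le_fibreDimAt f _).preimage g.continuous
  have hEcons := isLocallyConstructible_setOf_le_fibreDimAt_section f g (tr f ω)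
  have hgen : ∀ y : Y, y ⤳ y₀ →
      y ∈ {y : Y | ((tr f ω : ℕ) : WithBot ℕ∞) ≤ FlatMor.fibreDimAt f (g y)} := by
    rcases hαβ with ⟨hα, hN⟩ | hβ
    · intro y hy
      haveI := hN
      obtain ⟨c, hc⟩ : ∃ c : Spec (Y.presheaf.stalk y₀) ⟶ Y, c = Y.fromSpecStalk y₀ := ⟨_, rfl⟩
      obtain ⟨s₁, hs₁⟩ : ∃ s₁ : ↥(Spec (Y.presheaf.stalk y₀)),
          s₁ = IsLocalRing.closedPoint (Y.presheaf.stalk y₀) := ⟨_, rfl⟩
      have hcs : c s₁ = y₀ := by rw [hc, hs₁]; exact Scheme.fromSpecStalk_closedPoint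
      have tr1 : ∀ a b : Y, a = b →
          (∀ ξ ∈ connectedComponentIn (f.base ⁻¹' {b}) (g.base b),
            connectedComponentIn (f.base ⁻¹' {b}) (g.base b) ⊆ closure {ξ} →
              EGA43.IsUnivOpenAt f ξ) →
          (∀ ξ ∈ connectedComponentIn (f.base ⁻¹' {a}) (g.base a),
            connectedComponentIn (f.base ⁻¹' {a}) (g.base a) ⊆ closure {ξ} →
              EGA43.IsUnivOpenAt f ξ) := by
        rintro _ _ rfl h
        exact h
      have tr2 : ∀ a b : Y, a = b →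
          FBase.IsGeomReducedAt (f.fiberToSpecResidueField (f.base (g.base b)))
            (f.asFiber (g.base b)) →
          FBase.IsGeomReducedAt (f.fiberToSpecResidueField (f.base (g.base a)))
            (f.asFiber (g.base a)) := by
        rintro _ _ rfl h
        exact h
      have tr3 : ∀ a b : Y, a = b →
          topologicalKrullDim ↥(connectedComponentIn (f.base ⁻¹' {a}) (g.base a)) =
          topologicalKrullDim ↥(connectedComponentIn (f.base ⁻¹' {b}) (g.base b)) := by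
        rintro _ _ rfl
        rfl
      obtain ⟨V₁, hV₁, hV₁d⟩ := alpha_aux f g hg hirr c s₁ (tr1 _ _ hcs hopen) (tr2 _ _ hcs hα)
      obtain ⟨t, ht⟩ : y ∈ Set.range c := by
        rw [hc, Scheme.range_fromSpecStalk]
        exact hy
      have hts : t ⤳ s₁ := by
        rw [hs₁]
        exact IsLocalRing.specializes_closedPoint t
      have htV : t ∈ V₁ := by
        obtain ⟨O, hOV, hO, hsO⟩ := mem_nhds_iff.mp hV₁
        exact hOV (hts.mem_open hO hsO)
      have h1 := hV₁d t htV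
      rw [tr3 _ _ ht, tr3 _ _ hcs, hd y, hdim] at h1
      show ((tr f ω : ℕ) : WithBot ℕ∞) ≤ FlatMor.fibreDimAt f (g y)
      rw [h1]
    · have key : ∀ y' : Y, y' ⤳ y₀ → (∀ y'' : Y, y'' ⤳ y' → y'' = y') →
          ((tr f ω : ℕ) : WithBot ℕ∞) ≤ FlatMor.fibreDimAt f (g y') := by
        intro y' hy' hmax
        obtain ⟨ξ', hξ'ω, hξ'y, hge⟩ := exists_generization_tr_ge f ω hUO y' (by rw [hωy]; exact hy')
        have hge' : ((tr f ω : ℕ) : WithBot ℕ∞) ≤ ((tr f ξ' : ℕ) : WithBot ℕ∞) := by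
          exact_mod_cast hge
        have hcomp : closure ({y'} : Set Y) ∈ irreducibleComponents (Y : Type u) :=
          closure_mem_irreducibleComponents_of_isMax Y y' (isMax_of_forall y' hmax)
        have h1 := hβ y' hy'.mem_closure hcomp
        have h2 : ((tr f ξ' : ℕ) : WithBot ℕ∞) ≤ FlatMor.fibreDimAt f ξ' := tr_le_fibreDimAt_nn f ξ'
        have h3 := fibreDimAt_le_dim_fiber f ξ'
        rw [hξ'y, h1, hd y'] at h3
        exact hge'.trans (h2.trans h3)
      intro y hy
      obtain ⟨y', hle, hmax⟩ := exists_isMax_ge Y y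
      have hy'y : y' ⤳ y := hle
      have hmem := key y' (hy'y.trans hy) (fun y'' h => eq_of_isMax_of_specializes y' hmax y'' h)
      have hmem' : y' ∈ g.base ⁻¹' {x : X | ((tr f ω : ℕ) : WithBot ℕ∞) ≤ FlatMor.fibreDimAt f x} :=
        hmem
      have hycl : y ∈ closure ({y'} : Set Y) := hy'y.mem_closure
      exact hEcl.closure_subset (closure_mono (Set.singleton_subset_iff.mpr hmem') hycl)
  have hC : {y : Y | ((tr f ω : ℕ) : WithBot ℕ∞) ≤ FlatMor.fibreDimAt f (g y)} ∈ nhds y₀ :=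
    mem_nhds_of_isLocallyConstructible _ hEcons y₀ hgen
  have hO : g.base ⁻¹' {x : X | FlatMor.fibreDimAt f x ≤ (tr f ω : ℕ)} ∈ nhds y₀ := by
    apply ((S0402_main f (tr f ω)).preimage g.continuous).mem_nhds
    show FlatMor.fibreDimAt f (g y₀) ≤ _
    rw [← hd, hdim]
  refine ⟨_, Filter.inter_mem hC hO, ?_⟩
  rintro z ⟨h1, h2⟩
  rw [hd z, hdim]
  exact le_antisymm h2 h1

end Groth.Agent.Lib.Helper4.SecConsC
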