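import Mathlib
import Groth.Agent.Lib.Helper7.GeomConn.SectionComp
import Groth.Agent.Lib.Helper4.ConstrProper2

/-!
# Properness of the fibre component of a section: base change and descent (helper4)
-/

set_option backward.isDefEq.respectTransparency.types false
set_option synthInstance.maxHeartbeats 400000
set_option autoImplicit false
set_option linter.unusedSectionVars false
set_option linter.style.haveILetI false
set_option linter.unusedSimpArgs false
universe u v w
open CategoryTheory CategoryTheory.Limits AlgebraicGeometry TopologicalSpace Topology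

namespace Groth.Agent.Lib.Helper4.SecProp1

open Groth.Agent.Helper7.GeomConn

/-- the fibre component of a section is proper over the residue field -/
def FibProper {X Y : Scheme.{u}} (f : X ⟶ Y) (s : Y ⟶ X) (y : Y) : Prop :=
  ∃ hop : IsOpen ((f.fiberι y).base ⁻¹' connectedComponentIn (f.base ⁻¹' {y}) (s.base y)),
    IsProper (Scheme.Opens.ι (⟨(f.fiberι y).base ⁻¹'
      connectedComponentIn (f.base ⁻¹' {y}) (s.base y), hop⟩ : (f.fiber y).Opens) ≫
      f.fiberToSpecResidueField y)

theorem isProper_opens_congr {F S : Scheme.{u}} (q : F ⟶ S) (U U' : F.Opens) (h : U = U')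
    (hp : IsProper (U.ι ≫ q)) : IsProper (U'.ι ≫ q) := by
  subst h; exact hp

section

variable {X Y : Scheme.{u}} (f : X ⟶ Y) (s : Y ⟶ X) (hs : s ≫ f = 𝟙 Y)

include hs in
theorem preimage_fiberι_connectedComponentIn (y : Y) :
    (f.fiberι y).base ⁻¹' connectedComponentIn (f.base ⁻¹' {y}) (s.base y) =
      connectedComponent (fibrePt f s hs y) := by
  have h1 : connectedComponentIn (f.base ⁻¹' {y}) (s.base y) =
      (f.fiberι y) '' connectedComponent (fibrePt f s hs y) := by
    have := connectedComponentIn_range_embedding (f.fiberι y).isEmbedding (f.base ⁻¹' {y})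
      (f.range_fiberι y) (fibrePt f s hs y)
    rw [fiberι_fibrePt] at this
    exact this
  rw [h1]
  exact Set.preimage_image_eq _ (f.fiberι y).isEmbedding.injective

end


section BC

variable {X Y X' Y' : Scheme.{u}} (f : X ⟶ Y) (s : Y ⟶ X) (hs : s ≫ f = 𝟙 Y)
    (f' : X' ⟶ Y') (g' : X' ⟶ X) (g : Y' ⟶ Y) (hc : IsPullback g' f' f g)
    (s' : Y' ⟶ X') (hs' : s' ≫ f' = 𝟙 Y') (hs'g : s' ≫ g' = g ≫ s)

include hs'g in
theorem preimage_fibreMap_connectedComponent (y' : Y') :
    (fibreMap f f' g' g hc y') ⁻¹' connectedComponent (fibrePt f s hs (g y')) =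
      connectedComponent (fibrePt f' s' hs' y') := by
  ext w
  exact (mem_connectedComponent_fibrePt_iff f s hs f' g' g hc s' hs' hs'g y' w).symm

theorem isOpen_connectedComponent_fibrePt [LocallyOfFiniteType f] [QuasiCompact f] (y : Y) :
    IsOpen (connectedComponent (fibrePt f s hs y)) := by
  haveI : LocallyOfFiniteType (f.fiberToSpecResidueField y) :=
    MorphismProperty.pullback_snd (P := @LocallyOfFiniteType) _ _ inferInstance
  haveI : QuasiCompact (f.fiberToSpecResidueField y) :=
    MorphismProperty.pullback_snd (P := @QuasiCompact) _ _ inferInstance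
  haveI : IsLocallyNoetherian (f.fiber y) :=
    LocallyOfFiniteType.isLocallyNoetherian (f.fiberToSpecResidueField y)
  haveI : CompactSpace ↥(f.fiber y) :=
    QuasiCompact.compactSpace_of_compactSpace (f.fiberToSpecResidueField y)
  haveI : IsNoetherian (f.fiber y) := { }
  exact Groth.Agent.Lib.Helper4.ConnHartogs1.isOpen_connectedComponent_of_noetherian _

/-- the cartesian square of the fibre components -/
theorem isPullback_fibreComponent (y' : Y') (W : (f.fiber (g y')).Opens) :
    IsPullback ((fibreMap f f' g' g hc y') ∣_ W)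
      (((fibreMap f f' g' g hc y') ⁻¹ᵁ W).ι ≫ f'.fiberToSpecResidueField y')
      (W.ι ≫ f.fiberToSpecResidueField (g y')) (Spec.map (g.residueFieldMap y')) :=
  (isPullback_morphismRestrict (fibreMap f f' g' g hc y') W).paste_vert
    (isPullback_fibreMap f f' g' g hc y')


include hs hs' hc hs'g in
theorem opens_eq (y' : Y')
    (hop : IsOpen ((f.fiberι (g y')).base ⁻¹'
      connectedComponentIn (f.base ⁻¹' {g y'}) (s.base (g y'))))
    (hop' : IsOpen ((f'.fiberι y').base ⁻¹'
      connectedComponentIn (f'.base ⁻¹' {y'}) (s'.base y'))) :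
    (fibreMap f f' g' g hc y') ⁻¹ᵁ (⟨(f.fiberι (g y')).base ⁻¹'
      connectedComponentIn (f.base ⁻¹' {g y'}) (s.base (g y')), hop⟩ : (f.fiber (g y')).Opens) =
    (⟨(f'.fiberι y').base ⁻¹' connectedComponentIn (f'.base ⁻¹' {y'}) (s'.base y'), hop'⟩ :
      (f'.fiber y').Opens) := by
  apply TopologicalSpace.Opens.ext
  show (fibreMap f f' g' g hc y') ⁻¹' ((f.fiberι (g y')).base ⁻¹'
      connectedComponentIn (f.base ⁻¹' {g y'}) (s.base (g y'))) =
    (f'.fiberι y').base ⁻¹' connectedComponentIn (f'.base ⁻¹' {y'}) (s'.base y')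
  rw [preimage_fiberι_connectedComponentIn f s hs, preimage_fiberι_connectedComponentIn f' s' hs',
    preimage_fibreMap_connectedComponent f s hs f' g' g hc s' hs' hs'g]

include hs hs' hc hs'g in
theorem fibProper_of_baseChange (y' : Y') (h : FibProper f s (g y')) : FibProper f' s' y' := by
  obtain ⟨hop, hp⟩ := h
  have hop' : IsOpen ((f'.fiberι y').base ⁻¹'
      connectedComponentIn (f'.base ⁻¹' {y'}) (s'.base y')) := by
    rw [preimage_fiberι_connectedComponentIn f' s' hs',
      ← preimage_fibreMap_connectedComponent f s hs f' g' g hc s' hs' hs'g,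
      ← preimage_fiberι_connectedComponentIn f s hs]
    exact hop.preimage (fibreMap f f' g' g hc y').continuous
  refine ⟨hop', ?_⟩
  have sq := isPullback_fibreComponent f f' g' g hc y' ⟨_, hop⟩
  have hp1 : IsProper (((fibreMap f f' g' g hc y') ⁻¹ᵁ (⟨(f.fiberι (g y')).base ⁻¹'
      connectedComponentIn (f.base ⁻¹' {g y'}) (s.base (g y')), hop⟩ :
        (f.fiber (g y')).Opens)).ι ≫ f'.fiberToSpecResidueField y') :=
    MorphismProperty.of_isPullback (P := @IsProper) sq hp
  exact isProper_opens_congr _ _ _ (opens_eq f s hs f' g' g hc s' hs' hs'g y' hop hop') hp1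

include hs hs' hc hs'g in
theorem fibProper_of_descent [IsSeparated f] [LocallyOfFiniteType f] [QuasiCompact f]
    (y' : Y') (h : FibProper f' s' y') : FibProper f s (g y') := by
  obtain ⟨hop', hp'⟩ := h
  have hop : IsOpen ((f.fiberι (g y')).base ⁻¹'
      connectedComponentIn (f.base ⁻¹' {g y'}) (s.base (g y'))) := by
    rw [preimage_fiberι_connectedComponentIn f s hs]
    exact isOpen_connectedComponent_fibrePt f s hs (g y')
  refine ⟨hop, ?_⟩
  obtain ⟨W, hW⟩ : ∃ W : (f.fiber (g y')).Opens, W = (⟨(f.fiberι (g y')).base ⁻¹'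
      connectedComponentIn (f.base ⁻¹' {g y'}) (s.base (g y')), hop⟩ :
        (f.fiber (g y')).Opens) := ⟨_, rfl⟩
  rw [← hW]
  have sq := isPullback_fibreComponent f f' g' g hc y' W
  have hp1 : IsProper (((fibreMap f f' g' g hc y') ⁻¹ᵁ W).ι ≫ f'.fiberToSpecResidueField y') := by
    refine isProper_opens_congr _ _ _ ?_ hp'
    rw [hW]
    exact (opens_eq f s hs f' g' g hc s' hs' hs'g y' hop hop').symm
  -- the fibre is a Noetherian scheme
  haveI : LocallyOfFiniteType (f.fiberToSpecResidueField (g y')) :=
    MorphismProperty.pullback_snd (P := @LocallyOfFiniteType) _ _ inferInstance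
  haveI : QuasiCompact (f.fiberToSpecResidueField (g y')) :=
    MorphismProperty.pullback_snd (P := @QuasiCompact) _ _ inferInstance
  haveI : IsSeparated (f.fiberToSpecResidueField (g y')) :=
    MorphismProperty.pullback_snd (P := @IsSeparated) _ _ inferInstance
  haveI : IsLocallyNoetherian (f.fiber (g y')) :=
    LocallyOfFiniteType.isLocallyNoetherian (f.fiberToSpecResidueField (g y'))
  haveI : CompactSpace ↥(f.fiber (g y')) :=
    QuasiCompact.compactSpace_of_compactSpace (f.fiberToSpecResidueField (g y'))
  haveI : IsNoetherian (f.fiber (g y')) := { }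
  haveI : QuasiCompact W.ι := inferInstance
  haveI : UniversallyClosed (W.ι ≫ f.fiberToSpecResidueField (g y')) := by
    have hQ : (@Surjective ⊓ @Flat ⊓ @QuasiCompact : MorphismProperty Scheme.{u})
        (Spec.map (g.residueFieldMap y')) := by
      refine ⟨⟨?_, ?_⟩, ?_⟩
      · constructor
        intro a
        refine ⟨IsLocalRing.closedPoint (Y'.residueField y'), ?_⟩
        exact Subsingleton.elim (α := PrimeSpectrum (Y.residueField (g y'))) _ _
      · have h1 : (g.residueFieldMap y').hom.Flat := by
          algebraize [(g.residueFieldMap y').hom]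
          exact (inferInstance : Module.Flat (Y.residueField (g y')) (Y'.residueField y'))
        exact (HasRingHomProperty.Spec_iff (P := @Flat)).mpr h1
      · infer_instance
    exact MorphismProperty.of_isPullback_of_descendsAlong (P := @UniversallyClosed)
      (Q := @Surjective ⊓ @Flat ⊓ @QuasiCompact) sq.flip hQ inferInstance
  exact { }

end BC

end Groth.Agent.Lib.Helper4.SecProp1
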