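import Mathlib
import Groth.Agent.Lib.Helper4.SecProp1

/-!
# Properness of a subset over a neighbourhood of a point: flexible form, base change, open restriction (helper4)
-/

set_option backward.isDefEq.respectTransparency.types false
set_option synthInstance.maxHeartbeats 400000
set_option autoImplicit false
set_option linter.unusedSectionVars false
set_option linter.style.haveILetI false
set_option linter.unusedSimpArgs false
universe u v w
open CategoryTheory CategoryTheory.Limits AlgebraicGeometry TopologicalSpace Topology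

namespace Groth.Agent.Lib.Helper4.SecProp2

open Groth.Agent.Helper7.GeomConn

/-- properness of a subset over a neighbourhood of a point of the base, in a flexible form -/
def ProperAt {X Y : Scheme.{u}} (f : X ⟶ Y) (Z : Set X) (y : Y) : Prop :=
  ∃ (U : Y.Opens) (P : Scheme.{u}) (k : P ⟶ X) (p : P ⟶ (U : Scheme.{u})),
    y ∈ U ∧ Mono k ∧ IsProper p ∧ k ≫ f = p ≫ U.ι ∧ Set.range k = Z ∩ f ⁻¹' (U : Set Y)

theorem ProperAt.of_subscheme {X Y : Scheme.{u}} (f : X ⟶ Y) (Z : Set X) (y : Y) (U : Y.Opens)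
    (hyU : y ∈ U) (hC : IsClosed ((f ⁻¹ᵁ U).ι.base ⁻¹' Z))
    (hp : IsProper ((Scheme.IdealSheafData.vanishingIdeal
      (⟨(f ⁻¹ᵁ U).ι.base ⁻¹' Z, hC⟩ : TopologicalSpace.Closeds ↥(f ⁻¹ᵁ U))).subschemeι ≫
        (f ∣_ U))) : ProperAt f Z y := by
  set CU : TopologicalSpace.Closeds ↥(f ⁻¹ᵁ U) := ⟨(f ⁻¹ᵁ U).ι.base ⁻¹' Z, hC⟩ with hCU
  set IU := Scheme.IdealSheafData.vanishingIdeal (X := (f ⁻¹ᵁ U).toScheme) CU with hIU
  have hrσ : Set.range IU.subschemeι = (f ⁻¹ᵁ U).ι.base ⁻¹' Z := by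
    rw [Scheme.IdealSheafData.range_subschemeι, hIU,
      Scheme.IdealSheafData.coe_support_vanishingIdeal]
    rfl
  refine ⟨U, _, IU.subschemeι ≫ (f ⁻¹ᵁ U).ι, IU.subschemeι ≫ (f ∣_ U), hyU, inferInstance, hp,
    ?_, ?_⟩
  · rw [Category.assoc, Category.assoc, morphismRestrict_ι]
  · rw [Scheme.Hom.comp_base, TopCat.coe_comp, Set.range_comp]
    have : Set.range IU.subschemeι.base = (f ⁻¹ᵁ U).ι.base ⁻¹' Z := hrσ
    rw [this, Set.image_preimage_eq_inter_range]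
    have h2 : Set.range (f ⁻¹ᵁ U).ι.base = f ⁻¹' (U : Set Y) := Scheme.Opens.range_ι _
    rw [h2]


theorem ProperAt.exists_subscheme {X Y : Scheme.{u}} (f : X ⟶ Y) [IsSeparated f] (Z : Set X)
    (y : Y) (h : ProperAt f Z y) :
    ∃ U : Y.Opens, y ∈ U ∧ ∃ hC : IsClosed ((f ⁻¹ᵁ U).ι.base ⁻¹' Z),
      IsProper ((Scheme.IdealSheafData.vanishingIdeal
        (⟨(f ⁻¹ᵁ U).ι.base ⁻¹' Z, hC⟩ : TopologicalSpace.Closeds ↥(f ⁻¹ᵁ U))).subschemeι ≫
          (f ∣_ U)) := by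
  obtain ⟨U, P, k, p, hyU, hmono, hprop, hcomm, hrange⟩ := h
  haveI := hmono
  haveI := hprop
  refine ⟨U, hyU, ?_⟩
  have hkU : Set.range k ⊆ Set.range (f ⁻¹ᵁ U).ι := by
    rw [hrange, Scheme.Opens.range_ι]
    exact Set.inter_subset_right
  obtain ⟨k', hk'⟩ : ∃ k' : P ⟶ (f ⁻¹ᵁ U).toScheme, k' ≫ (f ⁻¹ᵁ U).ι = k :=
    ⟨IsOpenImmersion.lift (f ⁻¹ᵁ U).ι k hkU, IsOpenImmersion.lift_fac _ _ _⟩
  have hk'p : k' ≫ (f ∣_ U) = p := by
    rw [← cancel_mono U.ι, Category.assoc, morphismRestrict_ι, ← Category.assoc, hk', hcomm]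
  haveI : IsSeparated (f ∣_ U) :=
    MorphismProperty.of_isPullback (P := @IsSeparated) (isPullback_morphismRestrict f U).flip
      inferInstance
  haveI : IsProper (k' ≫ (f ∣_ U)) := by rw [hk'p]; infer_instance
  haveI : IsProper k' := IsProper.of_comp k' (f ∣_ U)
  haveI : Mono k' := by
    haveI : Mono (k' ≫ (f ⁻¹ᵁ U).ι) := by rw [hk']; infer_instance
    exact mono_of_mono k' (f ⁻¹ᵁ U).ι
  haveI : IsClosedImmersion k' := (IsClosedImmersion.iff_isProper_and_mono k').mpr ⟨‹_›, ‹_›⟩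
  have hrk' : Set.range k' = (f ⁻¹ᵁ U).ι.base ⁻¹' Z := by
    ext t
    constructor
    · rintro ⟨w, rfl⟩
      have h1 : (f ⁻¹ᵁ U).ι (k' w) ∈ Set.range k := by
        rw [← Scheme.Hom.comp_apply, hk']; exact ⟨w, rfl⟩
      rw [hrange] at h1
      exact h1.1
    · intro ht
      have h1 : (f ⁻¹ᵁ U).ι t ∈ Set.range k := by
        rw [hrange]
        exact ⟨ht, t.2⟩
      obtain ⟨w, hw⟩ := h1
      refine ⟨w, ?_⟩
      apply (f ⁻¹ᵁ U).ι.isOpenEmbedding.injective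
      rw [← Scheme.Hom.comp_apply, hk', hw]
  have hC : IsClosed ((f ⁻¹ᵁ U).ι.base ⁻¹' Z) := by
    rw [← hrk']
    exact k'.isClosedEmbedding.isClosed_range
  refine ⟨hC, ?_⟩
  set CU : TopologicalSpace.Closeds ↥(f ⁻¹ᵁ U) := ⟨(f ⁻¹ᵁ U).ι.base ⁻¹' Z, hC⟩ with hCU
  set IU := Scheme.IdealSheafData.vanishingIdeal (X := (f ⁻¹ᵁ U).toScheme) CU with hIU
  have hle : k'.ker ≤ IU.subschemeι.ker := by
    rw [Scheme.IdealSheafData.ker_subschemeι, hIU,
      ← Scheme.IdealSheafData.le_support_iff_le_vanishingIdeal]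
    intro t ht
    have h1 : (k'.ker.support : Set ↥(f ⁻¹ᵁ U).toScheme) = closure (Set.range k') :=
      Scheme.Hom.support_ker k'
    show t ∈ (k'.ker.support : Set ↥(f ⁻¹ᵁ U).toScheme)
    rw [h1, hrk']
    exact subset_closure ht
  obtain ⟨l, hl⟩ : ∃ l : IU.subscheme ⟶ P, l ≫ k' = IU.subschemeι :=
    ⟨IsClosedImmersion.lift k' IU.subschemeι hle, IsClosedImmersion.lift_fac _ _ _⟩
  haveI : IsClosedImmersion (l ≫ k') := by rw [hl]; infer_instance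
  haveI : IsClosedImmersion l := IsClosedImmersion.of_comp l k'
  have : IU.subschemeι ≫ (f ∣_ U) = l ≫ p := by
    rw [← hl, Category.assoc, hk'p]
  rw [this]
  infer_instance


theorem ProperAt.baseChange {X Y X₀ Y₀ : Scheme.{u}} {f : X ⟶ Y} {f₀ : X₀ ⟶ Y₀} {q : X ⟶ X₀}
    {π : Y ⟶ Y₀} (hc : IsPullback q f f₀ π) (Z₀ : Set X₀) (y : Y) (h : ProperAt f₀ Z₀ (π y)) :
    ProperAt f (q ⁻¹' Z₀) y := by
  obtain ⟨U₀, P₀, k₀, p₀, hyU₀, hmono, hprop, hcomm, hrange⟩ := h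
  haveI := hmono
  haveI := hprop
  obtain ⟨k, hk⟩ : ∃ k : pullback k₀ q ⟶ X, k = pullback.snd k₀ q := ⟨_, rfl⟩
  obtain ⟨r, hr⟩ : ∃ r : pullback k₀ q ⟶ P₀, r = pullback.fst k₀ q := ⟨_, rfl⟩
  have hsq1 : IsPullback r k k₀ q := by rw [hr, hk]; exact IsPullback.of_hasPullback k₀ q
  haveI : Mono k := by rw [hk]; infer_instance
  have hfq : ∀ x : X, f₀ (q x) = π (f x) := fun x => by
    rw [← Scheme.Hom.comp_apply, ← Scheme.Hom.comp_apply, hc.w]
  have hsub : Set.range (k ≫ f) ⊆ Set.range (π ⁻¹ᵁ U₀).ι := by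
    rintro _ ⟨w, rfl⟩
    rw [Scheme.Opens.range_ι]
    show π ((k ≫ f) w) ∈ U₀
    have e : k ≫ q ≫ f₀ = r ≫ p₀ ≫ U₀.ι := by
      rw [← Category.assoc, ← hsq1.w, Category.assoc, hcomm]
    have e2 : f₀ (q (k w)) = U₀.ι (p₀ (r w)) := by
      have := congrArg (fun m : pullback k₀ q ⟶ Y₀ => m w) e
      simpa only [Scheme.Hom.comp_apply] using this
    rw [Scheme.Hom.comp_apply, ← hfq, e2]
    exact (p₀ (r w)).2
  obtain ⟨p, hp⟩ : ∃ p : pullback k₀ q ⟶ (π ⁻¹ᵁ U₀).toScheme, p ≫ (π ⁻¹ᵁ U₀).ι = k ≫ f :=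
    ⟨IsOpenImmersion.lift (π ⁻¹ᵁ U₀).ι (k ≫ f) hsub, IsOpenImmersion.lift_fac _ _ _⟩
  have hbig : IsPullback r (p ≫ (π ⁻¹ᵁ U₀).ι) (p₀ ≫ U₀.ι) π := by
    rw [hp, ← hcomm]
    exact hsq1.paste_vert hc
  have hcommU : r ≫ p₀ = p ≫ (π ∣_ U₀) := by
    rw [← cancel_mono U₀.ι]
    simp only [Category.assoc]
    rw [morphismRestrict_ι, ← Category.assoc p, hp, ← hcomm, ← Category.assoc r, hsq1.w,
      Category.assoc, Category.assoc, hc.w]
  have hsmall : IsPullback r p p₀ (π ∣_ U₀) :=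
    IsPullback.of_bot hbig hcommU (isPullback_morphismRestrict π U₀)
  haveI : IsProper p := MorphismProperty.of_isPullback (P := @IsProper) hsmall inferInstance
  refine ⟨π ⁻¹ᵁ U₀, _, k, p, hyU₀, inferInstance, inferInstance, hp.symm, ?_⟩
  have hrk : Set.range k = q ⁻¹' Set.range k₀ := by
    rw [hk]; exact Scheme.Pullback.range_snd k₀ q
  rw [hrk, hrange]
  ext x
  constructor
  · rintro ⟨hx1, hx2⟩
    refine ⟨hx1, ?_⟩
    show π (f x) ∈ U₀
    rw [← hfq]; exact hx2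
  · rintro ⟨hx1, hx2⟩
    refine ⟨hx1, ?_⟩
    show f₀ (q x) ∈ U₀
    rw [hfq]; exact hx2

theorem ProperAt.of_openImmersion {X Y X' Y' : Scheme.{u}} {f : X ⟶ Y} {f' : X' ⟶ Y'}
    {j : X' ⟶ X} {jY : Y' ⟶ Y} [IsOpenImmersion j] [IsOpenImmersion jY]
    (hc : IsPullback j f' f jY) (Z : Set X) (y' : Y') (h : ProperAt f' (j ⁻¹' Z) y') :
    ProperAt f Z (jY y') := by
  obtain ⟨U', P, k', p', hyU', hmono, hprop, hcomm, hrange⟩ := h
  haveI := hmono
  haveI := hprop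
  refine ⟨jY ''ᵁ U', P, k' ≫ j, p' ≫ (jY.isoImage U').hom, ⟨y', hyU', rfl⟩, inferInstance,
    inferInstance, ?_, ?_⟩
  · rw [Category.assoc, Category.assoc, Scheme.Hom.isoImage_hom_ι, ← Category.assoc p', ← hcomm,
      Category.assoc, hc.w]
  · rw [Scheme.Hom.comp_base, TopCat.coe_comp, Set.range_comp]
    have : Set.range k'.base = j ⁻¹' Z ∩ f' ⁻¹' (U' : Set Y') := hrange
    rw [this]
    ext x
    constructor
    · rintro ⟨x', ⟨hx'1, hx'2⟩, rfl⟩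
      have hfj : f (j x') = jY (f' x') := by
        rw [← Scheme.Hom.comp_apply, ← Scheme.Hom.comp_apply, hc.w]
      exact ⟨hx'1, f' x', hx'2, hfj.symm⟩
    · rintro ⟨hx1, u', hu', hu'x⟩
      obtain ⟨x', hx'1, hx'2⟩ := exists_preimage_of_isPullback hc x u' hu'x.symm
      refine ⟨x', ⟨?_, ?_⟩, hx'1⟩
      · show j x' ∈ Z
        rw [hx'1]; exact hx1
      · show f' x' ∈ U'
        rw [hx'2]; exact hu'

end Groth.Agent.Lib.Helper4.SecProp2
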