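import Mathlib
import Groth.Agent.Lib.Helper4.SecProp2
import Groth.Agent.Lib.Helper4.GCSec5

/-!
# Section components are proper at a point: the Noetherian case (helper4)
-/

set_option backward.isDefEq.respectTransparency.types false
set_option synthInstance.maxHeartbeats 400000
set_option autoImplicit false
set_option linter.unusedSectionVars false
set_option linter.style.haveILetI false
set_option linter.unusedSimpArgs false
universe u v w
open CategoryTheory CategoryTheory.Limits AlgebraicGeometry TopologicalSpace Topology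

namespace Groth.Agent.Lib.Helper4.SecProp3

open Groth.Agent.Helper7.GeomConn Groth.Agent.Lib.Helper4.SecProp1 Groth.Agent.Lib.Helper4.SecProp2

section

variable {X Y : Scheme.{u}} (f : X ⟶ Y) (g : Y ⟶ X) (hg : g ≫ f = 𝟙 Y)

include hg in
theorem section_apply (y : Y) : f (g y) = y := by
  rw [← Scheme.Hom.comp_apply, hg]; rfl

include hg in
theorem section_mem_sectionComponents (y : Y) : g y ∈ MoreMor.sectionComponents f g := by
  unfold MoreMor.sectionComponents
  rw [Set.mem_ofPred_eq, section_apply f g hg]
  exact mem_connectedComponentIn (section_apply f g hg y)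

theorem sectionComponents_inter_fibre (y' : Y) :
    MoreMor.sectionComponents f g ∩ f.base ⁻¹' {y'} =
      connectedComponentIn (f.base ⁻¹' {y'}) (g.base y') := by
  ext x
  constructor
  · rintro ⟨hx1, hx2⟩
    have hx2' : f x = y' := hx2
    unfold MoreMor.sectionComponents at hx1
    rw [Set.mem_ofPred_eq, hx2'] at hx1
    exact hx1
  · intro hx
    have hx2 : x ∈ f.base ⁻¹' {y'} := connectedComponentIn_subset _ _ hx
    have hx2 : f x = y' := hx2
    refine ⟨?_, hx2⟩
    unfold MoreMor.sectionComponents
    rw [Set.mem_ofPred_eq, hx2]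
    exact hx

theorem preimage_fiberι_sectionComponents (y' : Y) :
    (f.fiberι y').base ⁻¹' MoreMor.sectionComponents f g =
      (f.fiberι y').base ⁻¹' connectedComponentIn (f.base ⁻¹' {y'}) (g.base y') := by
  rw [← sectionComponents_inter_fibre f g y', Set.preimage_inter]
  have : (f.fiberι y').base ⁻¹' (f.base ⁻¹' {y'}) = Set.univ := by
    rw [← f.range_fiberι y']
    exact Set.preimage_range _
  rw [this, Set.inter_univ]

end


/-- the Noetherian case of S4976 -/
theorem properAt_sectionComponents_of_noetherian {X Y : Scheme.{u}} [IsLocallyNoetherian Y]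
    (f : X ⟶ Y) [IsSeparated f] [LocallyOfFinitePresentation f] [QuasiCompact f]
    [QuasiSeparated f] (g : Y ⟶ X) (hg : g ≫ f = 𝟙 Y) (y : Y) (h : FibProper f g y) :
    ProperAt f (MoreMor.sectionComponents f g) y := by
  obtain ⟨hop, hprop⟩ := h
  have hZ : IsLocallyConstructible (MoreMor.sectionComponents f g) :=
    Groth.Agent.Lib.Helper4.GCSec5.isLocallyConstructible_sectionComponents f g hg
  have hop' : IsOpen ((f.fiberι y).base ⁻¹' MoreMor.sectionComponents f g) := by
    rw [preimage_fiberι_sectionComponents]; exact hop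
  have hprop' : IsProper (Scheme.Opens.ι (⟨(f.fiberι y).base ⁻¹' MoreMor.sectionComponents f g,
      hop'⟩ : (f.fiber y).Opens) ≫ f.fiberToSpecResidueField y) := by
    refine isProper_opens_congr _ _ _ ?_ hprop
    apply TopologicalSpace.Opens.ext
    exact (preimage_fiberι_sectionComponents f g y).symm
  suffices H : ∃ U : Y.Opens, y ∈ U ∧
      ∃ hC : IsClosed ((f ⁻¹ᵁ U).ι.base ⁻¹' MoreMor.sectionComponents f g),
      IsProper ((Scheme.IdealSheafData.vanishingIdeal
        (⟨(f ⁻¹ᵁ U).ι.base ⁻¹' MoreMor.sectionComponents f g, hC⟩ :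
          TopologicalSpace.Closeds ↥(f ⁻¹ᵁ U))).subschemeι ≫ (f ∣_ U)) by
    obtain ⟨U, hyU, hC, hp⟩ := H
    exact ProperAt.of_subscheme f _ y U hyU hC hp
  refine Groth.Agent.Lib.Helper4.ConstrProper2.S4977_main y f
    (MoreMor.sectionComponents f g) hZ ?_ hop' hprop' ?_
  · intro y' _
    refine ⟨⟨g y', section_mem_sectionComponents f g hg y', section_apply f g hg y',
      sectionComponents_inter_fibre f g y'⟩, ?_⟩
    intro K _ _
    rw [Scheme.Hom.comp_base, TopCat.coe_comp, Set.preimage_comp,
      preimage_fiberι_sectionComponents, preimage_fiberι_connectedComponentIn f g hg]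
    exact (Groth.Agent.Lib.Helper4.GCSec1.isConnected_preimage_connectedComponent_of_section
      (CommRingCat.ofHom (algebraMap (IsLocalRing.ResidueField (Y.presheaf.stalk y')) K))
      (f.fiberToSpecResidueField y') (pullback.snd _ _)
      (FBase.bcπ (f.fiberToSpecResidueField y') K) (IsPullback.of_hasPullback _ _)
      (fibreSection f g hg y') (fibreSection_toSpec f g hg y') (fibrePt f g hg y')
      ⟨_, rfl⟩).isPreconnected
  · intro Y' h E hE hW
    obtain ⟨W, hWo, hWeq⟩ := hW
    obtain ⟨g', hg'1, hg'2⟩ : ∃ g' : Y' ⟶ pullback f h,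
        g' ≫ pullback.fst f h = h ≫ g ∧ g' ≫ pullback.snd f h = 𝟙 Y' :=
      ⟨pullback.lift (h ≫ g) (𝟙 Y') (by rw [Category.assoc, hg, Category.comp_id,
        Category.id_comp]), pullback.lift_fst _ _ _, pullback.lift_snd _ _ _⟩
    have h1 : ∀ t : Y', (pullback.fst f h) (g' t) ∈ MoreMor.sectionComponents f g := by
      intro t
      rw [← Scheme.Hom.comp_apply, hg'1, Scheme.Hom.comp_apply]
      exact section_mem_sectionComponents f g hg (h t)
    have h2 : ∀ t : Y', (pullback.snd f h) (g' t) = t := by
      intro t
      rw [← Scheme.Hom.comp_apply, hg'2]; rfl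
    refine ⟨g' ⁻¹' W, hWo.preimage g'.continuous, ?_⟩
    have hVE : g' ⁻¹' W = E := by
      ext t
      constructor
      · intro ht
        have h3 : g' t ∈ W ∩ (pullback.fst f h).base ⁻¹' MoreMor.sectionComponents f g :=
          ⟨ht, h1 t⟩
        rw [hWeq] at h3
        have h4 : (pullback.snd f h) (g' t) ∈ E := h3.1
        rw [h2] at h4
        exact h4
      · intro ht
        have h3 : g' t ∈ (pullback.snd f h).base ⁻¹' E ∩
            (pullback.fst f h).base ⁻¹' MoreMor.sectionComponents f g := by
          refine ⟨?_, h1 t⟩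
          show (pullback.snd f h) (g' t) ∈ E
          rw [h2]; exact ht
        rw [← hWeq] at h3
        exact h3.1
    rw [hVE]
    exact Set.inter_eq_left.mpr hE

end Groth.Agent.Lib.Helper4.SecProp3
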