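import Mathlib
import Groth.Agent.Lib.Helper4.SecProp3
import Groth.Agent.Lib.Helper7.FibTop.Model
import Groth.Agent.Lib.Helper7.ConsPair.Props

/-!
# Section components are proper at a point (S4976): Noetherian approximation via the diagonal (helper4)
-/

set_option backward.isDefEq.respectTransparency.types false
set_option synthInstance.maxHeartbeats 400000
set_option autoImplicit false
set_option linter.unusedSectionVars false
set_option linter.style.haveILetI false
set_option linter.unusedSimpArgs false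
universe u v w
open CategoryTheory CategoryTheory.Limits AlgebraicGeometry TopologicalSpace Topology

namespace Groth.Agent.Lib.Helper4.SecProp4

open Groth.Agent.Helper7.GeomConn Groth.Agent.Lib.Helper4.SecProp1 Groth.Agent.Lib.Helper4.SecProp2
  Groth.Agent.Lib.Helper4.SecProp3
open Groth.Agent.Helper7.LimDesc Groth.Agent.Helper7.LimBC Groth.Agent.Helper7
  Groth.Agent.Helper7.LimStage Groth.Agent.Helper7.ConsPair

set_option backward.isDefEq.respectTransparency false in
/-- a separated morphism of finite presentation to an affine scheme comes by base change from a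
separated morphism of finite type over the spectrum of a Noetherian ring. -/
theorem exists_noetherian_separated_model (A : Type u) [CommRing A] {X : Scheme.{u}}
    (f : X ⟶ Spec (CommRingCat.of A))
    [LocallyOfFinitePresentation f] [QuasiCompact f] [IsSeparated f] :
    ∃ (A₀ : Type u) (_ : CommRing A₀) (_ : IsNoetherianRing A₀)
      (π : Spec (CommRingCat.of A) ⟶ Spec (CommRingCat.of A₀)) (X₀ : Scheme.{u})
      (f₀ : X₀ ⟶ Spec (CommRingCat.of A₀)) (q : X ⟶ X₀),
        LocallyOfFinitePresentation f₀ ∧ QuasiCompact f₀ ∧ IsSeparated f₀ ∧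
          IsPullback q f f₀ π := by
  obtain ⟨hc⟩ := FGSub.isLimit_specCone A
  obtain ⟨j₀, ⟨M⟩⟩ := desc_of_finitePresentation hc f
  have hY : IsPullback ((FGSub.specCone A).π.app j₀) (𝟙 _) (𝟙 _) ((FGSub.specCone A).π.app j₀) :=
    IsPullback.of_vert_isIso ⟨by simp⟩
  have h1 : IsSeparated (bcHom M.zj (𝟙 _) ((FGSub.specCone A).π.app j₀)) :=
    bcHom_of_isPullback M.zj (𝟙 _) @IsSeparated ((FGSub.specCone A).π.app j₀) hY M.isPullback
      inferInstance
  obtain ⟨k, φ, hk⟩ := hasStage_isSeparated (FGSub.specDiag A) (FGSub.specCone A) hc M.zj (𝟙 _) h1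
  have hY' : IsPullback ((FGSub.specDiag A).map φ) (𝟙 _) (𝟙 _) ((FGSub.specDiag A).map φ) :=
    IsPullback.of_vert_isIso ⟨by simp⟩
  have h2 : IsSeparated (M.stage φ).zj :=
    of_bcHom_of_isPullback M.zj (𝟙 _) @IsSeparated ((FGSub.specDiag A).map φ) hY'
      (IsPullback.of_hasPullback M.zj ((FGSub.specDiag A).map φ)) hk
  have hN : IsNoetherianRing ↥k.unop.1 := by
    have : Algebra.FiniteType ℤ ↥k.unop.1 := (Subalgebra.fg_iff_finiteType _).mp k.unop.2
    exact Algebra.FiniteType.isNoetherianRing ℤ _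
  exact ⟨↥k.unop.1, inferInstance, hN, (FGSub.specCone A).π.app k, (M.stage φ).Zj, (M.stage φ).zj,
    (M.stage φ).q, (M.stage φ).lfp, (M.stage φ).qc, h2, (M.stage φ).isPullback⟩


section Diag

variable {X Y : Scheme.{u}} (f : X ⟶ Y) (g : Y ⟶ X) (hg : g ≫ f = 𝟙 Y)

/-- the graph of the section `g` composed with `f` -/
noncomputable def diagMap : X ⟶ pullback f f :=
  pullback.lift (𝟙 X) (f ≫ g) (by rw [Category.id_comp, Category.assoc, hg, Category.comp_id])

theorem diagMap_fst : diagMap f g hg ≫ pullback.fst f f = 𝟙 X := pullback.lift_fst _ _ _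

theorem diagMap_snd : diagMap f g hg ≫ pullback.snd f f = f ≫ g := pullback.lift_snd _ _ _

theorem isPullback_diagMap : IsPullback (diagMap f g hg) f (pullback.snd f f) g := by
  refine IsPullback.of_right ?_ (diagMap_snd f g hg) (IsPullback.of_hasPullback f f)
  rw [diagMap_fst, hg]
  exact IsPullback.of_horiz_isIso ⟨by rw [Category.id_comp, Category.comp_id]⟩

theorem section_diagMap : g ≫ diagMap f g hg = g ≫ pullback.diagonal f := by
  apply pullback.hom_ext
  · rw [Category.assoc, diagMap_fst, Category.assoc, pullback.diagonal_fst]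
  · rw [Category.assoc, diagMap_snd, Category.assoc, pullback.diagonal_snd, ← Category.assoc, hg,
      Category.id_comp, Category.comp_id]

include hg in
theorem properAt_of_diagonal (y : Y)
    (H : ProperAt (pullback.snd f f)
      (MoreMor.sectionComponents (pullback.snd f f) (pullback.diagonal f)) (g y)) :
    ProperAt f (MoreMor.sectionComponents f g) y := by
  have h1 := ProperAt.baseChange (isPullback_diagMap f g hg) _ y H
  have h2 : MoreMor.sectionComponents f g = (diagMap f g hg) ⁻¹'
      MoreMor.sectionComponents (pullback.snd f f) (pullback.diagonal f) :=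
    sectionComponents_baseChange (pullback.snd f f) (pullback.diagonal f)
      (pullback.diagonal_snd f) f _ g (isPullback_diagMap f g hg) g hg (section_diagMap f g hg)
  rw [h2]
  exact h1

include hg in
theorem fibProper_diagonal [IsSeparated f] [LocallyOfFiniteType f] [QuasiCompact f] (y : Y)
    (h : FibProper f g y) : FibProper (pullback.snd f f) (pullback.diagonal f) (g y) :=
  fibProper_of_descent (pullback.snd f f) (pullback.diagonal f) (pullback.diagonal_snd f) f
    (diagMap f g hg) g (isPullback_diagMap f g hg) g hg (section_diagMap f g hg) y h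

end Diag


theorem properAt_diagonal_spec (A : Type u) [CommRing A] {X : Scheme.{u}}
    (f : X ⟶ Spec (CommRingCat.of A)) [LocallyOfFinitePresentation f] [QuasiCompact f]
    [IsSeparated f] (x : X)
    (h : FibProper (pullback.snd f f) (pullback.diagonal f) x) :
    ProperAt (pullback.snd f f)
      (MoreMor.sectionComponents (pullback.snd f f) (pullback.diagonal f)) x := by
  obtain ⟨A₀, _, hN, π, X₀, f₀, q, hlfp, hqc, hsep, hpb⟩ := exists_noetherian_separated_model A f
  haveI : IsLocallyNoetherian X₀ := LocallyOfFiniteType.isLocallyNoetherian f₀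
  obtain ⟨m, hm⟩ : ∃ m : pullback f f ⟶ pullback f₀ f₀,
      m = pullback.map f f f₀ f₀ q q π hpb.w.symm hpb.w.symm := ⟨_, rfl⟩
  have h1 : m ≫ pullback.fst f₀ f₀ = pullback.fst f f ≫ q := by
    rw [hm]; exact pullback.lift_fst _ _ _
  have h2 : m ≫ pullback.snd f₀ f₀ = pullback.snd f f ≫ q := by
    rw [hm]; exact pullback.lift_snd _ _ _
  have hB : IsPullback m (pullback.snd f f) (pullback.snd f₀ f₀) q := by
    refine IsPullback.of_right ?_ h2 (IsPullback.of_hasPullback f₀ f₀)
    rw [h1, hpb.w]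
    exact (IsPullback.of_hasPullback f f).paste_horiz hpb
  have hΔ : pullback.diagonal f ≫ m = q ≫ pullback.diagonal f₀ := by
    apply pullback.hom_ext
    · rw [Category.assoc, h1, ← Category.assoc, pullback.diagonal_fst, Category.id_comp,
        Category.assoc, pullback.diagonal_fst, Category.comp_id]
    · rw [Category.assoc, h2, ← Category.assoc, pullback.diagonal_snd, Category.id_comp,
        Category.assoc, pullback.diagonal_snd, Category.comp_id]
  have h₀ : FibProper (pullback.snd f₀ f₀) (pullback.diagonal f₀) (q x) :=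
    fibProper_of_descent (pullback.snd f₀ f₀) (pullback.diagonal f₀) (pullback.diagonal_snd f₀)
      (pullback.snd f f) m q hB (pullback.diagonal f) (pullback.diagonal_snd f) hΔ x h
  have P₀ := properAt_sectionComponents_of_noetherian (pullback.snd f₀ f₀) (pullback.diagonal f₀)
    (pullback.diagonal_snd f₀) (q x) h₀
  have P₁ := ProperAt.baseChange hB _ x P₀
  have h3 : MoreMor.sectionComponents (pullback.snd f f) (pullback.diagonal f) =
      m ⁻¹' MoreMor.sectionComponents (pullback.snd f₀ f₀) (pullback.diagonal f₀) :=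
    sectionComponents_baseChange (pullback.snd f₀ f₀) (pullback.diagonal f₀)
      (pullback.diagonal_snd f₀) (pullback.snd f f) m q hB (pullback.diagonal f)
      (pullback.diagonal_snd f) hΔ
  rw [h3]
  exact P₁

theorem properAt_spec (A : Type u) [CommRing A] {X : Scheme.{u}}
    (f : X ⟶ Spec (CommRingCat.of A)) [LocallyOfFinitePresentation f] [QuasiCompact f]
    [IsSeparated f] (g : Spec (CommRingCat.of A) ⟶ X) (hg : g ≫ f = 𝟙 _)
    (y : ↥(Spec (CommRingCat.of A))) (h : FibProper f g y) :
    ProperAt f (MoreMor.sectionComponents f g) y :=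
  properAt_of_diagonal f g hg y
    (properAt_diagonal_spec A f (g y) (fibProper_diagonal f g hg y h))


theorem properAt_sectionComponents {X Y : Scheme.{u}} (f : X ⟶ Y) [IsSeparated f]
    [LocallyOfFinitePresentation f] [QuasiCompact f] (g : Y ⟶ X) (hg : g ≫ f = 𝟙 Y) (y : Y)
    (h : FibProper f g y) : ProperAt f (MoreMor.sectionComponents f g) y := by
  obtain ⟨_, ⟨V, hV, rfl⟩, hyV, -⟩ :=
    Y.isBasis_affineOpens.exists_subset_of_mem_open (Set.mem_univ y) isOpen_univ
  have hV' : IsAffineOpen V := hV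
  obtain ⟨jY, hjY⟩ : ∃ jY : Spec Γ(Y, V) ⟶ Y, jY = hV'.fromSpec := ⟨_, rfl⟩
  haveI : IsOpenImmersion jY := by rw [hjY]; infer_instance
  have hrange : Set.range jY = (V : Set Y) := by rw [hjY]; exact hV'.range_fromSpec
  obtain ⟨y₁, hy₁⟩ : ∃ y₁ : ↥(Spec Γ(Y, V)), jY y₁ = y := by
    have : y ∈ Set.range jY := by rw [hrange]; exact hyV
    exact this
  obtain ⟨j, hj⟩ : ∃ j : pullback f jY ⟶ X, j = pullback.fst f jY := ⟨_, rfl⟩
  obtain ⟨f₁, hf₁⟩ : ∃ f₁ : pullback f jY ⟶ Spec Γ(Y, V), f₁ = pullback.snd f jY := ⟨_, rfl⟩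
  haveI : IsOpenImmersion j := by rw [hj]; infer_instance
  haveI : IsSeparated f₁ := by rw [hf₁]; infer_instance
  haveI : LocallyOfFinitePresentation f₁ := by rw [hf₁]; infer_instance
  haveI : QuasiCompact f₁ := by rw [hf₁]; infer_instance
  have hc : IsPullback j f₁ f jY := by rw [hj, hf₁]; exact IsPullback.of_hasPullback f jY
  obtain ⟨g₁, hg₁j, hg₁⟩ : ∃ g₁ : Spec Γ(Y, V) ⟶ pullback f jY,
      g₁ ≫ j = jY ≫ g ∧ g₁ ≫ f₁ = 𝟙 _ := by
    refine ⟨pullback.lift (jY ≫ g) (𝟙 _) (by rw [Category.assoc, hg, Category.comp_id,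
      Category.id_comp]), ?_, ?_⟩
    · rw [hj]; exact pullback.lift_fst _ _ _
    · rw [hf₁]; exact pullback.lift_snd _ _ _
  rw [← hy₁] at h ⊢
  have h₁ : FibProper f₁ g₁ y₁ := fibProper_of_baseChange f g hg f₁ j jY hc g₁ hg₁ hg₁j y₁ h
  have P₁ := properAt_spec Γ(Y, V) f₁ g₁ hg₁ y₁ h₁
  have hZ : MoreMor.sectionComponents f₁ g₁ = j ⁻¹' MoreMor.sectionComponents f g :=
    sectionComponents_baseChange f g hg f₁ j jY hc g₁ hg₁ hg₁j
  rw [hZ] at P₁
  exact ProperAt.of_openImmersion hc _ y₁ P₁

/-- **S4976** -/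
theorem S4976_main {X Y : Scheme.{u}} (f : X ⟶ Y) [IsSeparated f]
    [LocallyOfFinitePresentation f] [QuasiCompact f] [QuasiSeparated f] (g : Y ⟶ X)
    (hg : g ≫ f = 𝟙 Y) (y : Y)
    (hop : IsOpen ((f.fiberι y).base ⁻¹' connectedComponentIn (f.base ⁻¹' {y}) (g.base y)))
    (hprop : IsProper (Scheme.Opens.ι (⟨(f.fiberι y).base ⁻¹'
      connectedComponentIn (f.base ⁻¹' {y}) (g.base y), hop⟩ : (f.fiber y).Opens) ≫
      f.fiberToSpecResidueField y)) :
    ∃ U : Y.Opens, y ∈ U ∧ ∃ hC : IsClosed ((f ⁻¹ᵁ U).ι.base ⁻¹' MoreMor.sectionComponents f g),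
      IsProper ((Scheme.IdealSheafData.vanishingIdeal
        (⟨(f ⁻¹ᵁ U).ι.base ⁻¹' MoreMor.sectionComponents f g, hC⟩ :
          TopologicalSpace.Closeds ↥(f ⁻¹ᵁ U))).subschemeι ≫ (f ∣_ U)) :=
  ProperAt.exists_subscheme f _ y (properAt_sectionComponents f g hg y ⟨hop, hprop⟩)

end Groth.Agent.Lib.Helper4.SecProp4
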