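import Mathlib
import Groth.Agent.Lib.Helper4.SecProp4
import Groth.Agent.Lib.Helper4.Chev2
import Groth.Agent.Lib.Helper8.TopDim2

/-!
# Dimension of the fibre components of a section under generization (S4957) (helper4)
-/

set_option backward.isDefEq.respectTransparency.types false
set_option synthInstance.maxHeartbeats 400000
set_option autoImplicit false
set_option linter.unusedSectionVars false
set_option linter.style.haveILetI false
set_option linter.unusedSimpArgs false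
universe u v w
open CategoryTheory CategoryTheory.Limits AlgebraicGeometry TopologicalSpace Topology

namespace Groth.Agent.Lib.Helper4.SecProp5

open Groth.Agent.Helper7.GeomConn Groth.Agent.Lib.Helper4.SecProp1 Groth.Agent.Lib.Helper4.SecProp2
  Groth.Agent.Lib.Helper4.SecProp3 Groth.Agent.Lib.Helper4.SecProp4

theorem localDim_fiber_eq_fibreDimAt {T S : Scheme.{u}} (p : T ⟶ S) (s : S) (w : p.fiber s) :
    FlatMor.localDim (p.fiber s) w = FlatMor.fibreDimAt p (p.fiberι s w) := by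
  have hs : p (p.fiberι s w) = s := Groth.Agent.Lib.Helper4.FibDim1.fiberι_mem p s w
  unfold FlatMor.fibreDimAt
  have key : ∀ (s₁ : S) (h : s₁ = s) (w₁ : p.fiber s₁), p.fiberι s₁ w₁ = p.fiberι s w →
      FlatMor.localDim (p.fiber s) w = FlatMor.localDim (p.fiber s₁) w₁ := by
    intro s₁ h w₁ hw
    subst h
    rw [(p.fiberι _).isEmbedding.injective hw]
  exact key _ hs _ (p.fiberι_asFiber _)

/-- Chevalley's semicontinuity on the base for closed maps -/
theorem dim_fiber_le_of_specializes {T S : Scheme.{u}} (p : T ⟶ S) [LocallyOfFiniteType p]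
    (hcl : IsClosedMap p) (s' s : S) (h : s' ⤳ s) :
    topologicalKrullDim ↥(p.fiber s') ≤ topologicalKrullDim ↥(p.fiber s) := by
  rw [Groth.Agent.Helper8.TopDim2.dim_eq_iSup_localDim (p.fiber s')]
  apply iSup_le
  intro w'
  obtain ⟨d, hd, -⟩ := Groth.Agent.Lib.Helper4.Chev2.exists_open_fibreDimAt_le p (p.fiberι s' w')
  rw [localDim_fiber_eq_fibreDimAt, hd]
  have hGo : IsOpen {t : T | FlatMor.fibreDimAt p t < (d : WithBot ℕ∞)} := by
    rw [isOpen_iff_forall_mem_open]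
    intro t ht
    obtain ⟨dt, hdt, O, htO, hO⟩ := Groth.Agent.Lib.Helper4.Chev2.exists_open_fibreDimAt_le p t
    refine ⟨O, ?_, O.2, htO⟩
    intro t₁ ht₁
    have h1 : (dt : WithBot ℕ∞) < d := hdt ▸ ht
    exact lt_of_le_of_lt (hO t₁ ht₁) h1
  have hFc : IsClosed {t : T | FlatMor.fibreDimAt p t < (d : WithBot ℕ∞)}ᶜ := hGo.isClosed_compl
  have hpF := hcl _ hFc
  have hs' : s' ∈ p '' {t : T | FlatMor.fibreDimAt p t < (d : WithBot ℕ∞)}ᶜ := by
    refine ⟨p.fiberι s' w', ?_, Groth.Agent.Lib.Helper4.FibDim1.fiberι_mem p s' w'⟩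
    show ¬ (FlatMor.fibreDimAt p (p.fiberι s' w') < (d : WithBot ℕ∞))
    rw [hd]; exact lt_irrefl _
  have hs : s ∈ p '' {t : T | FlatMor.fibreDimAt p t < (d : WithBot ℕ∞)}ᶜ :=
    h.mem_closed hpF hs'
  obtain ⟨t, ht, hpt⟩ := hs
  have h1 : (d : WithBot ℕ∞) ≤ FlatMor.fibreDimAt p t := not_lt.mp ht
  have h2 : FlatMor.fibreDimAt p t ≤ topologicalKrullDim ↥(p.fiber (p t)) :=
    Groth.Agent.Lib.Helper4.Chev2.localDim_le_topologicalKrullDim _
  rw [hpt] at h2
  exact h1.trans h2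


/-- **S4957** -/
theorem S4957_main {X Y : Scheme.{u}} (f : X ⟶ Y) [IsSeparated f]
    [LocallyOfFinitePresentation f] [QuasiCompact f] [QuasiSeparated f] (g : Y ⟶ X)
    (hg : g ≫ f = 𝟙 Y) (y : Y)
    (hop : IsOpen ((f.fiberι y).base ⁻¹' connectedComponentIn (f.base ⁻¹' {y}) (g.base y)))
    (hprop : IsProper (Scheme.Opens.ι (⟨(f.fiberι y).base ⁻¹'
      connectedComponentIn (f.base ⁻¹' {y}) (g.base y), hop⟩ : (f.fiber y).Opens) ≫
      f.fiberToSpecResidueField y))
    (y' : Y) (hy' : y' ⤳ y) :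
    topologicalKrullDim ↥(connectedComponentIn (f.base ⁻¹' {y'}) (g.base y')) ≤
      topologicalKrullDim ↥(connectedComponentIn (f.base ⁻¹' {y}) (g.base y)) := by
  obtain ⟨U, hyU, hC, hp⟩ := S4976_main f g hg y hop hprop
  set CU : TopologicalSpace.Closeds ↥(f ⁻¹ᵁ U) :=
    ⟨(f ⁻¹ᵁ U).ι.base ⁻¹' MoreMor.sectionComponents f g, hC⟩ with hCU
  set IU := Scheme.IdealSheafData.vanishingIdeal (X := (f ⁻¹ᵁ U).toScheme) CU with hIU
  have hrσ : Set.range IU.subschemeι = (f ⁻¹ᵁ U).ι.base ⁻¹' MoreMor.sectionComponents f g := by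
    rw [Scheme.IdealSheafData.range_subschemeι, hIU,
      Scheme.IdealSheafData.coe_support_vanishingIdeal]
    rfl
  obtain ⟨κ, hκ⟩ : ∃ κ : IU.subscheme ⟶ X, κ = IU.subschemeι ≫ (f ⁻¹ᵁ U).ι := ⟨_, rfl⟩
  obtain ⟨p, hpdef⟩ : ∃ p : IU.subscheme ⟶ U.toScheme, p = IU.subschemeι ≫ (f ∣_ U) := ⟨_, rfl⟩
  rw [← hpdef] at hp
  haveI := hp
  have hκemb : Topology.IsEmbedding κ := by
    rw [hκ]
    exact (f ⁻¹ᵁ U).ι.isOpenEmbedding.isEmbedding.comp IU.subschemeι.isClosedEmbedding.isEmbedding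
  have hκrange : Set.range κ = MoreMor.sectionComponents f g ∩ f ⁻¹' (U : Set Y) := by
    rw [hκ, Scheme.Hom.comp_base, TopCat.coe_comp, Set.range_comp]
    have : Set.range IU.subschemeι.base =
        (f ⁻¹ᵁ U).ι.base ⁻¹' MoreMor.sectionComponents f g := hrσ
    rw [this, Set.image_preimage_eq_inter_range]
    have h2 : Set.range (f ⁻¹ᵁ U).ι.base = f ⁻¹' (U : Set Y) := Scheme.Opens.range_ι _
    rw [h2]
  have hpκ : p ≫ U.ι = κ ≫ f := by
    rw [hpdef, hκ, Category.assoc, Category.assoc, morphismRestrict_ι]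
  have hpκ' : ∀ t, U.ι (p t) = f (κ t) := fun t => by
    rw [← Scheme.Hom.comp_apply, ← Scheme.Hom.comp_apply, hpκ]
  -- the fibres of `p` are the fibre components
  have dimC : ∀ u : ↥U.toScheme,
      topologicalKrullDim ↥(connectedComponentIn (f.base ⁻¹' {U.ι u}) (g.base (U.ι u))) =
        topologicalKrullDim ↥(p.fiber u) := by
    intro u
    have hemb : Topology.IsEmbedding (κ ∘ p.fiberι u) :=
      hκemb.comp (p.fiberι u).isEmbedding
    have hrange : Set.range (κ ∘ p.fiberι u) =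
        connectedComponentIn (f.base ⁻¹' {U.ι u}) (g.base (U.ι u)) := by
      rw [← sectionComponents_inter_fibre f g (U.ι u)]
      ext x
      constructor
      · rintro ⟨w, rfl⟩
        have h1 : κ (p.fiberι u w) ∈ Set.range κ := ⟨_, rfl⟩
        rw [hκrange] at h1
        refine ⟨h1.1, ?_⟩
        show f (κ (p.fiberι u w)) = U.ι u
        rw [← hpκ', Groth.Agent.Lib.Helper4.FibDim1.fiberι_mem p u w]
      · rintro ⟨hx1, hx2⟩
        have hx2' : f x = U.ι u := hx2
        have h1 : x ∈ Set.range κ := by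
          rw [hκrange]
          refine ⟨hx1, ?_⟩
          show f x ∈ U
          rw [hx2']; exact u.2
        obtain ⟨t, rfl⟩ := h1
        have h2 : p t = u := by
          apply U.ι.isOpenEmbedding.injective
          rw [hpκ', hx2']
        have h3 : t ∈ Set.range (p.fiberι u) := by
          rw [p.range_fiberι u]; exact h2
        obtain ⟨w, rfl⟩ := h3
        exact ⟨w, rfl⟩
    rw [← hrange]
    exact (IsHomeomorph.topologicalKrullDim_eq _ hemb.toHomeomorph.isHomeomorph).symm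
  have hy'U : y' ∈ U := hy'.mem_open U.2 hyU
  obtain ⟨u', hu'⟩ : ∃ u' : ↥U.toScheme, U.ι u' = y' := ⟨⟨y', hy'U⟩, rfl⟩
  obtain ⟨u, hu⟩ : ∃ u : ↥U.toScheme, U.ι u = y := ⟨⟨y, hyU⟩, rfl⟩
  have hsp : u' ⤳ u := by
    rw [← U.ι.isOpenEmbedding.isInducing.specializes_iff, hu', hu]
    exact hy'
  have h1 := dimC u'
  have h2 := dimC u
  have h3 := dim_fiber_le_of_specializes p p.isClosedMap _ _ hsp
  rw [hu'] at h1
  rw [hu] at h2
  rw [h1, h2]
  exact h3

end Groth.Agent.Lib.Helper4.SecProp5
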