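import Mathlib
import Groth.Agent.Lib.Helper7.GeomConn.CompCount
import Groth.Agent.Lib.Helper4.SecProp4
import Groth.Prelude.Def_MoreMor

/-!
# Proper locus is open under geometrically connected fibres and a section after a cover (EGA IV 15.7.11) (helper4)
-/

set_option backward.isDefEq.respectTransparency.types false
set_option synthInstance.maxHeartbeats 400000
set_option autoImplicit false
set_option linter.unusedSectionVars false
set_option linter.style.haveILetI false
set_option linter.unusedSimpArgs false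
universe u v w
open CategoryTheory CategoryTheory.Limits AlgebraicGeometry TopologicalSpace Topology

namespace Groth.Agent.Lib.Helper4.SecProp6

open Groth.Agent.Helper7.GeomConn Groth.Agent.Lib.Helper4.SecProp1 Groth.Agent.Lib.Helper4.SecProp2
  Groth.Agent.Lib.Helper4.SecProp4

theorem preconnectedSpace_of_subsingleton {α : Type*} [TopologicalSpace α]
    (h : Subsingleton (_root_.ConnectedComponents α)) : PreconnectedSpace α := by
  constructor
  refine isPreconnected_of_forall_pair fun a _ b _ => ?_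
  refine ⟨connectedComponent a, Set.subset_univ _, mem_connectedComponent, ?_,
    isPreconnected_connectedComponent⟩
  have hab : (b : _root_.ConnectedComponents α) = (a : _root_.ConnectedComponents α) :=
    Subsingleton.elim _ _
  rw [ConnectedComponents.coe_eq_coe'] at hab
  exact hab

theorem isPreconnected_fibre_of_nGeomConnComp_le_one {X Y : Scheme.{u}} (f : X ⟶ Y) (y : Y)
    (h : MoreMor.nGeomConnComp f y ≤ 1) : _root_.IsPreconnected (f ⁻¹' {y}) := by
  unfold MoreMor.nGeomConnComp at h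
  rw [ENat.card_le_one_iff_subsingleton] at h
  haveI : PreconnectedSpace ↥(MoreMor.geomFiber f y) := preconnectedSpace_of_subsingleton h
  let i := Spec.map (CommRingCat.ofHom
    (algebraMap (Y.residueField y) (SeparableClosure (Y.residueField y))))
  let pr : MoreMor.geomFiber f y ⟶ f.fiber y := pullback.fst (f.fiberToSpecResidueField y) i
  haveI : Surjective i := surjective_to_spec_field _
  haveI : Surjective pr := MorphismProperty.pullback_fst (P := @Surjective) _ _ inferInstance
  have hrange : Set.range (pr ≫ f.fiberι y) = f ⁻¹' {y} := by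
    rw [Scheme.Hom.comp_base, TopCat.coe_comp, Set.range_comp, Set.range_eq_univ.mpr pr.surjective,
      Set.image_univ]
    exact f.range_fiberι y
  rw [← hrange]
  exact isPreconnected_range (pr ≫ f.fiberι y).continuous

theorem sectionComponents_eq_univ {X Y : Scheme.{u}} (f : X ⟶ Y) (s : Y ⟶ X) (hs : s ≫ f = 𝟙 Y)
    (h : ∀ y : Y, _root_.IsPreconnected (f ⁻¹' {y})) : MoreMor.sectionComponents f s = Set.univ := by
  rw [Set.eq_univ_iff_forall]
  intro x
  show x ∈ connectedComponentIn (f ⁻¹' {f x}) (s (f x))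
  have hsx : s (f x) ∈ f ⁻¹' {f x} := by
    show f (s (f x)) = f x
    exact Groth.Agent.Lib.Helper4.SecProp3.section_apply f s hs (f x)
  have := (h (f x)).subset_connectedComponentIn hsx (subset_refl _)
  exact this rfl

theorem fibProper_of_isPreconnected {X Y : Scheme.{u}} (f : X ⟶ Y) (s : Y ⟶ X) (hs : s ≫ f = 𝟙 Y)
    (y : Y) (h : _root_.IsPreconnected (f ⁻¹' {y})) (hp : IsProper (f.fiberToSpecResidueField y)) :
    FibProper f s y := by
  have hsy : s y ∈ f ⁻¹' {y} := by
    show f (s y) = y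
    exact Groth.Agent.Lib.Helper4.SecProp3.section_apply f s hs y
  have hcc : connectedComponentIn (f ⁻¹' {y}) (s y) = f ⁻¹' {y} :=
    subset_antisymm (connectedComponentIn_subset _ _) (h.subset_connectedComponentIn hsy (subset_refl _))
  have hpre : (f.fiberι y).base ⁻¹' connectedComponentIn (f.base ⁻¹' {y}) (s.base y) = Set.univ := by
    rw [Set.eq_univ_iff_forall]
    intro t
    show (f.fiberι y) t ∈ connectedComponentIn (f ⁻¹' {y}) (s y)
    rw [hcc, ← f.range_fiberι y]
    exact Set.mem_range_self t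
  have hop : IsOpen ((f.fiberι y).base ⁻¹' connectedComponentIn (f.base ⁻¹' {y}) (s.base y)) := by
    rw [hpre]; exact isOpen_univ
  refine ⟨hop, ?_⟩
  have hT : (⊤ : (f.fiber y).Opens) = ⟨(f.fiberι y).base ⁻¹'
      connectedComponentIn (f.base ⁻¹' {y}) (s.base y), hop⟩ := by
    ext1
    exact hpre.symm
  refine isProper_opens_congr _ _ _ hT ?_
  haveI := hp
  haveI : IsIso (⊤ : (f.fiber y).Opens).ι := (f.fiber y).topIso.isIso_hom
  infer_instance

theorem exists_isProper_restrict_of_properAt_univ {X Y : Scheme.{u}} (f : X ⟶ Y) [IsSeparated f]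
    [LocallyOfFiniteType f] [QuasiCompact f] (y : Y) (h : ProperAt f Set.univ y) :
    ∃ U : Y.Opens, y ∈ U ∧ IsProper (f ∣_ U) := by
  obtain ⟨U, P, k, p, hyU, hmono, hprop, hcomm, hrange⟩ := h
  haveI := hmono
  haveI := hprop
  refine ⟨U, hyU, ?_⟩
  have hkU : Set.range k ⊆ Set.range (f ⁻¹ᵁ U).ι := by
    rw [hrange, Scheme.Opens.range_ι]
    exact Set.inter_subset_right
  obtain ⟨k', hk'⟩ : ∃ k' : P ⟶ (f ⁻¹ᵁ U).toScheme, k' ≫ (f ⁻¹ᵁ U).ι = k :=
    ⟨IsOpenImmersion.lift (f ⁻¹ᵁ U).ι k hkU, IsOpenImmersion.lift_fac _ _ _⟩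
  have hk'p : k' ≫ (f ∣_ U) = p := by
    rw [← cancel_mono U.ι, Category.assoc, morphismRestrict_ι, ← Category.assoc, hk', hcomm]
  haveI : Surjective k' := by
    constructor
    intro t
    have ht : (f ⁻¹ᵁ U).ι t ∈ Set.range k := by
      rw [hrange]
      refine ⟨Set.mem_univ _, ?_⟩
      exact t.2
    obtain ⟨q, hq⟩ := ht
    refine ⟨q, ?_⟩
    apply (f ⁻¹ᵁ U).ι.isEmbedding.injective
    rw [← Scheme.Hom.comp_apply, hk']
    exact hq
  haveI : UniversallyClosed (k' ≫ (f ∣_ U)) := by rw [hk'p]; infer_instance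
  haveI : UniversallyClosed (f ∣_ U) := UniversallyClosed.of_comp_surjective k' (f ∣_ U)
  exact { }

theorem isProper_restrict_of_le {X Y : Scheme.{u}} (f : X ⟶ Y) (U V : Y.Opens) (hVU : V ≤ U)
    (hV : IsProper (f ∣_ V)) : IsProper (f ∣_ U ∣_ (U.ι ⁻¹ᵁ V)) := by
  rw [MorphismProperty.arrow_mk_iso_iff @IsProper (morphismRestrictRestrict f U (U.ι ⁻¹ᵁ V))]
  have e : U.ι ''ᵁ (U.ι ⁻¹ᵁ V) = V := by
    rw [Scheme.Hom.image_preimage_eq_opensRange_inf, Scheme.Opens.opensRange_ι]
    exact inf_eq_right.mpr hVU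
  rw [MorphismProperty.arrow_mk_iso_iff @IsProper (morphismRestrictEq f e)]
  exact hV

theorem exists_opens_proper_locus {X Y : Scheme.{u}} (f : X ⟶ Y)
    (H : ∀ y : Y, IsProper (f.fiberToSpecResidueField y) →
      ∃ V : Y.Opens, y ∈ V ∧ IsProper (f ∣_ V)) :
    ∃ U : Y.Opens, (U : Set Y) = {y : Y | IsProper (f.fiberToSpecResidueField y)} ∧
      IsProper (f ∣_ U) := by
  have hsub : ∀ (V : Y.Opens), IsProper (f ∣_ V) →
      (V : Set Y) ⊆ {y : Y | IsProper (f.fiberToSpecResidueField y)} := by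
    intro V hV y hy
    exact Groth.Agent.Lib.Helper4.ConstrProper2.isProper_fiber_of_isProper_restrict f V hV y hy
  have hopen : IsOpen {y : Y | IsProper (f.fiberToSpecResidueField y)} := by
    rw [isOpen_iff_forall_mem_open]
    intro y hy
    obtain ⟨V, hyV, hV⟩ := H y hy
    exact ⟨V, hsub V hV, V.2, hyV⟩
  refine ⟨⟨_, hopen⟩, rfl, ?_⟩
  obtain ⟨U, hU⟩ : ∃ U : Y.Opens, U = ⟨{y : Y | IsProper (f.fiberToSpecResidueField y)}, hopen⟩ :=
    ⟨_, rfl⟩
  rw [← hU]
  refine IsZariskiLocalAtTarget.of_forall_exists_morphismRestrict (P := @IsProper) ?_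
  intro x
  have hmem : ∀ v : Y, v ∈ U → IsProper (f.fiberToSpecResidueField v) := by
    intro v hv
    rw [hU] at hv
    exact hv
  have hx : IsProper (f.fiberToSpecResidueField (U.ι x)) := hmem _ x.2
  obtain ⟨V, hxV, hV⟩ := H _ hx
  have hVU : V ≤ U := by
    intro v hv
    rw [hU]
    exact hsub V hV hv
  exact ⟨U.ι ⁻¹ᵁ V, hxV, isProper_restrict_of_le f U V hVU hV⟩

section BC

variable {X Y X' Y' : Scheme.{u}} (f : X ⟶ Y) (f' : X' ⟶ Y') (g' : X' ⟶ X) (g : Y' ⟶ Y)
    (hc : IsPullback g' f' f g)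

include hc in
theorem isProper_fibre_baseChange_iff [IsSeparated f] [LocallyOfFiniteType f] [QuasiCompact f]
    (y' : Y') :
    IsProper (f'.fiberToSpecResidueField y') ↔ IsProper (f.fiberToSpecResidueField (g y')) := by
  have sq := isPullback_fibreMap f f' g' g hc y'
  constructor
  · intro hp'
    haveI := hp'
    haveI : LocallyOfFiniteType (f.fiberToSpecResidueField (g y')) :=
      MorphismProperty.pullback_snd (P := @LocallyOfFiniteType) _ _ inferInstance
    haveI : QuasiCompact (f.fiberToSpecResidueField (g y')) :=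
      MorphismProperty.pullback_snd (P := @QuasiCompact) _ _ inferInstance
    haveI : IsSeparated (f.fiberToSpecResidueField (g y')) :=
      MorphismProperty.pullback_snd (P := @IsSeparated) _ _ inferInstance
    haveI : UniversallyClosed (f.fiberToSpecResidueField (g y')) := by
      have hQ : (@Surjective ⊓ @Flat ⊓ @QuasiCompact : MorphismProperty Scheme.{u})
          (Spec.map (g.residueFieldMap y')) := by
        refine ⟨⟨?_, ?_⟩, ?_⟩
        · constructor
          intro a
          refine ⟨IsLocalRing.closedPoint (Y'.residueField y'), ?_⟩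
          exact Subsingleton.elim (α := PrimeSpectrum (Y.residueField (g y'))) _ _
        · have h1 : (g.residueFieldMap y').hom.Flat := by
            algebraize [(g.residueFieldMap y').hom]
            exact (inferInstance : Module.Flat (Y.residueField (g y')) (Y'.residueField y'))
          exact (HasRingHomProperty.Spec_iff (P := @Flat)).mpr h1
        · infer_instance
      exact MorphismProperty.of_isPullback_of_descendsAlong (P := @UniversallyClosed)
        (Q := @Surjective ⊓ @Flat ⊓ @QuasiCompact) sq.flip hQ inferInstance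
    exact { }
  · intro hp
    exact MorphismProperty.of_isPullback (P := @IsProper) sq hp

end BC

section Restrict

variable {X Y X' Y' : Scheme.{u}} (f : X ⟶ Y) (f' : X' ⟶ Y') (g' : X' ⟶ X) (g : Y' ⟶ Y)
    (hc : IsPullback g' f' f g)

include hc in
theorem exists_isPullback_restrict (U : Y.Opens) :
    ∃ g'' : (f' ⁻¹ᵁ (g ⁻¹ᵁ U)).toScheme ⟶ (f ⁻¹ᵁ U).toScheme,
      IsPullback g'' (f' ∣_ (g ⁻¹ᵁ U)) (f ∣_ U) (g ∣_ U) := by
  have hr : Set.range ((f' ⁻¹ᵁ (g ⁻¹ᵁ U)).ι ≫ g') ⊆ Set.range (f ⁻¹ᵁ U).ι := by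
    rw [Scheme.Opens.range_ι]
    rintro _ ⟨t, rfl⟩
    show f (((f' ⁻¹ᵁ (g ⁻¹ᵁ U)).ι ≫ g') t) ∈ U
    rw [← Scheme.Hom.comp_apply, Category.assoc, hc.w, ← Category.assoc, Scheme.Hom.comp_apply,
      Scheme.Hom.comp_apply]
    exact t.2
  obtain ⟨g'', hg''⟩ : ∃ g'' : (f' ⁻¹ᵁ (g ⁻¹ᵁ U)).toScheme ⟶ (f ⁻¹ᵁ U).toScheme,
      g'' ≫ (f ⁻¹ᵁ U).ι = (f' ⁻¹ᵁ (g ⁻¹ᵁ U)).ι ≫ g' :=
    ⟨IsOpenImmersion.lift (f ⁻¹ᵁ U).ι _ hr, IsOpenImmersion.lift_fac _ _ _⟩
  refine ⟨g'', ?_⟩
  have big : IsPullback (g'' ≫ (f ⁻¹ᵁ U).ι) (f' ∣_ (g ⁻¹ᵁ U)) f ((g ∣_ U) ≫ U.ι) := by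
    rw [hg'', morphismRestrict_ι]
    exact (isPullback_morphismRestrict f' (g ⁻¹ᵁ U)).flip.paste_horiz hc
  refine IsPullback.of_right big ?_ (isPullback_morphismRestrict f U).flip
  rw [← cancel_mono U.ι, Category.assoc, Category.assoc, morphismRestrict_ι, morphismRestrict_ι,
    ← Category.assoc, hg'', Category.assoc, hc.w, ← Category.assoc, ← Category.assoc,
    morphismRestrict_ι]

include hc in
theorem isProper_restrict_of_baseChange [IsSeparated f] [LocallyOfFiniteType f] [QuasiCompact f]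
    [Surjective g] [QuasiCompact g] (hg : IsProper g ∨ Flat g) (U : Y.Opens)
    (hp : IsProper (f' ∣_ (g ⁻¹ᵁ U))) : IsProper (f ∣_ U) := by
  obtain ⟨g'', sq⟩ := exists_isPullback_restrict f f' g' g hc U
  haveI := hp
  haveI : Surjective (g ∣_ U) := IsZariskiLocalAtTarget.restrict (P := @Surjective) inferInstance U
  haveI : UniversallyClosed (f ∣_ U) := by
    rcases hg with hg | hg
    · haveI := hg
      haveI : IsProper (g ∣_ U) := IsZariskiLocalAtTarget.restrict (P := @IsProper) hg U
      haveI : IsProper g'' := MorphismProperty.of_isPullback (P := @IsProper) sq.flip inferInstance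
      haveI : Surjective g'' :=
        MorphismProperty.of_isPullback (P := @Surjective) sq.flip inferInstance
      haveI : UniversallyClosed (g'' ≫ (f ∣_ U)) := by
        rw [sq.w]; infer_instance
      exact UniversallyClosed.of_comp_surjective g'' (f ∣_ U)
    · haveI := hg
      have hQ : (@Surjective ⊓ @Flat ⊓ @QuasiCompact : MorphismProperty Scheme.{u}) (g ∣_ U) :=
        ⟨⟨inferInstance, inferInstance⟩, inferInstance⟩
      exact MorphismProperty.of_isPullback_of_descendsAlong (P := @UniversallyClosed)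
        (Q := @Surjective ⊓ @Flat ⊓ @QuasiCompact) sq.flip hQ inferInstance
  exact { }

end Restrict

theorem S3461_main {X Y Y' : Scheme.{u}} (f : X ⟶ Y)
    [IsSeparated f] [LocallyOfFinitePresentation f] [QuasiCompact f] [QuasiSeparated f]
    (g : Y' ⟶ Y) [Surjective g] [LocallyOfFinitePresentation g] [QuasiCompact g] [QuasiSeparated g]
    (hg : IsProper g ∨ Flat g) (σ : Y' ⟶ X) (hσ : σ ≫ f = g)
    (hconn : ∀ y : Y, MoreMor.nGeomConnComp f y ≤ 1) :
    ∃ U : Y.Opens, (U : Set Y) = {y : Y | IsProper (f.fiberToSpecResidueField y)} ∧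
      IsProper (f ∣_ U) := by
  have hc : IsPullback (pullback.fst f g) (pullback.snd f g) f g := IsPullback.of_hasPullback f g
  obtain ⟨f', hf'⟩ : ∃ f' : pullback f g ⟶ Y', f' = pullback.snd f g := ⟨_, rfl⟩
  obtain ⟨g', hg'⟩ : ∃ g' : pullback f g ⟶ X, g' = pullback.fst f g := ⟨_, rfl⟩
  haveI : IsSeparated f' := by rw [hf']; infer_instance
  haveI : LocallyOfFinitePresentation f' := by rw [hf']; infer_instance
  haveI : QuasiCompact f' := by rw [hf']; infer_instance
  haveI : QuasiSeparated f' := by rw [hf']; infer_instance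
  rw [← hf', ← hg'] at hc
  obtain ⟨s', hs'1, hs'2⟩ : ∃ s' : Y' ⟶ pullback f g, s' ≫ g' = σ ∧ s' ≫ f' = 𝟙 Y' := by
    refine ⟨pullback.lift σ (𝟙 Y') (by rw [hσ, Category.id_comp]), ?_, ?_⟩
    · rw [hg']; exact pullback.lift_fst _ _ _
    · rw [hf']; exact pullback.lift_snd _ _ _
  -- all fibres of f' are preconnected
  have hpre : ∀ y' : Y', _root_.IsPreconnected (f' ⁻¹' {y'}) := by
    intro y'
    apply isPreconnected_fibre_of_nGeomConnComp_le_one
    rw [nGeomConnComp_baseChange f f' g' g hc y']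
    exact hconn _
  have huniv := sectionComponents_eq_univ f' s' hs'2 hpre
  -- local properness
  have hloc : ∀ y' : Y', IsProper (f'.fiberToSpecResidueField y') →
      ∃ V : Y'.Opens, y' ∈ V ∧ IsProper (f' ∣_ V) := by
    intro y' hp
    have h1 := fibProper_of_isPreconnected f' s' hs'2 y' (hpre y') hp
    have h2 := properAt_sectionComponents f' s' hs'2 y' h1
    rw [huniv] at h2
    exact exists_isProper_restrict_of_properAt_univ f' y' h2
  obtain ⟨U', hU', hpU'⟩ := exists_opens_proper_locus f' hloc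
  -- descend openness
  have hquot : Topology.IsQuotientMap g := by
    rcases hg with hg | hg
    · haveI := hg
      exact g.isClosedMap.isQuotientMap g.continuous g.surjective
    · haveI := hg
      exact Flat.isQuotientMap_of_surjective g
  have hpreim : g ⁻¹' {y : Y | IsProper (f.fiberToSpecResidueField y)} = (U' : Set Y') := by
    rw [hU']
    ext y'
    exact (isProper_fibre_baseChange_iff f f' g' g hc y').symm
  have hopen : IsOpen {y : Y | IsProper (f.fiberToSpecResidueField y)} := by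
    rw [← hquot.isOpen_preimage, hpreim]
    exact U'.2
  refine ⟨⟨_, hopen⟩, rfl, ?_⟩
  refine isProper_restrict_of_baseChange f f' g' g hc hg _ ?_
  have hUU : g ⁻¹ᵁ (⟨_, hopen⟩ : Y.Opens) = U' := by
    ext1
    exact hpreim
  rw [hUU]
  exact hpU'

end Groth.Agent.Lib.Helper4.SecProp6
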