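import Mathlib
import Groth.Prelude.Def_SuppFam
import Groth.Prelude.Def_CohPull
import Groth.Agent.Lib.Helper5.Misc.SectSuppAdj
import Groth.Agent.Lib.Helper3.LocCohKer

/-!
# Sections with support in a locally closed subset preserve injectives (helper4)
-/

set_option backward.isDefEq.respectTransparency.types false
set_option synthInstance.maxHeartbeats 400000
set_option autoImplicit false
set_option linter.unusedSectionVars false
set_option linter.style.haveILetI false
set_option linter.unusedSimpArgs false
universe u v w
open CategoryTheory CategoryTheory.Limits Opposite TopologicalSpace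

namespace Groth.Agent.Lib.Helper4.SectSuppInj

open Groth.Agent.Lib.Helper5.SectSuppAdj

/-- direct images preserve injectives (the inverse image is exact) -/
lemma injective_push {X Y : TopCat.{u}} (f : X ⟶ Y) (G : CohTop.Ab X) [Injective G] :
    Injective ((CohTop.push f).obj G) := by
  haveI : PreservesFiniteLimits (CohTop.pull f) := CohPull.preservesFiniteLimits_pull f
  haveI : (CohTop.pull f).PreservesMonomorphisms := inferInstance
  have adj : CohTop.pull f ⊣ CohTop.push f :=
    TopCat.Sheaf.pullbackPushforwardAdjunction AddCommGrpCat.{u} f
  exact Injective.injective_of_adjoint adj G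

/-- `Γ_Z` preserves injectives -/
lemma injective_sectSuppF {X : TopCat.{u}} (U : Opens X) (G : CohTop.Ab X) [Injective G] :
    Injective ((LocCohZ.sectSuppF U).obj G) := by
  haveI : (CohTop.push (CohCx.inclCompl U)).PreservesMonomorphisms := by
    haveI : PreservesLimitsOfSize.{0, 0} (CohTop.push (CohCx.inclCompl U)) :=
      (adjI U).rightAdjoint_preservesLimits
    infer_instance
  haveI h1 : Injective ((LocCohZ.sectSuppF U ⋙ CohTop.pull (CohCx.inclCompl U)).obj G) :=
    Injective.injective_of_adjoint (adjunction U) G
  haveI h2 : Injective ((CohTop.push (CohCx.inclCompl U)).obj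
      ((LocCohZ.sectSuppF U ⋙ CohTop.pull (CohCx.inclCompl U)).obj G)) :=
    injective_push _ _
  exact Injective.of_iso (asIso ((adjI U).unit.app ((LocCohZ.sectSuppF U).obj G))).symm h2

theorem main {X : TopCat.{u}} (F : CohTop.Ab X) {W V : Opens X} (h : W ≤ V)
    (hF : Injective F) : Injective ((SuppFam.sectSuppLC h).obj F) := by
  obtain ⟨h1, h2, h3⟩ := Groth.Agent.Helper3.LocCohKer.restr_instances V
  haveI : Injective ((CohTop.restrFunctor V).obj F) := h2.injective_obj hF
  haveI := injective_sectSuppF (SuppFam.inOpen V W) ((CohTop.restrFunctor V).obj F)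
  exact injective_push _ _

end Groth.Agent.Lib.Helper4.SectSuppInj
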