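import Mathlib
import Groth.Prelude.Def_AlgGrp
import Groth.Agent.Lib.Helper4.GenSubComm1
import Groth.Agent.Lib.Helper4.MaxAb1
import Groth.Agent.Lib.Helper2.Sch.Reduced
import Groth.Agent.S3024

/-!
# semidirect product A ⋊ B as a group object embedded in G × B; closed subgroup generated by a normalizing pair is A·B, reduced (S5362) (helper4)
-/

set_option backward.isDefEq.respectTransparency.types false
set_option synthInstance.maxHeartbeats 400000
set_option autoImplicit false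
set_option linter.unusedSectionVars false
set_option linter.style.haveILetI false
set_option linter.unusedSimpArgs false
universe u v w
open CategoryTheory CategoryTheory.Limits AlgebraicGeometry TopologicalSpace Opposite
open MonoidalCategory CartesianMonoidalCategory MonObj GrpObj
open Groth.Agent.Lib.Helper4

namespace Groth.Agent.Lib.Helper4.SemiDirect1

section Semi
universe v₁ u₁
variable {C : Type u₁} [Category.{v₁} C] [CartesianMonoidalCategory C] [BraidedCategory C]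
  {G A B : C} [GrpObj G] [GrpObj A] [GrpObj B] (a : A ⟶ G) [IsMonHom a] (b : B ⟶ G) [IsMonHom b]
  (hN : ∀ (T : C) (y : T ⟶ B) (x : T ⟶ A), ∃ x' : T ⟶ A, (y ≫ b) * (x ≫ a) * (y ≫ b)⁻¹ = x' ≫ a)

theorem inv_comp_hom' {M N T : C} [GrpObj M] [GrpObj N] (f : M ⟶ N) [IsMonHom f] (x : T ⟶ M) :
    x⁻¹ ≫ f = (x ≫ f)⁻¹ := by
  rw [Hom.inv_def, Hom.inv_def, Category.assoc, GrpObj.inv_hom, Category.assoc]

/-- the image of the semidirect product `A ⋊ B` in `G × B` on `T`-points -/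
def semi (T : C) : Subgroup (T ⟶ G ⊗ B) where
  carrier := {p | ∃ x : T ⟶ A, p ≫ fst G B = (x ≫ a) * (p ≫ snd G B ≫ b)}
  mul_mem' := by
    rintro p q ⟨x, hx⟩ ⟨x', hx'⟩
    obtain ⟨x'', hx''⟩ := hN T (p ≫ snd G B) x'
    simp only [Category.assoc] at hx''
    refine ⟨x * x'', ?_⟩
    rw [MonObj.mul_comp, MonObj.mul_comp, MonObj.mul_comp, hx, hx', ← hx'']
    group
  one_mem' := by
    refine ⟨1, ?_⟩
    rw [MonObj.one_comp, MonObj.one_comp, MonObj.one_comp, _root_.mul_one]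
  inv_mem' := by
    rintro p ⟨x, hx⟩
    obtain ⟨x'', hx''⟩ := hN T ((p ≫ snd G B)⁻¹) (x⁻¹)
    rw [inv_comp_hom', inv_comp_hom'] at hx''
    simp only [Category.assoc] at hx''
    refine ⟨x'', ?_⟩
    rw [inv_comp_hom', inv_comp_hom', hx, ← hx'']
    group

theorem mem_semi (T : C) (p : T ⟶ G ⊗ B) :
    p ∈ semi a b hN T ↔ ∃ x : T ⟶ A, p ≫ fst G B = (x ≫ a) * (p ≫ snd G B ≫ b) := Iff.rfl

/-- the embedding `A × B → G × B`, `(x, y) ↦ (a(x) b(y), y)` -/
def Ψ : A ⊗ B ⟶ G ⊗ B := lift ((fst A B ≫ a) * (snd A B ≫ b)) (snd A B)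

theorem Ψ_fst : Ψ a b ≫ fst G B = (fst A B ≫ a) * (snd A B ≫ b) := lift_fst _ _
theorem Ψ_snd : Ψ a b ≫ snd G B = snd A B := lift_snd _ _
theorem Ψ_snd_assoc' {Z : C} (h : B ⟶ Z) : Ψ a b ≫ snd G B ≫ h = snd A B ≫ h := by
  rw [← Category.assoc, Ψ_snd]

instance mono_Ψ [Mono a] : Mono (Ψ a b) := by
  refine ⟨fun {Z} ψ ψ' h => ?_⟩
  have h2 : ψ ≫ snd A B = ψ' ≫ snd A B := by
    have := congrArg (fun m => m ≫ snd G B) h
    simpa only [Category.assoc, Ψ_snd] using this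
  have h1 : ψ ≫ fst A B = ψ' ≫ fst A B := by
    have := congrArg (fun m => m ≫ fst G B) h
    simp only [Category.assoc, Ψ_fst, MonObj.comp_mul] at this
    rw [← Category.assoc ψ', ← Category.assoc ψ', ← h2, Category.assoc ψ] at this
    have h3 := mul_right_cancel this
    have h3' : (ψ ≫ fst A B) ≫ a = (ψ' ≫ fst A B) ≫ a := by
      simpa only [Category.assoc] using h3
    exact (cancel_mono a).1 h3'
  exact CartesianMonoidalCategory.hom_ext _ _ h1 h2

theorem semi_iff (T : C) (p : T ⟶ G ⊗ B) :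
    p ∈ semi a b hN T ↔ ∃ ψ : T ⟶ A ⊗ B, ψ ≫ Ψ a b = p := by
  rw [mem_semi]
  constructor
  · rintro ⟨x, hx⟩
    refine ⟨lift x (p ≫ snd G B), ?_⟩
    apply CartesianMonoidalCategory.hom_ext
    · rw [Category.assoc, Ψ_fst, MonObj.comp_mul, lift_fst_assoc, lift_snd_assoc, hx,
        Category.assoc]
    · rw [Category.assoc, Ψ_snd, lift_snd]
  · rintro ⟨ψ, rfl⟩
    refine ⟨ψ ≫ fst A B, ?_⟩
    simp only [Category.assoc, Ψ_fst, MonObj.comp_mul, Ψ_snd_assoc']

end Semi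

section Main
variable (k : Type u) [Field k] (G A B : Over (Spec (CommRingCat.of k))) [GrpObj G] [GrpObj A]
  [GrpObj B]

theorem pt_comp {X Y Z : Over (Spec (CommRingCat.of k))} (p : X ⟶ Y) (q : Y ⟶ Z) (r : X ⟶ Z)
    (h : p ≫ q = r) (x : X.left) : r.left.base x = q.left.base (p.left.base x) := by
  rw [← h]; rfl

theorem main_S5362 [LocallyOfFiniteType G.hom] (a : A ⟶ G) [IsMonHom a] [IsClosedImmersion a.left]
    (b : B ⟶ G) [IsMonHom b] [IsClosedImmersion b.left]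
    [Smooth A.hom] [QuasiCompact A.hom] [Smooth B.hom] [QuasiCompact B.hom]
    (hN : ∀ (T : Over (Spec (CommRingCat.of k))) (y : T ⟶ B) (x : T ⟶ A), ∃ x' : T ⟶ A, (y ≫ b) * (x ≫ a) * (y ≫ b)⁻¹ = x' ≫ a)
    (Γ : Over (Spec (CommRingCat.of k))) [GrpObj Γ] (i : Γ ⟶ G) [IsMonHom i] [IsClosedImmersion i.left]
    (ha : ∃ a' : A ⟶ Γ, a' ≫ i = a) (hb : ∃ b' : B ⟶ Γ, b' ≫ i = b)
    (hmin : ∀ (Γ' : Over (Spec (CommRingCat.of k))) (_ : GrpObj Γ') (i' : Γ' ⟶ G), IsMonHom i' → IsClosedImmersion i'.left →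
        (∃ a'' : A ⟶ Γ', a'' ≫ i' = a) → (∃ b'' : B ⟶ Γ', b'' ≫ i' = b) → ∃ j : Γ ⟶ Γ', j ≫ i' = i) :
    IsReduced Γ.left ∧ Set.range i.left.base = Set.range ((a ⊗ₘ b) ≫ μ[G]).left.base := by
  haveI : Mono a.left := inferInstance
  haveI : Mono a := Over.mono_of_mono_left a
  haveI : Mono i.left := inferInstance
  haveI : Mono i := Over.mono_of_mono_left i
  -- an opaque copy of `A ⊗ B`, to carry the semidirect product group structure
  obtain ⟨P, ⟨e⟩⟩ : ∃ P : Over (Spec (CommRingCat.of k)), Nonempty (P ≅ A ⊗ B) :=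
    ⟨A ⊗ B, ⟨Iso.refl _⟩⟩
  obtain ⟨Φ, hΦdef⟩ : ∃ Φ : P ⟶ G ⊗ B, Φ = e.hom ≫ Ψ a b := ⟨_, rfl⟩
  haveI : Mono Φ := by rw [hΦdef]; exact mono_comp _ _
  have hS : ∀ (T : Over (Spec (CommRingCat.of k))) (p : T ⟶ G ⊗ B),
      p ∈ semi a b hN T ↔ ∃ ψ : T ⟶ P, ψ ≫ Φ = p := by
    intro T p
    rw [semi_iff, hΦdef]
    constructor
    · rintro ⟨ψ, rfl⟩
      exact ⟨ψ ≫ e.inv, by simp⟩
    · rintro ⟨ψ, rfl⟩
      exact ⟨ψ ≫ e.hom, by simp⟩
  obtain ⟨instP, hΦ⟩ := GenSubComm1.exists_grpObj Φ (semi a b hN) hS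
  obtain ⟨m, hmdef⟩ : ∃ m : A ⊗ B ⟶ G, m = (fst A B ≫ a) * (snd A B ≫ b) := ⟨_, rfl⟩
  obtain ⟨uu, huudef⟩ : ∃ uu : P ⟶ G, uu = Φ ≫ fst G B := ⟨_, rfl⟩
  have huu : uu = e.hom ≫ m := by
    rw [huudef, hΦdef, hmdef, Category.assoc, Ψ_fst]
  haveI : IsMonHom uu := by rw [huudef]; infer_instance
  haveI : IsLocallyNoetherian G.left := LocallyOfFiniteType.isLocallyNoetherian G.hom
  haveI : QuasiSeparatedSpace G.left := inferInstance
  haveI : QuasiSeparated G.hom := (quasiSeparated_iff_quasiSeparatedSpace G.hom).2 inferInstance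
  haveI : QuasiCompact (snd A B).left := by rw [Over.snd_left]; infer_instance
  haveI : QuasiCompact (A ⊗ B).hom := by rw [← Over.w (snd A B)]; infer_instance
  haveI : QuasiCompact P.hom := by rw [← Over.w e.hom]; infer_instance
  haveI : QuasiCompact (uu.left ≫ G.hom) := by rw [Over.w uu]; infer_instance
  haveI : QuasiCompact uu.left := QuasiCompact.of_comp uu.left G.hom
  obtain ⟨H', instH, z, f', hz, hf', hfz, hzcl, hker, hqc, hsurj⟩ :=
    Groth.Agent.S3024.result k P G uu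
  haveI := hz
  haveI := hzcl
  haveI := hqc
  have hm_a : lift (𝟙 A) (toUnit A ≫ η[B]) ≫ m = a := by
    rw [hmdef, MonObj.comp_mul, lift_fst_assoc, lift_snd_assoc, Category.id_comp, Category.assoc,
      IsMonHom.one_hom, ← Hom.one_def, _root_.mul_one]
  have hm_b : lift (toUnit B ≫ η[A]) (𝟙 B) ≫ m = b := by
    rw [hmdef, MonObj.comp_mul, lift_fst_assoc, lift_snd_assoc, Category.id_comp, Category.assoc,
      IsMonHom.one_hom, ← Hom.one_def, _root_.one_mul]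
  have ha'' : ∃ a'' : A ⟶ H', a'' ≫ z = a :=
    ⟨lift (𝟙 A) (toUnit A ≫ η[B]) ≫ e.inv ≫ f', by
      rw [Category.assoc, Category.assoc, hfz, huu, e.inv_hom_id_assoc, hm_a]⟩
  have hb'' : ∃ b'' : B ⟶ H', b'' ≫ z = b :=
    ⟨lift (toUnit B ≫ η[A]) (𝟙 B) ≫ e.inv ≫ f', by
      rw [Category.assoc, Category.assoc, hfz, huu, e.inv_hom_id_assoc, hm_b]⟩
  obtain ⟨j, hj⟩ := hmin H' instH z hz hzcl ha'' hb''
  obtain ⟨a', ha'⟩ := ha
  obtain ⟨b', hb'⟩ := hb
  have hw : ((fst A B ≫ a') * (snd A B ≫ b')) ≫ i = m := by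
    rw [hmdef, MonObj.mul_comp, Category.assoc, Category.assoc, ha', hb']
  haveI : IsSchemeTheoreticallyDominant f'.left := (isSchemeTheoreticallyDominant_iff _).2 hker
  obtain ⟨χ, hχ⟩ := Groth.Agent.Helper2.SchImage.exists_lift_of_schDominant_over i f' z
    (e.hom ≫ ((fst A B ≫ a') * (snd A B ≫ b'))) (by rw [Category.assoc, hw, ← huu, hfz])
  haveI : Mono z.left := inferInstance
  haveI : Mono z := Over.mono_of_mono_left z
  have h1 : j ≫ χ = 𝟙 Γ := by rw [← cancel_mono i, Category.assoc, hχ, hj, Category.id_comp]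
  have h2 : χ ≫ j = 𝟙 H' := by rw [← cancel_mono z, Category.assoc, hj, hχ, Category.id_comp]
  haveI : IsIso j := ⟨χ, h1, h2⟩
  haveI : IsIso j.left := inferInstanceAs (IsIso ((Over.forget _).map j))
  haveI : IsIso e.hom.left := inferInstanceAs (IsIso ((Over.forget _).map e.hom))
  -- reducedness
  haveI : Smooth (snd A B).left := by rw [Over.snd_left]; infer_instance
  haveI : Smooth (A ⊗ B).hom := by rw [← Over.w (snd A B)]; infer_instance
  haveI : IsReduced (A ⊗ B).left := Groth.Agent.Helper2.SchLib.isReduced_of_smooth (A ⊗ B).hom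
  haveI : IsReduced P.left := isReduced_of_isOpenImmersion e.hom.left
  haveI : IsReduced H'.left := MaxAb1.isReduced_of_schDominant f'.left
  have hred : IsReduced Γ.left := isReduced_of_isOpenImmersion j.left
  refine ⟨hred, ?_⟩
  have hm_eq : ((a ⊗ₘ b) ≫ μ[G]) = m := by
    rw [hmdef, Hom.mul_def, lift_fst_comp_snd_comp]
  rw [hm_eq]
  ext y
  constructor
  · rintro ⟨gam, rfl⟩
    obtain ⟨p, hp⟩ := hsurj.surj (j.left.base gam)
    refine ⟨e.hom.left.base p, ?_⟩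
    rw [← pt_comp k e.hom m uu huu.symm p, pt_comp k f' z uu hfz p]
    show z.left.base (f'.left.base p) = _
    rw [show f'.left.base p = j.left.base gam from hp, ← pt_comp k j z i hj gam]
  · rintro ⟨q, rfl⟩
    have hq : e.hom.left.base (e.inv.left.base q) = q := by
      rw [← pt_comp k e.inv e.hom (𝟙 _) e.inv_hom_id q]; rfl
    refine ⟨χ.left.base (f'.left.base (e.inv.left.base q)), ?_⟩
    rw [← pt_comp k χ i z hχ, ← pt_comp k f' z uu hfz, pt_comp k e.hom m uu huu.symm, hq]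

end Main

end Groth.Agent.Lib.Helper4.SemiDirect1
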