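import Mathlib
import Groth.Agent.Lib.Helper4.GrAvoid1

/-!
# A generating submodule over a local ring with infinite residue field contains a basis (helper4)
-/

set_option backward.isDefEq.respectTransparency.types false
set_option synthInstance.maxHeartbeats 400000
set_option autoImplicit false
set_option linter.unusedSectionVars false
set_option linter.style.haveILetI false
set_option linter.unusedSimpArgs false
universe u v w
open Groth.Agent.Lib.Helper4

namespace Groth.Agent.Lib.Helper4.SemiLocalBasis1

open Groth.Agent.Lib.Helper4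

/-- Lemma U : finitely many proper submodules of a module over a local ring with infinite residue
field do not cover it. -/
theorem exists_notMem_of_proper {B : Type u} [CommRing B] [IsLocalRing B]
    [Infinite (IsLocalRing.ResidueField B)] {N : Type v} [AddCommGroup N] [Module B N]
    {ι : Type w} [Finite ι] (Q : ι → Submodule B N) (hQ : ∀ i, Q i ≠ ⊤) :
    ∃ y : N, ∀ i, y ∉ Q i := by
  classical
  haveI : Fintype ι := Fintype.ofFinite ι
  have hy : ∀ i, ∃ y : N, y ∉ Q i := by
    intro i
    by_contra h
    push Not at h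
    exact hQ i (eq_top_iff.mpr fun y _ => h y)
  choose y hy using hy
  let e : ι ≃ Fin (Fintype.card ι) := Fintype.equivFin ι
  let ψ : (Fin (Fintype.card ι) → B) →ₗ[B] N := Fintype.linearCombination B (y ∘ e.symm)
  have hψ : ∀ i, ψ (Pi.single (e i) 1) = y i := by
    intro i
    simp [ψ, Fintype.linearCombination_apply_single]
  let Ts : ι → Submodule B (Fin (Fintype.card ι) → B) := fun i => (Q i).comap ψ
  have hT : ∀ i, Ts i ≠ ⊤ := by
    intro i h
    have : Pi.single (e i) (1 : B) ∈ Ts i := h ▸ Submodule.mem_top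
    rw [Submodule.mem_comap, hψ] at this
    exact hy i this
  obtain ⟨c, hc⟩ := GrAvoid1.exists_notMem_of_local (Fintype.card ι) Ts hT
  exact ⟨ψ c, fun i h => hc i h⟩

/-- Lemma N : Nakayama over all maximal ideals. -/
theorem eq_top_of_forall_maximal {A : Type u} {M : Type v} [CommRing A] [AddCommGroup M]
    [Module A M] [Module.Finite A M] (P : Submodule A M)
    (h : ∀ m : Ideal A, m.IsMaximal → P ⊔ m • (⊤ : Submodule A M) = ⊤) : P = ⊤ := by
  by_contra hP
  let I : Ideal A := P.colon ⊤
  have hI : I ≠ ⊤ := by
    intro hI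
    have h1 : (1 : A) ∈ I := hI ▸ Submodule.mem_top
    rw [Submodule.mem_colon] at h1
    apply hP
    rw [eq_top_iff]
    intro x hx
    simpa using h1 x hx
  obtain ⟨m, hm, hIm⟩ := Ideal.exists_le_maximal I hI
  have htop : (⊤ : Submodule A (M ⧸ P)) ≤ m • (⊤ : Submodule A (M ⧸ P)) := by
    intro q _
    obtain ⟨x, rfl⟩ := Submodule.Quotient.mk_surjective P q
    have hx : x ∈ P ⊔ m • (⊤ : Submodule A M) := by rw [h m hm]; exact Submodule.mem_top
    obtain ⟨p, hp, z, hz, rfl⟩ := Submodule.mem_sup.mp hx
    have h0 : Submodule.Quotient.mk (p := P) (p + z) = P.mkQ z := by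
      rw [Submodule.Quotient.mk_add, (Submodule.Quotient.mk_eq_zero P).mpr hp, zero_add]
      rfl
    rw [h0]
    have : (m • (⊤ : Submodule A M)).map P.mkQ ≤ m • (⊤ : Submodule A (M ⧸ P)) := by
      rw [Submodule.map_smul'']
      exact Submodule.smul_mono le_rfl le_top
    exact this (Submodule.mem_map_of_mem hz)
  obtain ⟨r, hr1, hr2⟩ := Submodule.exists_sub_one_mem_and_smul_eq_zero_of_fg_of_le_smul m
    (⊤ : Submodule A (M ⧸ P)) (Module.finite_def.mp inferInstance) htop
  have hrI : r ∈ I := by
    rw [Submodule.mem_colon]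
    intro x _
    have := hr2 (Submodule.Quotient.mk x) Submodule.mem_top
    rw [← Submodule.Quotient.mk_smul, Submodule.Quotient.mk_eq_zero] at this
    exact this
  have : (1 : A) ∈ m := by
    have := m.sub_mem (hIm hrI) hr1
    simpa using this
  exact hm.ne_top ((Ideal.eq_top_iff_one m).mpr this)

section main
variable {B A M : Type u} [CommRing B] [CommRing A] [Algebra B A]
  [AddCommGroup M] [Module A M] [Module B M] [IsScalarTower B A M]

/-- reduction of coordinates modulo `m` -/
noncomputable def ρ {n : ℕ} (e : Module.Basis (Fin n) A M) (m : Ideal A) :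
    M →ₗ[A] (Fin n → A ⧸ m) :=
  ((Ideal.Quotient.mkₐ A m).toLinearMap.compLeft (Fin n)) ∘ₗ (e.equivFun : M →ₗ[A] (Fin n → A))

theorem ρ_apply {n : ℕ} (e : Module.Basis (Fin n) A M) (m : Ideal A) (x : M) (j : Fin n) :
    ρ e m x j = Ideal.Quotient.mk m (e.repr x j) := rfl

theorem ρ_surjective {n : ℕ} (e : Module.Basis (Fin n) A M) (m : Ideal A) :
    Function.Surjective (ρ e m) := by
  intro v
  choose a ha using fun j => Ideal.Quotient.mk_surjective (v j)
  refine ⟨e.equivFun.symm a, ?_⟩
  funext j
  rw [ρ_apply, ← ha j]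
  congr 1
  have := e.equivFun.apply_symm_apply a
  exact congr_fun this j

theorem ker_ρ_le {n : ℕ} (e : Module.Basis (Fin n) A M) (m : Ideal A) (z : M)
    (hz : ρ e m z = 0) : z ∈ m • (⊤ : Submodule A M) := by
  rw [← e.sum_repr z]
  refine Submodule.sum_mem _ fun j _ => ?_
  refine Submodule.smul_mem_smul ?_ Submodule.mem_top
  have := congr_fun hz j
  rw [ρ_apply] at this
  exact Ideal.Quotient.eq_zero_iff_mem.mp this

theorem step [IsLocalRing B] [Infinite (IsLocalRing.ResidueField B)] [Finite (MaximalSpectrum A)]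
    {n : ℕ} (e : Module.Basis (Fin n) A M)
    (N : Submodule B M) (hN : Submodule.span A (N : Set M) = ⊤) (k : ℕ) (hk : k ≤ n) :
    ∃ x : Fin k → M, (∀ i, x i ∈ N) ∧ ∀ (m : MaximalSpectrum A),
      haveI := m.isMaximal
      letI := Ideal.Quotient.field m.asIdeal
      LinearIndependent (A ⧸ m.asIdeal) (fun i => ρ e m.asIdeal (x i)) := by
  induction k with
  | zero =>
    refine ⟨fun i => i.elim0, fun i => i.elim0, fun m => ?_⟩
    exact linearIndependent_empty_type
  | succ k ih =>
    obtain ⟨x, hxN, hx⟩ := ih (Nat.le_of_succ_le hk)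
    -- the submodules to avoid
    let S : ∀ m : MaximalSpectrum A, Submodule (A ⧸ m.asIdeal) (Fin n → A ⧸ m.asIdeal) := fun m =>
      Submodule.span (A ⧸ m.asIdeal) (Set.range fun i => ρ e m.asIdeal (x i))
    have hS : ∀ m, S m ≠ ⊤ := by
      intro m hSm
      haveI := m.isMaximal
      letI := Ideal.Quotient.field m.asIdeal
      have h1 : Module.finrank (A ⧸ m.asIdeal) (S m) ≤ k := by
        have := finrank_range_le_card (R := A ⧸ m.asIdeal) (fun i => ρ e m.asIdeal (x i))
        rw [Fintype.card_fin] at this
        exact this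
      rw [hSm, finrank_top, Module.finrank_fin_fun] at h1
      omega
    let P : MaximalSpectrum A → Submodule A M := fun m =>
      ((S m).restrictScalars A).comap (ρ e m.asIdeal)
    have hP : ∀ m, P m ≠ ⊤ := by
      intro m hPm
      apply hS m
      rw [eq_top_iff]
      intro v _
      obtain ⟨z, rfl⟩ := ρ_surjective e m.asIdeal v
      have : z ∈ P m := hPm ▸ Submodule.mem_top
      exact this
    let Q : MaximalSpectrum A → Submodule B N := fun m =>
      ((P m).restrictScalars B).comap N.subtype
    have hQ : ∀ m, Q m ≠ ⊤ := by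
      intro m hQm
      apply hP m
      rw [eq_top_iff, ← hN, Submodule.span_le]
      intro z hz
      have : (⟨z, hz⟩ : N) ∈ Q m := hQm ▸ Submodule.mem_top
      exact this
    obtain ⟨y, hy⟩ := exists_notMem_of_proper Q hQ
    refine ⟨Fin.snoc x (y : M), ?_, ?_⟩
    · intro i
      refine Fin.lastCases ?_ (fun j => ?_) i
      · simp
      · simp [hxN j]
    · intro m
      haveI := m.isMaximal
      letI := Ideal.Quotient.field m.asIdeal
      have hcomp : (fun i => ρ e m.asIdeal ((Fin.snoc x (y : M) : Fin (k + 1) → M) i)) =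
          Fin.snoc (fun i => ρ e m.asIdeal (x i)) (ρ e m.asIdeal (y : M)) := by
        have := Fin.comp_snoc (ρ e m.asIdeal) x (y : M)
        exact this
      rw [hcomp, linearIndependent_finSnoc]
      exact ⟨hx m, fun h => hy m h⟩

end main

theorem main {B A M : Type u} [CommRing B] [CommRing A]
    [IsLocalRing B] [Infinite (IsLocalRing.ResidueField B)] [Algebra B A]
    [Finite (MaximalSpectrum A)]
    (_hBA : (IsLocalRing.maximalIdeal B).map (algebraMap B A) ≤ (⊥ : Ideal A).jacobson)
    [AddCommGroup M] [Module A M] [Module B M] [IsScalarTower B A M]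
    [Module.Free A M] [Module.Finite A M]
    (N : Submodule B M) (hN : Submodule.span A (N : Set M) = ⊤) :
    ∃ b : Module.Basis (Fin (Module.finrank A M)) A M, ∀ i, b i ∈ N := by
  rcases subsingleton_or_nontrivial A with hA | hA
  · haveI : Subsingleton M := Module.subsingleton A M
    have h1 : Module.finrank A M = 1 := by
      rw [Module.finrank, rank_subsingleton]; simp
    rw [h1]
    refine ⟨Module.Basis.ofEquivFun (LinearEquiv.ofSubsingleton M (Fin 1 → A)), fun i => ?_⟩
    rw [Subsingleton.elim ((Module.Basis.ofEquivFun (LinearEquiv.ofSubsingleton M (Fin 1 → A))) i) 0]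
    exact zero_mem N
  let e := Module.finBasis A M
  obtain ⟨x, hxN, hx⟩ := step e N hN (Module.finrank A M) le_rfl
  have hspan : Submodule.span A (Set.range x) = ⊤ := by
    apply eq_top_of_forall_maximal
    intro m hm
    letI := Ideal.Quotient.field m
    have hli := hx ⟨m, hm⟩
    have htop : Submodule.span (A ⧸ m) (Set.range fun i => ρ e m (x i)) = ⊤ :=
      hli.span_eq_top_of_card_eq_finrank' (by simp)
    rw [eq_top_iff]
    intro z _
    have hz : ρ e m z ∈ Submodule.span A (Set.range fun i => ρ e m (x i)) := by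
      have h1 : ρ e m z ∈ (Submodule.span (A ⧸ m) (Set.range fun i => ρ e m (x i))).restrictScalars A := by
        rw [htop]; exact Submodule.mem_top
      rwa [Submodule.restrictScalars_span A (A ⧸ m) Ideal.Quotient.mk_surjective] at h1
    have hmap : Submodule.span A (Set.range fun i => ρ e m (x i)) =
        (Submodule.span A (Set.range x)).map (ρ e m) := by
      rw [Submodule.map_span, ← Set.range_comp]
      rfl
    rw [hmap] at hz
    obtain ⟨p, hp, hpz⟩ := hz
    have hker : ρ e m (z - p) = 0 := by rw [map_sub, hpz, sub_self]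
    have := ker_ρ_le e m (z - p) hker
    have hzz : z = p + (z - p) := by abel
    rw [hzz]
    exact Submodule.add_mem_sup hp this
  refine ⟨basisOfTopLeSpanOfCardEqFinrank x hspan.ge (by simp), fun i => ?_⟩
  rw [coe_basisOfTopLeSpanOfCardEqFinrank]
  exact hxN i

end Groth.Agent.Lib.Helper4.SemiLocalBasis1
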