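import Mathlib

namespace Groth.Agent.Helper4.SP

open TensorProduct

universe u v w

attribute [local instance] Algebra.TensorProduct.rightAlgebra

theorem isSeparable_iff_split (k : Type u) (K : Type v) (Ω : Type w)
    [Field k] [Field K] [Algebra k K] [FiniteDimensional k K]
    [Field Ω] [Algebra k Ω] [IsAlgClosed Ω] :
    Algebra.IsSeparable k K ↔ Nonempty ((Ω ⊗[k] K) ≃ₐ[Ω] (Fin (Module.finrank k K) → Ω)) := by
  constructor
  · intro hsep
    have h1 : Algebra.FormallyEtale k K := Algebra.FormallyEtale.of_isSeparable k K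
    have h2 : Algebra.FormallyEtale Ω (Ω ⊗[k] K) := inferInstance
    have h3 : Module.Finite Ω (Ω ⊗[k] K) := inferInstance
    have h4 : IsArtinianRing (Ω ⊗[k] K) := IsArtinianRing.of_finite Ω _
    let e := Algebra.FormallyEtale.equivPiOfIsSepClosed Ω (Ω ⊗[k] K)
    have hfin : Finite (PrimeSpectrum (Ω ⊗[k] K)) := inferInstance
    have := Fintype.ofFinite (PrimeSpectrum (Ω ⊗[k] K))
    have hcard : Fintype.card (PrimeSpectrum (Ω ⊗[k] K)) = Module.finrank k K := by
      have e1 := e.toLinearEquiv.finrank_eq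
      rw [Module.finrank_baseChange, Module.finrank_fintype_fun_eq_card] at e1
      exact e1.symm
    let σ : PrimeSpectrum (Ω ⊗[k] K) ≃ Fin (Module.finrank k K) := Fintype.equivFinOfCardEq hcard
    exact ⟨e.trans (AlgEquiv.piCongrLeft Ω (fun _ => Ω) σ)⟩
  · rintro ⟨e⟩
    have h1 : Algebra.FormallyUnramified Ω (Fin (Module.finrank k K) → Ω) := inferInstance
    have h2 : Algebra.FormallyUnramified Ω (Ω ⊗[k] K) :=
      Algebra.FormallyUnramified.of_equiv e.symm
    have h3 : Subsingleton (Ω ⊗[k] Ω[K⁄k]) :=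
      (KaehlerDifferential.tensorKaehlerEquivBase k Ω K (Ω ⊗[k] K)).toEquiv.subsingleton
    have h4 : Subsingleton Ω[K⁄k] := (Module.FaithfullyFlat.subsingleton_tensorProduct_iff_right k Ω).mp h3
    have h5 : Algebra.FormallyUnramified k K := ⟨h4⟩
    exact (Algebra.FormallyUnramified.iff_isSeparable k K).mp h5

end Groth.Agent.Helper4.SP
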