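import Mathlib
import Groth.Agent.Lib.Helper1.LocalCrit

/-!
# flatness descent via separating families: basic lemmas (helper4)
-/

set_option backward.isDefEq.respectTransparency.types false
set_option synthInstance.maxHeartbeats 400000
set_option autoImplicit false
set_option linter.unusedSectionVars false
set_option linter.style.haveILetI false
set_option linter.unusedSimpArgs false
universe u v w
open CategoryTheory CategoryTheory.Limits AlgebraicGeometry TopologicalSpace Topology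

namespace Groth.Agent.Lib.Helper4.SepFlatA

open TensorProduct

/-- flat consequence: if `(𝔟 : ω) = 𝔪'` then `ω • n ∈ 𝔟 N` implies `n ∈ 𝔪' N` for flat `N` -/
theorem mem_smul_top_of_smul_mem {R : Type*} [CommRing R] {N : Type*} [AddCommGroup N] [Module R N]
    [Module.Flat R N] (𝔟 𝔪' : Ideal R) (ω : R) (h1 : ∀ c ∈ 𝔪', c * ω ∈ 𝔟)
    (h2 : ∀ c, c * ω ∈ 𝔟 → c ∈ 𝔪') (n : N) (h : ω • n ∈ 𝔟 • (⊤ : Submodule R N)) :
    n ∈ 𝔪' • (⊤ : Submodule R N) := by
  -- the map R/𝔪' → R/𝔟, 1 ↦ ω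
  let l0 : R →ₗ[R] R ⧸ 𝔟 := (Submodule.mkQ 𝔟) ∘ₗ (LinearMap.mulRight R ω)
  have hl0 : 𝔪' ≤ LinearMap.ker l0 := by
    intro c hc
    rw [LinearMap.mem_ker]
    show Submodule.mkQ 𝔟 (c * ω) = 0
    rw [Submodule.mkQ_apply, Submodule.Quotient.mk_eq_zero]
    exact h1 c hc
  let l : (R ⧸ 𝔪') →ₗ[R] R ⧸ 𝔟 := Submodule.liftQ 𝔪' l0 hl0
  have hl : Function.Injective l := by
    rw [← LinearMap.ker_eq_bot, Submodule.ker_liftQ, eq_bot_iff]
    rintro _ ⟨c, hc, rfl⟩
    rw [Submodule.mem_bot, Submodule.mkQ_apply, Submodule.Quotient.mk_eq_zero]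
    apply h2
    have : Submodule.mkQ 𝔟 (c * ω) = 0 := hc
    rwa [Submodule.mkQ_apply, Submodule.Quotient.mk_eq_zero] at this
  have hinj := Module.Flat.rTensor_preserves_injective_linearMap (M := N) l hl
  rw [← Groth.Agent.Helper1.LocalCrit.one_tmul_eq_zero_iff]
  apply hinj
  rw [map_zero, LinearMap.rTensor_tmul]
  have h3 : l (1 : R ⧸ 𝔪') = ω • (1 : R ⧸ 𝔟) := by
    show l (Submodule.mkQ 𝔪' 1) = _
    rw [Submodule.mkQ_apply, Submodule.liftQ_apply]
    show Submodule.mkQ 𝔟 (1 * ω) = _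
    rw [one_mul]
    show (Ideal.Quotient.mk 𝔟) ω = ω • (Ideal.Quotient.mk 𝔟) 1
    rw [Algebra.smul_def, map_one, mul_one]
    rfl
  rw [h3, TensorProduct.smul_tmul]
  exact (Groth.Agent.Helper1.LocalCrit.one_tmul_eq_zero_iff 𝔟 N _).mpr h

/-- localisation of the submodule `J N`: if `ν w ∈ J N` then `t w ∈ J W` for some `t ∈ S` -/
theorem exists_smul_mem_of_map_mem {E : Type*} [CommRing E] (S : Submonoid E)
    {W N : Type*} [AddCommGroup W] [Module E W] [AddCommGroup N] [Module E N]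
    (ν : W →ₗ[E] N) [IsLocalizedModule S ν]
    {A' : Type*} [CommRing A'] [Algebra A' E] [Module A' N] [IsScalarTower A' E N]
    (J : Ideal A') (w : W) (h : ν w ∈ J • (⊤ : Submodule A' N)) :
    ∃ t ∈ S, t • w ∈ (J.map (algebraMap A' E)) • (⊤ : Submodule E W) := by
  have key : ∀ n ∈ J • (⊤ : Submodule A' N), ∃ t ∈ S, ∃ w' ∈ (J.map (algebraMap A' E)) •
      (⊤ : Submodule E W), t • n = ν w' := by
    intro n hn
    refine Submodule.smul_induction_on hn ?_ ?_
    · intro μ hμ n _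
      obtain ⟨⟨w0, t⟩, hw0⟩ := IsLocalizedModule.surj S ν n
      refine ⟨t.1, t.2, algebraMap A' E μ • w0, ?_, ?_⟩
      · exact Submodule.smul_mem_smul (Ideal.mem_map_of_mem _ hμ) Submodule.mem_top
      · rw [map_smul, ← hw0, algebraMap_smul, smul_comm]
        rfl
    · rintro n1 n2 ⟨t1, ht1, w1, hw1, e1⟩ ⟨t2, ht2, w2, hw2, e2⟩
      refine ⟨t1 * t2, S.mul_mem ht1 ht2, t2 • w1 + t1 • w2, ?_, ?_⟩
      · exact Submodule.add_mem _ (Submodule.smul_mem _ _ hw1) (Submodule.smul_mem _ _ hw2)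
      · rw [smul_add, map_add, map_smul, map_smul, ← e1, ← e2, mul_smul, mul_smul,
          smul_comm t1 t2 n1]
  obtain ⟨t, ht, w', hw', e⟩ := key _ h
  have h0 : ν (t • w - w') = 0 := by rw [map_sub, map_smul, e, sub_self]
  obtain ⟨t', ht'⟩ := (IsLocalizedModule.eq_zero_iff S ν).mp h0
  refine ⟨t'.1 * t, S.mul_mem t'.2 ht, ?_⟩
  have : (t'.1 * t) • w = t'.1 • w' := by
    have h4 : t'.1 • (t • w - w') = 0 := ht'
    rw [smul_sub, sub_eq_zero] at h4
    rw [mul_smul, h4]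
  rw [this]
  exact Submodule.smul_mem _ _ hw'

end Groth.Agent.Lib.Helper4.SepFlatA
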