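import Mathlib

/-!
# flatness descent via separating families: functionals on (B⊗A')⊗M (helper4)
-/

set_option backward.isDefEq.respectTransparency.types false
set_option synthInstance.maxHeartbeats 400000
set_option autoImplicit false
set_option linter.unusedSectionVars false
set_option linter.style.haveILetI false
set_option linter.unusedSimpArgs false
universe u v w
open CategoryTheory CategoryTheory.Limits AlgebraicGeometry TopologicalSpace Topology

namespace Groth.Agent.Lib.Helper4.SepFlatB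

open TensorProduct

variable {A B A' M : Type u} [CommRing A] [CommRing B] [CommRing A'] [Algebra A B] [Algebra A A']
  [AddCommGroup M] [Module A M] [Module B M] [IsScalarTower A B M]

/-- the canonical map `(B ⊗_A A') ⊗_B M → A' ⊗_A M` -/
noncomputable def zeta : (B ⊗[A] A') ⊗[B] M →ₗ[A] A' ⊗[A] M :=
  (TensorProduct.comm A M A').toLinearMap ∘ₗ
  ((AlgebraTensorModule.cancelBaseChange A B B M A').restrictScalars A).toLinearMap ∘ₗ
  ((TensorProduct.comm B (B ⊗[A] A') M).restrictScalars A).toLinearMap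

theorem zeta_tmul (b : B) (c : A') (m : M) :
    zeta (A := A) ((b ⊗ₜ[A] c) ⊗ₜ[B] m) = c ⊗ₜ[A] (b • m) := by
  simp [zeta, AlgebraTensorModule.cancelBaseChange_tmul]

variable (P : Submodule B M) (I : Ideal A) (ℓ : A' →ₗ[A] A ⧸ I)

/-- the functional `(B ⊗_A A') ⊗_B M → (M/P)/I(M/P)` -/
noncomputable def xi : (B ⊗[A] A') ⊗[B] M →ₗ[A] (M ⧸ P) ⧸ (I • (⊤ : Submodule A (M ⧸ P))) :=
  (quotTensorEquivQuotSMul (M ⧸ P) I).toLinearMap ∘ₗ
  (LinearMap.rTensor (M ⧸ P) ℓ) ∘ₗ
  (LinearMap.lTensor A' (P.mkQ.restrictScalars A)) ∘ₗ zeta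

theorem xi_tmul (b : B) (c : A') (m : M) (r : A) (hr : ℓ c = Ideal.Quotient.mk I r) :
    xi P I ℓ ((b ⊗ₜ[A] c) ⊗ₜ[B] m) =
      Submodule.Quotient.mk (r • Submodule.Quotient.mk (b • m)) := by
  simp only [xi, LinearMap.coe_comp, Function.comp_apply, zeta_tmul, LinearMap.lTensor_tmul,
    LinearMap.rTensor_tmul, LinearEquiv.coe_coe, hr]
  rw [quotTensorEquivQuotSMul_mk_tmul]
  rfl

theorem xi_tmul_of_eq_zero (b : B) (c : A') (m : M) (hc : ℓ c = 0) :
    xi P I ℓ ((b ⊗ₜ[A] c) ⊗ₜ[B] m) = 0 := by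
  rw [xi_tmul P I ℓ b c m 0 (by rw [hc, map_zero]), zero_smul]
  rfl

theorem xi_tmul_of_mem (b : B) (c : A') (m : M) (hm : b • m ∈ P) :
    xi P I ℓ ((b ⊗ₜ[A] c) ⊗ₜ[B] m) = 0 := by
  obtain ⟨r, hr⟩ := Ideal.Quotient.mk_surjective (ℓ c)
  rw [xi_tmul P I ℓ b c m r hr.symm]
  have : (Submodule.Quotient.mk (b • m) : M ⧸ P) = 0 := by
    rw [Submodule.Quotient.mk_eq_zero]; exact hm
  rw [this, smul_zero]
  rfl

/-- `xi` kills `J' W` if `ℓ` kills `J'`. -/
theorem xi_smul_right (J' : Ideal A') (hℓ : ∀ c ∈ J', ℓ c = 0) (μ : A') (hμ : μ ∈ J')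
    (w : (B ⊗[A] A') ⊗[B] M) : xi P I ℓ (((1 : B) ⊗ₜ[A] μ) • w) = 0 := by
  induction w using TensorProduct.induction_on with
  | zero => simp
  | tmul e m =>
    induction e using TensorProduct.induction_on with
    | zero => simp
    | tmul b c =>
      rw [TensorProduct.smul_tmul', smul_eq_mul, Algebra.TensorProduct.tmul_mul_tmul, one_mul]
      exact xi_tmul_of_eq_zero P I ℓ b (μ * c) m (hℓ _ (J'.mul_mem_right c hμ))
    | add e1 e2 h1 h2 =>
      rw [TensorProduct.add_tmul, smul_add, map_add, h1, h2, add_zero]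
  | add w1 w2 h1 h2 => rw [smul_add, map_add, h1, h2, add_zero]

/-- `xi` kills `J W` if `J M ≤ P`. -/
theorem xi_smul_left (J : Ideal B) (hJ : J • (⊤ : Submodule B M) ≤ P) (β : B) (hβ : β ∈ J)
    (w : (B ⊗[A] A') ⊗[B] M) : xi P I ℓ ((β ⊗ₜ[A] (1 : A')) • w) = 0 := by
  induction w using TensorProduct.induction_on with
  | zero => simp
  | tmul e m =>
    induction e using TensorProduct.induction_on with
    | zero => simp
    | tmul b c =>
      rw [TensorProduct.smul_tmul', smul_eq_mul, Algebra.TensorProduct.tmul_mul_tmul, one_mul]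
      apply xi_tmul_of_mem
      apply hJ
      rw [mul_smul]
      exact Submodule.smul_mem_smul hβ Submodule.mem_top
    | add e1 e2 h1 h2 =>
      rw [TensorProduct.add_tmul, smul_add, map_add, h1, h2, add_zero]
  | add w1 w2 h1 h2 => rw [smul_add, map_add, h1, h2, add_zero]

theorem xi_map_right (J' : Ideal A') (hℓ : ∀ c ∈ J', ℓ c = 0) (w : (B ⊗[A] A') ⊗[B] M)
    (hw : w ∈ (J'.map (Algebra.TensorProduct.includeRight : A' →ₐ[A] B ⊗[A] A')) •
      (⊤ : Submodule (B ⊗[A] A') ((B ⊗[A] A') ⊗[B] M))) : xi P I ℓ w = 0 := by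
  have key : ∀ r ∈ J'.map (Algebra.TensorProduct.includeRight : A' →ₐ[A] B ⊗[A] A'),
      ∀ w : (B ⊗[A] A') ⊗[B] M, xi P I ℓ (r • w) = 0 := by
    intro r hr
    rw [Ideal.map] at hr
    refine Submodule.span_induction ?_ ?_ ?_ ?_ hr
    · rintro _ ⟨μ, hμ, rfl⟩ w
      exact xi_smul_right P I ℓ J' hℓ μ hμ w
    · intro w; simp
    · intro r1 r2 _ _ h1 h2 w
      rw [add_smul, map_add, h1, h2, add_zero]
    · intro e r _ h w
      rw [smul_eq_mul, mul_comm, mul_smul]
      exact h _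
  refine Submodule.smul_induction_on hw ?_ ?_
  · intro r hr w _
    exact key r hr w
  · intro w1 w2 h1 h2
    rw [map_add, h1, h2, add_zero]

theorem xi_map_left (J : Ideal B) (hJ : J • (⊤ : Submodule B M) ≤ P) (w : (B ⊗[A] A') ⊗[B] M)
    (hw : w ∈ (J.map (Algebra.TensorProduct.includeLeft : B →ₐ[A] B ⊗[A] A')) •
      (⊤ : Submodule (B ⊗[A] A') ((B ⊗[A] A') ⊗[B] M))) : xi P I ℓ w = 0 := by
  have key : ∀ r ∈ J.map (Algebra.TensorProduct.includeLeft : B →ₐ[A] B ⊗[A] A'),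
      ∀ w : (B ⊗[A] A') ⊗[B] M, xi P I ℓ (r • w) = 0 := by
    intro r hr
    rw [Ideal.map] at hr
    refine Submodule.span_induction ?_ ?_ ?_ ?_ hr
    · rintro _ ⟨β, hβ, rfl⟩ w
      exact xi_smul_left P I ℓ J hJ β hβ w
    · intro w; simp
    · intro r1 r2 _ _ h1 h2 w
      rw [add_smul, map_add, h1, h2, add_zero]
    · intro e r _ h w
      rw [smul_eq_mul, mul_comm, mul_smul]
      exact h _
  refine Submodule.smul_induction_on hw ?_ ?_
  · intro r hr w _
    exact key r hr w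
  · intro w1 w2 h1 h2
    rw [map_add, h1, h2, add_zero]

end Groth.Agent.Lib.Helper4.SepFlatB
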