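import Mathlib

/-!
# flatness descent via separating families: dual functionals (helper4)
-/

set_option backward.isDefEq.respectTransparency.types false
set_option synthInstance.maxHeartbeats 400000
set_option autoImplicit false
set_option linter.unusedSectionVars false
set_option linter.style.haveILetI false
set_option linter.unusedSimpArgs false
universe u v w
open CategoryTheory CategoryTheory.Limits AlgebraicGeometry TopologicalSpace Topology

namespace Groth.Agent.Lib.Helper4.SepFlatC

open TensorProduct IsLocalRing

variable {A A' : Type u} [CommRing A] [CommRing A'] [IsLocalRing A] [IsLocalRing A']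
  [Algebra A A'] [IsLocalHom (algebraMap A A')]

/-- dual functionals for a family of elements of `A'` whose residues are linearly independent
over the residue field of `A` -/
theorem exists_functional {n : ℕ} (c : Fin n → A')
    (hli : ∀ r : Fin n → A, (∑ s, algebraMap A A' (r s) * c s) ∈ maximalIdeal A' →
      ∀ s, r s ∈ maximalIdeal A) (s : Fin n) :
    ∃ ℓ : A' →ₗ[A] A ⧸ maximalIdeal A, (∀ x ∈ maximalIdeal A', ℓ x = 0) ∧
      ∀ t, ℓ (c t) = if t = s then 1 else 0 := by
  classical
  let k := ResidueField A
  let k' := ResidueField A'
  let cb : Fin n → k' := fun t => residue A' (c t)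
  let Φ : (Fin n → k) →ₗ[k] k' := Fintype.linearCombination k cb
  have hΦ : LinearMap.ker Φ = ⊥ := by
    rw [LinearMap.ker_eq_bot, injective_iff_map_eq_zero]
    intro r hr
    choose r' hr' using fun t => residue_surjective (r t)
    have h1 : residue A' (∑ t, algebraMap A A' (r' t) * c t) = 0 := by
      rw [map_sum]
      rw [← hr]
      show _ = Fintype.linearCombination k cb r
      rw [Fintype.linearCombination_apply]
      refine Finset.sum_congr rfl fun t _ => ?_
      rw [map_mul, ← hr' t, Algebra.smul_def]
      rfl
    have h2 := hli r' ((residue_eq_zero_iff _).mp h1)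
    ext t
    rw [← hr' t]
    exact (residue_eq_zero_iff _).mpr (h2 t)
  obtain ⟨g, hg⟩ := LinearMap.exists_leftInverse_of_injective Φ hΦ
  let ℓk : k' →ₗ[k] k := (LinearMap.proj s) ∘ₗ g
  let res' : A' →ₗ[A] k' := (Algebra.linearMap A' k').restrictScalars A
  refine ⟨(ℓk.restrictScalars A) ∘ₗ res', ?_, ?_⟩
  · intro x hx
    have : res' x = 0 := (residue_eq_zero_iff _).mpr hx
    rw [LinearMap.comp_apply, this, map_zero]
  · intro t
    have h1 : res' (c t) = Φ (Pi.single t 1) := by
      show residue A' (c t) = Fintype.linearCombination k cb (Pi.single t 1)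
      rw [Fintype.linearCombination_apply_single, one_smul]
    rw [LinearMap.comp_apply, h1]
    show (LinearMap.proj (R := k) (φ := fun _ : Fin n => k) s) (g (Φ (Pi.single t 1))) = _
    have h2 : g (Φ (Pi.single t 1)) = Pi.single t 1 := by
      have := congrArg (fun f => f (Pi.single t 1)) hg
      simpa using this
    rw [h2, LinearMap.proj_apply, Pi.single_apply]
    by_cases hts : s = t
    · rw [if_pos hts, if_pos hts.symm]; rfl
    · rw [if_neg hts, if_neg (fun h => hts h.symm)]; rfl

end Groth.Agent.Lib.Helper4.SepFlatC
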