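import Mathlib
import Groth.Agent.Lib.Helper4.SepFlatA
import Groth.Agent.Lib.Helper4.SepFlatB
import Groth.Agent.Lib.Helper4.SepFlatC

/-!
# flatness descent via separating families: the key injectivity lemma (helper4)
-/

set_option backward.isDefEq.respectTransparency.types false
set_option synthInstance.maxHeartbeats 400000
set_option autoImplicit false
set_option linter.unusedSectionVars false
set_option linter.style.haveILetI false
set_option linter.unusedSimpArgs false
universe u v w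
open CategoryTheory CategoryTheory.Limits AlgebraicGeometry TopologicalSpace Topology

namespace Groth.Agent.Lib.Helper4.SepFlatD

open TensorProduct IsLocalRing Groth.Agent.Lib.Helper4

variable {A B A' M : Type u} [CommRing A] [CommRing B] [CommRing A'] [IsLocalRing A]
  [IsLocalRing B] [IsLocalRing A'] [IsNoetherianRing B]
  [Algebra A B] [Algebra A A'] [IsLocalHom (algebraMap A A')]
  [AddCommGroup M] [Module A M] [Module B M] [IsScalarTower A B M] [Module.Finite B M]

/-- membership in `𝔪(M/P)` -/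
theorem mem_sup_of_mk_mem (P : Submodule B M) (I : Ideal A) (x : M)
    (h : (Submodule.Quotient.mk x : M ⧸ P) ∈ I • (⊤ : Submodule A (M ⧸ P))) :
    x ∈ (I.map (algebraMap A B)) • (⊤ : Submodule B M) ⊔ P := by
  have h1 : I • (⊤ : Submodule A (M ⧸ P)) =
      Submodule.map (P.mkQ.restrictScalars A) (I • (⊤ : Submodule A M)) := by
    rw [Submodule.map_smul'', Submodule.map_top]
    congr 1
    symm
    rw [LinearMap.range_eq_top]
    exact P.mkQ_surjective
  rw [h1] at h
  obtain ⟨y, hy, hyx⟩ := h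
  have hy' : y ∈ (I.map (algebraMap A B)) • (⊤ : Submodule B M) := by
    have := Ideal.smul_restrictScalars I (⊤ : Submodule B M)
    have h2 : y ∈ ((I.map (algebraMap A B)) • (⊤ : Submodule B M)).restrictScalars A := by
      rw [this]; exact hy
    exact h2
  have h3 : x - y ∈ P := by
    rw [← Submodule.Quotient.mk_eq_zero, Submodule.Quotient.mk_sub, sub_eq_zero]
    exact hyx.symm
  have : x = y + (x - y) := by abel
  rw [this]
  exact Submodule.add_mem_sup hy' h3

theorem kl {n : ℕ} (c : Fin n → A') (m : Fin n → M)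
    (hli : ∀ r : Fin n → A, (∑ s, algebraMap A A' (r s) * c s) ∈ maximalIdeal A' →
      ∀ s, r s ∈ maximalIdeal A)
    (hyp : ∀ 𝔮 : Ideal (B ⊗[A] A'), 𝔮.IsPrime →
      𝔮.comap (Algebra.TensorProduct.includeLeft : B →ₐ[A] B ⊗[A] A') = maximalIdeal B →
      𝔮.comap (Algebra.TensorProduct.includeRight : A' →ₐ[A] B ⊗[A] A') = maximalIdeal A' →
      ∃ t, t ∉ 𝔮 ∧ t • (∑ s, ((1 : B) ⊗ₜ[A] c s) ⊗ₜ[B] m s) ∈
        ((maximalIdeal A').map (Algebra.TensorProduct.includeRight : A' →ₐ[A] B ⊗[A] A')) •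
          (⊤ : Submodule (B ⊗[A] A') ((B ⊗[A] A') ⊗[B] M))) :
    ∀ s, m s ∈ ((maximalIdeal A).map (algebraMap A B)) • (⊤ : Submodule B M) := by
  classical
  obtain ⟨wt, hwt⟩ : ∃ wt : (B ⊗[A] A') ⊗[B] M, wt = ∑ s, ((1 : B) ⊗ₜ[A] c s) ⊗ₜ[B] m s :=
    ⟨_, rfl⟩
  rw [← hwt] at hyp
  -- Step a
  have stepa : ∀ N : ℕ, wt ∈
      ((maximalIdeal A').map (Algebra.TensorProduct.includeRight : A' →ₐ[A] B ⊗[A] A')) •
        (⊤ : Submodule (B ⊗[A] A') ((B ⊗[A] A') ⊗[B] M)) ⊔
      (((maximalIdeal B) ^ N).map (Algebra.TensorProduct.includeLeft : B →ₐ[A] B ⊗[A] A')) •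
        (⊤ : Submodule (B ⊗[A] A') ((B ⊗[A] A') ⊗[B] M)) := by
    intro N
    obtain ⟨W', hW'⟩ : ∃ W' : Submodule (B ⊗[A] A') ((B ⊗[A] A') ⊗[B] M), W' =
      ((maximalIdeal A').map (Algebra.TensorProduct.includeRight : A' →ₐ[A] B ⊗[A] A')) •
        (⊤ : Submodule (B ⊗[A] A') ((B ⊗[A] A') ⊗[B] M)) ⊔
      (((maximalIdeal B) ^ N).map (Algebra.TensorProduct.includeLeft : B →ₐ[A] B ⊗[A] A')) •
        (⊤ : Submodule (B ⊗[A] A') ((B ⊗[A] A') ⊗[B] M)) := ⟨_, rfl⟩
    rw [← hW']
    let col : Ideal (B ⊗[A] A') :=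
      W'.comap (LinearMap.toSpanSingleton (B ⊗[A] A') ((B ⊗[A] A') ⊗[B] M) wt)
    have hcol : ∀ e, e ∈ col ↔ e • wt ∈ W' := fun e => by
      show (LinearMap.toSpanSingleton _ _ wt) e ∈ W' ↔ _
      rw [LinearMap.toSpanSingleton_apply]
    by_contra hcon
    have hne : col ≠ ⊤ := by
      intro h
      have h1 : (1 : B ⊗[A] A') ∈ col := h ▸ Submodule.mem_top
      rw [hcol, one_smul] at h1
      exact hcon h1
    obtain ⟨𝔫, h𝔫max, hle⟩ := Ideal.exists_le_maximal col hne
    have hprime : 𝔫.IsPrime := h𝔫max.isPrime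
    have h1 : 𝔫.comap (Algebra.TensorProduct.includeRight : A' →ₐ[A] B ⊗[A] A') =
        maximalIdeal A' := by
      apply le_antisymm
      · exact IsLocalRing.le_maximalIdeal (Ideal.comap_ne_top _ hprime.ne_top)
      · intro μ hμ
        rw [Ideal.mem_comap]
        apply hle
        rw [hcol, hW']
        apply Submodule.mem_sup_left
        exact Submodule.smul_mem_smul (Ideal.mem_map_of_mem _ hμ) Submodule.mem_top
    have h2 : 𝔫.comap (Algebra.TensorProduct.includeLeft : B →ₐ[A] B ⊗[A] A') =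
        maximalIdeal B := by
      apply le_antisymm
      · exact IsLocalRing.le_maximalIdeal (Ideal.comap_ne_top _ hprime.ne_top)
      · have hpow : (maximalIdeal B) ^ N ≤
            𝔫.comap (Algebra.TensorProduct.includeLeft : B →ₐ[A] B ⊗[A] A') := by
          intro β hβ
          rw [Ideal.mem_comap]
          apply hle
          rw [hcol, hW']
          apply Submodule.mem_sup_right
          exact Submodule.smul_mem_smul (Ideal.mem_map_of_mem _ hβ) Submodule.mem_top
        haveI : (𝔫.comap (Algebra.TensorProduct.includeLeft : B →ₐ[A] B ⊗[A] A')).IsPrime :=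
          Ideal.comap_isPrime _ _
        exact Ideal.IsPrime.le_of_pow_le hpow
    obtain ⟨t, ht, htw⟩ := hyp 𝔫 hprime h2 h1
    apply ht
    apply hle
    rw [hcol, hW']
    exact Submodule.mem_sup_left htw
  -- Step b
  intro s
  obtain ⟨ℓ, hℓ0, hℓc⟩ := SepFlatC.exists_functional c hli s
  have stepb : ∀ N : ℕ, m s ∈ ((maximalIdeal A).map (algebraMap A B)) • (⊤ : Submodule B M) ⊔
      ((maximalIdeal B) ^ N) • (⊤ : Submodule B M) := by
    intro N
    obtain ⟨P, hP⟩ : ∃ P : Submodule B M, P = ((maximalIdeal B) ^ N) • (⊤ : Submodule B M) :=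
      ⟨_, rfl⟩
    rw [← hP]
    have hx : SepFlatB.xi P (maximalIdeal A) ℓ wt = 0 := by
      obtain ⟨w1, hw1, w2, hw2, hsum⟩ := Submodule.mem_sup.mp (stepa N)
      rw [← hsum, map_add, SepFlatB.xi_map_right P _ ℓ _ hℓ0 w1 hw1,
        SepFlatB.xi_map_left P _ ℓ _ (le_of_eq hP.symm) w2 hw2, add_zero]
    have hx2 : SepFlatB.xi P (maximalIdeal A) ℓ wt =
        Submodule.Quotient.mk (Submodule.Quotient.mk (m s)) := by
      rw [hwt, map_sum, Finset.sum_eq_single s]
      · rw [SepFlatB.xi_tmul P _ ℓ 1 (c s) (m s) 1 (by rw [hℓc, if_pos rfl, map_one]), one_smul,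
          one_smul]
      · intro t _ hts
        exact SepFlatB.xi_tmul_of_eq_zero _ _ _ _ _ _ (by rw [hℓc, if_neg hts])
      · intro h; exact absurd (Finset.mem_univ s) h
    rw [hx2, Submodule.Quotient.mk_eq_zero] at hx
    exact mem_sup_of_mk_mem P (maximalIdeal A) (m s) hx
  -- Krull intersection
  obtain ⟨Pm, hPm⟩ : ∃ Pm : Submodule B M, Pm =
      ((maximalIdeal A).map (algebraMap A B)) • (⊤ : Submodule B M) := ⟨_, rfl⟩
  rw [← hPm] at stepb ⊢
  have hkr := Ideal.iInf_pow_smul_eq_bot_of_isLocalRing (R := B) (M := M ⧸ Pm) (maximalIdeal B)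
    (Ideal.IsPrime.ne_top inferInstance)
  have hmem : (Submodule.Quotient.mk (m s) : M ⧸ Pm) ∈
      ⨅ i : ℕ, (maximalIdeal B) ^ i • (⊤ : Submodule B (M ⧸ Pm)) := by
    rw [Submodule.mem_iInf]
    intro N
    obtain ⟨y, hy, z, hz, hsum⟩ := Submodule.mem_sup.mp (stepb N)
    rw [← hsum, Submodule.Quotient.mk_add, (Submodule.Quotient.mk_eq_zero Pm).mpr hy, zero_add]
    have h1 : (maximalIdeal B) ^ N • (⊤ : Submodule B (M ⧸ Pm)) =
        Submodule.map Pm.mkQ ((maximalIdeal B) ^ N • (⊤ : Submodule B M)) := by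
      rw [Submodule.map_smul'', Submodule.map_top, Submodule.range_mkQ]
    rw [h1]
    exact Submodule.mem_map_of_mem hz
  rw [hkr, Submodule.mem_bot, Submodule.Quotient.mk_eq_zero] at hmem
  exact hmem

end Groth.Agent.Lib.Helper4.SepFlatD
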