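import Mathlib

/-!
# flatness descent via separating families: simple quotients of ideals (helper4)
-/

set_option backward.isDefEq.respectTransparency.types false
set_option synthInstance.maxHeartbeats 400000
set_option autoImplicit false
set_option linter.unusedSectionVars false
set_option linter.style.haveILetI false
set_option linter.unusedSimpArgs false
universe u v w
open CategoryTheory CategoryTheory.Limits AlgebraicGeometry TopologicalSpace Topology

namespace Groth.Agent.Lib.Helper4.SepFlatE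

open TensorProduct IsLocalRing

variable {A' : Type u} [CommRing A'] [IsLocalRing A']

/-- auxiliary induction for `exists_simple_quotient` -/
theorem exists_simple_quotient_aux (J : Ideal A') (r : ℕ) :
    ∀ (𝔞' : Ideal A') (f : Fin r → A'), (maximalIdeal A') • J ≤ 𝔞' → 𝔞' ≤ J →
      J ≤ 𝔞' ⊔ Ideal.span (Set.range f) → (∀ i, f i ∈ J) → ¬ J ≤ 𝔞' →
      ∃ (𝔟 : Ideal A') (ω : A'), 𝔞' ≤ 𝔟 ∧ 𝔟 ≤ J ∧ ω ∈ J ∧ J ≤ 𝔟 ⊔ Ideal.span {ω} ∧
        ∀ c, c * ω ∈ 𝔟 → c ∈ maximalIdeal A' := by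
  induction r with
  | zero =>
    intro 𝔞' f _ _ h3 _ h5
    exfalso
    apply h5
    refine h3.trans ?_
    have : Set.range f = ∅ := Set.range_eq_empty f
    rw [this, Ideal.span_empty, sup_bot_eq]
  | succ r ih =>
    intro 𝔞' f h1 h2 h3 h4 h5
    by_cases hJ : J ≤ 𝔞' ⊔ Ideal.span {f 0}
    · refine ⟨𝔞', f 0, le_rfl, h2, h4 0, hJ, ?_⟩
      intro c hc
      by_contra hcm
      have hu : IsUnit c := by
        by_contra h
        exact hcm ((IsLocalRing.mem_maximalIdeal c).mpr h)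
      obtain ⟨c', hc'⟩ := hu.exists_left_inv
      have : f 0 ∈ 𝔞' := by
        have := 𝔞'.mul_mem_left c' hc
        rwa [← mul_assoc, hc', one_mul] at this
      apply h5
      refine hJ.trans (sup_le le_rfl ?_)
      rw [Ideal.span_le, Set.singleton_subset_iff]
      exact this
    · have hle : 𝔞' ⊔ Ideal.span {f 0} ≤ J := by
        refine sup_le h2 ?_
        rw [Ideal.span_le, Set.singleton_subset_iff]
        exact h4 0
      obtain ⟨𝔟, ω, hb1, hb2, hb3, hb4, hb5⟩ := ih (𝔞' ⊔ Ideal.span {f 0}) (fun i => f i.succ)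
        (h1.trans le_sup_left) hle
        (by
          refine h3.trans ?_
          refine sup_le (le_sup_of_le_left le_sup_left) ?_
          rw [Ideal.span_le]
          rintro _ ⟨i, rfl⟩
          refine Fin.cases ?_ (fun j => ?_) i
          · exact Ideal.mem_sup_left (Ideal.mem_sup_right (Ideal.subset_span rfl))
          · exact Ideal.mem_sup_right (Ideal.subset_span ⟨j, rfl⟩))
        (fun i => h4 i.succ) hJ
      exact ⟨𝔟, ω, le_sup_left.trans hb1, hb2, hb3, hb4, hb5⟩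

/-- a simple quotient of `J/𝔞` -/
theorem exists_simple_quotient (𝔞 K : Ideal A') (hK : K.FG) (hne : ¬ K ≤ 𝔞) :
    ∃ (𝔟 : Ideal A') (ω : A'), 𝔞 ≤ 𝔟 ∧ 𝔟 ≤ 𝔞 ⊔ K ∧ ω ∈ 𝔞 ⊔ K ∧
      (maximalIdeal A') • (𝔞 ⊔ K) ≤ 𝔟 ∧ 𝔞 ⊔ K ≤ 𝔟 ⊔ Ideal.span {ω} ∧
      ∀ c, c * ω ∈ 𝔟 → c ∈ maximalIdeal A' := by
  obtain ⟨s, hs⟩ := hK
  obtain ⟨r, f, hf⟩ : ∃ (r : ℕ) (f : Fin r → A'), Set.range f = (s : Set A') := by
    refine ⟨s.card, fun i => (s.equivFin.symm i : A'), ?_⟩
    ext y
    constructor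
    · rintro ⟨i, rfl⟩; exact (s.equivFin.symm i).2
    · intro hy; exact ⟨s.equivFin ⟨y, hy⟩, by simp⟩
  have hKf : K = Ideal.span (Set.range f) := by rw [hf]; exact hs.symm
  obtain ⟨J, hJ⟩ : ∃ J : Ideal A', J = 𝔞 ⊔ K := ⟨_, rfl⟩
  rw [← hJ]
  have hnak : ¬ J ≤ 𝔞 ⊔ (maximalIdeal A') • J := by
    intro hcon
    apply hne
    apply Submodule.le_of_le_smul_of_le_jacobson_bot (I := maximalIdeal A') (N := 𝔞) (N' := K)
      ⟨s, hs⟩ (IsLocalRing.maximalIdeal_le_jacobson ⊥)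
    have h1 : K ≤ J := by rw [hJ]; exact le_sup_right
    refine h1.trans (hcon.trans ?_)
    refine sup_le le_sup_left ?_
    rw [hJ, Submodule.smul_sup]
    exact sup_le (le_sup_of_le_left Submodule.smul_le_right) le_sup_right
  obtain ⟨𝔟, ω, hb1, hb2, hb3, hb4, hb5⟩ := exists_simple_quotient_aux J r
    (𝔞 ⊔ (maximalIdeal A') • J) f le_sup_right
    (sup_le (by rw [hJ]; exact le_sup_left) Submodule.smul_le_right)
    (by rw [hJ, hKf]; exact sup_le_sup_right le_sup_left _)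
    (fun i => by rw [hJ, hKf]; exact Ideal.mem_sup_right (Ideal.subset_span ⟨i, rfl⟩)) hnak
  exact ⟨𝔟, ω, le_sup_left.trans hb1, hb2, hb3, le_sup_right.trans hb1, hb4, hb5⟩

end Groth.Agent.Lib.Helper4.SepFlatE
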