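import Mathlib

/-!
# flatness descent via separating families: independent families modulo the maximal ideal (helper4)
-/

set_option backward.isDefEq.respectTransparency.types false
set_option synthInstance.maxHeartbeats 400000
set_option autoImplicit false
set_option linter.unusedSectionVars false
set_option linter.style.haveILetI false
set_option linter.unusedSimpArgs false
universe u v w
open CategoryTheory CategoryTheory.Limits AlgebraicGeometry TopologicalSpace Topology

namespace Groth.Agent.Lib.Helper4.SepFlatF

open TensorProduct IsLocalRing

variable {A A' : Type u} [CommRing A] [CommRing A'] [IsLocalRing A] [IsLocalRing A']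
  [Algebra A A'] [IsLocalHom (algebraMap A A')]

/-- express finitely many elements of `A'` modulo `𝔪'` through a family which is linearly
independent over the residue field of `A` -/
theorem exists_indep_family {ι : Type*} [Finite ι] (c : ι → A') :
    ∃ (d : ℕ) (β : Fin d → A') (lam : ι → Fin d → A),
      (∀ r : Fin d → A, (∑ s, algebraMap A A' (r s) * β s) ∈ maximalIdeal A' →
        ∀ s, r s ∈ maximalIdeal A) ∧
      ∀ x, c x - ∑ j, algebraMap A A' (lam x j) * β j ∈ maximalIdeal A' := by
  classical
  let k := ResidueField A
  let k' := ResidueField A'
  let V : Submodule k k' := Submodule.span k (Set.range fun x => residue A' (c x))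
  haveI : Module.Finite k V := Module.Finite.span_of_finite k (Set.finite_range _)
  let b := Module.finBasis k V
  obtain ⟨d, hd⟩ : ∃ d, d = Module.finrank k V := ⟨_, rfl⟩
  choose β hβ using fun j : Fin (Module.finrank k V) => residue_surjective ((b j : k'))
  have hcV : ∀ x, residue A' (c x) ∈ V := fun x => Submodule.subset_span ⟨x, rfl⟩
  choose lam hlam using fun (x : ι) (j : Fin (Module.finrank k V)) =>
    residue_surjective (b.repr ⟨residue A' (c x), hcV x⟩ j)
  refine ⟨Module.finrank k V, β, lam, ?_, ?_⟩
  · intro r hr s
    have hli : LinearIndependent k (fun j => (b j : k')) :=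
      b.linearIndependent.map' V.subtype (Submodule.ker_subtype V)
    rw [Fintype.linearIndependent_iff] at hli
    have h1 : ∑ j, (residue A (r j)) • ((b j : V) : k') = 0 := by
      have := (residue_eq_zero_iff _).mpr hr
      rw [map_sum] at this
      rw [← this]
      refine Finset.sum_congr rfl fun j _ => ?_
      rw [map_mul, hβ j, Algebra.smul_def]
      rfl
    have h2 := hli _ h1 s
    exact (residue_eq_zero_iff _).mp h2
  · intro x
    rw [← residue_eq_zero_iff, map_sub, sub_eq_zero, map_sum]
    have h1 : (⟨residue A' (c x), hcV x⟩ : V) = ∑ j, b.repr ⟨residue A' (c x), hcV x⟩ j • b j :=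
      (b.sum_repr _).symm
    have h2 := congrArg (V.subtype) h1
    rw [map_sum] at h2
    simp only [Submodule.subtype_apply, map_smul] at h2
    rw [h2]
    refine Finset.sum_congr rfl fun j _ => ?_
    rw [map_mul, hβ j, ← hlam x j, Algebra.smul_def]
    rfl

end Groth.Agent.Lib.Helper4.SepFlatF
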