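import Mathlib

/-!
# flatness descent via separating families: computations in (B⊗A')⊗M (helper4)
-/

set_option backward.isDefEq.respectTransparency.types false
set_option synthInstance.maxHeartbeats 400000
set_option autoImplicit false
set_option linter.unusedSectionVars false
set_option linter.style.haveILetI false
set_option linter.unusedSimpArgs false
universe u v w
open CategoryTheory CategoryTheory.Limits AlgebraicGeometry TopologicalSpace Topology

namespace Groth.Agent.Lib.Helper4.SepFlatG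

open TensorProduct IsLocalRing

variable {A B A' M : Type u} [CommRing A] [CommRing B] [CommRing A'] [Algebra A B] [Algebra A A']
  [AddCommGroup M] [Module A M] [Module B M] [IsScalarTower A B M]

theorem one_tmul_algebraMap (a : A) :
    ((1 : B) ⊗ₜ[A] algebraMap A A' a : B ⊗[A] A') = algebraMap A B a ⊗ₜ[A] (1 : A') := by
  rw [Algebra.algebraMap_eq_smul_one, Algebra.algebraMap_eq_smul_one, TensorProduct.smul_tmul]

theorem one_tmul_smul (a : A) (m : M) :
    ((1 : B ⊗[A] A') ⊗ₜ[B] (a • m) : (B ⊗[A] A') ⊗[B] M) =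
      ((1 : B) ⊗ₜ[A] algebraMap A A' a : B ⊗[A] A') • ((1 : B ⊗[A] A') ⊗ₜ[B] m) := by
  rw [TensorProduct.smul_tmul', smul_eq_mul, mul_one, one_tmul_algebraMap,
    ← algebraMap_smul B a m, ← TensorProduct.smul_tmul, Algebra.smul_def, mul_one]
  rfl

theorem tmul_mul_tmul_smul (lam : A) (β : A') (m : M) :
    (((1 : B) ⊗ₜ[A] (algebraMap A A' lam * β) : B ⊗[A] A') ⊗ₜ[B] m : (B ⊗[A] A') ⊗[B] M) =
      ((1 : B) ⊗ₜ[A] β : B ⊗[A] A') ⊗ₜ[B] (lam • m) := by
  have h1 : ((1 : B) ⊗ₜ[A] (algebraMap A A' lam * β) : B ⊗[A] A') =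
      algebraMap A B lam • ((1 : B) ⊗ₜ[A] β : B ⊗[A] A') := by
    rw [Algebra.smul_def]
    show _ = (algebraMap A B lam ⊗ₜ[A] (1 : A')) * _
    rw [Algebra.TensorProduct.tmul_mul_tmul, mul_one, one_mul, Algebra.algebraMap_eq_smul_one,
      Algebra.algebraMap_eq_smul_one, smul_mul_assoc, one_mul, TensorProduct.smul_tmul]
  rw [h1, TensorProduct.smul_tmul, algebraMap_smul]

variable {N : Type*} [AddCommGroup N] [Module (B ⊗[A] A') N] [Module A' N]

/-- a linear map from `W` to a compatible `A'`-module `N` maps `J W` into `J N` -/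
theorem map_mem_smul_top (ν : (B ⊗[A] A') ⊗[B] M →ₗ[B ⊗[A] A'] N)
    (hcompat : ∀ (a : A') (n : N), a • n = ((1 : B) ⊗ₜ[A] a : B ⊗[A] A') • n)
    (J : Ideal A') (w : (B ⊗[A] A') ⊗[B] M)
    (hw : w ∈ (J.map (Algebra.TensorProduct.includeRight : A' →ₐ[A] B ⊗[A] A')) •
      (⊤ : Submodule (B ⊗[A] A') ((B ⊗[A] A') ⊗[B] M))) :
    ν w ∈ J • (⊤ : Submodule A' N) := by
  have key : ∀ r ∈ J.map (Algebra.TensorProduct.includeRight : A' →ₐ[A] B ⊗[A] A'),
      ∀ n : N, r • n ∈ J • (⊤ : Submodule A' N) := by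
    intro r hr
    rw [Ideal.map] at hr
    refine Submodule.span_induction ?_ ?_ ?_ ?_ hr
    · rintro _ ⟨a, ha, rfl⟩ n
      show ((1 : B) ⊗ₜ[A] a : B ⊗[A] A') • n ∈ _
      rw [← hcompat]
      exact Submodule.smul_mem_smul ha Submodule.mem_top
    · intro n; simp
    · intro r1 r2 _ _ h1 h2 n
      rw [add_smul]; exact add_mem (h1 n) (h2 n)
    · intro e r _ h n
      rw [smul_eq_mul, mul_comm, mul_smul]
      exact h _
  refine Submodule.smul_induction_on hw ?_ ?_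
  · intro r hr w _
    rw [map_smul]
    exact key r hr _
  · intro w1 w2 h1 h2
    rw [map_add]; exact add_mem h1 h2

/-- localisation of the submodule `J N` (explicit compatibility form) -/
theorem exists_smul_mem_of_map_mem (S : Submonoid (B ⊗[A] A'))
    (ν : (B ⊗[A] A') ⊗[B] M →ₗ[B ⊗[A] A'] N) [IsLocalizedModule S ν]
    (hcompat : ∀ (a : A') (n : N), a • n = ((1 : B) ⊗ₜ[A] a : B ⊗[A] A') • n)
    (J : Ideal A') (w : (B ⊗[A] A') ⊗[B] M) (h : ν w ∈ J • (⊤ : Submodule A' N)) :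
    ∃ t ∈ S, t • w ∈ (J.map (Algebra.TensorProduct.includeRight : A' →ₐ[A] B ⊗[A] A')) •
      (⊤ : Submodule (B ⊗[A] A') ((B ⊗[A] A') ⊗[B] M)) := by
  have key : ∀ n ∈ J • (⊤ : Submodule A' N), ∃ t ∈ S, ∃ w' ∈
      (J.map (Algebra.TensorProduct.includeRight : A' →ₐ[A] B ⊗[A] A')) •
      (⊤ : Submodule (B ⊗[A] A') ((B ⊗[A] A') ⊗[B] M)), t • n = ν w' := by
    intro n hn
    refine Submodule.smul_induction_on hn ?_ ?_
    · intro μ hμ n _
      obtain ⟨⟨w0, t⟩, hw0⟩ := IsLocalizedModule.surj S ν n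
      refine ⟨t.1, t.2, ((1 : B) ⊗ₜ[A] μ : B ⊗[A] A') • w0, ?_, ?_⟩
      · exact Submodule.smul_mem_smul (Ideal.mem_map_of_mem _ hμ) Submodule.mem_top
      · rw [map_smul, ← hw0, hcompat, smul_comm]
        rfl
    · rintro n1 n2 ⟨t1, ht1, w1, hw1, e1⟩ ⟨t2, ht2, w2, hw2, e2⟩
      refine ⟨t1 * t2, S.mul_mem ht1 ht2, t2 • w1 + t1 • w2, ?_, ?_⟩
      · exact Submodule.add_mem _ (Submodule.smul_mem _ _ hw1) (Submodule.smul_mem _ _ hw2)
      · rw [smul_add, map_add, map_smul, map_smul, ← e1, ← e2, mul_smul, mul_smul,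
          smul_comm t1 t2 n1]
  obtain ⟨t, ht, w', hw', e⟩ := key _ h
  have h0 : ν (t • w - w') = 0 := by rw [map_sub, map_smul, e, sub_self]
  obtain ⟨t', ht'⟩ := (IsLocalizedModule.eq_zero_iff S ν).mp h0
  refine ⟨t'.1 * t, S.mul_mem t'.2 ht, ?_⟩
  have : (t'.1 * t) • w = t'.1 • w' := by
    have h4 : t'.1 • (t • w - w') = 0 := ht'
    rw [smul_sub, sub_eq_zero] at h4
    rw [mul_smul, h4]
  rw [this]
  exact Submodule.smul_mem _ _ hw'

end Groth.Agent.Lib.Helper4.SepFlatG
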