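import Mathlib
import Groth.Agent.Lib.Helper4.SepFlatA
import Groth.Agent.Lib.Helper4.SepFlatD
import Groth.Agent.Lib.Helper4.SepFlatF
import Groth.Agent.Lib.Helper4.SepFlatG

/-!
# flatness descent via separating families: the main step (helper4)
-/

set_option backward.isDefEq.respectTransparency.types false
set_option synthInstance.maxHeartbeats 400000
set_option autoImplicit false
set_option linter.unusedSectionVars false
set_option linter.style.haveILetI false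
set_option linter.unusedSimpArgs false
universe u v w
open CategoryTheory CategoryTheory.Limits AlgebraicGeometry TopologicalSpace Topology

namespace Groth.Agent.Lib.Helper4.SepFlatH

open TensorProduct IsLocalRing Groth.Agent.Lib.Helper4

variable {A B A' M : Type u} [CommRing A] [CommRing B] [CommRing A'] [IsLocalRing A]
  [IsLocalRing B] [IsLocalRing A'] [IsNoetherianRing B]
  [Algebra A B] [Algebra A A'] [IsLocalHom (algebraMap A A')]
  [AddCommGroup M] [Module A M] [Module B M] [IsScalarTower A B M] [Module.Finite B M]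

/-- the hypothesis at one member of the family: at every prime of `B ⊗_A A'` above the two
maximal ideals, the localisation of `(B ⊗_A A') ⊗_B M` is `A'`-flat -/
def HLoc (A B A' M : Type u) [CommRing A] [CommRing B] [CommRing A'] [IsLocalRing B]
    [IsLocalRing A'] [Algebra A B] [Algebra A A'] [AddCommGroup M] [Module A M] [Module B M]
    [IsScalarTower A B M] : Prop :=
  ∀ (𝔮 : Ideal (B ⊗[A] A')) [𝔮.IsPrime],
    𝔮.comap (Algebra.TensorProduct.includeLeft : B →ₐ[A] B ⊗[A] A') = maximalIdeal B →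
    𝔮.comap (Algebra.TensorProduct.includeRight : A' →ₐ[A] B ⊗[A] A') = maximalIdeal A' →
    ∃ (N : Type u) (_ : AddCommGroup N) (_ : Module (B ⊗[A] A') N) (_ : Module A' N)
      (ν : (B ⊗[A] A') ⊗[B] M →ₗ[B ⊗[A] A'] N),
      IsLocalizedModule 𝔮.primeCompl ν ∧
      (∀ (a : A') (n : N), a • n = ((1 : B) ⊗ₜ[A] a : B ⊗[A] A') • n) ∧ Module.Flat A' N

theorem one_tmul_mem (J : Ideal A') (𝔠 : Ideal A) (h𝔠 : 𝔠 ≤ J.comap (algebraMap A A')) (y : M)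
    (hy : y ∈ 𝔠 • (⊤ : Submodule A M)) :
    ((1 : B ⊗[A] A') ⊗ₜ[B] y : (B ⊗[A] A') ⊗[B] M) ∈
      (J.map (Algebra.TensorProduct.includeRight : A' →ₐ[A] B ⊗[A] A')) •
        (⊤ : Submodule (B ⊗[A] A') ((B ⊗[A] A') ⊗[B] M)) := by
  refine Submodule.smul_induction_on hy ?_ ?_
  · intro a ha m _
    rw [SepFlatG.one_tmul_smul]
    exact Submodule.smul_mem_smul (Ideal.mem_map_of_mem _ (h𝔠 ha)) Submodule.mem_top
  · intro y1 y2 h1 h2
    rw [TensorProduct.tmul_add]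
    exact add_mem h1 h2

theorem incR_smul_one_tmul (c : A') (m : M) :
    ((1 : B) ⊗ₜ[A] c : B ⊗[A] A') • ((1 : B ⊗[A] A') ⊗ₜ[B] m : (B ⊗[A] A') ⊗[B] M) =
      ((1 : B) ⊗ₜ[A] c : B ⊗[A] A') ⊗ₜ[B] m := by
  rw [TensorProduct.smul_tmul', smul_eq_mul, mul_one]

set_option maxHeartbeats 800000 in
theorem step6 (hH : HLoc A B A' M) (𝔟 : Ideal A') (ω : A')
    (h1 : ∀ c ∈ maximalIdeal A', c * ω ∈ 𝔟) (h2 : ∀ c, c * ω ∈ 𝔟 → c ∈ maximalIdeal A')
    (𝔠 : Ideal A) (h𝔠 : 𝔠 ≤ 𝔟.comap (algebraMap A A'))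
    {ι : Type*} [Fintype ι] (ρ : ι → A) (bb cc : ι → A') (m : ι → M)
    (hbb : ∀ x, bb x ∈ 𝔟) (hρ : ∀ x, algebraMap A A' (ρ x) = bb x + cc x * ω)
    (hrel : ∑ x, ρ x • m x ∈ 𝔠 • (⊤ : Submodule A M)) :
    ∃ (d : ℕ) (β : Fin d → A') (lam : ι → Fin d → A),
      (∀ x, cc x - ∑ j, algebraMap A A' (lam x j) * β j ∈ maximalIdeal A') ∧
      ∀ j, ∑ x, lam x j • m x ∈
        ((maximalIdeal A).map (algebraMap A B)) • (⊤ : Submodule B M) := by
  classical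
  obtain ⟨d, β, lam, hli, hcong⟩ := SepFlatF.exists_indep_family (A := A) cc
  refine ⟨d, β, lam, hcong, ?_⟩
  apply SepFlatD.kl β (fun j => ∑ x, lam x j • m x) hli
  intro 𝔮 h𝔮 hq1 hq2
  haveI := h𝔮
  obtain ⟨N, _, _, _, ν, hloc, hcompat, hflat⟩ := hH 𝔮 hq1 hq2
  haveI := hloc
  haveI := hflat
  -- notation
  obtain ⟨incR, hincR⟩ : ∃ incR : A' →ₐ[A] B ⊗[A] A',
    incR = (Algebra.TensorProduct.includeRight : A' →ₐ[A] B ⊗[A] A') := ⟨_, rfl⟩
  have hincR' : ∀ c : A', incR c = ((1 : B) ⊗ₜ[A] c : B ⊗[A] A') := fun c => by rw [hincR]; rfl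
  obtain ⟨w1, hw1⟩ : ∃ w1 : (B ⊗[A] A') ⊗[B] M,
    w1 = ∑ x, ((1 : B) ⊗ₜ[A] cc x : B ⊗[A] A') ⊗ₜ[B] m x := ⟨_, rfl⟩
  -- Claim A
  have hA : ((1 : B) ⊗ₜ[A] ω : B ⊗[A] A') • w1 ∈
      (𝔟.map (Algebra.TensorProduct.includeRight : A' →ₐ[A] B ⊗[A] A')) •
        (⊤ : Submodule (B ⊗[A] A') ((B ⊗[A] A') ⊗[B] M)) := by
    have e1 : ∑ x, ((1 : B) ⊗ₜ[A] algebraMap A A' (ρ x) : B ⊗[A] A') •
        ((1 : B ⊗[A] A') ⊗ₜ[B] m x : (B ⊗[A] A') ⊗[B] M) =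
        (1 : B ⊗[A] A') ⊗ₜ[B] (∑ x, ρ x • m x) := by
      rw [TensorProduct.tmul_sum]
      refine Finset.sum_congr rfl fun x _ => ?_
      rw [SepFlatG.one_tmul_smul]
    have e2 : ((1 : B) ⊗ₜ[A] ω : B ⊗[A] A') • w1 =
        ∑ x, ((1 : B) ⊗ₜ[A] algebraMap A A' (ρ x) : B ⊗[A] A') •
          ((1 : B ⊗[A] A') ⊗ₜ[B] m x : (B ⊗[A] A') ⊗[B] M) -
        ∑ x, ((1 : B) ⊗ₜ[A] bb x : B ⊗[A] A') •
          ((1 : B ⊗[A] A') ⊗ₜ[B] m x : (B ⊗[A] A') ⊗[B] M) := by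
      rw [hw1, Finset.smul_sum, ← Finset.sum_sub_distrib]
      refine Finset.sum_congr rfl fun x _ => ?_
      rw [hρ x, TensorProduct.tmul_add, add_smul, add_sub_cancel_left,
        ← incR_smul_one_tmul (cc x) (m x), ← mul_smul, Algebra.TensorProduct.tmul_mul_tmul,
        one_mul, mul_comm]
    rw [e2, e1]
    refine sub_mem (one_tmul_mem 𝔟 𝔠 h𝔠 _ hrel) (Submodule.sum_mem _ fun x _ => ?_)
    exact Submodule.smul_mem_smul (Ideal.mem_map_of_mem _ (hbb x)) Submodule.mem_top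
  -- Claim B
  have hB : ν w1 ∈ (maximalIdeal A') • (⊤ : Submodule A' N) := by
    have := SepFlatG.map_mem_smul_top ν hcompat 𝔟 _ hA
    rw [map_smul, ← hcompat] at this
    exact SepFlatA.mem_smul_top_of_smul_mem 𝔟 (maximalIdeal A') ω h1 h2 (ν w1) this
  -- Claim C
  obtain ⟨t, ht, htw⟩ := SepFlatG.exists_smul_mem_of_map_mem 𝔮.primeCompl ν hcompat
    (maximalIdeal A') w1 hB
  refine ⟨t, ht, ?_⟩
  -- Claim D
  have hD : w1 - ∑ j, ((1 : B) ⊗ₜ[A] β j : B ⊗[A] A') ⊗ₜ[B] (∑ x, lam x j • m x) ∈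
      ((maximalIdeal A').map (Algebra.TensorProduct.includeRight : A' →ₐ[A] B ⊗[A] A')) •
        (⊤ : Submodule (B ⊗[A] A') ((B ⊗[A] A') ⊗[B] M)) := by
    have e3 : ∑ j, ((1 : B) ⊗ₜ[A] β j : B ⊗[A] A') ⊗ₜ[B] (∑ x, lam x j • m x) =
        ∑ x, ((1 : B) ⊗ₜ[A] (∑ j, algebraMap A A' (lam x j) * β j) : B ⊗[A] A') ⊗ₜ[B] m x := by
      simp_rw [TensorProduct.tmul_sum, TensorProduct.sum_tmul]
      rw [Finset.sum_comm]
      refine Finset.sum_congr rfl fun x _ => Finset.sum_congr rfl fun j _ => ?_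
      rw [SepFlatG.tmul_mul_tmul_smul]
    rw [e3, hw1, ← Finset.sum_sub_distrib]
    refine Submodule.sum_mem _ fun x _ => ?_
    rw [← TensorProduct.sub_tmul, ← TensorProduct.tmul_sub, ← incR_smul_one_tmul]
    exact Submodule.smul_mem_smul (Ideal.mem_map_of_mem _ (hcong x)) Submodule.mem_top
  have : t • ∑ j, ((1 : B) ⊗ₜ[A] β j : B ⊗[A] A') ⊗ₜ[B] (∑ x, lam x j • m x) =
      t • w1 - t • (w1 - ∑ j, ((1 : B) ⊗ₜ[A] β j : B ⊗[A] A') ⊗ₜ[B] (∑ x, lam x j • m x)) := by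
    rw [smul_sub, sub_sub_cancel]
  rw [this]
  exact sub_mem htw (Submodule.smul_mem _ _ hD)

end Groth.Agent.Lib.Helper4.SepFlatH
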