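import Mathlib
import Groth.Agent.Lib.Helper1.LocalCrit
import Groth.Agent.Lib.Helper4.FlatNilp
import Groth.Agent.Lib.Helper4.SepFlatE
import Groth.Agent.Lib.Helper4.SepFlatH

/-!
# flatness descent via separating families: coordinates of relations (helper4)
-/

set_option backward.isDefEq.respectTransparency.types false
set_option synthInstance.maxHeartbeats 400000
set_option autoImplicit false
set_option linter.unusedSectionVars false
set_option linter.style.haveILetI false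
set_option linter.unusedSimpArgs false
universe u v w
open CategoryTheory CategoryTheory.Limits AlgebraicGeometry TopologicalSpace Topology

namespace Groth.Agent.Lib.Helper4.SepFlatI

open TensorProduct IsLocalRing Groth.Agent.Lib.Helper4

section Aux

variable {R : Type*} [CommRing R] {X : Type*}

theorem coord_mem_of_mem_smul_top (J : Ideal R) (y : X →₀ R)
    (hy : y ∈ J • (⊤ : Submodule R (X →₀ R))) (x : X) : y x ∈ J := by
  refine Submodule.smul_induction_on hy ?_ ?_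
  · intro a ha z _
    rw [Finsupp.smul_apply, smul_eq_mul]
    exact J.mul_mem_right _ ha
  · intro y1 y2 h1 h2
    rw [Finsupp.add_apply]
    exact J.add_mem h1 h2

end Aux

variable {A : Type u} [CommRing A] [IsLocalRing A]

theorem mk_mem_maximalIdeal_iff (𝔠 : Ideal A) [IsLocalRing (A ⧸ 𝔠)] (a : A) :
    Ideal.Quotient.mk 𝔠 a ∈ maximalIdeal (A ⧸ 𝔠) ↔ a ∈ maximalIdeal A := by
  rw [mem_maximalIdeal, mem_maximalIdeal, mem_nonunits_iff, mem_nonunits_iff, not_iff_not]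
  constructor
  · intro h
    haveI : IsLocalHom (Ideal.Quotient.mk 𝔠) :=
      IsLocalHom.of_surjective _ Ideal.Quotient.mk_surjective
    exact isUnit_of_map_unit (Ideal.Quotient.mk 𝔠) a h
  · intro h; exact h.map _

variable {M : Type u} [AddCommGroup M] [Module A M]

/-- the value of a presentation `u : (X →₀ A/𝔠) → (A/𝔠) ⊗ M` on a finitely supported vector, in
terms of lifts -/
theorem u_eq_one_tmul (𝔠 : Ideal A) {X : Type u}
    (u : (X →₀ (A ⧸ 𝔠)) →ₗ[A ⧸ 𝔠] (A ⧸ 𝔠) ⊗[A] M) (mm : X → M)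
    (hmm : ∀ x, (1 : A ⧸ 𝔠) ⊗ₜ[A] mm x = u (Finsupp.single x 1))
    (S : Finset X) (ρ : X → A) :
    u (∑ x ∈ S, Finsupp.single x (Ideal.Quotient.mk 𝔠 (ρ x))) =
      (1 : A ⧸ 𝔠) ⊗ₜ[A] (∑ x ∈ S, ρ x • mm x) := by
  rw [map_sum, TensorProduct.tmul_sum]
  refine Finset.sum_congr rfl fun x _ => ?_
  have h1 : Finsupp.single x (Ideal.Quotient.mk 𝔠 (ρ x)) =
      (Ideal.Quotient.mk 𝔠 (ρ x)) • Finsupp.single x (1 : A ⧸ 𝔠) := by
    rw [Finsupp.smul_single, smul_eq_mul, mul_one]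
  rw [h1, map_smul, ← hmm, TensorProduct.smul_tmul', smul_eq_mul, mul_one,
    TensorProduct.tmul_smul]
  rw [← Ideal.Quotient.algebraMap_eq, Algebra.algebraMap_eq_smul_one, TensorProduct.smul_tmul']


variable {B A' : Type u} [CommRing B] [CommRing A'] [IsLocalRing B] [IsLocalRing A']
  [IsNoetherianRing B] [Algebra A B] [Algebra A A'] [IsLocalHom (algebraMap A A')]
  [Module B M] [IsScalarTower A B M] [Module.Finite B M]

set_option maxHeartbeats 1600000 in
theorem coord_mem (hH : SepFlatH.HLoc A B A' M) (𝔠 : Ideal A) [IsLocalRing (A ⧸ 𝔠)]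
    (𝔟 : Ideal A') (ω : A')
    (h1 : ∀ c ∈ maximalIdeal A', c * ω ∈ 𝔟) (h2 : ∀ c, c * ω ∈ 𝔟 → c ∈ maximalIdeal A')
    (h𝔠 : 𝔠 ≤ 𝔟.comap (algebraMap A A'))
    {X : Type u} (u : (X →₀ (A ⧸ 𝔠)) →ₗ[A ⧸ 𝔠] (A ⧸ 𝔠) ⊗[A] M) (hu : Function.Surjective u)
    (hker : ∀ y ∈ LinearMap.ker u, ∀ x, y x ∈ maximalIdeal (A ⧸ 𝔠))
    (hI : ∀ a : A, Ideal.Quotient.mk 𝔠 a ∈ FlatNilp.coordIdeal u →
      algebraMap A A' a ∈ 𝔟 ⊔ Ideal.span {ω})
    (r : X →₀ (A ⧸ 𝔠)) (hr : r ∈ LinearMap.ker u) (x₀ : X) (ρ₀ : A)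
    (hρ₀ : Ideal.Quotient.mk 𝔠 ρ₀ = r x₀) : algebraMap A A' ρ₀ ∈ 𝔟 := by
  classical
  -- lifts
  choose ρ hρ using fun x : X => Ideal.Quotient.mk_surjective (r x)
  have hsurj : Function.Surjective (TensorProduct.mk A (A ⧸ 𝔠) M 1) :=
    TensorProduct.mk_surjective A M (A ⧸ 𝔠) Ideal.Quotient.mk_surjective
  choose mm hmm using fun x : X => hsurj (u (Finsupp.single x 1))
  have hmm' : ∀ x, (1 : A ⧸ 𝔠) ⊗ₜ[A] mm x = u (Finsupp.single x 1) := hmm
  have hcoord : ∀ x, Ideal.Quotient.mk 𝔠 (ρ x) ∈ FlatNilp.coordIdeal u := fun x => by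
    rw [hρ x]
    exact Ideal.subset_span ⟨r, hr, x, rfl⟩
  have hdec : ∀ x, ∃ bb ∈ 𝔟, ∃ cc : A', algebraMap A A' (ρ x) = bb + cc * ω := by
    intro x
    obtain ⟨bb, hbb, z, hz, hsum⟩ := Submodule.mem_sup.mp (hI (ρ x) (hcoord x))
    obtain ⟨cc, hcc⟩ := Ideal.mem_span_singleton'.mp hz
    exact ⟨bb, hbb, cc, by rw [← hsum, hcc]⟩
  choose bb hbb cc hcc using hdec
  -- the relation
  have hrsum : r = ∑ x ∈ r.support, Finsupp.single x (Ideal.Quotient.mk 𝔠 (ρ x)) := by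
    conv_lhs => rw [← Finsupp.sum_single r]
    rw [Finsupp.sum]
    refine Finset.sum_congr rfl fun x _ => ?_
    rw [hρ x]
  have hrel : ∑ x : r.support, ρ x.1 • mm x.1 ∈ 𝔠 • (⊤ : Submodule A M) := by
    have h3 := u_eq_one_tmul 𝔠 u mm hmm' r.support ρ
    rw [← hrsum, LinearMap.mem_ker.mp hr] at h3
    have h4 := (Groth.Agent.Helper1.LocalCrit.one_tmul_eq_zero_iff 𝔠 M _).mp h3.symm
    rw [← Finset.sum_coe_sort r.support (fun x => ρ x • mm x)] at h4
    exact h4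
  obtain ⟨d, β, lam, hcong, hmem⟩ := SepFlatH.step6 hH 𝔟 ω h1 h2 𝔠 h𝔠
    (fun x : r.support => ρ x.1) (fun x => bb x.1) (fun x => cc x.1) (fun x => mm x.1)
    (fun x => hbb x.1) (fun x => hcc x.1) hrel
  -- the coefficients `lam` lie in the maximal ideal
  have hlam : ∀ (x : r.support) (j : Fin d), lam x j ∈ maximalIdeal A := by
    intro x j
    obtain ⟨lam', hlam'⟩ : ∃ lam' : X → A, ∀ y : r.support, lam' y.1 = lam y j := by
      refine ⟨fun y => if h : y ∈ r.support then lam ⟨y, h⟩ j else 0, fun y => ?_⟩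
      simp [y.2]
    have h5 := u_eq_one_tmul 𝔠 u mm hmm' r.support lam'
    have h6 : ∑ y ∈ r.support, lam' y • mm y = ∑ y : r.support, lam y j • mm y.1 := by
      rw [← Finset.sum_coe_sort r.support (fun y => lam' y • mm y)]
      refine Finset.sum_congr rfl fun y _ => ?_
      rw [hlam' y]
    rw [h6] at h5
    -- the image lies in `𝔪̃ M̃`
    have h7 : (1 : A ⧸ 𝔠) ⊗ₜ[A] (∑ y : r.support, lam y j • mm y.1) ∈
        (maximalIdeal (A ⧸ 𝔠)) • (⊤ : Submodule (A ⧸ 𝔠) ((A ⧸ 𝔠) ⊗[A] M)) := by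
      have h8 : ∑ y : r.support, lam y j • mm y.1 ∈
          (maximalIdeal A) • (⊤ : Submodule A M) := by
        have := Ideal.smul_restrictScalars (maximalIdeal A) (⊤ : Submodule B M)
        have h9 : ∑ y : r.support, lam y j • mm y.1 ∈
            (((maximalIdeal A).map (algebraMap A B)) • (⊤ : Submodule B M)).restrictScalars A :=
          hmem j
        rw [this] at h9
        exact h9
      refine Submodule.smul_induction_on h8 ?_ ?_
      · intro a ha m _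
        have : (1 : A ⧸ 𝔠) ⊗ₜ[A] (a • m) = (Ideal.Quotient.mk 𝔠 a) • ((1 : A ⧸ 𝔠) ⊗ₜ[A] m) := by
          rw [TensorProduct.tmul_smul, TensorProduct.smul_tmul', TensorProduct.smul_tmul',
            smul_eq_mul, mul_one, ← Ideal.Quotient.algebraMap_eq, Algebra.algebraMap_eq_smul_one]
        rw [this]
        exact Submodule.smul_mem_smul ((mk_mem_maximalIdeal_iff 𝔠 a).mpr ha) Submodule.mem_top
      · intro m1 m2 hm1 hm2
        rw [TensorProduct.tmul_add]
        exact add_mem hm1 hm2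
    have h10 : (maximalIdeal (A ⧸ 𝔠)) • (⊤ : Submodule (A ⧸ 𝔠) ((A ⧸ 𝔠) ⊗[A] M)) =
        Submodule.map u ((maximalIdeal (A ⧸ 𝔠)) • (⊤ : Submodule (A ⧸ 𝔠) (X →₀ (A ⧸ 𝔠)))) := by
      rw [Submodule.map_smul'', Submodule.map_top, LinearMap.range_eq_top.mpr hu]
    rw [h10, ← h5] at h7
    obtain ⟨l', hl', hul'⟩ := h7
    have h11 : (∑ y ∈ r.support, Finsupp.single y (Ideal.Quotient.mk 𝔠 (lam' y))) - l' ∈
        LinearMap.ker u := by
      rw [LinearMap.mem_ker, map_sub, hul', sub_self]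
    have h12 := hker _ h11 x.1
    rw [Finsupp.sub_apply] at h12
    have h13 := coord_mem_of_mem_smul_top _ l' hl' x.1
    have h14 := (maximalIdeal (A ⧸ 𝔠)).add_mem h12 h13
    rw [sub_add_cancel, Finsupp.finset_sum_apply, Finset.sum_eq_single x.1] at h14
    · rw [Finsupp.single_eq_same, hlam' x] at h14
      exact (mk_mem_maximalIdeal_iff 𝔠 _).mp h14
    · intro y _ hy
      rw [Finsupp.single_apply, if_neg hy]
    · intro hx; exact absurd x.2 hx
  -- conclusion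
  by_cases hx₀ : x₀ ∈ r.support
  · have hcc' : cc x₀ ∈ maximalIdeal A' := by
      have h15 := hcong ⟨x₀, hx₀⟩
      have h16 : ∑ j, algebraMap A A' (lam ⟨x₀, hx₀⟩ j) * β j ∈ maximalIdeal A' := by
        refine Ideal.sum_mem _ fun j _ => Ideal.mul_mem_right _ _ ?_
        rw [mem_maximalIdeal, mem_nonunits_iff]
        intro h
        exact (mem_nonunits_iff.mp ((mem_maximalIdeal _).mp (hlam ⟨x₀, hx₀⟩ j)))
          (isUnit_of_map_unit (algebraMap A A') _ h)
      have := (maximalIdeal A').add_mem h15 h16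
      rwa [sub_add_cancel] at this
    have h17 : algebraMap A A' (ρ x₀) ∈ 𝔟 := by
      rw [hcc x₀]
      exact 𝔟.add_mem (hbb x₀) (h1 _ hcc')
    have h18 : ρ₀ - ρ x₀ ∈ 𝔠 := by
      rw [← Ideal.Quotient.eq, hρ₀, hρ x₀]
    have : algebraMap A A' ρ₀ = algebraMap A A' (ρ₀ - ρ x₀) + algebraMap A A' (ρ x₀) := by
      rw [← map_add, sub_add_cancel]
    rw [this]
    exact 𝔟.add_mem (h𝔠 h18) h17
  · have : ρ₀ ∈ 𝔠 := by
      rw [← Ideal.Quotient.eq_zero_iff_mem, hρ₀]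
      exact Finsupp.notMem_support_iff.mp hx₀
    exact h𝔠 this

end Groth.Agent.Lib.Helper4.SepFlatI
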