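import Mathlib
import Groth.Agent.Lib.Helper4.SepFlatI

/-!
# flatness descent via separating families: the local core theorem (helper4)
-/

set_option backward.isDefEq.respectTransparency.types false
set_option synthInstance.maxHeartbeats 400000
set_option autoImplicit false
set_option linter.unusedSectionVars false
set_option linter.style.haveILetI false
set_option linter.unusedSimpArgs false
universe u v w
open CategoryTheory CategoryTheory.Limits AlgebraicGeometry TopologicalSpace Topology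

namespace Groth.Agent.Lib.Helper4.SepFlatJ

open TensorProduct IsLocalRing Groth.Agent.Lib.Helper4

set_option maxHeartbeats 1600000 in
/-- **Descent of flatness along a separating family of local homomorphisms.** -/
theorem core {A B M : Type u} [CommRing A] [IsLocalRing A] [IsNoetherianRing A] [CommRing B]
    [IsLocalRing B] [IsNoetherianRing B] [Algebra A B] [AddCommGroup M] [Module A M] [Module B M]
    [IsScalarTower A B M] [Module.Finite B M]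
    {P : Type*} (A' : P → Type u) [∀ p, CommRing (A' p)] [∀ p, IsLocalRing (A' p)]
    [∀ p, Algebra A (A' p)] [∀ p, IsLocalHom (algebraMap A (A' p))]
    (𝔞 : ∀ p, Ideal (A' p)) (𝔠 : Ideal A)
    (h𝔠 : ∀ a, a ∈ 𝔠 ↔ ∀ p, algebraMap A (A' p) a ∈ 𝔞 p)
    [IsArtinianRing (A ⧸ 𝔠)]
    (hH : ∀ p, SepFlatH.HLoc A B (A' p) M) :
    Module.Flat (A ⧸ 𝔠) ((A ⧸ 𝔠) ⊗[A] M) := by
  classical
  by_cases htop : 𝔠 = ⊤
  · haveI : Subsingleton (A ⧸ 𝔠) := by
      rw [htop]; exact Ideal.Quotient.subsingleton_iff.mpr rfl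
    haveI : Subsingleton ((A ⧸ 𝔠) ⊗[A] M) := Module.subsingleton (A ⧸ 𝔠) _
    infer_instance
  haveI : Nontrivial (A ⧸ 𝔠) := Ideal.Quotient.nontrivial_iff.mpr htop
  haveI : IsLocalRing (A ⧸ 𝔠) :=
    IsLocalRing.of_surjective' (Ideal.Quotient.mk 𝔠) Ideal.Quotient.mk_surjective
  have hnil : IsNilpotent (maximalIdeal (A ⧸ 𝔠)) := by
    have := IsArtinianRing.isNilpotent_jacobson_bot (R := A ⧸ 𝔠)
    rwa [IsLocalRing.jacobson_eq_maximalIdeal ⊥ bot_ne_top] at this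
  have hfree : Module.Free ((A ⧸ 𝔠) ⧸ maximalIdeal (A ⧸ 𝔠))
      (((A ⧸ 𝔠) ⧸ maximalIdeal (A ⧸ 𝔠)) ⊗[A ⧸ 𝔠] ((A ⧸ 𝔠) ⊗[A] M)) :=
    (inferInstance : Module.Free (ResidueField (A ⧸ 𝔠))
      ((ResidueField (A ⧸ 𝔠)) ⊗[A ⧸ 𝔠] ((A ⧸ 𝔠) ⊗[A] M)))
  obtain ⟨X, u, hu, hker⟩ := FlatNilp.exists_presentation (maximalIdeal (A ⧸ 𝔠)) hnil hfree
  suffices hsuff : FlatNilp.coordIdeal u = ⊥ by
    have hfr := FlatNilp.free_of_map_eq_bot u hu (A ⧸ 𝔠)
      (by rw [hsuff, Ideal.map_bot])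
    have : Module.Free (A ⧸ 𝔠) ((A ⧸ 𝔠) ⊗[A] M) :=
      Module.Free.of_equiv (TensorProduct.lid (A ⧸ 𝔠) ((A ⧸ 𝔠) ⊗[A] M))
    infer_instance
  by_contra hne
  -- a nonzero element of the coordinate ideal
  obtain ⟨z, hz, hz0⟩ := Submodule.exists_mem_ne_zero_of_ne_bot hne
  obtain ⟨a₀, rfl⟩ := Ideal.Quotient.mk_surjective z
  have ha₀ : a₀ ∉ 𝔠 := fun h => hz0 (Ideal.Quotient.eq_zero_iff_mem.mpr h)
  rw [h𝔠] at ha₀
  push Not at ha₀
  obtain ⟨p, hp⟩ := ha₀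
  -- the ideal `I` and its extension
  obtain ⟨I, hI⟩ : ∃ I : Ideal A, I = (FlatNilp.coordIdeal u).comap (Ideal.Quotient.mk 𝔠) :=
    ⟨_, rfl⟩
  have ha₀I : a₀ ∈ I := by rw [hI]; exact hz
  obtain ⟨K, hK⟩ : ∃ K : Ideal (A' p), K = I.map (algebraMap A (A' p)) := ⟨_, rfl⟩
  have hKfg : K.FG := by
    rw [hK]; exact Ideal.FG.map (IsNoetherian.noetherian I) _
  have hKne : ¬ K ≤ 𝔞 p := fun h => hp (h (by rw [hK]; exact Ideal.mem_map_of_mem _ ha₀I))
  obtain ⟨𝔟, ω, hb1, hb2, hb3, hb4, hb5, hb6⟩ := SepFlatE.exists_simple_quotient (𝔞 p) K hKfg hKne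
  have h1 : ∀ c ∈ maximalIdeal (A' p), c * ω ∈ 𝔟 := fun c hc =>
    hb4 (Submodule.smul_mem_smul hc hb3)
  have h𝔠𝔟 : 𝔠 ≤ 𝔟.comap (algebraMap A (A' p)) := fun a ha =>
    hb1 (((h𝔠 a).mp ha) p)
  have hImem : ∀ a : A, Ideal.Quotient.mk 𝔠 a ∈ FlatNilp.coordIdeal u →
      algebraMap A (A' p) a ∈ 𝔟 ⊔ Ideal.span {ω} := by
    intro a ha
    apply hb5
    apply Ideal.mem_sup_right
    rw [hK]
    apply Ideal.mem_map_of_mem
    rw [hI]; exact ha
  have hmain := SepFlatI.coord_mem (hH p) 𝔠 𝔟 ω h1 hb6 h𝔠𝔟 u hu hker hImem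
  -- every element of `I` maps into `𝔟`
  have hall : ∀ z ∈ FlatNilp.coordIdeal u, ∀ a : A, Ideal.Quotient.mk 𝔠 a = z →
      algebraMap A (A' p) a ∈ 𝔟 := by
    intro z hz
    rw [FlatNilp.coordIdeal] at hz
    refine Submodule.span_induction ?_ ?_ ?_ ?_ hz
    · rintro _ ⟨r, hr, x, rfl⟩ a ha
      exact hmain r hr x a ha
    · intro a ha
      exact h𝔠𝔟 (Ideal.Quotient.eq_zero_iff_mem.mp ha)
    · intro z1 z2 _ _ ih1 ih2 a ha
      obtain ⟨a1, rfl⟩ := Ideal.Quotient.mk_surjective z1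
      have h2 : Ideal.Quotient.mk 𝔠 (a - a1) = z2 := by
        rw [map_sub, ha, add_sub_cancel_left]
      have : algebraMap A (A' p) a = algebraMap A (A' p) a1 + algebraMap A (A' p) (a - a1) := by
        rw [← map_add, add_sub_cancel]
      rw [this]
      exact 𝔟.add_mem (ih1 a1 rfl) (ih2 _ h2)
    · intro e z _ ih a ha
      obtain ⟨e0, rfl⟩ := Ideal.Quotient.mk_surjective e
      obtain ⟨z0, rfl⟩ := Ideal.Quotient.mk_surjective z
      have h2 : a - e0 * z0 ∈ 𝔠 := by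
        rw [← Ideal.Quotient.eq, ha, smul_eq_mul, map_mul]
      have : algebraMap A (A' p) a = algebraMap A (A' p) (a - e0 * z0) +
          algebraMap A (A' p) e0 * algebraMap A (A' p) z0 := by
        rw [← map_mul, ← map_add, sub_add_cancel]
      rw [this]
      exact 𝔟.add_mem (h𝔠𝔟 h2) (𝔟.mul_mem_left _ (ih z0 rfl))
  have hK𝔟 : K ≤ 𝔟 := by
    rw [hK, Ideal.map_le_iff_le_comap]
    intro a ha
    rw [hI] at ha
    exact hall _ ha a rfl
  have hω : ω ∈ 𝔟 := (sup_le hb1 hK𝔟) hb3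
  have h1m : (1 : A' p) ∈ maximalIdeal (A' p) := hb6 1 (by rwa [one_mul])
  exact (Ideal.ne_top_iff_one _).mp (IsLocalRing.maximalIdeal.isMaximal (A' p)).ne_top h1m

end Groth.Agent.Lib.Helper4.SepFlatJ
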