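import Mathlib
import Groth.Agent.Lib.Helper1.LocalCrit
import Groth.Agent.Lib.Helper6.FlatThick.Ring
import Groth.Agent.Lib.Helper4.SepFlatJ

/-!
# flatness descent via separating families: Artinian and adic cases (algebra) (helper4)
-/

set_option backward.isDefEq.respectTransparency.types false
set_option synthInstance.maxHeartbeats 400000
set_option autoImplicit false
set_option linter.unusedSectionVars false
set_option linter.style.haveILetI false
set_option linter.unusedSimpArgs false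
universe u v w
open CategoryTheory CategoryTheory.Limits AlgebraicGeometry TopologicalSpace Topology

namespace Groth.Agent.Lib.Helper4.SepFlatK

open TensorProduct IsLocalRing Groth.Agent.Lib.Helper4

theorem map_maximalIdeal_le {R S : Type*} [CommRing R] [CommRing S] [IsLocalRing R]
    [IsLocalRing S] (φ : R →+* S) [IsLocalHom φ] :
    (maximalIdeal R).map φ ≤ maximalIdeal S := by
  rw [Ideal.map_le_iff_le_comap]
  intro x hx
  rw [Ideal.mem_comap, mem_maximalIdeal, mem_nonunits_iff]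
  intro h
  exact (mem_nonunits_iff.mp ((mem_maximalIdeal _).mp hx)) (isUnit_of_map_unit φ x h)

theorem isArtinianRing_quotient_of_pow_le {R : Type*} [CommRing R] [IsNoetherianRing R]
    [IsLocalRing R] (I : Ideal R) (n : ℕ) (h : maximalIdeal R ^ n ≤ I) :
    IsArtinianRing (R ⧸ I) := by
  by_cases hI : I = ⊤
  · haveI : Subsingleton (R ⧸ I) := by rw [hI]; exact Ideal.Quotient.subsingleton_iff.mpr rfl
    haveI : Finite (R ⧸ I) := Finite.of_subsingleton
    infer_instance
  haveI : Nontrivial (R ⧸ I) := Ideal.Quotient.nontrivial_iff.mpr hI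
  haveI := IsLocalRing.of_surjective' (Ideal.Quotient.mk I) Ideal.Quotient.mk_surjective
  rw [isArtinianRing_iff_isNilpotent_maximalIdeal]
  have hle : maximalIdeal (R ⧸ I) ≤ (maximalIdeal R).map (Ideal.Quotient.mk I) := by
    intro x hx
    obtain ⟨x, rfl⟩ := Ideal.Quotient.mk_surjective x
    exact Ideal.mem_map_of_mem _ ((SepFlatI.mk_mem_maximalIdeal_iff I x).mp hx)
  refine ⟨n, ?_⟩
  rw [Ideal.zero_eq_bot, eq_bot_iff]
  refine (Ideal.pow_right_mono hle n).trans ?_
  rw [← Ideal.map_pow, Ideal.map_le_iff_le_comap]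
  intro x hx
  rw [Ideal.mem_comap, Ideal.mem_bot, Ideal.Quotient.eq_zero_iff_mem]
  exact h hx

/-- flatness over `A ⧸ ⊥` gives flatness over `A` -/
theorem flat_of_flat_quotient_bot {A M : Type u} [CommRing A] [AddCommGroup M] [Module A M]
    (𝔠 : Ideal A) (h𝔠 : 𝔠 = ⊥) (h : Module.Flat (A ⧸ 𝔠) ((A ⧸ 𝔠) ⊗[A] M)) : Module.Flat A M := by
  haveI := h
  refine Groth.Agent.Helper1.LocalCrit.flat_of_rTensor_injective_of_flat_quotient_of_pow_eq_bot
    𝔠 M ?_ 1 (by rw [pow_one]; exact h𝔠)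
  subst h𝔠
  haveI : Subsingleton ((⊥ : Ideal A) ⊗[A] M) := by
    haveI : Subsingleton (⊥ : Ideal A) := ⟨fun a b => by
      apply Subtype.ext
      rw [(Submodule.mem_bot A).mp a.2, (Submodule.mem_bot A).mp b.2]⟩
    infer_instance
  exact Function.injective_of_subsingleton _

variable {A B M : Type u} [CommRing A] [IsLocalRing A] [IsNoetherianRing A] [CommRing B]
    [IsLocalRing B] [IsNoetherianRing B] [Algebra A B] [AddCommGroup M] [Module A M] [Module B M]
    [IsScalarTower A B M] [Module.Finite B M]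
    {P : Type*} (A' : P → Type u) [∀ p, CommRing (A' p)] [∀ p, IsLocalRing (A' p)]
    [∀ p, Algebra A (A' p)] [∀ p, IsLocalHom (algebraMap A (A' p))]

/-- **Artinian case** (EGA IV 11.4): flatness descends along a separating family. -/
theorem flat_of_separating_artinian [IsArtinianRing A]
    (hsep : ∀ a : A, (∀ p, algebraMap A (A' p) a = 0) → a = 0)
    (hH : ∀ p, SepFlatH.HLoc A B (A' p) M) : Module.Flat A M := by
  haveI : IsArtinianRing (A ⧸ (⊥ : Ideal A)) :=
    Function.Surjective.isArtinianRing (f := Ideal.Quotient.mk (⊥ : Ideal A))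
      Ideal.Quotient.mk_surjective
  have := SepFlatJ.core A' (fun p => (⊥ : Ideal (A' p))) (⊥ : Ideal A)
    (fun a => by
      simp only [Ideal.mem_bot]
      exact ⟨fun h p => by rw [h, map_zero], hsep a⟩) hH
  exact flat_of_flat_quotient_bot ⊥ rfl this

/-- **Adic case** (EGA IV 11.5): flatness descends along a family of local homomorphisms
inducing the adic topology. -/
theorem flat_of_separating_adic [IsLocalHom (algebraMap A B)]
    (htop : ∀ N : ℕ, ∃ s : Finset (P × ℕ),
      ⨅ p ∈ s, Ideal.comap (algebraMap A (A' p.1)) (maximalIdeal (A' p.1) ^ p.2) ≤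
        maximalIdeal A ^ N)
    (hH : ∀ p, SepFlatH.HLoc A B (A' p) M) : Module.Flat A M := by
  classical
  have hne : (maximalIdeal A).map (algebraMap A B) ≠ ⊤ := by
    intro h
    have hle : (maximalIdeal A).map (algebraMap A B) ≤ maximalIdeal B :=
      map_maximalIdeal_le _
    rw [h] at hle
    exact (IsLocalRing.maximalIdeal.isMaximal B).ne_top (top_le_iff.mp hle)
  apply Groth.Agent.Lib.Helper6.FlatThick.flat_of_flat_quotient_pow (S := B) (maximalIdeal A) hne
  intro N _
  obtain ⟨s, hs⟩ := htop N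
  obtain ⟨𝔠, h𝔠def⟩ : ∃ 𝔠 : Ideal A, 𝔠 =
    ⨅ p ∈ s, Ideal.comap (algebraMap A (A' p.1)) (maximalIdeal (A' p.1) ^ p.2) := ⟨_, rfl⟩
  rw [← h𝔠def] at hs
  -- `A ⧸ 𝔠` is Artinian
  haveI : IsArtinianRing (A ⧸ 𝔠) := by
    obtain ⟨n₀, hn₀⟩ : ∃ n₀ : ℕ, ∀ p ∈ s, p.2 ≤ n₀ :=
      ⟨s.sup Prod.snd, fun p hp => Finset.le_sup (f := Prod.snd) hp⟩
    apply isArtinianRing_quotient_of_pow_le 𝔠 n₀
    rw [h𝔠def]
    refine le_iInf₂ fun p hp => ?_
    rw [← Ideal.map_le_iff_le_comap, Ideal.map_pow]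
    refine (Ideal.pow_right_mono ?_ n₀).trans (Ideal.pow_le_pow_right (hn₀ p hp))
    exact map_maximalIdeal_le _
  have hcore := SepFlatJ.core (A := A) (B := B) (M := M) (P := s) (fun p => A' p.1.1)
    (fun p => maximalIdeal (A' p.1.1) ^ p.1.2) 𝔠
    (fun a => by
      rw [h𝔠def]
      simp only [Ideal.mem_iInf, Ideal.mem_comap]
      constructor
      · intro h p; exact h p.1 p.2
      · intro h p hp; exact h ⟨p, hp⟩) (fun p => hH p.1.1)
  -- base change to `A ⧸ 𝔪^N`
  letI : Algebra (A ⧸ 𝔠) (A ⧸ maximalIdeal A ^ N) := (Ideal.Quotient.factor hs).toAlgebra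
  haveI : IsScalarTower A (A ⧸ 𝔠) (A ⧸ maximalIdeal A ^ N) :=
    IsScalarTower.of_algebraMap_eq' rfl
  haveI := hcore
  have e : (A ⧸ maximalIdeal A ^ N) ⊗[A ⧸ 𝔠] ((A ⧸ 𝔠) ⊗[A] M) ≃ₗ[A ⧸ maximalIdeal A ^ N]
      (A ⧸ maximalIdeal A ^ N) ⊗[A] M :=
    AlgebraTensorModule.cancelBaseChange A (A ⧸ 𝔠) (A ⧸ maximalIdeal A ^ N)
      (A ⧸ maximalIdeal A ^ N) M
  exact Module.Flat.of_linearEquiv e.symm

end Groth.Agent.Lib.Helper4.SepFlatK
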