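import Mathlib
import Groth.Agent.Lib.Helper4.SepFlatH

/-!
# flatness descent via separating families: chart bridge to HLoc (algebra) (helper4) (helper4)
-/

set_option backward.isDefEq.respectTransparency.types false
set_option synthInstance.maxHeartbeats 400000
set_option autoImplicit false
set_option linter.unusedSectionVars false
set_option linter.style.haveILetI false
set_option linter.unusedSimpArgs false
universe u v w
open CategoryTheory CategoryTheory.Limits AlgebraicGeometry TopologicalSpace Topology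

namespace Groth.Agent.Lib.Helper4.SepFlatL

open TensorProduct IsLocalRing

variable {R0 A0 A0' A B S0 : Type u} [CommRing R0] [CommRing A0] [CommRing A0'] [CommRing A]
  [CommRing B] [CommRing S0]
  [Algebra R0 A0] [Algebra R0 S0] [Algebra A0 A0'] [Algebra S0 A0'] [Algebra R0 A0']
  [IsScalarTower R0 A0 A0'] [IsScalarTower R0 S0 A0'] [Algebra.IsPushout R0 S0 A0 A0']
  [Algebra R0 A] [Algebra A S0] [IsScalarTower R0 A S0]
  [Algebra A0 B] [Algebra A B] [Algebra R0 B] [IsScalarTower R0 A B] [IsScalarTower R0 A0 B]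

instance : IsScalarTower R0 A (B ⊗[A] S0) :=
  IsScalarTower.of_algebraMap_eq fun r => by
    rw [Algebra.TensorProduct.algebraMap_apply, Algebra.TensorProduct.algebraMap_apply,
      IsScalarTower.algebraMap_apply R0 A B]

variable (R0 A0 A0' A B S0) in
/-- the canonical map from the chart ring `A0' = S0 ⊗_{R0} A0` to `B ⊗_A S0` -/
noncomputable def kappa : A0' →ₐ[R0] B ⊗[A] S0 :=
  Algebra.pushoutDesc A0'
    ((Algebra.TensorProduct.includeRight : S0 →ₐ[A] B ⊗[A] S0).restrictScalars R0)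
    ((Algebra.TensorProduct.includeLeft : B →ₐ[R0] B ⊗[A] S0).comp
      (IsScalarTower.toAlgHom R0 A0 B))
    (fun _ _ => mul_comm _ _)

theorem kappa_left (c : S0) :
    kappa R0 A0 A0' A B S0 (algebraMap S0 A0' c) = (1 : B) ⊗ₜ[A] c := by
  rw [kappa, Algebra.pushoutDesc_left]
  rfl

theorem kappa_right (t : A0) :
    kappa R0 A0 A0' A B S0 (algebraMap A0 A0' t) = algebraMap A0 B t ⊗ₜ[A] (1 : S0) := by
  rw [kappa, Algebra.pushoutDesc_right]
  rfl

/-- every element of `B ⊗_A S0` is, up to a unit coming from `A0 ∖ 𝔭`, in the image of `κ` -/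
theorem exists_mul_kappa_eq (𝔭 : Ideal A0) [𝔭.IsPrime] [IsLocalization.AtPrime B 𝔭]
    (e : B ⊗[A] S0) :
    ∃ t ∈ 𝔭.primeCompl, ∃ e₁ : A0',
      e * kappa R0 A0 A0' A B S0 (algebraMap A0 A0' t) = kappa R0 A0 A0' A B S0 e₁ := by
  induction e using TensorProduct.induction_on with
  | zero => exact ⟨1, Submonoid.one_mem _, 0, by simp⟩
  | tmul b c =>
    obtain ⟨⟨β, t⟩, hβ⟩ := IsLocalization.surj 𝔭.primeCompl b
    refine ⟨t.1, t.2, algebraMap A0 A0' β * algebraMap S0 A0' c, ?_⟩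
    rw [kappa_right, map_mul, kappa_right, kappa_left, Algebra.TensorProduct.tmul_mul_tmul,
      Algebra.TensorProduct.tmul_mul_tmul, mul_one, one_mul, mul_one]
    congr 1
  | add e e' h h' =>
    obtain ⟨t, ht, e₁, he⟩ := h
    obtain ⟨t', ht', e₁', he'⟩ := h'
    refine ⟨t * t', Submonoid.mul_mem _ ht ht',
      e₁ * algebraMap A0 A0' t' + e₁' * algebraMap A0 A0' t, ?_⟩
    rw [map_mul, map_mul, map_add, map_mul, map_mul, ← he, ← he']
    ring

theorem isUnit_kappa (𝔭 : Ideal A0) [𝔭.IsPrime] [IsLocalization.AtPrime B 𝔭] (t : 𝔭.primeCompl) :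
    IsUnit (kappa R0 A0 A0' A B S0 (algebraMap A0 A0' t)) := by
  rw [kappa_right]
  have := IsLocalization.map_units B t
  exact this.map (Algebra.TensorProduct.includeLeft : B →ₐ[A] B ⊗[A] S0)

section Psi

variable {C₁ : Type u} [CommRing C₁] [Algebra A0' C₁] [Algebra B C₁] [Algebra A C₁]
  [IsScalarTower A B C₁] [Algebra S0 C₁] [IsScalarTower S0 A0' C₁] [IsScalarTower A S0 C₁]

variable (R0 A0 A0' A B S0 C₁) in
/-- the map `B ⊗_A S0 → C₁` -/
noncomputable def psi : B ⊗[A] S0 →ₐ[A] C₁ :=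
  Algebra.TensorProduct.lift (IsScalarTower.toAlgHom A B C₁) (IsScalarTower.toAlgHom A S0 C₁)
    (fun _ _ => mul_comm _ _)

theorem psi_tmul (b : B) (c : S0) :
    psi A B S0 C₁ (b ⊗ₜ[A] c) = algebraMap B C₁ b * algebraMap S0 C₁ c := by
  rw [psi, Algebra.TensorProduct.lift_tmul]
  rfl

theorem psi_kappa (hcompat : ∀ t : A0, algebraMap B C₁ (algebraMap A0 B t) =
      algebraMap A0' C₁ (algebraMap A0 A0' t)) (e₁ : A0') :
    psi A B S0 C₁ (kappa R0 A0 A0' A B S0 e₁) = algebraMap A0' C₁ e₁ := by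
  have H : Algebra.IsPushout R0 S0 A0 A0' := inferInstance
  refine H.1.inductionOn e₁ _ ?_ ?_ ?_ ?_
  · simp
  · intro t
    change psi A B S0 C₁ (kappa R0 A0 A0' A B S0 (algebraMap A0 A0' t)) = algebraMap A0' C₁ (algebraMap A0 A0' t)
    rw [kappa_right, psi_tmul, map_one, mul_one, hcompat]
  · intro c e₁ h
    rw [Algebra.smul_def, map_mul, map_mul, h, kappa_left, psi_tmul, map_one, one_mul, map_mul,
      ← IsScalarTower.algebraMap_apply S0 A0' C₁]
  · intro e₁ e₂ h₁ h₂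
    rw [map_add, map_add, h₁, h₂, map_add]


theorem kappa_mem_iff (𝔮 : Ideal (B ⊗[A] S0)) (e₁ : A0') :
    e₁ ∈ 𝔮.comap (kappa R0 A0 A0' A B S0) ↔ kappa R0 A0 A0' A B S0 e₁ ∈ 𝔮 := Iff.rfl

set_option maxHeartbeats 800000 in
theorem isLocalization_psi (𝔭 : Ideal A0) [𝔭.IsPrime] [IsLocalization.AtPrime B 𝔭]
    (hcompat : ∀ t : A0, algebraMap B C₁ (algebraMap A0 B t) =
      algebraMap A0' C₁ (algebraMap A0 A0' t))
    (𝔮 : Ideal (B ⊗[A] S0)) [𝔮.IsPrime]
    [IsLocalization.AtPrime C₁ (𝔮.comap (kappa R0 A0 A0' A B S0))] :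
    letI : Algebra (B ⊗[A] S0) C₁ := (psi A B S0 C₁).toRingHom.toAlgebra
    IsLocalization.AtPrime C₁ 𝔮 := by
  letI : Algebra (B ⊗[A] S0) C₁ := (psi A B S0 C₁).toRingHom.toAlgebra
  have halg : ∀ e : B ⊗[A] S0, algebraMap (B ⊗[A] S0) C₁ e = psi A B S0 C₁ e := fun _ => rfl
  have hunit : ∀ t : 𝔭.primeCompl, kappa R0 A0 A0' A B S0 (algebraMap A0 A0' t) ∉ 𝔮 := by
    intro t h
    exact Ideal.IsPrime.ne_top inferInstance
      (Ideal.eq_top_of_isUnit_mem _ h (isUnit_kappa (R0 := R0) (A0' := A0') (A := A) (S0 := S0) 𝔭 t))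
  refine ⟨?_, ?_, ?_⟩
  · rintro ⟨e, he⟩
    obtain ⟨t, ht, e₁, h⟩ := exists_mul_kappa_eq (R0 := R0) (A0' := A0') 𝔭 e
    have h1 : e₁ ∈ (𝔮.comap (kappa R0 A0 A0' A B S0)).primeCompl := by
      intro h''
      have h' : kappa R0 A0 A0' A B S0 e₁ ∈ 𝔮 := h''
      rw [← h] at h'
      rcases Ideal.IsPrime.mem_or_mem inferInstance h' with h' | h'
      · exact he h'
      · exact hunit ⟨t, ht⟩ h'
    have h2 : IsUnit (algebraMap A0' C₁ e₁) :=
      IsLocalization.map_units C₁ (⟨e₁, h1⟩ : (𝔮.comap (kappa R0 A0 A0' A B S0)).primeCompl)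
    have h3 := congrArg (psi A B S0 C₁) h
    rw [map_mul, psi_kappa hcompat e₁] at h3
    rw [← h3] at h2
    exact isUnit_of_mul_isUnit_left h2
  · intro c
    obtain ⟨⟨a, s₁⟩, h⟩ := IsLocalization.surj (𝔮.comap (kappa R0 A0 A0' A B S0)).primeCompl c
    refine ⟨⟨kappa R0 A0 A0' A B S0 a, ⟨kappa R0 A0 A0' A B S0 s₁.1, s₁.2⟩⟩, ?_⟩
    simp only [halg]
    rw [psi_kappa hcompat, psi_kappa hcompat]
    exact h
  · intro e e' hee'
    rw [halg, halg] at hee'
    obtain ⟨t, ht, e₁, h⟩ := exists_mul_kappa_eq (R0 := R0) (A0' := A0') 𝔭 e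
    obtain ⟨t', ht', e₁', h'⟩ := exists_mul_kappa_eq (R0 := R0) (A0' := A0') 𝔭 e'
    have hA : algebraMap A0' C₁ (e₁ * algebraMap A0 A0' t') =
        psi A B S0 C₁ e * (psi A B S0 C₁ (kappa R0 A0 A0' A B S0 (algebraMap A0 A0' t)) *
          psi A B S0 C₁ (kappa R0 A0 A0' A B S0 (algebraMap A0 A0' t'))) := by
      rw [← psi_kappa (R0 := R0) (A0 := A0) (A := A) (B := B) (S0 := S0) hcompat,
        map_mul (kappa R0 A0 A0' A B S0), ← h, map_mul, map_mul, mul_assoc]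
    have hB : algebraMap A0' C₁ (e₁' * algebraMap A0 A0' t) =
        psi A B S0 C₁ e' * (psi A B S0 C₁ (kappa R0 A0 A0' A B S0 (algebraMap A0 A0' t)) *
          psi A B S0 C₁ (kappa R0 A0 A0' A B S0 (algebraMap A0 A0' t'))) := by
      rw [← psi_kappa (R0 := R0) (A0 := A0) (A := A) (B := B) (S0 := S0) hcompat,
        map_mul (kappa R0 A0 A0' A B S0), ← h', map_mul, map_mul, mul_assoc,
        mul_comm (psi A B S0 C₁ (kappa R0 A0 A0' A B S0 (algebraMap A0 A0' t')))]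
    have h3 : algebraMap A0' C₁ (e₁ * algebraMap A0 A0' t') =
        algebraMap A0' C₁ (e₁' * algebraMap A0 A0' t) := by
      rw [hA, hB, hee']
    obtain ⟨s₁, hs₁⟩ := IsLocalization.exists_of_eq
      (M := (𝔮.comap (kappa R0 A0 A0' A B S0)).primeCompl) h3
    have h4 := congrArg (kappa R0 A0 A0' A B S0) hs₁
    rw [map_mul, map_mul, map_mul, map_mul, ← h, ← h'] at h4
    refine ⟨⟨kappa R0 A0 A0' A B S0 s₁.1 * (kappa R0 A0 A0' A B S0 (algebraMap A0 A0' t) *
      kappa R0 A0 A0' A B S0 (algebraMap A0 A0' t')), ?_⟩, ?_⟩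
    · intro hmem
      rcases Ideal.IsPrime.mem_or_mem inferInstance hmem with hmem | hmem
      · exact s₁.2 hmem
      · rcases Ideal.IsPrime.mem_or_mem inferInstance hmem with hmem | hmem
        · exact hunit ⟨t, ht⟩ hmem
        · exact hunit ⟨t', ht'⟩ hmem
    · show kappa R0 A0 A0' A B S0 s₁.1 * (kappa R0 A0 A0' A B S0 (algebraMap A0 A0' t) *
        kappa R0 A0 A0' A B S0 (algebraMap A0 A0' t')) * e = kappa R0 A0 A0' A B S0 s₁.1 *
        (kappa R0 A0 A0' A B S0 (algebraMap A0 A0' t) *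
        kappa R0 A0 A0' A B S0 (algebraMap A0 A0' t')) * e'
      linear_combination h4

end Psi


section Main

variable (M : Type u) [AddCommGroup M] [Module B M] [Module A M] [IsScalarTower A B M]
  [IsLocalRing B] [IsLocalRing S0]

set_option maxHeartbeats 1600000 in
theorem hLoc_of_chart (S : Submonoid R0) [IsLocalization S A] (𝔭 : Ideal A0) [𝔭.IsPrime]
    [IsLocalization.AtPrime B 𝔭]
    (H : ∀ (𝔮₁ : Ideal A0') [𝔮₁.IsPrime], 𝔮₁.comap (algebraMap A0 A0') = 𝔭 →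
      𝔮₁.comap (algebraMap S0 A0') = maximalIdeal S0 →
      ∃ (C₁ : Type u) (_ : CommRing C₁) (_ : Algebra A0' C₁) (_ : Algebra B C₁),
        (∀ t : A0, algebraMap B C₁ (algebraMap A0 B t) =
          algebraMap A0' C₁ (algebraMap A0 A0' t)) ∧
        IsLocalization.AtPrime C₁ 𝔮₁ ∧
        @Module.Flat S0 (C₁ ⊗[B] M) _ _ (Module.compHom (C₁ ⊗[B] M)
          ((algebraMap A0' C₁).comp (algebraMap S0 A0')))) :
    Groth.Agent.Lib.Helper4.SepFlatH.HLoc A B S0 M := by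
  intro 𝔮 _ hL hR
  have h1 : (𝔮.comap (kappa R0 A0 A0' A B S0)).comap (algebraMap A0 A0') = 𝔭 := by
    ext t
    rw [Ideal.mem_comap, Ideal.mem_comap, kappa_right]
    have : algebraMap A0 B t ⊗ₜ[A] (1 : S0) ∈ 𝔮 ↔ algebraMap A0 B t ∈ maximalIdeal B := by
      rw [← hL]; rfl
    rw [this]
    exact IsLocalization.AtPrime.to_map_mem_maximal_iff B 𝔭 t
  have h2 : (𝔮.comap (kappa R0 A0 A0' A B S0)).comap (algebraMap S0 A0') = maximalIdeal S0 := by
    ext c
    rw [Ideal.mem_comap, Ideal.mem_comap, kappa_left, ← hR]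
    rfl
  obtain ⟨C₁, _, _, _, hcompat, hloc, hflat⟩ := H (𝔮.comap (kappa R0 A0 A0' A B S0)) h1 h2
  letI : Algebra A C₁ := ((algebraMap B C₁).comp (algebraMap A B)).toAlgebra
  haveI : IsScalarTower A B C₁ := .of_algebraMap_eq' rfl
  letI : Algebra S0 C₁ := ((algebraMap A0' C₁).comp (algebraMap S0 A0')).toAlgebra
  haveI : IsScalarTower S0 A0' C₁ := .of_algebraMap_eq' rfl
  haveI : IsScalarTower A S0 C₁ := .of_algebraMap_eq' (by
    show (algebraMap B C₁).comp (algebraMap A B) =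
      ((algebraMap A0' C₁).comp (algebraMap S0 A0')).comp (algebraMap A S0)
    apply IsLocalization.ringHom_ext S
    ext r
    simp only [RingHom.comp_apply]
    rw [← IsScalarTower.algebraMap_apply R0 A B, IsScalarTower.algebraMap_apply R0 A0 B,
      hcompat, ← IsScalarTower.algebraMap_apply R0 A S0,
      ← IsScalarTower.algebraMap_apply R0 A0 A0', ← IsScalarTower.algebraMap_apply R0 S0 A0'])
  letI : Algebra (B ⊗[A] S0) C₁ := (psi A B S0 C₁).toRingHom.toAlgebra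
  haveI : IsLocalization.AtPrime C₁ 𝔮 := isLocalization_psi (R0 := R0) (A0' := A0') 𝔭 hcompat 𝔮
  haveI : IsScalarTower B (B ⊗[A] S0) C₁ := .of_algebraMap_eq (fun b => by
    show algebraMap B C₁ b = psi A B S0 C₁ (b ⊗ₜ[A] 1)
    rw [psi_tmul, map_one, mul_one])
  refine ⟨C₁ ⊗[B] M, inferInstance, inferInstance,
    Module.compHom (C₁ ⊗[B] M) ((algebraMap A0' C₁).comp (algebraMap S0 A0')),
    AlgebraTensorModule.rTensor B M (Algebra.linearMap (B ⊗[A] S0) C₁), ?_, ?_, hflat⟩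
  · infer_instance
  · intro a n
    rw [← algebraMap_smul C₁ ((1 : B) ⊗ₜ[A] a : B ⊗[A] S0) n]
    show algebraMap S0 C₁ a • n = psi A B S0 C₁ ((1 : B) ⊗ₜ[A] a) • n
    rw [psi_tmul, map_one, one_mul]

end Main

end Groth.Agent.Lib.Helper4.SepFlatL
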