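import Mathlib
import Groth.Prelude.Def_FlatMod2
import Groth.Agent.Lib.Lead.FB1
import Groth.Agent.Lib.Helper4.SepFlatL

/-!
# flatness descent via separating families: geometric bridge (points of the fibre product over x and the closed point) (helper4) (helper4)
-/

set_option backward.isDefEq.respectTransparency.types false
set_option synthInstance.maxHeartbeats 400000
set_option autoImplicit false
set_option linter.unusedSectionVars false
set_option linter.style.haveILetI false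
set_option linter.unusedSimpArgs false
universe u v w
open CategoryTheory CategoryTheory.Limits AlgebraicGeometry TopologicalSpace Topology

namespace Groth.Agent.Lib.Helper4.SepFlatM

open TensorProduct IsLocalRing Groth.Agent.Lead.FO Groth.Agent.Lead.SD Groth.Agent.Lead.FB
  Groth.Agent.Lib.Helper5.StalkAdj Groth.Agent.Lib.Helper4

theorem appLE_spec_fromSpecStalk {Y : Scheme.{u}} (y : Y) {R : CommRingCat.{u}}
    (φ : Y.presheaf.stalk y ⟶ R) (US : Y.Opens) (hy : y ∈ US)
    (h : (⊤ : (Spec R).Opens) ≤ (Spec.map φ ≫ Y.fromSpecStalk y) ⁻¹ᵁ US) :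
    (Spec.map φ ≫ Y.fromSpecStalk y).appLE US ⊤ h =
      Y.presheaf.germ US y hy ≫ φ ≫ (Scheme.ΓSpecIso R).inv := by
  rw [Scheme.Hom.comp_appLE, Scheme.fromSpecStalk_app hy, Category.assoc, Category.assoc,
    Scheme.Hom.map_appLE]
  simp only [Scheme.Hom.appLE, Scheme.ΓSpecIso_inv_naturality]
  have : (Spec R).presheaf.map (homOfLE (show (⊤ : (Spec R).Opens) ≤ (Spec.map φ) ⁻¹ᵁ ⊤
      from le_rfl)).op = 𝟙 _ := (Spec R).presheaf.map_id _
  erw [this, Category.comp_id]

instance isLocalRing_Γ_Spec (R : CommRingCat.{u}) [IsLocalRing R] :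
    IsLocalRing Γ(Spec R, ⊤) :=
  (Scheme.ΓSpecIso R).commRingCatIsoToRingEquiv.symm.isLocalRing

theorem flat_compHom_of_linearEquiv {S C N N' : Type*} [CommRing S] [CommRing C] (ρ : S →+* C)
    [AddCommGroup N] [AddCommGroup N'] [Module C N] [Module C N'] (e : N ≃ₗ[C] N')
    (h : @Module.Flat S N _ _ (Module.compHom N ρ)) :
    @Module.Flat S N' _ _ (Module.compHom N' ρ) := by
  letI := Module.compHom N ρ
  letI := Module.compHom N' ρ
  haveI := h
  let e' : N' ≃ₗ[S] N :=
    { e.symm with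
      map_smul' := fun s n => e.symm.map_smul (ρ s) n }
  exact Module.Flat.of_linearEquiv e'

theorem mem_preimage_fromSpecStalk {Y : Scheme.{u}} (y : Y) {Z : Scheme.{u}}
    (h : Z ⟶ Spec (Y.presheaf.stalk y)) (US : Y.Opens) (hy : y ∈ US) (z : Z) :
    (h ≫ Y.fromSpecStalk y) z ∈ US := by
  have : (h ≫ Y.fromSpecStalk y) z ∈ Set.range (Y.fromSpecStalk y) := ⟨h z, rfl⟩
  rw [Scheme.range_fromSpecStalk] at this
  exact this.mem_open US.2 hy


attribute [local instance] stalkModule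

set_option maxHeartbeats 3200000 in
theorem hLoc_of_flat {X Y : Scheme.{u}} (f : X ⟶ Y) (F : X.Modules) [F.IsQuasicoherent] (x : X)
    (A' : Type u) [CommRing A'] [IsLocalRing A']
    (φ : (Y.presheaf.stalk (f x) : Type u) →+* A')
    (g : Spec (CommRingCat.of A') ⟶ Y)
    (hg : g = Spec.map (CommRingCat.ofHom φ) ≫ Y.fromSpecStalk (f x))
    (hflat : ∀ x' : ↥(pullback f g), pullback.fst f g x' = x →
      pullback.snd f g x' = closedPoint A' →
      FlatMod.IsFlatOverAt (pullback.snd f g)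
        ((Scheme.Modules.pullback (pullback.fst f g)).obj F) x') :
    letI : Algebra (Y.presheaf.stalk (f x)) (X.presheaf.stalk x) := (f.stalkMap x).hom.toAlgebra
    letI : Algebra (Y.presheaf.stalk (f x)) Γ(Spec (CommRingCat.of A'), ⊤) :=
      ((Scheme.ΓSpecIso (CommRingCat.of A')).inv.hom.comp φ).toAlgebra
    letI : Module (Y.presheaf.stalk (f x)) (F.presheaf.stalk x) := FlatMod.moduleStalkOver f F x
    haveI : IsScalarTower (Y.presheaf.stalk (f x)) (X.presheaf.stalk x) (F.presheaf.stalk x) :=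
      IsScalarTower.of_algebraMap_smul fun _ _ => rfl
    SepFlatH.HLoc (Y.presheaf.stalk (f x)) (X.presheaf.stalk x) Γ(Spec (CommRingCat.of A'), ⊤)
      (F.presheaf.stalk x) := by
  letI algAB : Algebra (Y.presheaf.stalk (f x)) (X.presheaf.stalk x) :=
    (f.stalkMap x).hom.toAlgebra
  letI algAS : Algebra (Y.presheaf.stalk (f x)) Γ(Spec (CommRingCat.of A'), ⊤) :=
    ((Scheme.ΓSpecIso (CommRingCat.of A')).inv.hom.comp φ).toAlgebra
  letI modAM : Module (Y.presheaf.stalk (f x)) (F.presheaf.stalk x) :=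
    FlatMod.moduleStalkOver f F x
  haveI towABM : IsScalarTower (Y.presheaf.stalk (f x)) (X.presheaf.stalk x)
      (F.presheaf.stalk x) := IsScalarTower.of_algebraMap_smul fun _ _ => rfl
  show SepFlatH.HLoc (Y.presheaf.stalk (f x)) (X.presheaf.stalk x)
    Γ(Spec (CommRingCat.of A'), ⊤) (F.presheaf.stalk x)
  -- the chart
  obtain ⟨_, ⟨US, hUS, rfl⟩, hyUS, -⟩ :=
    Y.isBasis_affineOpens.exists_subset_of_mem_open (Set.mem_univ (f x)) isOpen_univ
  obtain ⟨_, ⟨UX, hUX, rfl⟩, hxUX, hUSX⟩ :=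
    X.isBasis_affineOpens.exists_subset_of_mem_open
      (show x ∈ (f ⁻¹ᵁ US : X.Opens) from hyUS) (f ⁻¹ᵁ US).isOpen
  have hUT : IsAffineOpen (⊤ : (Spec (CommRingCat.of A')).Opens) := isAffineOpen_top _
  have hUST : (⊤ : (Spec (CommRingCat.of A')).Opens) ≤ g ⁻¹ᵁ US := by
    intro t _
    show g t ∈ US
    rw [hg]
    exact mem_preimage_fromSpecStalk (f x) _ US hyUS t
  have hc : IsPullback (pullback.fst f g) (pullback.snd f g) f g := IsPullback.of_hasPullback f g
  obtain ⟨UY, hUYdef⟩ : ∃ UY : (pullback f g).Opens,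
      UY = (pullback.fst f g) ⁻¹ᵁ UX ⊓ (pullback.snd f g) ⁻¹ᵁ ⊤ := ⟨_, rfl⟩
  have hUY : IsAffineOpen UY := chart_affine hc hUS hUT hUX hUST hUSX hUYdef
  have hYT : UY ≤ (pullback.snd f g) ⁻¹ᵁ ⊤ := by rw [hUYdef]; exact inf_le_right
  have hYX : UY ≤ (pullback.fst f g) ⁻¹ᵁ UX := by rw [hUYdef]; exact inf_le_left
  have hpo := chart_isPushout hc hUS hUT hUX hUST hUSX hUYdef hYX hYT
  letI a1 : Algebra Γ(Y, US) Γ(Spec (CommRingCat.of A'), ⊤) := (g.appLE US ⊤ hUST).hom.toAlgebra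
  letI a2 : Algebra Γ(Y, US) Γ(X, UX) := (f.appLE US UX hUSX).hom.toAlgebra
  letI a3 : Algebra Γ(Spec (CommRingCat.of A'), ⊤) Γ(pullback f g, UY) :=
    ((pullback.snd f g).appLE ⊤ UY hYT).hom.toAlgebra
  letI a4 : Algebra Γ(X, UX) Γ(pullback f g, UY) :=
    ((pullback.fst f g).appLE UX UY hYX).hom.toAlgebra
  letI a5 : Algebra Γ(Y, US) Γ(pullback f g, UY) :=
    (((pullback.fst f g).appLE UX UY hYX).hom.comp (f.appLE US UX hUSX).hom).toAlgebra
  haveI t1 : IsScalarTower Γ(Y, US) Γ(X, UX) Γ(pullback f g, UY) := .of_algebraMap_eq' rfl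
  haveI t2 : IsScalarTower Γ(Y, US) Γ(Spec (CommRingCat.of A'), ⊤) Γ(pullback f g, UY) :=
    .of_algebraMap_eq' (by
      show ((pullback.fst f g).appLE UX UY hYX).hom.comp (f.appLE US UX hUSX).hom =
        ((pullback.snd f g).appLE ⊤ UY hYT).hom.comp (g.appLE US ⊤ hUST).hom
      have := congrArg CommRingCat.Hom.hom hpo.w
      simpa using this)
  haveI po : Algebra.IsPushout Γ(Y, US) Γ(Spec (CommRingCat.of A'), ⊤) Γ(X, UX)
      Γ(pullback f g, UY) := by
    have hpo' : IsPushout (CommRingCat.ofHom (algebraMap Γ(Y, US) Γ(X, UX)))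
        (CommRingCat.ofHom (algebraMap Γ(Y, US) Γ(Spec (CommRingCat.of A'), ⊤)))
        (CommRingCat.ofHom (algebraMap Γ(X, UX) Γ(pullback f g, UY)))
        (CommRingCat.ofHom (algebraMap Γ(Spec (CommRingCat.of A'), ⊤) Γ(pullback f g, UY))) := hpo
    exact (CommRingCat.isPushout_iff_isPushout.1 hpo').symm
  -- the stalks
  letI c1 : Algebra Γ(Y, US) (Y.presheaf.stalk (f x)) :=
    Y.presheaf.algebra_section_stalk ⟨f x, hyUS⟩
  haveI l0 := hUS.isLocalization_stalk ⟨f x, hyUS⟩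
  letI b1 : Algebra Γ(X, UX) (X.presheaf.stalk x) := X.presheaf.algebra_section_stalk ⟨x, hxUX⟩
  haveI l1 := hUX.isLocalization_stalk ⟨x, hxUX⟩
  letI b0 : Algebra Γ(Y, US) (X.presheaf.stalk x) :=
    ((algebraMap Γ(X, UX) (X.presheaf.stalk x)).comp (algebraMap Γ(Y, US) Γ(X, UX))).toAlgebra
  haveI t3 : IsScalarTower Γ(Y, US) Γ(X, UX) (X.presheaf.stalk x) := .of_algebraMap_eq' rfl
  haveI t4 : IsScalarTower Γ(Y, US) (Y.presheaf.stalk (f x)) (X.presheaf.stalk x) :=
    .of_algebraMap_eq' (by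
      ext r
      exact (stalkMap_germ_eq f hUSX ⟨x, hxUX⟩ r).symm)
  haveI t5 : IsScalarTower Γ(Y, US) (Y.presheaf.stalk (f x)) Γ(Spec (CommRingCat.of A'), ⊤) :=
    .of_algebraMap_eq' (by
      show (g.appLE US ⊤ hUST).hom = ((Scheme.ΓSpecIso (CommRingCat.of A')).inv.hom.comp φ).comp
        (Y.presheaf.germ US (f x) hyUS).hom
      have key : g.appLE US ⊤ hUST = Y.presheaf.germ US (f x) hyUS ≫ CommRingCat.ofHom φ ≫
          (Scheme.ΓSpecIso (CommRingCat.of A')).inv := by
        subst hg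
        exact appLE_spec_fromSpecStalk (f x) (CommRingCat.ofHom φ) US hyUS hUST
      rw [key]
      rfl)
  refine SepFlatL.hLoc_of_chart (R0 := Γ(Y, US)) (A0 := Γ(X, UX)) (A0' := Γ(pullback f g, UY))
    (A := Y.presheaf.stalk (f x)) (B := X.presheaf.stalk x)
    (S0 := Γ(Spec (CommRingCat.of A'), ⊤))
    (F.presheaf.stalk x) (hUS.primeIdealOf ⟨f x, hyUS⟩).asIdeal.primeCompl
    (hUX.primeIdealOf ⟨x, hxUX⟩).asIdeal ?_
  intro 𝔮₁ _ h1 h2
  obtain ⟨x', hx'def⟩ : ∃ x' : ↥(pullback f g), x' = hUY.fromSpec ⟨𝔮₁, inferInstance⟩ :=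
    ⟨_, rfl⟩
  have hx'UY : x' ∈ UY := by rw [hx'def]; exact fromSpec_mem hUY _
  have hprime : hUY.primeIdealOf ⟨x', hx'UY⟩ = ⟨𝔮₁, inferInstance⟩ := by
    subst hx'def; exact primeIdealOf_fromSpec hUY _
  have hx1 : pullback.fst f g x' = x := by
    have e1 := IsAffineOpen.comap_primeIdealOf_appLE (f := pullback.fst f g) UX hUX UY hUY hYX
      hx'UY
    rw [hprime] at e1
    have e2 : hUX.primeIdealOf ⟨pullback.fst f g x', hYX hx'UY⟩ =
        hUX.primeIdealOf ⟨x, hxUX⟩ := by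
      rw [← e1]; exact PrimeSpectrum.ext h1
    have e3 := congrArg hUX.fromSpec e2
    rwa [hUX.fromSpec_primeIdealOf, hUX.fromSpec_primeIdealOf] at e3
  have hx2 : pullback.snd f g x' = closedPoint A' := by
    have e1 := IsAffineOpen.comap_primeIdealOf_appLE (f := pullback.snd f g) ⊤ hUT UY hUY hYT
      hx'UY
    rw [hprime] at e1
    have hmax : (hUT.primeIdealOf ⟨closedPoint A', trivial⟩).asIdeal.IsMaximal :=
      hUT.primeIdealOf_isMaximal_of_isClosed _ (isClosed_singleton_closedPoint A')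
    have e2 : hUT.primeIdealOf ⟨pullback.snd f g x', hYT hx'UY⟩ =
        hUT.primeIdealOf ⟨closedPoint A', trivial⟩ := by
      rw [← e1]; exact PrimeSpectrum.ext (h2.trans (IsLocalRing.eq_maximalIdeal hmax).symm)
    have e3 := congrArg hUT.fromSpec e2
    rwa [hUT.fromSpec_primeIdealOf, hUT.fromSpec_primeIdealOf] at e3
  have hfl := hflat x' hx1 hx2
  clear hflat
  subst hx1
  letI b2 : Algebra Γ(pullback f g, UY) ((pullback f g).presheaf.stalk x') :=
    (pullback f g).presheaf.algebra_section_stalk ⟨x', hx'UY⟩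
  letI b3 : Algebra (X.presheaf.stalk (pullback.fst f g x')) ((pullback f g).presheaf.stalk x') :=
    ((pullback.fst f g).stalkMap x').hom.toAlgebra
  have l2 := hUY.isLocalization_stalk ⟨x', hx'UY⟩
  refine ⟨(pullback f g).presheaf.stalk x', inferInstance, b2, b3, ?_, ?_, ?_⟩
  · intro t
    exact stalkMap_germ_eq (pullback.fst f g) hYX ⟨x', hx'UY⟩ t
  · rw [hprime] at l2
    exact l2
  · have hM := (isFlatOverAt_iff_flat_stalkOver (pullback.snd f g)
      ((Scheme.Modules.pullback (pullback.fst f g)).obj F) hUT hYT ⟨x', hx'UY⟩).1 hfl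
    let e1 : (((Scheme.Modules.pullback (pullback.fst f g)).obj F).presheaf.stalk x')
        ≃ₗ[(pullback f g).presheaf.stalk x']
        ((ModuleCat.extendScalars.{u, u, u} ((pullback.fst f g).stalkMap x').hom).obj
          ((stalkSh X (pullback.fst f g x')).obj F)) :=
      ((stalkPullbackIso (pullback.fst f g) x').app F).toLinearEquiv
    let e2 : ((ModuleCat.extendScalars.{u, u, u} ((pullback.fst f g).stalkMap x').hom).obj
        ((stalkSh X (pullback.fst f g x')).obj F)) ≃ₗ[(pullback f g).presheaf.stalk x']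
        (((pullback f g).presheaf.stalk x') ⊗[X.presheaf.stalk (pullback.fst f g x')]
          (F.presheaf.stalk (pullback.fst f g x'))) :=
      Groth.Agent.Helper8.extScalEquiv (R := X.presheaf.stalk (pullback.fst f g x'))
        (S := (pullback f g).presheaf.stalk x') ((stalkSh X (pullback.fst f g x')).obj F)
    exact flat_compHom_of_linearEquiv _ (e1 ≪≫ₗ e2) hM

end Groth.Agent.Lib.Helper4.SepFlatM
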