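import Mathlib
import Groth.Prelude.Def_FlatMod2
import Groth.Agent.Lib.Helper4.SepFlatK
import Groth.Agent.Lib.Helper4.SepFlatM
import Groth.Agent.Lib.Helper7.CohStalk.Finite

/-!
# flatness descent via separating families: adic case for schemes (EGA IV 11.5.x) (helper4) (helper4)
-/

set_option backward.isDefEq.respectTransparency.types false
set_option synthInstance.maxHeartbeats 400000
set_option autoImplicit false
set_option linter.unusedSectionVars false
set_option linter.style.haveILetI false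
set_option linter.unusedSimpArgs false
universe u v w
open CategoryTheory CategoryTheory.Limits AlgebraicGeometry TopologicalSpace Topology

namespace Groth.Agent.Lib.Helper4.SepFlatN

open TensorProduct IsLocalRing Groth.Agent.Lib.Helper4

/-- comap of powers of the maximal ideal along a ring isomorphism -/
theorem comap_maximalIdeal_pow_of_bijective {R S : Type*} [CommRing R] [CommRing S]
    [IsLocalRing R] [IsLocalRing S] (e : R →+* S) (he : Function.Bijective e) (n : ℕ) :
    (maximalIdeal S ^ n).comap e = maximalIdeal R ^ n := by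
  let ε : R ≃+* S := RingEquiv.ofBijective e he
  have h1 : (maximalIdeal S ^ n).comap e = (maximalIdeal S ^ n).comap ε :=
    Ideal.ext fun _ => Iff.rfl
  have h2 : (maximalIdeal S).map ε.symm = maximalIdeal R := by
    rw [Ideal.map_symm]
    ext a
    rw [Ideal.mem_comap, mem_maximalIdeal, mem_maximalIdeal, mem_nonunits_iff, mem_nonunits_iff]
    exact not_congr ⟨fun h => by simpa using h.map ε.symm, fun h => h.map ε⟩
  rw [h1, ← Ideal.map_symm, Ideal.map_pow, h2]


set_option maxHeartbeats 1600000 in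
theorem main {X Y : Scheme.{u}} [IsLocallyNoetherian Y]
    (f : X ⟶ Y) [LocallyOfFiniteType f] (F : X.Modules) (hF : Coh.IsCoh F) (x : X)
    {ι : Type u} (A : ι → Type u) [∀ i, CommRing (A i)] [∀ i, IsLocalRing (A i)]
    (φ : ∀ i, (Y.presheaf.stalk (f x) : Type u) →+* A i) [∀ i, IsLocalHom (φ i)]
    (htop : ∀ N : ℕ, ∃ s : Finset (ι × ℕ),
      ⨅ p ∈ s, Ideal.comap (φ p.1) (IsLocalRing.maximalIdeal (A p.1) ^ p.2) ≤
        IsLocalRing.maximalIdeal ↑(Y.presheaf.stalk (f x)) ^ N) :
    letI g : ∀ i, Spec (CommRingCat.of (A i)) ⟶ Y :=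
      fun i => Spec.map (CommRingCat.ofHom (φ i)) ≫ Y.fromSpecStalk (f x)
    (∀ (i : ι) (x' : ↥(pullback f (g i))), pullback.fst f (g i) x' = x →
      pullback.snd f (g i) x' = IsLocalRing.closedPoint (A i) →
      FlatMod.IsFlatOverAt (pullback.snd f (g i)) ((Scheme.Modules.pullback (pullback.fst f (g i))).obj F) x') →
    FlatMod.IsFlatOverAt f F x := by
  intro hyp
  haveI : F.IsQuasicoherent := hF.1
  haveI : IsLocallyNoetherian X := LocallyOfFiniteType.isLocallyNoetherian f
  letI algAB : Algebra (Y.presheaf.stalk (f x)) (X.presheaf.stalk x) :=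
    (f.stalkMap x).hom.toAlgebra
  letI modAM : Module (Y.presheaf.stalk (f x)) (F.presheaf.stalk x) :=
    FlatMod.moduleStalkOver f F x
  haveI towABM : IsScalarTower (Y.presheaf.stalk (f x)) (X.presheaf.stalk x)
      (F.presheaf.stalk x) := IsScalarTower.of_algebraMap_smul fun _ _ => rfl
  haveI loc1 : IsLocalHom (algebraMap (Y.presheaf.stalk (f x)) (X.presheaf.stalk x)) := by
    show IsLocalHom (f.stalkMap x).hom
    infer_instance
  haveI hfin : Module.Finite (X.presheaf.stalk x) (F.presheaf.stalk x) :=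
    Groth.Agent.Helper7.FinType.stalk_finite_of_isCoh F hF x
  letI algAS : ∀ i, Algebra (Y.presheaf.stalk (f x)) Γ(Spec (CommRingCat.of (A i)), ⊤) :=
    fun i => ((Scheme.ΓSpecIso (CommRingCat.of (A i))).inv.hom.comp (φ i)).toAlgebra
  haveI locS : ∀ i, IsLocalHom (algebraMap (Y.presheaf.stalk (f x))
      Γ(Spec (CommRingCat.of (A i)), ⊤)) := fun i => by
    show IsLocalHom ((Scheme.ΓSpecIso (CommRingCat.of (A i))).inv.hom.comp (φ i))
    haveI := isLocalHom_of_isIso (Scheme.ΓSpecIso (CommRingCat.of (A i))).inv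
    exact RingHom.isLocalHom_comp _ _
  have hH : ∀ i, SepFlatH.HLoc (Y.presheaf.stalk (f x)) (X.presheaf.stalk x)
      Γ(Spec (CommRingCat.of (A i)), ⊤) (F.presheaf.stalk x) := fun i =>
    SepFlatM.hLoc_of_flat f F x (A i) (φ i) _ rfl (hyp i)
  have htop' : ∀ N : ℕ, ∃ s : Finset (ι × ℕ),
      ⨅ p ∈ s, Ideal.comap (algebraMap (Y.presheaf.stalk (f x))
        Γ(Spec (CommRingCat.of (A p.1)), ⊤))
        (maximalIdeal Γ(Spec (CommRingCat.of (A p.1)), ⊤) ^ p.2) ≤
        maximalIdeal (Y.presheaf.stalk (f x)) ^ N := by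
    intro N
    obtain ⟨s, hs⟩ := htop N
    refine ⟨s, le_trans (le_of_eq ?_) hs⟩
    refine iInf_congr fun p => iInf_congr fun _ => ?_
    show Ideal.comap ((Scheme.ΓSpecIso (CommRingCat.of (A p.1))).inv.hom.comp (φ p.1)) _ = _
    rw [← Ideal.comap_comap, comap_maximalIdeal_pow_of_bijective
      (Scheme.ΓSpecIso (CommRingCat.of (A p.1))).inv.hom
      (ConcreteCategory.bijective_of_isIso (Scheme.ΓSpecIso (CommRingCat.of (A p.1))).inv)]
  exact SepFlatK.flat_of_separating_adic (A := Y.presheaf.stalk (f x)) (B := X.presheaf.stalk x)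
    (M := F.presheaf.stalk x) (fun i => Γ(Spec (CommRingCat.of (A i)), ⊤)) htop' hH

end Groth.Agent.Lib.Helper4.SepFlatN
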