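import Mathlib
import Groth.Prelude.Def_FlatMod2
import Groth.Agent.Lib.Helper4.SepFlatK
import Groth.Agent.Lib.Helper4.SepFlatM
import Groth.Agent.Lib.Helper7.CohStalk.Finite

/-!
# flatness descent via separating families: Artinian base (EGA IV 11.4.x) (helper4) (helper4)
-/

set_option backward.isDefEq.respectTransparency.types false
set_option synthInstance.maxHeartbeats 400000
set_option autoImplicit false
set_option linter.unusedSectionVars false
set_option linter.style.haveILetI false
set_option linter.unusedSimpArgs false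
universe u v w
open CategoryTheory CategoryTheory.Limits AlgebraicGeometry TopologicalSpace Topology

namespace Groth.Agent.Lib.Helper4.SepFlatO

open TensorProduct IsLocalRing Groth.Agent.Lib.Helper4

/-- the canonical map from a local ring to the stalk of its spectrum at the closed point is
bijective -/
theorem bijective_toStalk (R : CommRingCat.{u}) [IsLocalRing R] (p : Spec R)
    (hp : p = closedPoint R) :
    Function.Bijective ((Scheme.ΓSpecIso R).inv ≫ (Spec R).presheaf.germ ⊤ p trivial).hom := by
  subst hp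
  have : (Scheme.ΓSpecIso R).inv ≫ (Spec R).presheaf.germ ⊤ (closedPoint R) trivial =
      (stalkClosedPointIso R).inv := by
    rw [← ΓSpecIso_hom_stalkClosedPointIso_inv, Iso.inv_hom_id_assoc]
  rw [this]
  exact ConcreteCategory.bijective_of_isIso (stalkClosedPointIso R).inv

theorem eq_closedPoint_of_isArtinianRing (A : Type u) [CommRing A] [IsArtinianRing A]
    [IsLocalRing A] (p : PrimeSpectrum A) : p = closedPoint A := by
  apply PrimeSpectrum.ext
  haveI := IsArtinianRing.isMaximal_of_isPrime p.asIdeal
  exact IsLocalRing.eq_maximalIdeal inferInstance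

theorem isLocalHom_of_isArtinianRing {A A' : Type*} [CommRing A] [CommRing A'] [IsArtinianRing A]
    [IsLocalRing A] [IsLocalRing A'] (u : A →+* A') : IsLocalHom u := by
  refine ⟨fun a ha => ?_⟩
  by_contra hna
  have hmem : a ∈ maximalIdeal A := (mem_maximalIdeal a).mpr hna
  have hnil : IsNilpotent a := by
    have := IsArtinianRing.isNilpotent_jacobson_bot (R := A)
    rw [IsLocalRing.jacobson_eq_maximalIdeal ⊥ bot_ne_top] at this
    obtain ⟨n, hn⟩ := this
    refine ⟨n, ?_⟩
    have h1 : a ^ n ∈ maximalIdeal A ^ n := Ideal.pow_mem_pow hmem n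
    rw [hn] at h1
    exact h1
  have hnil' : IsNilpotent (u a) := hnil.map u
  exact hnil'.not_isUnit ha


set_option maxHeartbeats 1600000 in
theorem main {A : Type u} [CommRing A]
    [IsArtinianRing A] [IsLocalRing A] {X : Scheme.{u}} (f : X ⟶ Spec (CommRingCat.of A))
    [LocallyOfFiniteType f] (F : X.Modules) (hF : Coh.IsCoh F) (x : X)
    {ι : Type u} (A' : ι → Type u) [∀ i, CommRing (A' i)] [∀ i, IsLocalRing (A' i)]
    (u : ∀ i, A →+* A' i)
    (hu : ∀ a : A, (∀ i, u i a = 0) → a = 0)
    (hflat : ∀ (i : ι) (x' : ↥(pullback f (Spec.map (CommRingCat.ofHom (u i))))),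
      pullback.fst f (Spec.map (CommRingCat.ofHom (u i))) x' = x →
      pullback.snd f (Spec.map (CommRingCat.ofHom (u i))) x' = IsLocalRing.closedPoint (A' i) →
      FlatMod.IsFlatOverAt (pullback.snd f (Spec.map (CommRingCat.ofHom (u i))))
        ((Scheme.Modules.pullback (pullback.fst f (Spec.map (CommRingCat.ofHom (u i))))).obj F) x') :
    FlatMod.IsFlatOverAt f F x := by
  haveI : F.IsQuasicoherent := hF.1
  haveI : IsLocallyNoetherian X := LocallyOfFiniteType.isLocallyNoetherian f
  letI algAB : Algebra ((Spec (CommRingCat.of A)).presheaf.stalk (f x)) (X.presheaf.stalk x) :=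
    (f.stalkMap x).hom.toAlgebra
  letI modAM : Module ((Spec (CommRingCat.of A)).presheaf.stalk (f x)) (F.presheaf.stalk x) :=
    FlatMod.moduleStalkOver f F x
  haveI towABM : IsScalarTower ((Spec (CommRingCat.of A)).presheaf.stalk (f x))
      (X.presheaf.stalk x) (F.presheaf.stalk x) :=
    IsScalarTower.of_algebraMap_smul fun _ _ => rfl
  haveI hfin : Module.Finite (X.presheaf.stalk x) (F.presheaf.stalk x) :=
    Groth.Agent.Helper7.FinType.stalk_finite_of_isCoh F hF x
  -- the stalk of the base is `A`
  have hfx : f x = closedPoint (CommRingCat.of A) := eq_closedPoint_of_isArtinianRing A (f x)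
  have hbij := bijective_toStalk (CommRingCat.of A) (f x) hfx
  let τ : A ≃+* ((Spec (CommRingCat.of A)).presheaf.stalk (f x)) :=
    RingEquiv.ofBijective _ hbij
  haveI : IsArtinianRing ((Spec (CommRingCat.of A)).presheaf.stalk (f x)) :=
    τ.isArtinianRing
  let φ : ∀ i, ((Spec (CommRingCat.of A)).presheaf.stalk (f x)) →+* A' i :=
    fun i => (u i).comp (τ.symm : _ →+* A)
  have hφ : ∀ i, Spec.map (CommRingCat.ofHom (u i)) =
      Spec.map (CommRingCat.ofHom (φ i)) ≫ (Spec (CommRingCat.of A)).fromSpecStalk (f x) := by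
    intro i
    rw [Spec.fromSpecStalk_eq, ← Spec.map_comp]
    congr 1
    ext a
    show u i a = u i (τ.symm (τ a))
    rw [RingEquiv.symm_apply_apply]
  letI algAS : ∀ i, Algebra ((Spec (CommRingCat.of A)).presheaf.stalk (f x))
      Γ(Spec (CommRingCat.of (A' i)), ⊤) :=
    fun i => ((Scheme.ΓSpecIso (CommRingCat.of (A' i))).inv.hom.comp (φ i)).toAlgebra
  haveI locS : ∀ i, IsLocalHom (algebraMap ((Spec (CommRingCat.of A)).presheaf.stalk (f x))
      Γ(Spec (CommRingCat.of (A' i)), ⊤)) := fun i => isLocalHom_of_isArtinianRing _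
  have hH : ∀ i, SepFlatH.HLoc ((Spec (CommRingCat.of A)).presheaf.stalk (f x))
      (X.presheaf.stalk x) Γ(Spec (CommRingCat.of (A' i)), ⊤) (F.presheaf.stalk x) := fun i =>
    SepFlatM.hLoc_of_flat f F x (A' i) (φ i) _ (hφ i) (hflat i)
  have hsep : ∀ a : ((Spec (CommRingCat.of A)).presheaf.stalk (f x)),
      (∀ i, algebraMap ((Spec (CommRingCat.of A)).presheaf.stalk (f x))
        Γ(Spec (CommRingCat.of (A' i)), ⊤) a = 0) → a = 0 := by
    intro a ha
    have h1 : τ.symm a = 0 := by
      apply hu
      intro i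
      have h2 := ha i
      have hinj := (ConcreteCategory.bijective_of_isIso
        (Scheme.ΓSpecIso (CommRingCat.of (A' i))).inv).1
      apply hinj
      rw [map_zero]
      exact h2
    have := congrArg τ h1
    rwa [RingEquiv.apply_symm_apply, map_zero] at this
  exact SepFlatK.flat_of_separating_artinian
    (A := (Spec (CommRingCat.of A)).presheaf.stalk (f x)) (B := X.presheaf.stalk x)
    (M := F.presheaf.stalk x) (fun i => Γ(Spec (CommRingCat.of (A' i)), ⊤)) hsep hH

end Groth.Agent.Lib.Helper4.SepFlatO
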