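import Mathlib
import Groth.Prelude.Def_FlatMod2
import Groth.Agent.Lib.Helper4.SepFlatO
import Groth.Agent.Lib.Helper4.ChartSq1
import Groth.Agent.Lib.Lead.PBQc

/-!
# flatness descent along a separating family of schemes over an Artinian base (EGA IV 11.4.x) (helper4) (helper4)
-/

set_option backward.isDefEq.respectTransparency.types false
set_option synthInstance.maxHeartbeats 400000
set_option autoImplicit false
set_option linter.unusedSectionVars false
set_option linter.style.haveILetI false
set_option linter.unusedSimpArgs false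
universe u v w
open CategoryTheory CategoryTheory.Limits AlgebraicGeometry TopologicalSpace Topology

namespace Groth.Agent.Lib.Helper4.SepFlatP

open TensorProduct IsLocalRing Groth.Agent.Lib.Helper4

/-- flat base change of flatness over the base, for a composite base change -/
theorem flat_comp_baseChange {X S Y Z : Scheme.{u}} (f : X ⟶ S) (g : Y ⟶ S) (h : Z ⟶ Y)
    (F : X.Modules) [F.IsQuasicoherent] (x'' : ↥(pullback f (h ≫ g)))
    (hfl : FlatMod.IsFlatOverAt (pullback.snd f g)
      ((Scheme.Modules.pullback (pullback.fst f g)).obj F)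
      ((pullback.lift (pullback.fst f (h ≫ g)) (pullback.snd f (h ≫ g) ≫ h)
        (by rw [pullback.condition, Category.assoc]) : pullback f (h ≫ g) ⟶ pullback f g) x'')) :
    FlatMod.IsFlatOverAt (pullback.snd f (h ≫ g))
      ((Scheme.Modules.pullback (pullback.fst f (h ≫ g))).obj F) x'' := by
  obtain ⟨l, hl⟩ : ∃ l : pullback f (h ≫ g) ⟶ pullback f g,
      l = pullback.lift (pullback.fst f (h ≫ g)) (pullback.snd f (h ≫ g) ≫ h)
        (by rw [pullback.condition, Category.assoc]) := ⟨_, rfl⟩
  rw [← hl] at hfl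
  have h1 : l ≫ pullback.fst f g = pullback.fst f (h ≫ g) := by rw [hl, pullback.lift_fst]
  have h2 : l ≫ pullback.snd f g = pullback.snd f (h ≫ g) ≫ h := by rw [hl, pullback.lift_snd]
  have t : IsPullback (pullback.fst f g) (pullback.snd f g) f g := IsPullback.of_hasPullback f g
  have s : IsPullback (l ≫ pullback.fst f g) (pullback.snd f (h ≫ g)) f (h ≫ g) := by
    rw [h1]; exact IsPullback.of_hasPullback f (h ≫ g)
  have hc' : IsPullback l (pullback.snd f (h ≫ g)) (pullback.snd f g) h :=
    IsPullback.of_right s h2 t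
  haveI : ((Scheme.Modules.pullback (pullback.fst f g)).obj F).IsQuasicoherent :=
    Groth.Agent.Lead.PB.isQuasicoherent_pullback _ _
  have key := Groth.Agent.Lead.FB.flat_baseChange hc'
    ((Scheme.Modules.pullback (pullback.fst f g)).obj F) x'' hfl
  exact ChartSq1.isFlatOverAt_of_iso _
    ((Scheme.Modules.pullbackComp l (pullback.fst f g)).app F ≪≫
      (Scheme.Modules.pullbackCongr h1).app F) x'' key

theorem artinian_main' {A : Type u} [CommRing A]
    [IsArtinianRing A] [IsLocalRing A] {X : Scheme.{u}} (f : X ⟶ Spec (CommRingCat.of A))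
    [LocallyOfFiniteType f] (F : X.Modules) (hF : Coh.IsCoh F) (x : X)
    {ι : Type u} (A' : ι → Type u) [∀ i, CommRing (A' i)] [∀ i, IsLocalRing (A' i)]
    (u : ∀ i, A →+* A' i)
    (hu : ∀ a : A, (∀ i, u i a = 0) → a = 0)
    (gg : ∀ i, Spec (CommRingCat.of (A' i)) ⟶ Spec (CommRingCat.of A))
    (hgg : ∀ i, gg i = Spec.map (CommRingCat.ofHom (u i)))
    (hflat : ∀ (i : ι) (x' : ↥(pullback f (gg i))),
      pullback.fst f (gg i) x' = x →
      pullback.snd f (gg i) x' = IsLocalRing.closedPoint (A' i) →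
      FlatMod.IsFlatOverAt (pullback.snd f (gg i))
        ((Scheme.Modules.pullback (pullback.fst f (gg i))).obj F) x') :
    FlatMod.IsFlatOverAt f F x := by
  obtain rfl : gg = fun i => Spec.map (CommRingCat.ofHom (u i)) := funext hgg
  exact SepFlatO.main f F hF x A' u hu hflat

/-- a morphism from the spectrum of a stalk to an affine scheme -/
theorem fromSpecStalk_comp_eq {Y : Scheme.{u}} {R : CommRingCat.{u}} (g : Y ⟶ Spec R) (y : Y) :
    Y.fromSpecStalk y ≫ g =
      Spec.map ((Scheme.ΓSpecIso R).inv ≫ g.appTop ≫ Y.presheaf.germ ⊤ y trivial) := by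
  have h1 : g = Y.toSpecΓ ≫ Spec.map ((Scheme.ΓSpecIso R).inv ≫ g.appTop) := by
    rw [Spec.map_comp, ← Category.assoc, ← Scheme.toSpecΓ_naturality g, Category.assoc,
      toSpecΓ_SpecMap_ΓSpecIso_inv, Category.comp_id]
  conv_lhs => rw [h1]
  rw [← Category.assoc, Scheme.fromSpecStalk_toSpecΓ, ← Spec.map_comp, Category.assoc]

set_option maxHeartbeats 1600000 in
theorem main {A : Type u} [CommRing A]
    [IsArtinianRing A] [IsLocalRing A] {X : Scheme.{u}} (f : X ⟶ Spec (CommRingCat.of A))
    [LocallyOfFiniteType f] (F : X.Modules) (hF : Coh.IsCoh F) (x : X)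
    {ι : Type u} (Y : ι → Scheme.{u}) (g : ∀ i, Y i ⟶ Spec (CommRingCat.of A))
    (hg : ∀ a : A, (∀ i, (g i).appTop ((Scheme.ΓSpecIso (CommRingCat.of A)).inv a) = 0) → a = 0)
    (hflat : ∀ (i : ι) (x' : ↥(pullback f (g i))), pullback.fst f (g i) x' = x →
      FlatMod.IsFlatOverAt (pullback.snd f (g i))
        ((Scheme.Modules.pullback (pullback.fst f (g i))).obj F) x') :
    FlatMod.IsFlatOverAt f F x := by
  haveI : F.IsQuasicoherent := hF.1
  refine artinian_main' f F hF x (ι := Σ i, ↥(Y i))
    (fun j => (Y j.1).presheaf.stalk j.2)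
    (fun j => ((Scheme.ΓSpecIso (CommRingCat.of A)).inv ≫ (g j.1).appTop ≫
      (Y j.1).presheaf.germ ⊤ j.2 trivial).hom) ?_
    (fun j => (Y j.1).fromSpecStalk j.2 ≫ g j.1)
    (fun j => fromSpecStalk_comp_eq (g j.1) j.2) ?_
  · intro a ha
    apply hg
    intro i
    apply TopCat.Presheaf.section_ext (Y i).sheaf ⊤
    intro y hy
    have := ha ⟨i, y⟩
    exact this.trans (map_zero ((Y i).presheaf.germ ⊤ y hy).hom).symm
  · rintro ⟨i, y⟩ x'' hx1 -
    apply flat_comp_baseChange f (g i) ((Y i).fromSpecStalk y) F x''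
    apply hflat i
    rw [← Scheme.Hom.comp_apply, pullback.lift_fst]
    exact hx1

end Groth.Agent.Lib.Helper4.SepFlatP
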