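import Mathlib

/-!
# finite injective algebras over a Noetherian local ring: Artin-Rees separation by localisations at maximal ideals (helper4) (helper4)
-/

set_option backward.isDefEq.respectTransparency.types false
set_option synthInstance.maxHeartbeats 400000
set_option autoImplicit false
set_option linter.unusedSectionVars false
set_option linter.style.haveILetI false
set_option linter.unusedSimpArgs false
universe u v w
open CategoryTheory CategoryTheory.Limits AlgebraicGeometry TopologicalSpace Topology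

namespace Groth.Agent.Lib.Helper4.SepFlatQ

open TensorProduct IsLocalRing

theorem SepFlatK_map_maximalIdeal_le {R S : Type*} [CommRing R] [CommRing S] [IsLocalRing R]
    [IsLocalRing S] (φ : R →+* S) [IsLocalHom φ] :
    (maximalIdeal R).map φ ≤ maximalIdeal S := by
  rw [Ideal.map_le_iff_le_comap]
  intro x hx
  rw [Ideal.mem_comap, mem_maximalIdeal, mem_nonunits_iff]
  intro h
  exact (mem_nonunits_iff.mp ((mem_maximalIdeal _).mp hx)) (isUnit_of_map_unit φ x h)

variable {O A' : Type u} [CommRing O] [IsLocalRing O] [IsNoetherianRing O] [CommRing A']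
  [Algebra O A'] [Module.Finite O A']

/-- Artin–Rees for a finite injective algebra over a Noetherian local ring -/
theorem artinRees (hinj : Function.Injective (algebraMap O A')) :
    ∃ k : ℕ, ∀ n ≥ k, ∀ a : O,
      algebraMap O A' a ∈ ((maximalIdeal O).map (algebraMap O A')) ^ n →
      a ∈ maximalIdeal O ^ (n - k) := by
  obtain ⟨k, hk⟩ := Ideal.exists_pow_inf_eq_pow_smul (maximalIdeal O)
    (LinearMap.range (Algebra.linearMap O A'))
  refine ⟨k, fun n hn a ha => ?_⟩
  have h1 : algebraMap O A' a ∈ (maximalIdeal O ^ n • (⊤ : Submodule O A')) ⊓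
      LinearMap.range (Algebra.linearMap O A') := by
    refine ⟨?_, ⟨a, rfl⟩⟩
    rw [Ideal.smul_top_eq_map, Ideal.map_pow]
    exact ha
  rw [hk n hn] at h1
  have h2 : ∀ y ∈ maximalIdeal O ^ (n - k) •
      ((maximalIdeal O ^ k • (⊤ : Submodule O A')) ⊓ LinearMap.range (Algebra.linearMap O A')),
      ∃ a' ∈ maximalIdeal O ^ (n - k), algebraMap O A' a' = y := by
    intro y hy
    refine Submodule.smul_induction_on hy ?_ ?_
    · rintro r hr _ ⟨-, ⟨b, rfl⟩⟩
      refine ⟨r * b, Ideal.mul_mem_right _ _ hr, ?_⟩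
      rw [map_mul, Algebra.smul_def]
      rfl
    · rintro _ _ ⟨a1, ha1, rfl⟩ ⟨a2, ha2, rfl⟩
      exact ⟨a1 + a2, add_mem ha1 ha2, map_add _ _ _⟩
  obtain ⟨a', ha', haa'⟩ := h2 _ h1
  rw [← hinj haa']
  exact ha'

theorem comap_eq_maximalIdeal (𝔮 : Ideal A') [𝔮.IsPrime]
    (h : (maximalIdeal O).map (algebraMap O A') ≤ 𝔮) :
    𝔮.comap (algebraMap O A') = maximalIdeal O := by
  symm
  apply (IsLocalRing.maximalIdeal.isMaximal O).eq_of_le (Ideal.comap_ne_top _ (Ideal.IsPrime.ne_top inferInstance))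
  exact Ideal.map_le_iff_le_comap.mp h

theorem comap_maximal_eq (𝔫 : Ideal A') [h𝔫 : 𝔫.IsMaximal] :
    𝔫.comap (algebraMap O A') = maximalIdeal O := by
  haveI : Algebra.IsIntegral O A' := Algebra.IsIntegral.of_finite O A'
  haveI := Ideal.isMaximal_comap_of_isIntegral_of_isMaximal (R := O) 𝔫
  exact IsLocalRing.eq_maximalIdeal inferInstance

instance (𝔫 : Ideal A') [h𝔫 : 𝔫.IsMaximal] :
    IsLocalHom (algebraMap O (Localization.AtPrime 𝔫)) := by
  refine ⟨fun a ha => ?_⟩
  by_contra hna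
  have h1 : a ∈ maximalIdeal O := (mem_maximalIdeal a).mpr hna
  rw [← comap_maximal_eq 𝔫, Ideal.mem_comap] at h1
  rw [IsScalarTower.algebraMap_apply O A' (Localization.AtPrime 𝔫)] at ha
  have h2 := (IsLocalization.AtPrime.isUnit_to_map_iff (Localization.AtPrime 𝔫) 𝔫 _).mp ha
  exact h2 h1

variable (O) in
include O in
theorem finite_maximalSpectrum : Finite (MaximalSpectrum A') := by
  haveI : Algebra.IsIntegral O A' := Algebra.IsIntegral.of_finite O A'
  obtain ⟨I, hI⟩ : ∃ I : Ideal A', I = (maximalIdeal O).map (algebraMap O A') := ⟨_, rfl⟩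
  have hle : ∀ 𝔫 : MaximalSpectrum A', I ≤ 𝔫.asIdeal := by
    intro 𝔫
    rw [hI, Ideal.map_le_iff_le_comap]
    haveI := 𝔫.isMaximal
    exact le_of_eq (comap_maximal_eq 𝔫.asIdeal).symm
  letI : Field (O ⧸ maximalIdeal O) := Ideal.Quotient.field _
  letI : Algebra (O ⧸ maximalIdeal O) (A' ⧸ I) :=
    (Ideal.quotientMap I (algebraMap O A') (by rw [hI]; exact Ideal.le_comap_map)).toAlgebra
  haveI : IsScalarTower O (O ⧸ maximalIdeal O) (A' ⧸ I) :=
    IsScalarTower.of_algebraMap_eq fun a => rfl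
  haveI : Module.Finite (O ⧸ maximalIdeal O) (A' ⧸ I) :=
    Module.Finite.of_restrictScalars_finite O _ _
  haveI : IsArtinianRing (A' ⧸ I) := IsArtinianRing.of_finite (O ⧸ maximalIdeal O) (A' ⧸ I)
  let F : MaximalSpectrum A' → MaximalSpectrum (A' ⧸ I) := fun 𝔫 =>
    ⟨𝔫.asIdeal.map (Ideal.Quotient.mk I), by
      haveI := 𝔫.isMaximal
      refine (Ideal.map_eq_top_or_isMaximal_of_surjective _ Ideal.Quotient.mk_surjective
        𝔫.isMaximal).resolve_left ?_
      intro h
      have h2 := congrArg (Ideal.comap (Ideal.Quotient.mk I)) h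
      rw [Ideal.comap_map_of_surjective _ Ideal.Quotient.mk_surjective, Ideal.comap_top,
        ← RingHom.ker_eq_comap_bot, Ideal.mk_ker, sup_eq_left.mpr (hle 𝔫)] at h2
      exact 𝔫.isMaximal.ne_top h2⟩
  refine Finite.of_injective F ?_
  intro 𝔫 𝔫' h
  have h1 : 𝔫.asIdeal.map (Ideal.Quotient.mk I) = 𝔫'.asIdeal.map (Ideal.Quotient.mk I) :=
    congrArg MaximalSpectrum.asIdeal h
  have h2 := congrArg (Ideal.comap (Ideal.Quotient.mk I)) h1
  rw [Ideal.comap_map_of_surjective _ Ideal.Quotient.mk_surjective,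
    Ideal.comap_map_of_surjective _ Ideal.Quotient.mk_surjective,
    ← RingHom.ker_eq_comap_bot, Ideal.mk_ker, sup_eq_left.mpr (hle 𝔫),
    sup_eq_left.mpr (hle 𝔫')] at h2
  exact MaximalSpectrum.ext h2

/-- in the localisation at a maximal ideal of `A'`, a power of the maximal ideal lies in `𝔪A'_𝔫` -/
theorem exists_pow_le_map (𝔫 : Ideal A') [h𝔫 : 𝔫.IsMaximal] :
    ∃ m : ℕ, maximalIdeal (Localization.AtPrime 𝔫) ^ m ≤
      (maximalIdeal O).map (algebraMap O (Localization.AtPrime 𝔫)) := by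
  haveI : Algebra.IsIntegral O A' := Algebra.IsIntegral.of_finite O A'
  haveI : IsNoetherianRing A' := IsNoetherianRing.of_finite O A'
  haveI : IsNoetherianRing (Localization.AtPrime 𝔫) :=
    IsLocalization.isNoetherianRing 𝔫.primeCompl _ inferInstance
  obtain ⟨I, hI⟩ : ∃ I : Ideal (Localization.AtPrime 𝔫),
    I = (maximalIdeal O).map (algebraMap O (Localization.AtPrime 𝔫)) := ⟨_, rfl⟩
  rw [← hI]
  have hrad : I.radical = maximalIdeal (Localization.AtPrime 𝔫) := by
    have hne : I ≠ ⊤ := by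
      rw [hI]
      intro h
      have h1 := SepFlatK_map_maximalIdeal_le (algebraMap O (Localization.AtPrime 𝔫))
      rw [h] at h1
      exact (IsLocalRing.maximalIdeal.isMaximal _).ne_top (top_le_iff.mp h1)
    apply le_antisymm
    · exact IsLocalRing.le_maximalIdeal (by rwa [Ne, Ideal.radical_eq_top])
    · rw [Ideal.radical_eq_sInf]
      apply le_sInf
      rintro P ⟨hIP, hP⟩
      haveI := hP
      -- the contraction of `P` to `A'`
      have hPle : P ≤ maximalIdeal (Localization.AtPrime 𝔫) :=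
        IsLocalRing.le_maximalIdeal hP.ne_top
      obtain ⟨𝔮, h𝔮⟩ : ∃ 𝔮 : Ideal A', 𝔮 = P.comap (algebraMap A' (Localization.AtPrime 𝔫)) :=
        ⟨_, rfl⟩
      haveI : 𝔮.IsPrime := by rw [h𝔮]; exact Ideal.comap_isPrime _ _
      have h𝔮le : 𝔮 ≤ 𝔫 := by
        have h0 := IsLocalization.AtPrime.comap_maximalIdeal (Localization.AtPrime 𝔫) 𝔫
        rw [h𝔮]
        exact (Ideal.comap_mono hPle).trans (le_of_eq h0)
      have h𝔮O : 𝔮.comap (algebraMap O A') = maximalIdeal O := by
        apply comap_eq_maximalIdeal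
        rw [h𝔮, Ideal.map_le_iff_le_comap, Ideal.comap_comap,
          ← IsScalarTower.algebraMap_eq O A' (Localization.AtPrime 𝔫),
          ← Ideal.map_le_iff_le_comap, ← hI]
        exact hIP
      have h𝔮max : 𝔮.IsMaximal :=
        Ideal.isMaximal_of_isIntegral_of_isMaximal_comap (R := O) 𝔮
          (by rw [h𝔮O]; exact IsLocalRing.maximalIdeal.isMaximal O)
      have h𝔮𝔫 : 𝔮 = 𝔫 := h𝔮max.eq_of_le h𝔫.ne_top h𝔮le
      have : P = maximalIdeal (Localization.AtPrime 𝔫) := by
        have h1 := IsLocalization.map_comap 𝔫.primeCompl (Localization.AtPrime 𝔫) P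
        rw [← h1]
        show Ideal.map (algebraMap A' (Localization.AtPrime 𝔫))
          (P.comap (algebraMap A' (Localization.AtPrime 𝔫))) = _
        rw [← h𝔮, h𝔮𝔫, Localization.AtPrime.map_eq_maximalIdeal]
      rw [this]
  have := Ideal.exists_radical_pow_le_of_fg I (IsNoetherian.noetherian _)
  rwa [hrad] at this

theorem htop_finite (hinj : Function.Injective (algebraMap O A')) (N : ℕ) :
    ∃ s : Finset (MaximalSpectrum A' × ℕ),
      ⨅ p ∈ s, Ideal.comap (algebraMap O (Localization.AtPrime p.1.asIdeal))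
        (maximalIdeal (Localization.AtPrime p.1.asIdeal) ^ p.2) ≤ maximalIdeal O ^ N := by
  classical
  haveI := finite_maximalSpectrum O (A' := A')
  letI := Fintype.ofFinite (MaximalSpectrum A')
  choose m hm using fun 𝔫 : MaximalSpectrum A' => exists_pow_le_map (O := O) 𝔫.asIdeal
  obtain ⟨k, hk⟩ := artinRees hinj
  obtain ⟨M, hM⟩ : ∃ M : ℕ, ∀ 𝔫, m 𝔫 ≤ M :=
    ⟨∑ 𝔫, m 𝔫, fun 𝔫 => Finset.single_le_sum (f := m) (fun _ _ => Nat.zero_le _) (Finset.mem_univ 𝔫)⟩
  refine ⟨Finset.univ.image (fun 𝔫 => (𝔫, M * (N + k))), ?_⟩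
  intro a ha
  have ha' : ∀ 𝔫 : MaximalSpectrum A', algebraMap O (Localization.AtPrime 𝔫.asIdeal) a ∈
      maximalIdeal (Localization.AtPrime 𝔫.asIdeal) ^ (M * (N + k)) := by
    intro 𝔫
    rw [Ideal.mem_iInf] at ha
    have h1 := ha (𝔫, M * (N + k))
    rw [Ideal.mem_iInf] at h1
    exact h1 (Finset.mem_image.mpr ⟨𝔫, Finset.mem_univ _, rfl⟩)
  have hb : algebraMap O A' a ∈ ((maximalIdeal O).map (algebraMap O A')) ^ (N + k) := by
    apply Ideal.mem_of_localization_maximal
    intro P hP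
    have h1 := ha' ⟨P, hP⟩
    rw [← IsScalarTower.algebraMap_apply O A' (Localization.AtPrime P), Ideal.map_pow,
      Ideal.map_map, ← IsScalarTower.algebraMap_eq O A' (Localization.AtPrime P)]
    have h2 : maximalIdeal (Localization.AtPrime P) ^ (M * (N + k)) ≤
        (maximalIdeal O).map (algebraMap O (Localization.AtPrime P)) ^ (N + k) := by
      rw [pow_mul]
      refine Ideal.pow_right_mono ?_ _
      exact (Ideal.pow_le_pow_right (hM ⟨P, hP⟩)).trans (hm ⟨P, hP⟩)
    exact h2 h1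
  have := hk (N + k) (Nat.le_add_left _ _) a hb
  rwa [Nat.add_sub_cancel] at this

end Groth.Agent.Lib.Helper4.SepFlatQ
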