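import Mathlib
import Groth.Prelude.Def_FlatMod2
import Groth.Agent.Lib.Helper4.SepFlatN
import Groth.Agent.Lib.Helper4.SepFlatP
import Groth.Agent.Lib.Helper4.SepFlatQ

/-!
# flatness descent along a finite injective extension of the local ring of the base (EGA IV 11.5.x) (helper4) (helper4)
-/

set_option backward.isDefEq.respectTransparency.types false
set_option synthInstance.maxHeartbeats 400000
set_option autoImplicit false
set_option linter.unusedSectionVars false
set_option linter.style.haveILetI false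
set_option linter.unusedSimpArgs false
universe u v w
open CategoryTheory CategoryTheory.Limits AlgebraicGeometry TopologicalSpace Topology

namespace Groth.Agent.Lib.Helper4.SepFlatR

open TensorProduct IsLocalRing Groth.Agent.Lib.Helper4

theorem adic_main' {X Y : Scheme.{u}} [IsLocallyNoetherian Y]
    (f : X ⟶ Y) [LocallyOfFiniteType f] (F : X.Modules) (hF : Coh.IsCoh F) (x : X)
    {ι : Type u} (A : ι → Type u) [∀ i, CommRing (A i)] [∀ i, IsLocalRing (A i)]
    (φ : ∀ i, (Y.presheaf.stalk (f x) : Type u) →+* A i) [∀ i, IsLocalHom (φ i)]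
    (htop : ∀ N : ℕ, ∃ s : Finset (ι × ℕ),
      ⨅ p ∈ s, Ideal.comap (φ p.1) (IsLocalRing.maximalIdeal (A p.1) ^ p.2) ≤
        IsLocalRing.maximalIdeal ↑(Y.presheaf.stalk (f x)) ^ N)
    (gg : ∀ i, Spec (CommRingCat.of (A i)) ⟶ Y)
    (hgg : ∀ i, gg i = Spec.map (CommRingCat.ofHom (φ i)) ≫ Y.fromSpecStalk (f x))
    (hyp : ∀ (i : ι) (x' : ↥(pullback f (gg i))), pullback.fst f (gg i) x' = x →
      pullback.snd f (gg i) x' = IsLocalRing.closedPoint (A i) →
      FlatMod.IsFlatOverAt (pullback.snd f (gg i))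
        ((Scheme.Modules.pullback (pullback.fst f (gg i))).obj F) x') :
    FlatMod.IsFlatOverAt f F x := by
  obtain rfl : gg = fun i => Spec.map (CommRingCat.ofHom (φ i)) ≫ Y.fromSpecStalk (f x) :=
    funext hgg
  exact SepFlatN.main f F hF x A φ htop hyp

set_option maxHeartbeats 1600000 in
theorem main {X Y : Scheme.{u}} [IsLocallyNoetherian Y]
    (f : X ⟶ Y) [LocallyOfFiniteType f] (F : X.Modules) (hF : Coh.IsCoh F) (x : X)
    (A' : CommRingCat.{u}) (φ : Y.presheaf.stalk (f.base x) ⟶ A') (hfin : φ.hom.Finite)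
    (hinj : Function.Injective φ.hom) :
    FlatMod.IsFlatOverAt f F x ↔
      ∀ x' : ↥(pullback f (Spec.map φ ≫ Y.fromSpecStalk (f.base x))),
        pullback.fst f (Spec.map φ ≫ Y.fromSpecStalk (f.base x)) x' = x →
        IsClosed ({pullback.snd f (Spec.map φ ≫ Y.fromSpecStalk (f.base x)) x'} :
          Set ↥(Spec A')) →
          FlatMod.IsFlatOverAt (pullback.snd f (Spec.map φ ≫ Y.fromSpecStalk (f.base x)))
            ((Scheme.Modules.pullback
              (pullback.fst f (Spec.map φ ≫ Y.fromSpecStalk (f.base x)))).obj F) x' := by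
  haveI : F.IsQuasicoherent := hF.1
  constructor
  · intro h x' hx' _
    exact Groth.Agent.Lead.FB.flat_baseChange (IsPullback.of_hasPullback f _) F x' (hx'.symm ▸ h)
  · intro h
    letI algOA : Algebra (Y.presheaf.stalk (f.base x)) A' := φ.hom.toAlgebra
    haveI : Module.Finite (Y.presheaf.stalk (f.base x)) A' := hfin
    refine adic_main' f F hF x (ι := MaximalSpectrum A')
      (fun 𝔫 => Localization.AtPrime 𝔫.asIdeal)
      (fun 𝔫 => algebraMap (Y.presheaf.stalk (f.base x)) (Localization.AtPrime 𝔫.asIdeal))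
      (SepFlatQ.htop_finite hinj)
      (fun 𝔫 => Spec.map (CommRingCat.ofHom (algebraMap A' (Localization.AtPrime 𝔫.asIdeal))) ≫
        (Spec.map φ ≫ Y.fromSpecStalk (f.base x))) ?_ ?_
    · intro 𝔫
      rw [← Category.assoc, ← Spec.map_comp]
      congr 2
    · intro 𝔫 x'' hx1 hx2
      apply SepFlatP.flat_comp_baseChange f (Spec.map φ ≫ Y.fromSpecStalk (f.base x))
        (Spec.map (CommRingCat.ofHom (algebraMap A' (Localization.AtPrime 𝔫.asIdeal)))) F x''
      apply h
      · rw [← Scheme.Hom.comp_apply, pullback.lift_fst]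
        exact hx1
      · rw [← Scheme.Hom.comp_apply, pullback.lift_snd, Scheme.Hom.comp_apply, hx2]
        have : (Spec.map (CommRingCat.ofHom (algebraMap A' (Localization.AtPrime 𝔫.asIdeal))))
            (closedPoint (Localization.AtPrime 𝔫.asIdeal)) = ⟨𝔫.asIdeal, inferInstance⟩ := by
          apply PrimeSpectrum.ext
          exact IsLocalization.AtPrime.comap_maximalIdeal (Localization.AtPrime 𝔫.asIdeal)
            𝔫.asIdeal
        rw [this]
        exact (PrimeSpectrum.isClosed_singleton_iff_isMaximal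
          (⟨𝔫.asIdeal, inferInstance⟩ : PrimeSpectrum A')).mpr 𝔫.isMaximal

end Groth.Agent.Lib.Helper4.SepFlatR
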