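import Mathlib
import Groth.Agent.Lib.Helper4.BaseChgMax1

/-!
# tensor products of fields with irreducible spectrum: non-nilpotent elements are non-zero-divisors (helper4) (helper4)
-/

set_option backward.isDefEq.respectTransparency.types false
set_option synthInstance.maxHeartbeats 400000
set_option autoImplicit false
set_option linter.unusedSectionVars false
set_option linter.style.haveILetI false
set_option linter.unusedSimpArgs false
universe u v w
open CategoryTheory CategoryTheory.Limits AlgebraicGeometry TopologicalSpace Topology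

namespace Groth.Agent.Lib.Helper4.SepPrimA

open TensorProduct IsLocalRing Groth.Agent.Lib.Helper4.BaseChgMax1

variable {k K L : Type u} [Field k] [Field K] [Field L] [Algebra k K] [Algebra k L]
  {ι : Type u} (t : ι → K)

theorem evalTensor_C (l : L) : evalTensor (k := k) t (MvPolynomial.C l) = (1 : K) ⊗ₜ[k] l := by
  simp [evalTensor]

theorem evalTensor_map (c : MvPolynomial ι k) :
    evalTensor (k := k) (L := L) t (MvPolynomial.map (algebraMap k L) c) =
      (MvPolynomial.aeval t c) ⊗ₜ[k] (1 : L) := by
  induction c using MvPolynomial.induction_on with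
  | C a =>
    rw [MvPolynomial.map_C, evalTensor_C, MvPolynomial.aeval_C, Algebra.algebraMap_eq_smul_one,
      Algebra.algebraMap_eq_smul_one, TensorProduct.smul_tmul]
  | add p q hp hq => rw [map_add, map_add, hp, hq, map_add, TensorProduct.add_tmul]
  | mul_X p i hp =>
    rw [map_mul, map_mul, hp, MvPolynomial.map_X, map_mul, MvPolynomial.aeval_X]
    simp [evalTensor, Algebra.TensorProduct.tmul_mul_tmul]

/-- elements of `K` are algebraic over the polynomial ring on a transcendence basis -/
theorem exists_integral_multiple_of_isTranscendenceBasis (ht : IsTranscendenceBasis k t) (x : K) :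
    ∃ c : MvPolynomial ι k, c ≠ 0 ∧
      (MvPolynomial.aeval t : MvPolynomial ι k →ₐ[k] K).toRingHom.IsIntegralElem
        (MvPolynomial.aeval t c * x) := by
  letI algS : Algebra (MvPolynomial ι k) K :=
    (MvPolynomial.aeval t : MvPolynomial ι k →ₐ[k] K).toRingHom.toAlgebra
  have hinj : Function.Injective (algebraMap (MvPolynomial ι k) K) :=
    algebraicIndependent_iff_injective_aeval.mp ht.1
  have halg : IsAlgebraic (MvPolynomial ι k) x := by
    have h1 := ht.isAlgebraic.isAlgebraic x
    refine IsAlgebraic.of_ringHom_of_comp_eq (f := (ht.1.aevalEquiv : MvPolynomial ι k →+* _))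
      (g := RingHom.id K) h1 ht.1.aevalEquiv.surjective Function.injective_id ?_
    ext p
    · simp [algS, RingHom.algebraMap_toAlgebra]
    · simp [algS, RingHom.algebraMap_toAlgebra]
  obtain ⟨c, hc0, hc⟩ := halg.exists_integral_multiple
  refine ⟨c, hc0, ?_⟩
  rw [Algebra.smul_def] at hc
  exact hc

theorem exists_integral_multiple_tensor (ht : IsTranscendenceBasis k t) (r : K ⊗[k] L) :
    ∃ c : MvPolynomial ι L, c ≠ 0 ∧
      (evalTensor (k := k) (L := L) t).IsIntegralElem (evalTensor (k := k) t c * r) := by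
  induction r using TensorProduct.induction_on with
  | zero => exact ⟨1, one_ne_zero, by rw [mul_zero]; exact RingHom.isIntegralElem_zero _⟩
  | tmul x l =>
    obtain ⟨c₀, hc₀, hint⟩ := exists_integral_multiple_of_isTranscendenceBasis t ht x
    refine ⟨MvPolynomial.map (algebraMap k L) c₀, ?_, ?_⟩
    · intro h
      apply hc₀
      apply MvPolynomial.map_injective (algebraMap k L) (algebraMap k L).injective
      rw [h, map_zero]
    · rw [evalTensor_map, Algebra.TensorProduct.tmul_mul_tmul, one_mul]
      have e : (MvPolynomial.aeval t c₀ * x) ⊗ₜ[k] l =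
          ((MvPolynomial.aeval t c₀ * x) ⊗ₜ[k] (1 : L)) * evalTensor (k := k) t (MvPolynomial.C l) := by
        rw [evalTensor_C, Algebra.TensorProduct.tmul_mul_tmul, mul_one, one_mul]
      rw [e]
      refine RingHom.IsIntegralElem.mul _ ?_ (RingHom.isIntegralElem_map _)
      letI a1 : Algebra (MvPolynomial ι k) K :=
        (MvPolynomial.aeval t : MvPolynomial ι k →ₐ[k] K).toRingHom.toAlgebra
      letI a2 : Algebra (MvPolynomial ι L) (K ⊗[k] L) := (evalTensor (k := k) (L := L) t).toAlgebra
      have hint' : IsIntegral (MvPolynomial ι k) (MvPolynomial.aeval t c₀ * x) := hint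
      have := IsIntegral.map_of_comp_eq (MvPolynomial.map (algebraMap k L))
        (Algebra.TensorProduct.includeLeft (R := k) (S := k) (A := K) (B := L)).toRingHom
        (by
          ext c
          · simp [a1, a2, RingHom.algebraMap_toAlgebra, evalTensor]
          · simp [a1, a2, RingHom.algebraMap_toAlgebra, evalTensor]) hint'
      exact this
  | add r₁ r₂ h₁ h₂ =>
    obtain ⟨c₁, hc₁, hi₁⟩ := h₁
    obtain ⟨c₂, hc₂, hi₂⟩ := h₂
    refine ⟨c₁ * c₂, mul_ne_zero hc₁ hc₂, ?_⟩
    have e : evalTensor (k := k) t (c₁ * c₂) * (r₁ + r₂) =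
        evalTensor (k := k) t c₂ * (evalTensor (k := k) t c₁ * r₁) +
        evalTensor (k := k) t c₁ * (evalTensor (k := k) t c₂ * r₂) := by
      rw [map_mul]; ring
    rw [e]
    exact RingHom.IsIntegralElem.add _
      (RingHom.IsIntegralElem.mul _ (RingHom.isIntegralElem_map _) hi₁)
      (RingHom.IsIntegralElem.mul _ (RingHom.isIntegralElem_map _) hi₂)

/-- **Key field-theoretic input**: if `Spec (K ⊗_k L)` is irreducible (e.g. `L/k` primary), every
non-nilpotent element of `K ⊗_k L` is a non-zero-divisor. -/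
theorem mem_nonZeroDivisors_of_not_isNilpotent [IrreducibleSpace (PrimeSpectrum (K ⊗[k] L))]
    (r : K ⊗[k] L) (hr : ¬ IsNilpotent r) : r ∈ nonZeroDivisors (K ⊗[k] L) := by
  classical
  obtain ⟨ι, t, ht⟩ := exists_isTranscendenceBasis'.{u} k K
  have hNprime : (nilradical (K ⊗[k] L)).IsPrime :=
    PrimeSpectrum.irreducibleSpace_iff_isPrime_nilradical.mp inferInstance
  haveI : Nontrivial (K ⊗[k] L) := hNprime.ne_top |> fun h => by
    by_contra hnt
    rw [not_nontrivial_iff_subsingleton] at hnt
    exact h (Subsingleton.elim _ _)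
  have hNZD : ∀ F : MvPolynomial ι L, F ≠ 0 →
      evalTensor (k := k) t F ∈ nonZeroDivisors (K ⊗[k] L) :=
    fun F hF => evalTensor_mem_nonZeroDivisors t ht.1 F hF
  -- the multiplicative set
  let S : Submonoid (K ⊗[k] L) :=
    (nonZeroDivisors (MvPolynomial ι L)).map (evalTensor (k := k) (L := L) t)
  have hS : ∀ y ∈ S, y ∈ nonZeroDivisors (K ⊗[k] L) := by
    rintro _ ⟨F, hF, rfl⟩
    exact hNZD F (nonZeroDivisors.ne_zero hF)
  by_cases hdis : Disjoint ((Ideal.span {r} : Ideal (K ⊗[k] L)) : Set (K ⊗[k] L)) S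
  · exfalso
    obtain ⟨𝔭, h𝔭, hle, hdisj⟩ := Ideal.exists_le_prime_disjoint _ S hdis
    have hr𝔭 : r ∈ 𝔭 := hle (Ideal.mem_span_singleton_self r)
    have hrN : r ∉ nilradical (K ⊗[k] L) := fun h => hr ((mem_nilradical).mp h)
    obtain ⟨c, hc0, hint⟩ := exists_integral_multiple_tensor (L := L) t ht r
    have hcS : evalTensor (k := k) t c ∈ S :=
      ⟨c, mem_nonZeroDivisors_of_ne_zero hc0, rfl⟩
    have hcN : evalTensor (k := k) t c ∉ nilradical (K ⊗[k] L) := by
      intro h
      have h1 : IsNilpotent (evalTensor (k := k) t c) := mem_nilradical.mp h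
      obtain ⟨n, hn⟩ := h1
      have h2 := pow_mem (hNZD c hc0) n
      rw [hn] at h2
      exact zero_notMem_nonZeroDivisors h2
    letI a2 : Algebra (MvPolynomial ι L) (K ⊗[k] L) := (evalTensor (k := k) (L := L) t).toAlgebra
    have hint' : IsIntegral (MvPolynomial ι L) (evalTensor (k := k) t c * r) := hint
    have hlt := Ideal.comap_lt_comap_of_integral_mem_sdiff (R := MvPolynomial ι L)
      (I := nilradical (K ⊗[k] L)) (J := 𝔭) (nilradical_le_prime 𝔭)
      (x := evalTensor (k := k) t c * r)
      ⟨Ideal.mul_mem_left _ _ hr𝔭, fun h =>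
        (hNprime.mem_or_mem h).elim hcN hrN⟩ hint'
    have hbot : 𝔭.comap (algebraMap (MvPolynomial ι L) (K ⊗[k] L)) = ⊥ := by
      rw [eq_bot_iff]
      intro F hF
      rw [Ideal.mem_bot]
      by_contra hF0
      have h1 : evalTensor (k := k) t F ∈ S := ⟨F, mem_nonZeroDivisors_of_ne_zero hF0, rfl⟩
      exact Set.disjoint_left.mp hdisj hF h1
    rw [hbot] at hlt
    exact not_lt_bot hlt
  · rw [Set.not_disjoint_iff] at hdis
    obtain ⟨y, hy1, hy2⟩ := hdis
    obtain ⟨z, rfl⟩ := Ideal.mem_span_singleton'.mp hy1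
    have := hS _ hy2
    exact (mul_mem_nonZeroDivisors.mp this).2

end Groth.Agent.Lib.Helper4.SepPrimA
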