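import Mathlib

/-!
# devissage: non-zero-divisors on (B tensor_A T) tensor_B L for modules killed by a power of the maximal ideal (helper4) (helper4)
-/

set_option backward.isDefEq.respectTransparency.types false
set_option synthInstance.maxHeartbeats 400000
set_option autoImplicit false
set_option linter.unusedSectionVars false
set_option linter.style.haveILetI false
set_option linter.unusedSimpArgs false
universe u v w
open CategoryTheory CategoryTheory.Limits AlgebraicGeometry TopologicalSpace Topology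

namespace Groth.Agent.Lib.Helper4.SepPrimB

open TensorProduct IsLocalRing

/-- an injective linear map between modules killed by a maximal ideal has a linear retraction -/
theorem exists_leftInverse_of_torsion {A L₁ L : Type*} [CommRing A] (𝔪 : Ideal A) [𝔪.IsMaximal]
    [AddCommGroup L₁] [AddCommGroup L] [Module A L₁] [Module A L]
    (h₁ : ∀ a ∈ 𝔪, ∀ l : L₁, a • l = 0) (h : ∀ a ∈ 𝔪, ∀ l : L, a • l = 0)
    (ι : L₁ →ₗ[A] L) (hι : Function.Injective ι) : ∃ g : L →ₗ[A] L₁, g ∘ₗ ι = LinearMap.id := by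
  have t₁ : Module.IsTorsionBySet A L₁ 𝔪 := fun l a => h₁ a.1 a.2 l
  have t : Module.IsTorsionBySet A L 𝔪 := fun l a => h a.1 a.2 l
  letI : Field (A ⧸ 𝔪) := Ideal.Quotient.field 𝔪
  letI m₁ : Module (A ⧸ 𝔪) L₁ := t₁.module
  letI m : Module (A ⧸ 𝔪) L := t.module
  haveI : IsScalarTower A (A ⧸ 𝔪) L₁ := t₁.isScalarTower
  haveI : IsScalarTower A (A ⧸ 𝔪) L := t.isScalarTower
  let ι' : L₁ →ₗ[A ⧸ 𝔪] L := ι.extendScalarsOfSurjective Ideal.Quotient.mk_surjective
  have hι' : LinearMap.ker ι' = ⊥ := LinearMap.ker_eq_bot.mpr hι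
  obtain ⟨g, hg⟩ := LinearMap.exists_leftInverse_of_injective ι' hι'
  refine ⟨g.restrictScalars A, ?_⟩
  ext l
  exact LinearMap.congr_fun hg l

section FL

variable {A B T : Type u} [CommRing A] [CommRing B] [CommRing T] [Algebra A B] [Algebra A T]
  {L₁ L : Type u} [AddCommGroup L₁] [AddCommGroup L] [Module A L₁] [Module A L]
  [Module B L₁] [Module B L] [IsScalarTower A B L₁] [IsScalarTower A B L]

variable (A B T L) in
/-- `(B ⊗_A T) ⊗_B L ≃ L ⊗_A T` -/
noncomputable def theta : (B ⊗[A] T) ⊗[B] L ≃ₗ[B] L ⊗[A] T :=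
  (TensorProduct.comm B (B ⊗[A] T) L).trans
    (TensorProduct.AlgebraTensorModule.cancelBaseChange A B B L T)

theorem theta_tmul (b : B) (τ : T) (l : L) :
    theta A B T L ((b ⊗ₜ[A] τ) ⊗ₜ[B] l) = (b • l) ⊗ₜ[A] τ := by
  simp [theta]

theorem theta_lTensor (ι : L₁ →ₗ[B] L) (z : (B ⊗[A] T) ⊗[B] L₁) :
    theta A B T L (LinearMap.lTensor (B ⊗[A] T) ι z) =
      LinearMap.rTensor T (ι.restrictScalars A) (theta A B T L₁ z) := by
  induction z using TensorProduct.induction_on with
  | zero => simp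
  | add x y hx hy => rw [map_add, map_add, hx, hy, map_add, map_add]
  | tmul c l =>
    induction c using TensorProduct.induction_on with
    | zero => simp
    | add x y hx hy => rw [TensorProduct.add_tmul, map_add, map_add, hx, hy, map_add, map_add]
    | tmul b τ =>
      rw [LinearMap.lTensor_tmul, theta_tmul, theta_tmul, LinearMap.rTensor_tmul]
      simp

/-- base change to `B ⊗_A T` preserves injections between modules killed by a maximal ideal
of `A` -/
theorem lTensor_injective_of_torsion (𝔪 : Ideal A) [𝔪.IsMaximal]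
    (h₁ : ∀ a ∈ 𝔪, ∀ l : L₁, a • l = 0) (h : ∀ a ∈ 𝔪, ∀ l : L, a • l = 0)
    (ι : L₁ →ₗ[B] L) (hι : Function.Injective ι) :
    Function.Injective (LinearMap.lTensor (B ⊗[A] T) ι) := by
  obtain ⟨g, hg⟩ := exists_leftInverse_of_torsion 𝔪 h₁ h (ι.restrictScalars A) hι
  have hinj : Function.Injective (LinearMap.rTensor T (ι.restrictScalars A)) := by
    apply Function.LeftInverse.injective (g := LinearMap.rTensor T g)
    intro z
    rw [← LinearMap.comp_apply, ← LinearMap.rTensor_comp, hg, LinearMap.rTensor_id,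
      LinearMap.id_apply]
  intro z z' hzz'
  have h2 := congrArg (theta A B T L) hzz'
  rw [theta_lTensor, theta_lTensor] at h2
  exact (theta A B T L₁).injective (hinj h2)

end FL

section P2a

variable {B C' : Type u} [CommRing B] [CommRing C'] [Algebra B C']
  {L : Type u} [AddCommGroup L] [Module B L]

theorem smul_eq_rTensor_mulLeft (t : C') (w : C' ⊗[B] L) :
    t • w = LinearMap.rTensor L (LinearMap.mulLeft B t) w := by
  induction w using TensorProduct.induction_on with
  | zero => simp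
  | add x y hx hy => rw [smul_add, hx, hy, map_add]
  | tmul c l => rw [TensorProduct.smul_tmul', LinearMap.rTensor_tmul]; rfl

/-- if `t` is a non-zero-divisor modulo `𝔫C'`, it is a non-zero-divisor on `C' ⊗_B L` for every
`B`-module `L` killed by the maximal ideal `𝔫` -/
theorem eq_zero_of_smul_eq_zero_of_torsion (𝔫 : Ideal B) [𝔫.IsMaximal]
    (hL : ∀ β ∈ 𝔫, ∀ l : L, β • l = 0) (t : C')
    (ht : Ideal.Quotient.mk (𝔫.map (algebraMap B C')) t ∈
      nonZeroDivisors (C' ⧸ 𝔫.map (algebraMap B C')))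
    (w : C' ⊗[B] L) (hw : t • w = 0) : w = 0 := by
  obtain ⟨J, hJ⟩ : ∃ J : Ideal C', J = 𝔫.map (algebraMap B C') := ⟨_, rfl⟩
  rw [← hJ] at ht
  let π : C' →ₗ[B] C' ⧸ J := (Ideal.Quotient.mkₐ B J).toLinearMap
  have hπ : ∀ c, π c = Ideal.Quotient.mk J c := fun _ => rfl
  let μ : (C' ⧸ J) →ₗ[B] (C' ⧸ J) := LinearMap.mulLeft B (Ideal.Quotient.mk J t)
  have hμinj : Function.Injective μ := by
    intro a b hab
    have h1 : Ideal.Quotient.mk J t * (a - b) = 0 := by
      rw [mul_sub]; exact sub_eq_zero.mpr hab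
    have h2 := (mem_nonZeroDivisors_iff_right.mp ht) (a - b) (by rw [mul_comm]; exact h1)
    exact sub_eq_zero.mp h2
  have hkill : ∀ β ∈ 𝔫, ∀ c : C' ⧸ J, β • c = 0 := by
    intro β hβ c
    obtain ⟨c, rfl⟩ := Ideal.Quotient.mk_surjective c
    have e : β • (Ideal.Quotient.mk J c) = Ideal.Quotient.mk J (algebraMap B C' β * c) := by
      rw [map_mul, Algebra.smul_def]; rfl
    rw [e, Ideal.Quotient.eq_zero_iff_mem, hJ]
    exact Ideal.mul_mem_right _ _ (Ideal.mem_map_of_mem _ hβ)
  obtain ⟨g, hg⟩ := exists_leftInverse_of_torsion 𝔫 hkill hkill μ hμinj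
  -- the image of `w` in `(C' ⧸ J) ⊗ L` vanishes
  have h1 : LinearMap.rTensor L π w = 0 := by
    have h2 : LinearMap.rTensor L μ (LinearMap.rTensor L π w) = 0 := by
      rw [← LinearMap.comp_apply, ← LinearMap.rTensor_comp]
      have : μ ∘ₗ π = π ∘ₗ LinearMap.mulLeft B t := by
        ext c
        simp only [LinearMap.comp_apply, μ, LinearMap.mulLeft_apply, hπ, map_mul]
      rw [this, LinearMap.rTensor_comp, LinearMap.comp_apply, ← smul_eq_rTensor_mulLeft, hw,
        map_zero]
    have h3 := congrArg (LinearMap.rTensor L g) h2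
    rwa [← LinearMap.comp_apply, ← LinearMap.rTensor_comp, hg, LinearMap.rTensor_id,
      LinearMap.id_apply, map_zero] at h3
  -- exactness
  have hex : Function.Exact ((J.restrictScalars B).subtype) π := by
    intro c
    rw [hπ, Ideal.Quotient.eq_zero_iff_mem]
    constructor
    · intro hc; exact ⟨⟨c, hc⟩, rfl⟩
    · rintro ⟨⟨c', hc'⟩, rfl⟩; exact hc'
  have hex2 := rTensor_exact L hex Ideal.Quotient.mk_surjective
  obtain ⟨z, rfl⟩ := (hex2 w).mp h1
  -- the image of `J ⊗ L` vanishes
  have hzero : ∀ z : (J.restrictScalars B) ⊗[B] L,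
      LinearMap.rTensor L (J.restrictScalars B).subtype z = 0 := by
    intro z
    induction z using TensorProduct.induction_on with
    | zero => simp
    | add x y hx hy => rw [map_add, hx, hy, add_zero]
    | tmul j l =>
      rw [LinearMap.rTensor_tmul]
      obtain ⟨j, hj⟩ := j
      change (j : C') ⊗ₜ[B] l = 0
      have hj' : j ∈ 𝔫 • (⊤ : Submodule B C') := by
        rw [Ideal.smul_top_eq_map, ← hJ]; exact hj
      refine Submodule.smul_induction_on hj' ?_ ?_
      · intro β hβ c _
        rw [TensorProduct.smul_tmul, hL β hβ l, TensorProduct.tmul_zero]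
      · intro x y hx hy
        rw [TensorProduct.add_tmul, hx, hy, add_zero]
  exact hzero z

end P2a

section P2

theorem smul_lTensor {B C' L L' : Type*} [CommRing B] [CommRing C'] [Algebra B C']
    [AddCommGroup L] [Module B L] [AddCommGroup L'] [Module B L'] (f : L →ₗ[B] L') (t : C')
    (w : C' ⊗[B] L) : t • LinearMap.lTensor C' f w = LinearMap.lTensor C' f (t • w) := by
  induction w using TensorProduct.induction_on with
  | zero => simp
  | add x y hx hy => rw [map_add, smul_add, hx, hy, smul_add, map_add]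
  | tmul c l =>
    rw [LinearMap.lTensor_tmul, TensorProduct.smul_tmul', TensorProduct.smul_tmul',
      LinearMap.lTensor_tmul]

variable {A B T : Type u} [CommRing A] [CommRing B] [CommRing T] [Algebra A B] [Algebra A T]

set_option maxHeartbeats 800000 in
/-- **dévissage**: if `t ∈ B ⊗_A T` is a non-zero-divisor modulo `𝔫`, it is a
non-zero-divisor on `(B ⊗_A T) ⊗_B L` for every `B`-module `L` killed by `𝔪` and a power of
`𝔫`. -/
theorem eq_zero_of_smul_eq_zero (𝔪 : Ideal A) [𝔪.IsMaximal] (𝔫 : Ideal B) [𝔫.IsMaximal]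
    (t : B ⊗[A] T)
    (ht : Ideal.Quotient.mk (𝔫.map (algebraMap B (B ⊗[A] T))) t ∈
      nonZeroDivisors ((B ⊗[A] T) ⧸ 𝔫.map (algebraMap B (B ⊗[A] T)))) :
    ∀ (N : ℕ) (L : Type u) [AddCommGroup L] [Module A L] [Module B L] [IsScalarTower A B L],
      (∀ a ∈ 𝔪, ∀ l : L, a • l = 0) → (∀ β ∈ 𝔫 ^ N, ∀ l : L, β • l = 0) →
      ∀ w : (B ⊗[A] T) ⊗[B] L, t • w = 0 → w = 0 := by
  intro N
  induction N with
  | zero =>
    intro L _ _ _ _ _ hB w _
    have hL : ∀ l : L, l = 0 := fun l => by
      have h1 : (1 : B) ∈ 𝔫 ^ 0 := by simp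
      have := hB 1 h1 l
      rwa [one_smul] at this
    have hw0 : ∀ w : (B ⊗[A] T) ⊗[B] L, w = 0 := by
      intro w
      induction w using TensorProduct.induction_on with
      | zero => rfl
      | add x y hx hy => rw [hx, hy, add_zero]
      | tmul c l => rw [hL l, TensorProduct.tmul_zero]
    exact hw0 w
  | succ N ih =>
    intro L _ _ _ _ hA hB w hw
    obtain ⟨L₁, hL₁⟩ : ∃ L₁ : Submodule B L, L₁ = (𝔫 ^ N) • (⊤ : Submodule B L) := ⟨_, rfl⟩
    have hex := lTensor_exact (B ⊗[A] T) (LinearMap.exact_subtype_mkQ L₁)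
      (Submodule.mkQ_surjective L₁)
    -- the image in the quotient
    have h2 : LinearMap.lTensor (B ⊗[A] T) L₁.mkQ w = 0 := by
      apply ih (L ⧸ L₁)
      · intro a ha l
        obtain ⟨l, rfl⟩ := Submodule.Quotient.mk_surjective L₁ l
        rw [← Submodule.Quotient.mk_smul, hA a ha l, Submodule.Quotient.mk_zero]
      · intro β hβ l
        obtain ⟨l, rfl⟩ := Submodule.Quotient.mk_surjective L₁ l
        rw [← Submodule.Quotient.mk_smul, Submodule.Quotient.mk_eq_zero, hL₁]
        exact Submodule.smul_mem_smul hβ Submodule.mem_top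
      · rw [smul_lTensor, hw, map_zero]
    obtain ⟨w₁, rfl⟩ := (hex w).mp h2
    have hA₁ : ∀ a ∈ 𝔪, ∀ l : L₁, a • l = 0 := by
      intro a ha l
      apply Subtype.ext
      rw [Submodule.coe_smul_of_tower, hA a ha l.1]
      rfl
    have hinj := lTensor_injective_of_torsion (T := T) 𝔪 hA₁ hA L₁.subtype
      (Submodule.injective_subtype L₁)
    have h3 : t • w₁ = 0 := by
      apply hinj
      rw [← smul_lTensor, hw, map_zero]
    have hL₁kill : ∀ β ∈ 𝔫, ∀ l : L₁, β • l = 0 := by
      intro β hβ l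
      apply Subtype.ext
      rw [Submodule.coe_smul]
      have hl : (l : L) ∈ (𝔫 ^ N) • (⊤ : Submodule B L) := hL₁ ▸ l.2
      show β • (l : L) = 0
      refine Submodule.smul_induction_on hl ?_ ?_
      · intro γ hγ y _
        rw [← mul_smul]
        apply hB
        rw [pow_succ, mul_comm β γ]
        exact Ideal.mul_mem_mul hγ hβ
      · intro x y hx hy
        rw [smul_add, hx, hy, add_zero]
    have h4 := eq_zero_of_smul_eq_zero_of_torsion 𝔫 hL₁kill t ht w₁ h3
    rw [h4, map_zero]

end P2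

end Groth.Agent.Lib.Helper4.SepPrimB
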