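import Mathlib
import Groth.Agent.Lib.Helper4.SepPrimA
import Groth.Agent.Lib.Helper4.SepPrimB

/-!
# primary residue extensions: multiplication outside a prime above both maximal ideals reflects membership in m'W + n^N W (helper4) (helper4)
-/

set_option backward.isDefEq.respectTransparency.types false
set_option synthInstance.maxHeartbeats 400000
set_option autoImplicit false
set_option linter.unusedSectionVars false
set_option linter.style.haveILetI false
set_option linter.unusedSimpArgs false
universe u v w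
open CategoryTheory CategoryTheory.Limits AlgebraicGeometry TopologicalSpace Topology

namespace Groth.Agent.Lib.Helper4.SepPrimC

open TensorProduct IsLocalRing Groth.Agent.Lib.Helper4

variable {A B A' : Type u} [CommRing A] [CommRing B] [CommRing A'] [IsLocalRing A]
  [IsLocalRing B] [IsLocalRing A'] [Algebra A B] [Algebra A A']
  [IsLocalHom (algebraMap A B)] [IsLocalHom (algebraMap A A')]

instance compatibleSMul_residue (K k' : Type*) [AddCommGroup K] [AddCommGroup k'] [Module A K]
    [Module A k'] [Module (ResidueField A) K] [Module (ResidueField A) k']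
    [IsScalarTower A (ResidueField A) K] [IsScalarTower A (ResidueField A) k'] :
    TensorProduct.CompatibleSMul A (ResidueField A) K k' where
  smul_tmul c m n := by
    obtain ⟨a, rfl⟩ := residue_surjective c
    have h1 : residue A a • m = a • m := by
      rw [← ResidueField.algebraMap_eq, algebraMap_smul]
    have h2 : residue A a • n = a • n := by
      rw [← ResidueField.algebraMap_eq, algebraMap_smul]
    rw [h1, h2, TensorProduct.smul_tmul]

variable (A B A') in
/-- the ring `(B ⊗_A κ(A')) / 𝔪_B` is the tensor product of the residue fields -/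
noncomputable def quotEquiv :
    ((B ⊗[A] ResidueField A') ⧸
      (maximalIdeal B).map (algebraMap B (B ⊗[A] ResidueField A'))) ≃+*
      (ResidueField A') ⊗[ResidueField A] (ResidueField B) :=
  ((Algebra.TensorProduct.quotientTensorEquiv (R := A) A (ResidueField A') B
    (maximalIdeal B)).symm.toRingEquiv.trans
    (Algebra.TensorProduct.equivOfCompatibleSMul (ResidueField A) A A (ResidueField B)
      (ResidueField A')).toRingEquiv).trans
    (Algebra.TensorProduct.comm (ResidueField A) (ResidueField B) (ResidueField A')).toRingEquiv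

theorem mem_nonZeroDivisors_of_ringEquiv {R S : Type*} [CommRing R] [CommRing S] (e : R ≃+* S)
    (x : R) (h : e x ∈ nonZeroDivisors S) : x ∈ nonZeroDivisors R := by
  rw [mem_nonZeroDivisors_iff_right] at h ⊢
  intro y hy
  have := h (e y) (by rw [← map_mul, hy, map_zero])
  exact (map_eq_zero_iff e e.injective).mp this

/-- in `(B ⊗_A κ(A')) / 𝔪_B`, non-nilpotent elements are non-zero-divisors as soon as the
spectrum of `κ(A') ⊗_{κ(A)} κ(B)` is irreducible -/
theorem mem_nonZeroDivisors_quot
    [IrreducibleSpace (PrimeSpectrum ((ResidueField A') ⊗[ResidueField A] (ResidueField B)))]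
    (x : (B ⊗[A] ResidueField A') ⧸
      (maximalIdeal B).map (algebraMap B (B ⊗[A] ResidueField A')))
    (hx : ¬ IsNilpotent x) : x ∈ nonZeroDivisors _ := by
  apply mem_nonZeroDivisors_of_ringEquiv (quotEquiv A B A')
  apply SepPrimA.mem_nonZeroDivisors_of_not_isNilpotent
  intro h
  apply hx
  have := h.map (quotEquiv A B A').symm
  rwa [RingEquiv.symm_apply_apply] at this

section Trans

variable (A B A') in
/-- the projection `B ⊗_A A' → B ⊗_A κ(A')` -/
noncomputable def piE : B ⊗[A] A' →ₐ[B] B ⊗[A] ResidueField A' :=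
  Algebra.TensorProduct.map (AlgHom.id B B) (IsScalarTower.toAlgHom A A' (ResidueField A'))

theorem piE_tmul (b : B) (a : A') : piE A B A' (b ⊗ₜ[A] a) = b ⊗ₜ[A] residue A' a := rfl

theorem piE_surjective : Function.Surjective (piE A B A') := by
  intro y
  induction y using TensorProduct.induction_on with
  | zero => exact ⟨0, map_zero _⟩
  | tmul b c =>
    obtain ⟨a, rfl⟩ := residue_surjective c
    exact ⟨b ⊗ₜ[A] a, rfl⟩
  | add x y hx hy =>
    obtain ⟨x', rfl⟩ := hx
    obtain ⟨y', rfl⟩ := hy
    exact ⟨x' + y', map_add _ _ _⟩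

theorem ker_piE : RingHom.ker (piE A B A') =
    (maximalIdeal A').map (Algebra.TensorProduct.includeRight : A' →ₐ[A] B ⊗[A] A') := by
  have h1 := Algebra.TensorProduct.lTensor_ker (R := A) (A := B)
    (IsScalarTower.toAlgHom A A' (ResidueField A')) residue_surjective
  have h2 : RingHom.ker (IsScalarTower.toAlgHom A A' (ResidueField A')) = maximalIdeal A' :=
    ker_residue
  rw [h2] at h1
  rw [← h1]
  ext x
  rfl

end Trans

section Main

variable {M : Type u} [AddCommGroup M] [Module A M] [Module B M] [IsScalarTower A B M]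

theorem map_includeLeft_le :
    ((maximalIdeal A).map (algebraMap A B)).map
      (Algebra.TensorProduct.includeLeft : B →ₐ[A] B ⊗[A] A') ≤
    (maximalIdeal A').map (Algebra.TensorProduct.includeRight : A' →ₐ[A] B ⊗[A] A') := by
  rw [Ideal.map_le_iff_le_comap, Ideal.map_le_iff_le_comap]
  intro a ha
  rw [Ideal.mem_comap, Ideal.mem_comap]
  have h1 : (Algebra.TensorProduct.includeLeft : B →ₐ[A] B ⊗[A] A') (algebraMap A B a) =
      (Algebra.TensorProduct.includeRight : A' →ₐ[A] B ⊗[A] A') (algebraMap A A' a) := by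
    rw [AlgHom.commutes, AlgHom.commutes]
  rw [h1]
  apply Ideal.mem_map_of_mem
  rw [mem_maximalIdeal, mem_nonunits_iff]
  intro h
  exact (mem_nonunits_iff.mp ((mem_maximalIdeal _).mp ha)) (isUnit_of_map_unit (algebraMap A A') a h)

/-- the map `(B ⊗_A A') ⊗_B M → (B ⊗_A κ(A')) ⊗_B (M / (𝔪M + 𝔫^N M))` -/
noncomputable def phi (P : Submodule B M) :
    (B ⊗[A] A') ⊗[B] M →ₗ[B] (B ⊗[A] ResidueField A') ⊗[B] (M ⧸ P) :=
  TensorProduct.map (piE A B A').toLinearMap P.mkQ

theorem phi_smul (P : Submodule B M) (e : B ⊗[A] A') (w : (B ⊗[A] A') ⊗[B] M) :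
    phi (A := A) (A' := A') P (e • w) = piE A B A' e • phi (A := A) (A' := A') P w := by
  induction w using TensorProduct.induction_on with
  | zero => simp
  | add x y hx hy => rw [smul_add, map_add, hx, hy, map_add, smul_add]
  | tmul e' m =>
    rw [TensorProduct.smul_tmul', phi, TensorProduct.map_tmul, TensorProduct.map_tmul,
      TensorProduct.smul_tmul', smul_eq_mul, smul_eq_mul]
    simp


/-- abbreviation: the submodule `𝔪'W + 𝔫^N W` -/
noncomputable def wN (A B A' M : Type u) [CommRing A] [CommRing B] [CommRing A'] [IsLocalRing B]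
    [IsLocalRing A'] [Algebra A B] [Algebra A A'] [AddCommGroup M] [Module A M] [Module B M]
    [IsScalarTower A B M] (N : ℕ) : Submodule (B ⊗[A] A') ((B ⊗[A] A') ⊗[B] M) :=
  ((maximalIdeal A').map (Algebra.TensorProduct.includeRight : A' →ₐ[A] B ⊗[A] A')) •
      (⊤ : Submodule (B ⊗[A] A') ((B ⊗[A] A') ⊗[B] M)) ⊔
    (((maximalIdeal B) ^ N).map (Algebra.TensorProduct.includeLeft : B →ₐ[A] B ⊗[A] A')) •
      (⊤ : Submodule (B ⊗[A] A') ((B ⊗[A] A') ⊗[B] M))

theorem incL_smul_mem_wN (N : ℕ) (β : B) (hβ : β ∈ maximalIdeal B ^ N)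
    (w : (B ⊗[A] A') ⊗[B] M) : β • w ∈ wN A B A' M N := by
  have : β • w = ((Algebra.TensorProduct.includeLeft : B →ₐ[A] B ⊗[A] A') β) • w := by
    rw [← algebraMap_smul (B ⊗[A] A') β w]; rfl
  rw [this]
  exact Submodule.mem_sup_right
    (Submodule.smul_mem_smul (Ideal.mem_map_of_mem _ hβ) Submodule.mem_top)

theorem ker_phi_le (N : ℕ) (P : Submodule B M)
    (hP : P = ((maximalIdeal A).map (algebraMap A B)) • (⊤ : Submodule B M) ⊔
      (maximalIdeal B ^ N) • (⊤ : Submodule B M))
    (w : (B ⊗[A] A') ⊗[B] M) (hw : phi (A := A) (A' := A') P w = 0) :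
    w ∈ wN A B A' M N := by
  have hker := TensorProduct.map_ker
    (LinearMap.exact_subtype_ker_map (piE A B A').toLinearMap) (piE_surjective (A := A))
    (LinearMap.exact_subtype_mkQ P) (Submodule.mkQ_surjective P)
  have hw' : w ∈ LinearMap.ker (TensorProduct.map (piE A B A').toLinearMap P.mkQ) := hw
  rw [hker] at hw'
  obtain ⟨x, hx, y, hy, rfl⟩ := Submodule.mem_sup.mp hw'
  clear hw hw' hker
  refine (wN A B A' M N).add_mem ?_ ?_
  · obtain ⟨z, rfl⟩ := hx
    clear hy
    induction z using TensorProduct.induction_on with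
    | zero => rw [map_zero]; exact Submodule.zero_mem _
    | add a b ha hb => rw [map_add]; exact Submodule.add_mem _ ha hb
    | tmul e p =>
      rw [LinearMap.lTensor_tmul]
      obtain ⟨p, hp⟩ := p
      rw [hP] at hp
      obtain ⟨p₁, hp₁, p₂, hp₂, hsum⟩ := Submodule.mem_sup.mp hp
      change e ⊗ₜ[B] p ∈ _
      rw [← hsum, TensorProduct.tmul_add]
      refine (wN A B A' M N).add_mem ?_ ?_
      · refine Submodule.smul_induction_on hp₁ ?_ ?_
        · intro β hβ m _
          have e1 : e ⊗ₜ[B] (β • m) = ((Algebra.TensorProduct.includeLeft : B →ₐ[A] B ⊗[A] A') β) •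
              (e ⊗ₜ[B] m : (B ⊗[A] A') ⊗[B] M) := by
            rw [TensorProduct.tmul_smul, ← algebraMap_smul (B ⊗[A] A') β (e ⊗ₜ[B] m)]; rfl
          rw [e1]
          exact Submodule.mem_sup_left (Submodule.smul_mem_smul
            (map_includeLeft_le (Ideal.mem_map_of_mem _ hβ)) Submodule.mem_top)
        · intro a b ha hb
          rw [TensorProduct.tmul_add]; exact Submodule.add_mem _ ha hb
      · refine Submodule.smul_induction_on hp₂ ?_ ?_
        · intro β hβ m _
          rw [TensorProduct.tmul_smul]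
          exact incL_smul_mem_wN N β hβ _
        · intro a b ha hb
          rw [TensorProduct.tmul_add]; exact Submodule.add_mem _ ha hb
  · obtain ⟨z, rfl⟩ := hy
    clear hx
    induction z using TensorProduct.induction_on with
    | zero => rw [map_zero]; exact Submodule.zero_mem _
    | add a b ha hb => rw [map_add]; exact Submodule.add_mem _ ha hb
    | tmul j m =>
      rw [LinearMap.rTensor_tmul]
      obtain ⟨j, hj⟩ := j
      change j ⊗ₜ[B] m ∈ _
      have hj' : j ∈ (maximalIdeal A').map
          (Algebra.TensorProduct.includeRight : A' →ₐ[A] B ⊗[A] A') := by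
        rw [← ker_piE]; exact hj
      have e1 : j ⊗ₜ[B] m = j • ((1 : B ⊗[A] A') ⊗ₜ[B] m : (B ⊗[A] A') ⊗[B] M) := by
        rw [TensorProduct.smul_tmul', smul_eq_mul, mul_one]
      rw [e1]
      exact Submodule.mem_sup_left (Submodule.smul_mem_smul hj' Submodule.mem_top)


theorem phi_eq_zero_of_mem (N : ℕ) (P : Submodule B M)
    (hP : P = ((maximalIdeal A).map (algebraMap A B)) • (⊤ : Submodule B M) ⊔
      (maximalIdeal B ^ N) • (⊤ : Submodule B M))
    (w : (B ⊗[A] A') ⊗[B] M) (hw : w ∈ wN A B A' M N) :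
    phi (A := A) (A' := A') P w = 0 := by
  obtain ⟨x, hx, y, hy, rfl⟩ := Submodule.mem_sup.mp hw
  rw [map_add]
  have h1 : phi (A := A) (A' := A') P x = 0 := by
    refine Submodule.smul_induction_on hx ?_ ?_
    · intro j hj v _
      rw [phi_smul]
      have : piE A B A' j = 0 := by
        rw [← RingHom.mem_ker, ker_piE]; exact hj
      rw [this, zero_smul]
    · intro a b ha hb
      rw [map_add, ha, hb, add_zero]
  have h2 : phi (A := A) (A' := A') P y = 0 := by
    have hy' : y ∈ (maximalIdeal B ^ N) • (⊤ : Submodule B ((B ⊗[A] A') ⊗[B] M)) := by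
      have := Ideal.smul_restrictScalars (maximalIdeal B ^ N)
        (⊤ : Submodule (B ⊗[A] A') ((B ⊗[A] A') ⊗[B] M))
      have h3 : y ∈ (((maximalIdeal B ^ N).map (algebraMap B (B ⊗[A] A'))) •
          (⊤ : Submodule (B ⊗[A] A') ((B ⊗[A] A') ⊗[B] M))).restrictScalars B := hy
      rw [this] at h3
      exact h3
    refine Submodule.smul_induction_on hy' ?_ ?_
    · intro β hβ v _
      rw [map_smul]
      -- `β` kills the target
      have hkill : ∀ z : (B ⊗[A] ResidueField A') ⊗[B] (M ⧸ P), β • z = 0 := by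
        intro z
        induction z using TensorProduct.induction_on with
        | zero => simp
        | add a b ha hb => rw [smul_add, ha, hb, add_zero]
        | tmul c l =>
          obtain ⟨m, rfl⟩ := Submodule.Quotient.mk_surjective P l
          rw [← TensorProduct.tmul_smul, ← Submodule.Quotient.mk_smul]
          have : β • m ∈ P := by
            rw [hP]
            exact Submodule.mem_sup_right (Submodule.smul_mem_smul hβ Submodule.mem_top)
          rw [(Submodule.Quotient.mk_eq_zero P).mpr this, TensorProduct.tmul_zero]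
      exact hkill _
    · intro a b ha hb
      rw [map_add, ha, hb, add_zero]
  rw [h1, h2, add_zero]

set_option maxHeartbeats 800000 in
/-- **the key non-zero-divisor property**: multiplication by an element outside a prime of
`B ⊗_A A'` above both maximal ideals reflects membership in `𝔪'W + 𝔫^N W`. -/
theorem mem_wN_of_smul_mem
    [IrreducibleSpace (PrimeSpectrum ((ResidueField A') ⊗[ResidueField A] (ResidueField B)))]
    (𝔮₀ : Ideal (B ⊗[A] A')) [𝔮₀.IsPrime]
    (hL : 𝔮₀.comap (Algebra.TensorProduct.includeLeft : B →ₐ[A] B ⊗[A] A') = maximalIdeal B)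
    (hR : 𝔮₀.comap (Algebra.TensorProduct.includeRight : A' →ₐ[A] B ⊗[A] A') = maximalIdeal A')
    (N : ℕ) (t : B ⊗[A] A') (ht : t ∉ 𝔮₀) (w : (B ⊗[A] A') ⊗[B] M)
    (hw : t • w ∈ wN A B A' M N) : w ∈ wN A B A' M N := by
  obtain ⟨P, hP⟩ : ∃ P : Submodule B M,
      P = ((maximalIdeal A).map (algebraMap A B)) • (⊤ : Submodule B M) ⊔
        (maximalIdeal B ^ N) • (⊤ : Submodule B M) := ⟨_, rfl⟩
  apply ker_phi_le N P hP
  have h1 := phi_eq_zero_of_mem N P hP _ hw
  rw [phi_smul] at h1
  -- `π t` is a non-zero-divisor modulo `𝔫`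
  have hnil : ¬ IsNilpotent (Ideal.Quotient.mk
      ((maximalIdeal B).map (algebraMap B (B ⊗[A] ResidueField A'))) (piE A B A' t)) := by
    rintro ⟨n, hn⟩
    rw [← map_pow, ← map_pow, Ideal.Quotient.eq_zero_iff_mem] at hn
    have h2 : (maximalIdeal B).map (algebraMap B (B ⊗[A] ResidueField A')) ≤
        ((maximalIdeal B).map (algebraMap B (B ⊗[A] A'))).map (piE A B A') := by
      rw [Ideal.map_le_iff_le_comap]
      intro b hb
      rw [Ideal.mem_comap]
      have : algebraMap B (B ⊗[A] ResidueField A') b =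
          piE A B A' (algebraMap B (B ⊗[A] A') b) := (AlgHom.commutes _ b).symm
      rw [this]
      exact Ideal.mem_map_of_mem _ (Ideal.mem_map_of_mem _ hb)
    have hn := h2 hn
    rw [← Ideal.mem_comap, Ideal.comap_map_of_surjective _ (piE_surjective (A := A)),
      ← RingHom.ker_eq_comap_bot] at hn
    have h3 : (maximalIdeal B).map (algebraMap B (B ⊗[A] A')) ⊔ RingHom.ker (piE A B A') ≤ 𝔮₀ := by
      refine sup_le ?_ ?_
      · rw [Ideal.map_le_iff_le_comap]
        exact le_of_eq hL.symm
      · rw [ker_piE, Ideal.map_le_iff_le_comap]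
        exact le_of_eq hR.symm
    exact ht (Ideal.IsPrime.mem_of_pow_mem inferInstance n (h3 hn))
  have hnzd := mem_nonZeroDivisors_quot _ hnil
  refine SepPrimB.eq_zero_of_smul_eq_zero (T := ResidueField A') (maximalIdeal A)
    (maximalIdeal B) (piE A B A' t) hnzd N (M ⧸ P) ?_ ?_ _ h1
  · intro a ha l
    obtain ⟨m, rfl⟩ := Submodule.Quotient.mk_surjective P l
    rw [← Submodule.Quotient.mk_smul, Submodule.Quotient.mk_eq_zero, hP,
      ← algebraMap_smul B a m]
    exact Submodule.mem_sup_left
      (Submodule.smul_mem_smul (Ideal.mem_map_of_mem _ ha) Submodule.mem_top)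
  · intro β hβ l
    obtain ⟨m, rfl⟩ := Submodule.Quotient.mk_surjective P l
    rw [← Submodule.Quotient.mk_smul, Submodule.Quotient.mk_eq_zero, hP]
    exact Submodule.mem_sup_right (Submodule.smul_mem_smul hβ Submodule.mem_top)

end Main

end Groth.Agent.Lib.Helper4.SepPrimC
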