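import Mathlib
import Groth.Agent.Lib.Helper4.SepFlatH
import Groth.Agent.Lib.Helper4.SepPrimC

/-!
# one-point variant of the main step (HStep, HLoc1, hStep_of_hLoc1) (helper4)
-/

set_option backward.isDefEq.respectTransparency.types false
set_option synthInstance.maxHeartbeats 400000
set_option autoImplicit false
set_option linter.unusedSectionVars false
set_option linter.style.haveILetI false
set_option linter.unusedSimpArgs false
universe u v w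
open CategoryTheory CategoryTheory.Limits AlgebraicGeometry TopologicalSpace Topology

namespace Groth.Agent.Lib.Helper4.SepPrimD

open TensorProduct IsLocalRing Groth.Agent.Lib.Helper4

variable {A B A' M : Type u} [CommRing A] [CommRing B] [CommRing A'] [IsLocalRing A]
  [IsLocalRing B] [IsLocalRing A'] [IsNoetherianRing B]
  [Algebra A B] [Algebra A A'] [IsLocalHom (algebraMap A A')]
  [AddCommGroup M] [Module A M] [Module B M] [IsScalarTower A B M] [Module.Finite B M]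

/-- the abstract form of the main step, which is all the descent argument uses -/
def HStep (A B A' M : Type u) [CommRing A] [CommRing B] [CommRing A'] [IsLocalRing A]
    [IsLocalRing B] [IsLocalRing A'] [Algebra A B] [Algebra A A'] [AddCommGroup M] [Module A M]
    [Module B M] [IsScalarTower A B M] : Prop :=
  ∀ (𝔟 : Ideal A') (ω : A'), (∀ c ∈ maximalIdeal A', c * ω ∈ 𝔟) →
    (∀ c, c * ω ∈ 𝔟 → c ∈ maximalIdeal A') →
    ∀ (𝔠 : Ideal A), 𝔠 ≤ 𝔟.comap (algebraMap A A') →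
    ∀ (ι : Type u) [Fintype ι] (ρ : ι → A) (bb cc : ι → A') (m : ι → M),
      (∀ x, bb x ∈ 𝔟) → (∀ x, algebraMap A A' (ρ x) = bb x + cc x * ω) →
      (∑ x, ρ x • m x ∈ 𝔠 • (⊤ : Submodule A M)) →
      ∃ (d : ℕ) (β : Fin d → A') (lam : ι → Fin d → A),
        (∀ x, cc x - ∑ j, algebraMap A A' (lam x j) * β j ∈ maximalIdeal A') ∧
        ∀ j, ∑ x, lam x j • m x ∈
          ((maximalIdeal A).map (algebraMap A B)) • (⊤ : Submodule B M)

theorem hStep_of_hLoc (h : SepFlatH.HLoc A B A' M) : HStep A B A' M :=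
  fun 𝔟 ω h1 h2 𝔠 h𝔠 _ _ ρ bb cc m hbb hρ hrel =>
    SepFlatH.step6 h 𝔟 ω h1 h2 𝔠 h𝔠 ρ bb cc m hbb hρ hrel

/-- the one-point hypothesis: at SOME prime of `B ⊗_A A'` above the two maximal ideals, the
localisation of `(B ⊗_A A') ⊗_B M` is `A'`-flat -/
def HLoc1 (A B A' M : Type u) [CommRing A] [CommRing B] [CommRing A'] [IsLocalRing B]
    [IsLocalRing A'] [Algebra A B] [Algebra A A'] [AddCommGroup M] [Module A M] [Module B M]
    [IsScalarTower A B M] : Prop :=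
  ∃ (𝔮 : Ideal (B ⊗[A] A')) (_ : 𝔮.IsPrime),
    𝔮.comap (Algebra.TensorProduct.includeLeft : B →ₐ[A] B ⊗[A] A') = maximalIdeal B ∧
    𝔮.comap (Algebra.TensorProduct.includeRight : A' →ₐ[A] B ⊗[A] A') = maximalIdeal A' ∧
    ∃ (N : Type u) (_ : AddCommGroup N) (_ : Module (B ⊗[A] A') N) (_ : Module A' N)
      (ν : (B ⊗[A] A') ⊗[B] M →ₗ[B ⊗[A] A'] N),
      IsLocalizedModule 𝔮.primeCompl ν ∧
      (∀ (a : A') (n : N), a • n = ((1 : B) ⊗ₜ[A] a : B ⊗[A] A') • n) ∧ Module.Flat A' N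

theorem kl1 {n : ℕ} (c : Fin n → A') (m : Fin n → M)
    (hli : ∀ r : Fin n → A, (∑ s, algebraMap A A' (r s) * c s) ∈ maximalIdeal A' →
      ∀ s, r s ∈ maximalIdeal A)
    (𝔮₀ : Ideal (B ⊗[A] A'))
    (hnzd : ∀ (N : ℕ) (t : B ⊗[A] A'), t ∉ 𝔮₀ → ∀ w : (B ⊗[A] A') ⊗[B] M,
      t • w ∈ SepPrimC.wN A B A' M N → w ∈ SepPrimC.wN A B A' M N)
    (hyp : ∃ t, t ∉ 𝔮₀ ∧ t • (∑ s, ((1 : B) ⊗ₜ[A] c s) ⊗ₜ[B] m s) ∈
        ((maximalIdeal A').map (Algebra.TensorProduct.includeRight : A' →ₐ[A] B ⊗[A] A')) •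
          (⊤ : Submodule (B ⊗[A] A') ((B ⊗[A] A') ⊗[B] M))) :
    ∀ s, m s ∈ ((maximalIdeal A).map (algebraMap A B)) • (⊤ : Submodule B M) := by
  classical
  obtain ⟨wt, hwt⟩ : ∃ wt : (B ⊗[A] A') ⊗[B] M, wt = ∑ s, ((1 : B) ⊗ₜ[A] c s) ⊗ₜ[B] m s :=
    ⟨_, rfl⟩
  rw [← hwt] at hyp
  obtain ⟨t, ht, htw⟩ := hyp
  -- Step a
  have stepa : ∀ N : ℕ, wt ∈
      ((maximalIdeal A').map (Algebra.TensorProduct.includeRight : A' →ₐ[A] B ⊗[A] A')) •
        (⊤ : Submodule (B ⊗[A] A') ((B ⊗[A] A') ⊗[B] M)) ⊔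
      (((maximalIdeal B) ^ N).map (Algebra.TensorProduct.includeLeft : B →ₐ[A] B ⊗[A] A')) •
        (⊤ : Submodule (B ⊗[A] A') ((B ⊗[A] A') ⊗[B] M)) := by
    intro N
    exact hnzd N t ht wt (Submodule.mem_sup_left htw)
  -- Step b
  intro s
  obtain ⟨ℓ, hℓ0, hℓc⟩ := SepFlatC.exists_functional c hli s
  have stepb : ∀ N : ℕ, m s ∈ ((maximalIdeal A).map (algebraMap A B)) • (⊤ : Submodule B M) ⊔
      ((maximalIdeal B) ^ N) • (⊤ : Submodule B M) := by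
    intro N
    obtain ⟨P, hP⟩ : ∃ P : Submodule B M, P = ((maximalIdeal B) ^ N) • (⊤ : Submodule B M) :=
      ⟨_, rfl⟩
    rw [← hP]
    have hx : SepFlatB.xi P (maximalIdeal A) ℓ wt = 0 := by
      obtain ⟨w1, hw1, w2, hw2, hsum⟩ := Submodule.mem_sup.mp (stepa N)
      rw [← hsum, map_add, SepFlatB.xi_map_right P _ ℓ _ hℓ0 w1 hw1,
        SepFlatB.xi_map_left P _ ℓ _ (le_of_eq hP.symm) w2 hw2, add_zero]
    have hx2 : SepFlatB.xi P (maximalIdeal A) ℓ wt =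
        Submodule.Quotient.mk (Submodule.Quotient.mk (m s)) := by
      rw [hwt, map_sum, Finset.sum_eq_single s]
      · rw [SepFlatB.xi_tmul P _ ℓ 1 (c s) (m s) 1 (by rw [hℓc, if_pos rfl, map_one]), one_smul,
          one_smul]
      · intro t _ hts
        exact SepFlatB.xi_tmul_of_eq_zero _ _ _ _ _ _ (by rw [hℓc, if_neg hts])
      · intro h; exact absurd (Finset.mem_univ s) h
    rw [hx2, Submodule.Quotient.mk_eq_zero] at hx
    exact SepFlatD.mem_sup_of_mk_mem P (maximalIdeal A) (m s) hx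
  -- Krull intersection
  obtain ⟨Pm, hPm⟩ : ∃ Pm : Submodule B M, Pm =
      ((maximalIdeal A).map (algebraMap A B)) • (⊤ : Submodule B M) := ⟨_, rfl⟩
  rw [← hPm] at stepb ⊢
  have hkr := Ideal.iInf_pow_smul_eq_bot_of_isLocalRing (R := B) (M := M ⧸ Pm) (maximalIdeal B)
    (Ideal.IsPrime.ne_top inferInstance)
  have hmem : (Submodule.Quotient.mk (m s) : M ⧸ Pm) ∈
      ⨅ i : ℕ, (maximalIdeal B) ^ i • (⊤ : Submodule B (M ⧸ Pm)) := by
    rw [Submodule.mem_iInf]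
    intro N
    obtain ⟨y, hy, z, hz, hsum⟩ := Submodule.mem_sup.mp (stepb N)
    rw [← hsum, Submodule.Quotient.mk_add, (Submodule.Quotient.mk_eq_zero Pm).mpr hy, zero_add]
    have h1 : (maximalIdeal B) ^ N • (⊤ : Submodule B (M ⧸ Pm)) =
        Submodule.map Pm.mkQ ((maximalIdeal B) ^ N • (⊤ : Submodule B M)) := by
      rw [Submodule.map_smul'', Submodule.map_top, Submodule.range_mkQ]
    rw [h1]
    exact Submodule.mem_map_of_mem hz
  rw [hkr, Submodule.mem_bot, Submodule.Quotient.mk_eq_zero] at hmem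
  exact hmem


set_option maxHeartbeats 800000 in
theorem hStep_of_hLoc1 [IsLocalHom (algebraMap A B)]
    [IrreducibleSpace (PrimeSpectrum ((ResidueField A') ⊗[ResidueField A] (ResidueField B)))]
    (hH : HLoc1 A B A' M) : HStep A B A' M := by
  intro 𝔟 ω h1 h2 𝔠 h𝔠 ι _ ρ bb cc m hbb hρ hrel
  classical
  obtain ⟨𝔮, h𝔮, hq1, hq2, N, _, _, _, ν, hloc, hcompat, hflat⟩ := hH
  haveI := h𝔮
  obtain ⟨d, β, lam, hli, hcong⟩ := SepFlatF.exists_indep_family (A := A) cc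
  refine ⟨d, β, lam, hcong, ?_⟩
  apply kl1 β (fun j => ∑ x, lam x j • m x) hli 𝔮
    (fun N t ht w hw => SepPrimC.mem_wN_of_smul_mem 𝔮 hq1 hq2 N t ht w hw)
  haveI := hloc
  haveI := hflat
  -- notation
  obtain ⟨incR, hincR⟩ : ∃ incR : A' →ₐ[A] B ⊗[A] A',
    incR = (Algebra.TensorProduct.includeRight : A' →ₐ[A] B ⊗[A] A') := ⟨_, rfl⟩
  have hincR' : ∀ c : A', incR c = ((1 : B) ⊗ₜ[A] c : B ⊗[A] A') := fun c => by rw [hincR]; rfl
  obtain ⟨w1, hw1⟩ : ∃ w1 : (B ⊗[A] A') ⊗[B] M,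
    w1 = ∑ x, ((1 : B) ⊗ₜ[A] cc x : B ⊗[A] A') ⊗ₜ[B] m x := ⟨_, rfl⟩
  -- Claim A
  have hA : ((1 : B) ⊗ₜ[A] ω : B ⊗[A] A') • w1 ∈
      (𝔟.map (Algebra.TensorProduct.includeRight : A' →ₐ[A] B ⊗[A] A')) •
        (⊤ : Submodule (B ⊗[A] A') ((B ⊗[A] A') ⊗[B] M)) := by
    have e1 : ∑ x, ((1 : B) ⊗ₜ[A] algebraMap A A' (ρ x) : B ⊗[A] A') •
        ((1 : B ⊗[A] A') ⊗ₜ[B] m x : (B ⊗[A] A') ⊗[B] M) =
        (1 : B ⊗[A] A') ⊗ₜ[B] (∑ x, ρ x • m x) := by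
      rw [TensorProduct.tmul_sum]
      refine Finset.sum_congr rfl fun x _ => ?_
      rw [SepFlatG.one_tmul_smul]
    have e2 : ((1 : B) ⊗ₜ[A] ω : B ⊗[A] A') • w1 =
        ∑ x, ((1 : B) ⊗ₜ[A] algebraMap A A' (ρ x) : B ⊗[A] A') •
          ((1 : B ⊗[A] A') ⊗ₜ[B] m x : (B ⊗[A] A') ⊗[B] M) -
        ∑ x, ((1 : B) ⊗ₜ[A] bb x : B ⊗[A] A') •
          ((1 : B ⊗[A] A') ⊗ₜ[B] m x : (B ⊗[A] A') ⊗[B] M) := by
      rw [hw1, Finset.smul_sum, ← Finset.sum_sub_distrib]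
      refine Finset.sum_congr rfl fun x _ => ?_
      rw [hρ x, TensorProduct.tmul_add, add_smul, add_sub_cancel_left,
        ← SepFlatH.incR_smul_one_tmul (cc x) (m x), ← mul_smul, Algebra.TensorProduct.tmul_mul_tmul,
        one_mul, mul_comm]
    rw [e2, e1]
    refine sub_mem (SepFlatH.one_tmul_mem 𝔟 𝔠 h𝔠 _ hrel) (Submodule.sum_mem _ fun x _ => ?_)
    exact Submodule.smul_mem_smul (Ideal.mem_map_of_mem _ (hbb x)) Submodule.mem_top
  -- Claim B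
  have hB : ν w1 ∈ (maximalIdeal A') • (⊤ : Submodule A' N) := by
    have := SepFlatG.map_mem_smul_top ν hcompat 𝔟 _ hA
    rw [map_smul, ← hcompat] at this
    exact SepFlatA.mem_smul_top_of_smul_mem 𝔟 (maximalIdeal A') ω h1 h2 (ν w1) this
  -- Claim C
  obtain ⟨t, ht, htw⟩ := SepFlatG.exists_smul_mem_of_map_mem 𝔮.primeCompl ν hcompat
    (maximalIdeal A') w1 hB
  refine ⟨t, ht, ?_⟩
  -- Claim D
  have hD : w1 - ∑ j, ((1 : B) ⊗ₜ[A] β j : B ⊗[A] A') ⊗ₜ[B] (∑ x, lam x j • m x) ∈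
      ((maximalIdeal A').map (Algebra.TensorProduct.includeRight : A' →ₐ[A] B ⊗[A] A')) •
        (⊤ : Submodule (B ⊗[A] A') ((B ⊗[A] A') ⊗[B] M)) := by
    have e3 : ∑ j, ((1 : B) ⊗ₜ[A] β j : B ⊗[A] A') ⊗ₜ[B] (∑ x, lam x j • m x) =
        ∑ x, ((1 : B) ⊗ₜ[A] (∑ j, algebraMap A A' (lam x j) * β j) : B ⊗[A] A') ⊗ₜ[B] m x := by
      simp_rw [TensorProduct.tmul_sum, TensorProduct.sum_tmul]
      rw [Finset.sum_comm]
      refine Finset.sum_congr rfl fun x _ => Finset.sum_congr rfl fun j _ => ?_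
      rw [SepFlatG.tmul_mul_tmul_smul]
    rw [e3, hw1, ← Finset.sum_sub_distrib]
    refine Submodule.sum_mem _ fun x _ => ?_
    rw [← TensorProduct.sub_tmul, ← TensorProduct.tmul_sub, ← SepFlatH.incR_smul_one_tmul]
    exact Submodule.smul_mem_smul (Ideal.mem_map_of_mem _ (hcong x)) Submodule.mem_top
  have : t • ∑ j, ((1 : B) ⊗ₜ[A] β j : B ⊗[A] A') ⊗ₜ[B] (∑ x, lam x j • m x) =
      t • w1 - t • (w1 - ∑ j, ((1 : B) ⊗ₜ[A] β j : B ⊗[A] A') ⊗ₜ[B] (∑ x, lam x j • m x)) := by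
    rw [smul_sub, sub_sub_cancel]
  rw [this]
  exact sub_mem htw (Submodule.smul_mem _ _ hD)


end Groth.Agent.Lib.Helper4.SepPrimD
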