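import Mathlib
import Groth.Agent.Lib.Helper1.LocalCrit
import Groth.Agent.Lib.Helper6.FlatThick.Ring
import Groth.Agent.Lib.Helper4.FlatNilp
import Groth.Agent.Lib.Helper4.SepFlatE
import Groth.Agent.Lib.Helper4.SepFlatK
import Groth.Agent.Lib.Helper4.SepPrimD

/-!
# descent of flatness from the abstract main step HStep (Artinian and adic) (helper4)
-/

set_option backward.isDefEq.respectTransparency.types false
set_option synthInstance.maxHeartbeats 400000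
set_option autoImplicit false
set_option linter.unusedSectionVars false
set_option linter.style.haveILetI false
set_option linter.unusedSimpArgs false
universe u v w
open CategoryTheory CategoryTheory.Limits AlgebraicGeometry TopologicalSpace Topology

namespace Groth.Agent.Lib.Helper4.SepPrimE

open TensorProduct IsLocalRing Groth.Agent.Lib.Helper4

section CoordMem

variable {A : Type u} [CommRing A] [IsLocalRing A]
variable {M : Type u} [AddCommGroup M] [Module A M]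
variable {B A' : Type u} [CommRing B] [CommRing A'] [IsLocalRing B] [IsLocalRing A']
  [IsNoetherianRing B] [Algebra A B] [Algebra A A'] [IsLocalHom (algebraMap A A')]
  [Module B M] [IsScalarTower A B M] [Module.Finite B M]

set_option maxHeartbeats 1600000 in
theorem coord_mem' (hH : SepPrimD.HStep A B A' M) (𝔠 : Ideal A) [IsLocalRing (A ⧸ 𝔠)]
    (𝔟 : Ideal A') (ω : A')
    (h1 : ∀ c ∈ maximalIdeal A', c * ω ∈ 𝔟) (h2 : ∀ c, c * ω ∈ 𝔟 → c ∈ maximalIdeal A')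
    (h𝔠 : 𝔠 ≤ 𝔟.comap (algebraMap A A'))
    {X : Type u} (u : (X →₀ (A ⧸ 𝔠)) →ₗ[A ⧸ 𝔠] (A ⧸ 𝔠) ⊗[A] M) (hu : Function.Surjective u)
    (hker : ∀ y ∈ LinearMap.ker u, ∀ x, y x ∈ maximalIdeal (A ⧸ 𝔠))
    (hI : ∀ a : A, Ideal.Quotient.mk 𝔠 a ∈ FlatNilp.coordIdeal u →
      algebraMap A A' a ∈ 𝔟 ⊔ Ideal.span {ω})
    (r : X →₀ (A ⧸ 𝔠)) (hr : r ∈ LinearMap.ker u) (x₀ : X) (ρ₀ : A)
    (hρ₀ : Ideal.Quotient.mk 𝔠 ρ₀ = r x₀) : algebraMap A A' ρ₀ ∈ 𝔟 := by
  classical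
  -- lifts
  choose ρ hρ using fun x : X => Ideal.Quotient.mk_surjective (r x)
  have hsurj : Function.Surjective (TensorProduct.mk A (A ⧸ 𝔠) M 1) :=
    TensorProduct.mk_surjective A M (A ⧸ 𝔠) Ideal.Quotient.mk_surjective
  choose mm hmm using fun x : X => hsurj (u (Finsupp.single x 1))
  have hmm' : ∀ x, (1 : A ⧸ 𝔠) ⊗ₜ[A] mm x = u (Finsupp.single x 1) := hmm
  have hcoord : ∀ x, Ideal.Quotient.mk 𝔠 (ρ x) ∈ FlatNilp.coordIdeal u := fun x => by
    rw [hρ x]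
    exact Ideal.subset_span ⟨r, hr, x, rfl⟩
  have hdec : ∀ x, ∃ bb ∈ 𝔟, ∃ cc : A', algebraMap A A' (ρ x) = bb + cc * ω := by
    intro x
    obtain ⟨bb, hbb, z, hz, hsum⟩ := Submodule.mem_sup.mp (hI (ρ x) (hcoord x))
    obtain ⟨cc, hcc⟩ := Ideal.mem_span_singleton'.mp hz
    exact ⟨bb, hbb, cc, by rw [← hsum, hcc]⟩
  choose bb hbb cc hcc using hdec
  -- the relation
  have hrsum : r = ∑ x ∈ r.support, Finsupp.single x (Ideal.Quotient.mk 𝔠 (ρ x)) := by
    conv_lhs => rw [← Finsupp.sum_single r]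
    rw [Finsupp.sum]
    refine Finset.sum_congr rfl fun x _ => ?_
    rw [hρ x]
  have hrel : ∑ x : r.support, ρ x.1 • mm x.1 ∈ 𝔠 • (⊤ : Submodule A M) := by
    have h3 := SepFlatI.u_eq_one_tmul 𝔠 u mm hmm' r.support ρ
    rw [← hrsum, LinearMap.mem_ker.mp hr] at h3
    have h4 := (Groth.Agent.Helper1.LocalCrit.one_tmul_eq_zero_iff 𝔠 M _).mp h3.symm
    rw [← Finset.sum_coe_sort r.support (fun x => ρ x • mm x)] at h4
    exact h4
  obtain ⟨d, β, lam, hcong, hmem⟩ := hH 𝔟 ω h1 h2 𝔠 h𝔠 _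
    (fun x : r.support => ρ x.1) (fun x => bb x.1) (fun x => cc x.1) (fun x => mm x.1)
    (fun x => hbb x.1) (fun x => hcc x.1) hrel
  -- the coefficients `lam` lie in the maximal ideal
  have hlam : ∀ (x : r.support) (j : Fin d), lam x j ∈ maximalIdeal A := by
    intro x j
    obtain ⟨lam', hlam'⟩ : ∃ lam' : X → A, ∀ y : r.support, lam' y.1 = lam y j := by
      refine ⟨fun y => if h : y ∈ r.support then lam ⟨y, h⟩ j else 0, fun y => ?_⟩
      simp [y.2]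
    have h5 := SepFlatI.u_eq_one_tmul 𝔠 u mm hmm' r.support lam'
    have h6 : ∑ y ∈ r.support, lam' y • mm y = ∑ y : r.support, lam y j • mm y.1 := by
      rw [← Finset.sum_coe_sort r.support (fun y => lam' y • mm y)]
      refine Finset.sum_congr rfl fun y _ => ?_
      rw [hlam' y]
    rw [h6] at h5
    -- the image lies in `𝔪̃ M̃`
    have h7 : (1 : A ⧸ 𝔠) ⊗ₜ[A] (∑ y : r.support, lam y j • mm y.1) ∈
        (maximalIdeal (A ⧸ 𝔠)) • (⊤ : Submodule (A ⧸ 𝔠) ((A ⧸ 𝔠) ⊗[A] M)) := by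
      have h8 : ∑ y : r.support, lam y j • mm y.1 ∈
          (maximalIdeal A) • (⊤ : Submodule A M) := by
        have := Ideal.smul_restrictScalars (maximalIdeal A) (⊤ : Submodule B M)
        have h9 : ∑ y : r.support, lam y j • mm y.1 ∈
            (((maximalIdeal A).map (algebraMap A B)) • (⊤ : Submodule B M)).restrictScalars A :=
          hmem j
        rw [this] at h9
        exact h9
      refine Submodule.smul_induction_on h8 ?_ ?_
      · intro a ha m _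
        have : (1 : A ⧸ 𝔠) ⊗ₜ[A] (a • m) = (Ideal.Quotient.mk 𝔠 a) • ((1 : A ⧸ 𝔠) ⊗ₜ[A] m) := by
          rw [TensorProduct.tmul_smul, TensorProduct.smul_tmul', TensorProduct.smul_tmul',
            smul_eq_mul, mul_one, ← Ideal.Quotient.algebraMap_eq, Algebra.algebraMap_eq_smul_one]
        rw [this]
        exact Submodule.smul_mem_smul ((SepFlatI.mk_mem_maximalIdeal_iff 𝔠 a).mpr ha) Submodule.mem_top
      · intro m1 m2 hm1 hm2
        rw [TensorProduct.tmul_add]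
        exact add_mem hm1 hm2
    have h10 : (maximalIdeal (A ⧸ 𝔠)) • (⊤ : Submodule (A ⧸ 𝔠) ((A ⧸ 𝔠) ⊗[A] M)) =
        Submodule.map u ((maximalIdeal (A ⧸ 𝔠)) • (⊤ : Submodule (A ⧸ 𝔠) (X →₀ (A ⧸ 𝔠)))) := by
      rw [Submodule.map_smul'', Submodule.map_top, LinearMap.range_eq_top.mpr hu]
    rw [h10, ← h5] at h7
    obtain ⟨l', hl', hul'⟩ := h7
    have h11 : (∑ y ∈ r.support, Finsupp.single y (Ideal.Quotient.mk 𝔠 (lam' y))) - l' ∈
        LinearMap.ker u := by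
      rw [LinearMap.mem_ker, map_sub, hul', sub_self]
    have h12 := hker _ h11 x.1
    rw [Finsupp.sub_apply] at h12
    have h13 := SepFlatI.coord_mem_of_mem_smul_top _ l' hl' x.1
    have h14 := (maximalIdeal (A ⧸ 𝔠)).add_mem h12 h13
    rw [sub_add_cancel, Finsupp.finset_sum_apply, Finset.sum_eq_single x.1] at h14
    · rw [Finsupp.single_eq_same, hlam' x] at h14
      exact (SepFlatI.mk_mem_maximalIdeal_iff 𝔠 _).mp h14
    · intro y _ hy
      rw [Finsupp.single_apply, if_neg hy]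
    · intro hx; exact absurd x.2 hx
  -- conclusion
  by_cases hx₀ : x₀ ∈ r.support
  · have hcc' : cc x₀ ∈ maximalIdeal A' := by
      have h15 := hcong ⟨x₀, hx₀⟩
      have h16 : ∑ j, algebraMap A A' (lam ⟨x₀, hx₀⟩ j) * β j ∈ maximalIdeal A' := by
        refine Ideal.sum_mem _ fun j _ => Ideal.mul_mem_right _ _ ?_
        rw [mem_maximalIdeal, mem_nonunits_iff]
        intro h
        exact (mem_nonunits_iff.mp ((mem_maximalIdeal _).mp (hlam ⟨x₀, hx₀⟩ j)))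
          (isUnit_of_map_unit (algebraMap A A') _ h)
      have := (maximalIdeal A').add_mem h15 h16
      rwa [sub_add_cancel] at this
    have h17 : algebraMap A A' (ρ x₀) ∈ 𝔟 := by
      rw [hcc x₀]
      exact 𝔟.add_mem (hbb x₀) (h1 _ hcc')
    have h18 : ρ₀ - ρ x₀ ∈ 𝔠 := by
      rw [← Ideal.Quotient.eq, hρ₀, hρ x₀]
    have : algebraMap A A' ρ₀ = algebraMap A A' (ρ₀ - ρ x₀) + algebraMap A A' (ρ x₀) := by
      rw [← map_add, sub_add_cancel]
    rw [this]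
    exact 𝔟.add_mem (h𝔠 h18) h17
  · have : ρ₀ ∈ 𝔠 := by
      rw [← Ideal.Quotient.eq_zero_iff_mem, hρ₀]
      exact Finsupp.notMem_support_iff.mp hx₀
    exact h𝔠 this


end CoordMem

set_option maxHeartbeats 1600000 in
/-- **Descent of flatness along a separating family of local homomorphisms.** -/
theorem core' {A B M : Type u} [CommRing A] [IsLocalRing A] [IsNoetherianRing A] [CommRing B]
    [IsLocalRing B] [IsNoetherianRing B] [Algebra A B] [AddCommGroup M] [Module A M] [Module B M]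
    [IsScalarTower A B M] [Module.Finite B M]
    {P : Type*} (A' : P → Type u) [∀ p, CommRing (A' p)] [∀ p, IsLocalRing (A' p)]
    [∀ p, Algebra A (A' p)] [∀ p, IsLocalHom (algebraMap A (A' p))]
    (𝔞 : ∀ p, Ideal (A' p)) (𝔠 : Ideal A)
    (h𝔠 : ∀ a, a ∈ 𝔠 ↔ ∀ p, algebraMap A (A' p) a ∈ 𝔞 p)
    [IsArtinianRing (A ⧸ 𝔠)]
    (hH : ∀ p, SepPrimD.HStep A B (A' p) M) :
    Module.Flat (A ⧸ 𝔠) ((A ⧸ 𝔠) ⊗[A] M) := by
  classical
  by_cases htop : 𝔠 = ⊤
  · haveI : Subsingleton (A ⧸ 𝔠) := by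
      rw [htop]; exact Ideal.Quotient.subsingleton_iff.mpr rfl
    haveI : Subsingleton ((A ⧸ 𝔠) ⊗[A] M) := Module.subsingleton (A ⧸ 𝔠) _
    infer_instance
  haveI : Nontrivial (A ⧸ 𝔠) := Ideal.Quotient.nontrivial_iff.mpr htop
  haveI : IsLocalRing (A ⧸ 𝔠) :=
    IsLocalRing.of_surjective' (Ideal.Quotient.mk 𝔠) Ideal.Quotient.mk_surjective
  have hnil : IsNilpotent (maximalIdeal (A ⧸ 𝔠)) := by
    have := IsArtinianRing.isNilpotent_jacobson_bot (R := A ⧸ 𝔠)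
    rwa [IsLocalRing.jacobson_eq_maximalIdeal ⊥ bot_ne_top] at this
  have hfree : Module.Free ((A ⧸ 𝔠) ⧸ maximalIdeal (A ⧸ 𝔠))
      (((A ⧸ 𝔠) ⧸ maximalIdeal (A ⧸ 𝔠)) ⊗[A ⧸ 𝔠] ((A ⧸ 𝔠) ⊗[A] M)) :=
    (inferInstance : Module.Free (ResidueField (A ⧸ 𝔠))
      ((ResidueField (A ⧸ 𝔠)) ⊗[A ⧸ 𝔠] ((A ⧸ 𝔠) ⊗[A] M)))
  obtain ⟨X, u, hu, hker⟩ := FlatNilp.exists_presentation (maximalIdeal (A ⧸ 𝔠)) hnil hfree
  suffices hsuff : FlatNilp.coordIdeal u = ⊥ by
    have hfr := FlatNilp.free_of_map_eq_bot u hu (A ⧸ 𝔠)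
      (by rw [hsuff, Ideal.map_bot])
    have : Module.Free (A ⧸ 𝔠) ((A ⧸ 𝔠) ⊗[A] M) :=
      Module.Free.of_equiv (TensorProduct.lid (A ⧸ 𝔠) ((A ⧸ 𝔠) ⊗[A] M))
    infer_instance
  by_contra hne
  -- a nonzero element of the coordinate ideal
  obtain ⟨z, hz, hz0⟩ := Submodule.exists_mem_ne_zero_of_ne_bot hne
  obtain ⟨a₀, rfl⟩ := Ideal.Quotient.mk_surjective z
  have ha₀ : a₀ ∉ 𝔠 := fun h => hz0 (Ideal.Quotient.eq_zero_iff_mem.mpr h)
  rw [h𝔠] at ha₀
  push Not at ha₀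
  obtain ⟨p, hp⟩ := ha₀
  -- the ideal `I` and its extension
  obtain ⟨I, hI⟩ : ∃ I : Ideal A, I = (FlatNilp.coordIdeal u).comap (Ideal.Quotient.mk 𝔠) :=
    ⟨_, rfl⟩
  have ha₀I : a₀ ∈ I := by rw [hI]; exact hz
  obtain ⟨K, hK⟩ : ∃ K : Ideal (A' p), K = I.map (algebraMap A (A' p)) := ⟨_, rfl⟩
  have hKfg : K.FG := by
    rw [hK]; exact Ideal.FG.map (IsNoetherian.noetherian I) _
  have hKne : ¬ K ≤ 𝔞 p := fun h => hp (h (by rw [hK]; exact Ideal.mem_map_of_mem _ ha₀I))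
  obtain ⟨𝔟, ω, hb1, hb2, hb3, hb4, hb5, hb6⟩ := SepFlatE.exists_simple_quotient (𝔞 p) K hKfg hKne
  have h1 : ∀ c ∈ maximalIdeal (A' p), c * ω ∈ 𝔟 := fun c hc =>
    hb4 (Submodule.smul_mem_smul hc hb3)
  have h𝔠𝔟 : 𝔠 ≤ 𝔟.comap (algebraMap A (A' p)) := fun a ha =>
    hb1 (((h𝔠 a).mp ha) p)
  have hImem : ∀ a : A, Ideal.Quotient.mk 𝔠 a ∈ FlatNilp.coordIdeal u →
      algebraMap A (A' p) a ∈ 𝔟 ⊔ Ideal.span {ω} := by
    intro a ha
    apply hb5
    apply Ideal.mem_sup_right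
    rw [hK]
    apply Ideal.mem_map_of_mem
    rw [hI]; exact ha
  have hmain := coord_mem' (hH p) 𝔠 𝔟 ω h1 hb6 h𝔠𝔟 u hu hker hImem
  -- every element of `I` maps into `𝔟`
  have hall : ∀ z ∈ FlatNilp.coordIdeal u, ∀ a : A, Ideal.Quotient.mk 𝔠 a = z →
      algebraMap A (A' p) a ∈ 𝔟 := by
    intro z hz
    rw [FlatNilp.coordIdeal] at hz
    refine Submodule.span_induction ?_ ?_ ?_ ?_ hz
    · rintro _ ⟨r, hr, x, rfl⟩ a ha
      exact hmain r hr x a ha
    · intro a ha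
      exact h𝔠𝔟 (Ideal.Quotient.eq_zero_iff_mem.mp ha)
    · intro z1 z2 _ _ ih1 ih2 a ha
      obtain ⟨a1, rfl⟩ := Ideal.Quotient.mk_surjective z1
      have h2 : Ideal.Quotient.mk 𝔠 (a - a1) = z2 := by
        rw [map_sub, ha, add_sub_cancel_left]
      have : algebraMap A (A' p) a = algebraMap A (A' p) a1 + algebraMap A (A' p) (a - a1) := by
        rw [← map_add, add_sub_cancel]
      rw [this]
      exact 𝔟.add_mem (ih1 a1 rfl) (ih2 _ h2)
    · intro e z _ ih a ha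
      obtain ⟨e0, rfl⟩ := Ideal.Quotient.mk_surjective e
      obtain ⟨z0, rfl⟩ := Ideal.Quotient.mk_surjective z
      have h2 : a - e0 * z0 ∈ 𝔠 := by
        rw [← Ideal.Quotient.eq, ha, smul_eq_mul, map_mul]
      have : algebraMap A (A' p) a = algebraMap A (A' p) (a - e0 * z0) +
          algebraMap A (A' p) e0 * algebraMap A (A' p) z0 := by
        rw [← map_mul, ← map_add, sub_add_cancel]
      rw [this]
      exact 𝔟.add_mem (h𝔠𝔟 h2) (𝔟.mul_mem_left _ (ih z0 rfl))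
  have hK𝔟 : K ≤ 𝔟 := by
    rw [hK, Ideal.map_le_iff_le_comap]
    intro a ha
    rw [hI] at ha
    exact hall _ ha a rfl
  have hω : ω ∈ 𝔟 := (sup_le hb1 hK𝔟) hb3
  have h1m : (1 : A' p) ∈ maximalIdeal (A' p) := hb6 1 (by rwa [one_mul])
  exact (Ideal.ne_top_iff_one _).mp (IsLocalRing.maximalIdeal.isMaximal (A' p)).ne_top h1m


variable {A B M : Type u} [CommRing A] [IsLocalRing A] [IsNoetherianRing A] [CommRing B]
    [IsLocalRing B] [IsNoetherianRing B] [Algebra A B] [AddCommGroup M] [Module A M] [Module B M]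
    [IsScalarTower A B M] [Module.Finite B M]
    {P : Type*} (A' : P → Type u) [∀ p, CommRing (A' p)] [∀ p, IsLocalRing (A' p)]
    [∀ p, Algebra A (A' p)] [∀ p, IsLocalHom (algebraMap A (A' p))]

/-- **Artinian case** (EGA IV 11.4): flatness descends along a separating family. -/
theorem flat_of_separating_artinian' [IsArtinianRing A]
    (hsep : ∀ a : A, (∀ p, algebraMap A (A' p) a = 0) → a = 0)
    (hH : ∀ p, SepPrimD.HStep A B (A' p) M) : Module.Flat A M := by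
  haveI : IsArtinianRing (A ⧸ (⊥ : Ideal A)) :=
    Function.Surjective.isArtinianRing (f := Ideal.Quotient.mk (⊥ : Ideal A))
      Ideal.Quotient.mk_surjective
  have := core' A' (fun p => (⊥ : Ideal (A' p))) (⊥ : Ideal A)
    (fun a => by
      simp only [Ideal.mem_bot]
      exact ⟨fun h p => by rw [h, map_zero], hsep a⟩) hH
  exact SepFlatK.flat_of_flat_quotient_bot ⊥ rfl this

/-- **Adic case** (EGA IV 11.5): flatness descends along a family of local homomorphisms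
inducing the adic topology. -/
theorem flat_of_separating_adic' [IsLocalHom (algebraMap A B)]
    (htop : ∀ N : ℕ, ∃ s : Finset (P × ℕ),
      ⨅ p ∈ s, Ideal.comap (algebraMap A (A' p.1)) (maximalIdeal (A' p.1) ^ p.2) ≤
        maximalIdeal A ^ N)
    (hH : ∀ p, SepPrimD.HStep A B (A' p) M) : Module.Flat A M := by
  classical
  have hne : (maximalIdeal A).map (algebraMap A B) ≠ ⊤ := by
    intro h
    have hle : (maximalIdeal A).map (algebraMap A B) ≤ maximalIdeal B :=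
      SepFlatK.map_maximalIdeal_le _
    rw [h] at hle
    exact (IsLocalRing.maximalIdeal.isMaximal B).ne_top (top_le_iff.mp hle)
  apply Groth.Agent.Lib.Helper6.FlatThick.flat_of_flat_quotient_pow (S := B) (maximalIdeal A) hne
  intro N _
  obtain ⟨s, hs⟩ := htop N
  obtain ⟨𝔠, h𝔠def⟩ : ∃ 𝔠 : Ideal A, 𝔠 =
    ⨅ p ∈ s, Ideal.comap (algebraMap A (A' p.1)) (maximalIdeal (A' p.1) ^ p.2) := ⟨_, rfl⟩
  rw [← h𝔠def] at hs
  -- `A ⧸ 𝔠` is Artinian
  haveI : IsArtinianRing (A ⧸ 𝔠) := by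
    obtain ⟨n₀, hn₀⟩ : ∃ n₀ : ℕ, ∀ p ∈ s, p.2 ≤ n₀ :=
      ⟨s.sup Prod.snd, fun p hp => Finset.le_sup (f := Prod.snd) hp⟩
    apply SepFlatK.isArtinianRing_quotient_of_pow_le 𝔠 n₀
    rw [h𝔠def]
    refine le_iInf₂ fun p hp => ?_
    rw [← Ideal.map_le_iff_le_comap, Ideal.map_pow]
    refine (Ideal.pow_right_mono ?_ n₀).trans (Ideal.pow_le_pow_right (hn₀ p hp))
    exact SepFlatK.map_maximalIdeal_le _
  have hcore := core' (A := A) (B := B) (M := M) (P := s) (fun p => A' p.1.1)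
    (fun p => maximalIdeal (A' p.1.1) ^ p.1.2) 𝔠
    (fun a => by
      rw [h𝔠def]
      simp only [Ideal.mem_iInf, Ideal.mem_comap]
      constructor
      · intro h p; exact h p.1 p.2
      · intro h p hp; exact h ⟨p, hp⟩) (fun p => hH p.1.1)
  -- base change to `A ⧸ 𝔪^N`
  letI : Algebra (A ⧸ 𝔠) (A ⧸ maximalIdeal A ^ N) := (Ideal.Quotient.factor hs).toAlgebra
  haveI : IsScalarTower A (A ⧸ 𝔠) (A ⧸ maximalIdeal A ^ N) :=
    IsScalarTower.of_algebraMap_eq' rfl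
  haveI := hcore
  have e : (A ⧸ maximalIdeal A ^ N) ⊗[A ⧸ 𝔠] ((A ⧸ 𝔠) ⊗[A] M) ≃ₗ[A ⧸ maximalIdeal A ^ N]
      (A ⧸ maximalIdeal A ^ N) ⊗[A] M :=
    AlgebraTensorModule.cancelBaseChange A (A ⧸ 𝔠) (A ⧸ maximalIdeal A ^ N)
      (A ⧸ maximalIdeal A ^ N) M
  exact Module.Flat.of_linearEquiv e.symm


end Groth.Agent.Lib.Helper4.SepPrimE
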