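import Mathlib
import Groth.Agent.Lib.Helper4.SepFlatL
import Groth.Agent.Lib.Helper4.SepPrimD

/-!
# one-point chart bridge to HLoc1 (algebra) (helper4)
-/

set_option backward.isDefEq.respectTransparency.types false
set_option synthInstance.maxHeartbeats 400000
set_option autoImplicit false
set_option linter.unusedSectionVars false
set_option linter.style.haveILetI false
set_option linter.unusedSimpArgs false
universe u v w
open CategoryTheory CategoryTheory.Limits AlgebraicGeometry TopologicalSpace Topology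

namespace Groth.Agent.Lib.Helper4.SepPrimF

open TensorProduct IsLocalRing Groth.Agent.Lib.Helper4 Groth.Agent.Lib.Helper4.SepFlatL

theorem isLocalization_atPrime_congr {R C : Type*} [CommRing R] [CommRing C] [Algebra R C]
    (P Q : Ideal R) [P.IsPrime] [Q.IsPrime] (h : P = Q) [IsLocalization.AtPrime C P] :
    IsLocalization.AtPrime C Q := by
  subst h; infer_instance

variable {R0 A0 A0' A B S0 : Type u} [CommRing R0] [CommRing A0] [CommRing A0'] [CommRing A]
  [CommRing B] [CommRing S0]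
  [Algebra R0 A0] [Algebra R0 S0] [Algebra A0 A0'] [Algebra S0 A0'] [Algebra R0 A0']
  [IsScalarTower R0 A0 A0'] [IsScalarTower R0 S0 A0'] [Algebra.IsPushout R0 S0 A0 A0']
  [Algebra R0 A] [Algebra A S0] [IsScalarTower R0 A S0]
  [Algebra A0 B] [Algebra A B] [Algebra R0 B] [IsScalarTower R0 A B] [IsScalarTower R0 A0 B]

variable (M : Type u) [AddCommGroup M] [Module B M] [Module A M] [IsScalarTower A B M]
  [IsLocalRing B] [IsLocalRing S0]

set_option maxHeartbeats 1600000 in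
theorem hLoc1_of_chart (S : Submonoid R0) [IsLocalization S A] (𝔭 : Ideal A0) [𝔭.IsPrime]
    [IsLocalization.AtPrime B 𝔭]
    (𝔮₁ : Ideal A0') [𝔮₁.IsPrime] (hq1 : 𝔮₁.comap (algebraMap A0 A0') = 𝔭)
    (hq2 : 𝔮₁.comap (algebraMap S0 A0') = maximalIdeal S0)
    (C₁ : Type u) [CommRing C₁] [Algebra A0' C₁] [Algebra B C₁]
    (hcompat : ∀ t : A0, algebraMap B C₁ (algebraMap A0 B t) =
          algebraMap A0' C₁ (algebraMap A0 A0' t))
    [IsLocalization.AtPrime C₁ 𝔮₁]
    (hflat : @Module.Flat S0 (C₁ ⊗[B] M) _ _ (Module.compHom (C₁ ⊗[B] M)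
          ((algebraMap A0' C₁).comp (algebraMap S0 A0')))) :
    Groth.Agent.Lib.Helper4.SepPrimD.HLoc1 A B S0 M := by
  haveI hlocC : IsLocalRing C₁ := IsLocalization.AtPrime.isLocalRing C₁ 𝔮₁
  letI : Algebra A C₁ := ((algebraMap B C₁).comp (algebraMap A B)).toAlgebra
  haveI : IsScalarTower A B C₁ := .of_algebraMap_eq' rfl
  letI : Algebra S0 C₁ := ((algebraMap A0' C₁).comp (algebraMap S0 A0')).toAlgebra
  haveI : IsScalarTower S0 A0' C₁ := .of_algebraMap_eq' rfl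
  haveI : IsScalarTower A S0 C₁ := .of_algebraMap_eq' (by
    show (algebraMap B C₁).comp (algebraMap A B) =
      ((algebraMap A0' C₁).comp (algebraMap S0 A0')).comp (algebraMap A S0)
    apply IsLocalization.ringHom_ext S
    ext r
    simp only [RingHom.comp_apply]
    rw [← IsScalarTower.algebraMap_apply R0 A B, IsScalarTower.algebraMap_apply R0 A0 B,
      hcompat, ← IsScalarTower.algebraMap_apply R0 A S0,
      ← IsScalarTower.algebraMap_apply R0 A0 A0', ← IsScalarTower.algebraMap_apply R0 S0 A0'])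
  obtain ⟨𝔮, h𝔮⟩ : ∃ 𝔮 : Ideal (B ⊗[A] S0), 𝔮 = (maximalIdeal C₁).comap (psi A B S0 C₁) :=
    ⟨_, rfl⟩
  haveI : 𝔮.IsPrime := by rw [h𝔮]; infer_instance
  have hmax : (maximalIdeal C₁).comap (algebraMap A0' C₁) = 𝔮₁ :=
    IsLocalization.AtPrime.comap_maximalIdeal C₁ 𝔮₁
  have hk : 𝔮.comap (kappa R0 A0 A0' A B S0) = 𝔮₁ := by
    rw [← hmax, h𝔮]
    ext e
    rw [Ideal.mem_comap, Ideal.mem_comap, Ideal.mem_comap, psi_kappa hcompat]
  have hL : 𝔮.comap (Algebra.TensorProduct.includeLeft : B →ₐ[A] B ⊗[A] S0) = maximalIdeal B := by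
    obtain ⟨𝔯, h𝔯⟩ : ∃ 𝔯 : Ideal B,
      𝔯 = 𝔮.comap (Algebra.TensorProduct.includeLeft : B →ₐ[A] B ⊗[A] S0) := ⟨_, rfl⟩
    rw [← h𝔯]
    have h1 : 𝔯.comap (algebraMap A0 B) = 𝔭 := by
      rw [← hq1, ← hk, h𝔯]
      ext t
      rw [Ideal.mem_comap, Ideal.mem_comap, Ideal.mem_comap, Ideal.mem_comap, kappa_right]
      rfl
    have h1' : Ideal.under A0 𝔯 = 𝔭 := h1
    rw [← IsLocalization.map_comap 𝔭.primeCompl B 𝔯, h1']
    exact IsLocalization.AtPrime.map_eq_maximalIdeal 𝔭 B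
  have hR : 𝔮.comap (Algebra.TensorProduct.includeRight : S0 →ₐ[A] B ⊗[A] S0) =
      maximalIdeal S0 := by
    rw [← hq2, ← hk]
    ext c
    rw [Ideal.mem_comap, Ideal.mem_comap, Ideal.mem_comap, kappa_left]
    rfl
  haveI : IsLocalization.AtPrime C₁ (𝔮.comap (kappa R0 A0 A0' A B S0)) :=
    isLocalization_atPrime_congr 𝔮₁ _ hk.symm
  letI : Algebra (B ⊗[A] S0) C₁ := (psi A B S0 C₁).toRingHom.toAlgebra
  haveI : IsLocalization.AtPrime C₁ 𝔮 := isLocalization_psi (R0 := R0) (A0' := A0') 𝔭 hcompat 𝔮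
  haveI : IsScalarTower B (B ⊗[A] S0) C₁ := .of_algebraMap_eq (fun b => by
    show algebraMap B C₁ b = psi A B S0 C₁ (b ⊗ₜ[A] 1)
    rw [psi_tmul, map_one, mul_one])
  refine ⟨𝔮, inferInstance, hL, hR, C₁ ⊗[B] M, inferInstance, inferInstance,
    Module.compHom (C₁ ⊗[B] M) ((algebraMap A0' C₁).comp (algebraMap S0 A0')),
    AlgebraTensorModule.rTensor B M (Algebra.linearMap (B ⊗[A] S0) C₁), ?_, ?_, hflat⟩
  · infer_instance
  · intro a n
    rw [← algebraMap_smul C₁ ((1 : B) ⊗ₜ[A] a : B ⊗[A] S0) n]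
    show algebraMap S0 C₁ a • n = psi A B S0 C₁ ((1 : B) ⊗ₜ[A] a) • n
    rw [psi_tmul, map_one, one_mul]

end Groth.Agent.Lib.Helper4.SepPrimF
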