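import Mathlib
import Groth.Prelude.Def_FlatMod2
import Groth.Agent.Lib.Lead.FB1
import Groth.Agent.Lib.Helper4.SepFlatM
import Groth.Agent.Lib.Helper4.SepPrimF

/-!
# one-point geometric bridge to HLoc1 (helper4)
-/

set_option backward.isDefEq.respectTransparency.types false
set_option synthInstance.maxHeartbeats 400000
set_option autoImplicit false
set_option linter.unusedSectionVars false
set_option linter.style.haveILetI false
set_option linter.unusedSimpArgs false
universe u v w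
open CategoryTheory CategoryTheory.Limits AlgebraicGeometry TopologicalSpace Topology

namespace Groth.Agent.Lib.Helper4.SepPrimG

open TensorProduct IsLocalRing Groth.Agent.Lead.FO Groth.Agent.Lead.SD Groth.Agent.Lead.FB
  Groth.Agent.Lib.Helper5.StalkAdj Groth.Agent.Lib.Helper4 Groth.Agent.Lib.Helper4.SepFlatM

attribute [local instance] stalkModule

theorem appLE_eq_of_eq {Y : Scheme.{u}} (y : Y) {R : CommRingCat.{u}}
    (φ : Y.presheaf.stalk y ⟶ R) (g : Spec R ⟶ Y) (hg : g = Spec.map φ ≫ Y.fromSpecStalk y)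
    (US : Y.Opens) (hy : y ∈ US) (h : (⊤ : (Spec R).Opens) ≤ g ⁻¹ᵁ US) :
    g.appLE US ⊤ h = Y.presheaf.germ US y hy ≫ φ ≫ (Scheme.ΓSpecIso R).inv := by
  subst hg
  exact appLE_spec_fromSpecStalk y φ US hy h

set_option maxHeartbeats 3200000 in
theorem hLoc1_of_flat {X Y : Scheme.{u}} (f : X ⟶ Y) (F : X.Modules) [F.IsQuasicoherent] (x : X)
    (A' : Type u) [CommRing A'] [IsLocalRing A']
    (φ : (Y.presheaf.stalk (f x) : Type u) →+* A')
    (g : Spec (CommRingCat.of A') ⟶ Y)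
    (hg : g = Spec.map (CommRingCat.ofHom φ) ≫ Y.fromSpecStalk (f x))
    (hflat : ∃ x' : ↥(pullback f g), pullback.fst f g x' = x ∧
      pullback.snd f g x' = closedPoint A' ∧
      FlatMod.IsFlatOverAt (pullback.snd f g)
        ((Scheme.Modules.pullback (pullback.fst f g)).obj F) x') :
    letI : Algebra (Y.presheaf.stalk (f x)) (X.presheaf.stalk x) := (f.stalkMap x).hom.toAlgebra
    letI : Algebra (Y.presheaf.stalk (f x)) Γ(Spec (CommRingCat.of A'), ⊤) :=
      ((Scheme.ΓSpecIso (CommRingCat.of A')).inv.hom.comp φ).toAlgebra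
    letI : Module (Y.presheaf.stalk (f x)) (F.presheaf.stalk x) := FlatMod.moduleStalkOver f F x
    haveI : IsScalarTower (Y.presheaf.stalk (f x)) (X.presheaf.stalk x) (F.presheaf.stalk x) :=
      IsScalarTower.of_algebraMap_smul fun _ _ => rfl
    SepPrimD.HLoc1 (Y.presheaf.stalk (f x)) (X.presheaf.stalk x) Γ(Spec (CommRingCat.of A'), ⊤)
      (F.presheaf.stalk x) := by
  obtain ⟨x', hx1, hx2, hfl⟩ := hflat
  subst hx1
  letI algAB : Algebra (Y.presheaf.stalk (f (pullback.fst f g x')))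
      (X.presheaf.stalk (pullback.fst f g x')) :=
    (f.stalkMap (pullback.fst f g x')).hom.toAlgebra
  letI algAS : Algebra (Y.presheaf.stalk (f (pullback.fst f g x')))
      Γ(Spec (CommRingCat.of A'), ⊤) :=
    ((Scheme.ΓSpecIso (CommRingCat.of A')).inv.hom.comp φ).toAlgebra
  letI modAM : Module (Y.presheaf.stalk (f (pullback.fst f g x')))
      (F.presheaf.stalk (pullback.fst f g x')) :=
    FlatMod.moduleStalkOver f F (pullback.fst f g x')
  haveI towABM : IsScalarTower (Y.presheaf.stalk (f (pullback.fst f g x')))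
      (X.presheaf.stalk (pullback.fst f g x'))
      (F.presheaf.stalk (pullback.fst f g x')) := IsScalarTower.of_algebraMap_smul fun _ _ => rfl
  show SepPrimD.HLoc1 (Y.presheaf.stalk (f (pullback.fst f g x')))
    (X.presheaf.stalk (pullback.fst f g x'))
    Γ(Spec (CommRingCat.of A'), ⊤) (F.presheaf.stalk (pullback.fst f g x'))
  obtain ⟨x, hxdef⟩ : ∃ x : X, x = pullback.fst f g x' := ⟨_, rfl⟩
  -- the chart
  obtain ⟨_, ⟨US, hUS, rfl⟩, hyUS, -⟩ :=
    Y.isBasis_affineOpens.exists_subset_of_mem_open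
      (Set.mem_univ (f (pullback.fst f g x'))) isOpen_univ
  obtain ⟨_, ⟨UX, hUX, rfl⟩, hxUX, hUSX⟩ :=
    X.isBasis_affineOpens.exists_subset_of_mem_open
      (show (pullback.fst f g x') ∈ (f ⁻¹ᵁ US : X.Opens) from hyUS) (f ⁻¹ᵁ US).isOpen
  have hUT : IsAffineOpen (⊤ : (Spec (CommRingCat.of A')).Opens) := isAffineOpen_top _
  have hUST : (⊤ : (Spec (CommRingCat.of A')).Opens) ≤ g ⁻¹ᵁ US := by
    intro t _
    show g t ∈ US
    rw [hg]
    exact mem_preimage_fromSpecStalk (f (pullback.fst f g x')) _ US hyUS t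
  have hc : IsPullback (pullback.fst f g) (pullback.snd f g) f g := IsPullback.of_hasPullback f g
  obtain ⟨UY, hUYdef⟩ : ∃ UY : (pullback f g).Opens,
      UY = (pullback.fst f g) ⁻¹ᵁ UX ⊓ (pullback.snd f g) ⁻¹ᵁ ⊤ := ⟨_, rfl⟩
  have hUY : IsAffineOpen UY := chart_affine hc hUS hUT hUX hUST hUSX hUYdef
  have hYT : UY ≤ (pullback.snd f g) ⁻¹ᵁ ⊤ := by rw [hUYdef]; exact inf_le_right
  have hYX : UY ≤ (pullback.fst f g) ⁻¹ᵁ UX := by rw [hUYdef]; exact inf_le_left
  have hpo := chart_isPushout hc hUS hUT hUX hUST hUSX hUYdef hYX hYT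
  letI a1 : Algebra Γ(Y, US) Γ(Spec (CommRingCat.of A'), ⊤) := (g.appLE US ⊤ hUST).hom.toAlgebra
  letI a2 : Algebra Γ(Y, US) Γ(X, UX) := (f.appLE US UX hUSX).hom.toAlgebra
  letI a3 : Algebra Γ(Spec (CommRingCat.of A'), ⊤) Γ(pullback f g, UY) :=
    ((pullback.snd f g).appLE ⊤ UY hYT).hom.toAlgebra
  letI a4 : Algebra Γ(X, UX) Γ(pullback f g, UY) :=
    ((pullback.fst f g).appLE UX UY hYX).hom.toAlgebra
  letI a5 : Algebra Γ(Y, US) Γ(pullback f g, UY) :=
    (((pullback.fst f g).appLE UX UY hYX).hom.comp (f.appLE US UX hUSX).hom).toAlgebra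
  haveI t1 : IsScalarTower Γ(Y, US) Γ(X, UX) Γ(pullback f g, UY) := .of_algebraMap_eq' rfl
  haveI t2 : IsScalarTower Γ(Y, US) Γ(Spec (CommRingCat.of A'), ⊤) Γ(pullback f g, UY) :=
    .of_algebraMap_eq' (by
      show ((pullback.fst f g).appLE UX UY hYX).hom.comp (f.appLE US UX hUSX).hom =
        ((pullback.snd f g).appLE ⊤ UY hYT).hom.comp (g.appLE US ⊤ hUST).hom
      have := congrArg CommRingCat.Hom.hom hpo.w
      simpa using this)
  haveI po : Algebra.IsPushout Γ(Y, US) Γ(Spec (CommRingCat.of A'), ⊤) Γ(X, UX)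
      Γ(pullback f g, UY) := by
    have hpo' : IsPushout (CommRingCat.ofHom (algebraMap Γ(Y, US) Γ(X, UX)))
        (CommRingCat.ofHom (algebraMap Γ(Y, US) Γ(Spec (CommRingCat.of A'), ⊤)))
        (CommRingCat.ofHom (algebraMap Γ(X, UX) Γ(pullback f g, UY)))
        (CommRingCat.ofHom (algebraMap Γ(Spec (CommRingCat.of A'), ⊤) Γ(pullback f g, UY))) := hpo
    exact (CommRingCat.isPushout_iff_isPushout.1 hpo').symm
  -- the stalks
  letI c1 : Algebra Γ(Y, US) (Y.presheaf.stalk (f (pullback.fst f g x'))) :=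
    Y.presheaf.algebra_section_stalk ⟨f (pullback.fst f g x'), hyUS⟩
  haveI l0 := hUS.isLocalization_stalk ⟨f (pullback.fst f g x'), hyUS⟩
  letI b1 : Algebra Γ(X, UX) (X.presheaf.stalk (pullback.fst f g x')) :=
    X.presheaf.algebra_section_stalk ⟨pullback.fst f g x', hxUX⟩
  haveI l1 := hUX.isLocalization_stalk ⟨pullback.fst f g x', hxUX⟩
  letI b0 : Algebra Γ(Y, US) (X.presheaf.stalk (pullback.fst f g x')) :=
    ((algebraMap Γ(X, UX) (X.presheaf.stalk (pullback.fst f g x'))).comp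
      (algebraMap Γ(Y, US) Γ(X, UX))).toAlgebra
  haveI t3 : IsScalarTower Γ(Y, US) Γ(X, UX) (X.presheaf.stalk (pullback.fst f g x')) :=
    .of_algebraMap_eq' rfl
  haveI t4 : IsScalarTower Γ(Y, US) (Y.presheaf.stalk (f (pullback.fst f g x')))
      (X.presheaf.stalk (pullback.fst f g x')) :=
    .of_algebraMap_eq' (by
      ext r
      exact (stalkMap_germ_eq f hUSX ⟨pullback.fst f g x', hxUX⟩ r).symm)
  haveI t5 : IsScalarTower Γ(Y, US) (Y.presheaf.stalk (f (pullback.fst f g x')))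
      Γ(Spec (CommRingCat.of A'), ⊤) :=
    .of_algebraMap_eq' (by
      show (g.appLE US ⊤ hUST).hom = ((Scheme.ΓSpecIso (CommRingCat.of A')).inv.hom.comp φ).comp
        (Y.presheaf.germ US (f (pullback.fst f g x')) hyUS).hom
      have key : g.appLE US ⊤ hUST = Y.presheaf.germ US (f (pullback.fst f g x')) hyUS ≫
          CommRingCat.ofHom φ ≫ (Scheme.ΓSpecIso (CommRingCat.of A')).inv := by
        exact appLE_eq_of_eq (f (pullback.fst f g x')) (CommRingCat.ofHom φ) g hg US hyUS hUST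
      rw [key]
      rfl)
  -- the point
  have hx'UY : x' ∈ UY := by
    rw [hUYdef]; exact ⟨hxUX, trivial⟩
  obtain ⟨𝔮₁, h𝔮₁⟩ : ∃ 𝔮₁ : PrimeSpectrum Γ(pullback f g, UY),
    𝔮₁ = hUY.primeIdealOf ⟨x', hx'UY⟩ := ⟨_, rfl⟩
  have hq1 : 𝔮₁.asIdeal.comap (algebraMap Γ(X, UX) Γ(pullback f g, UY)) =
      (hUX.primeIdealOf ⟨pullback.fst f g x', hxUX⟩).asIdeal := by
    have e1 := IsAffineOpen.comap_primeIdealOf_appLE (f := pullback.fst f g) UX hUX UY hUY hYX
      hx'UY
    rw [← h𝔮₁] at e1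
    rw [← e1]
    rfl
  have hq2 : 𝔮₁.asIdeal.comap (algebraMap Γ(Spec (CommRingCat.of A'), ⊤) Γ(pullback f g, UY)) =
      maximalIdeal Γ(Spec (CommRingCat.of A'), ⊤) := by
    have e1 := IsAffineOpen.comap_primeIdealOf_appLE (f := pullback.snd f g) ⊤ hUT UY hUY hYT
      hx'UY
    rw [← h𝔮₁] at e1
    have hmax : (hUT.primeIdealOf ⟨closedPoint A', trivial⟩).asIdeal.IsMaximal :=
      hUT.primeIdealOf_isMaximal_of_isClosed _ (isClosed_singleton_closedPoint A')
    have e2 : hUT.primeIdealOf ⟨pullback.snd f g x', hYT hx'UY⟩ =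
        hUT.primeIdealOf ⟨closedPoint A', trivial⟩ := by
      congr 1
      exact Subtype.ext hx2
    rw [e2] at e1
    rw [← IsLocalRing.eq_maximalIdeal hmax, ← e1]
    rfl
  letI b2 : Algebra Γ(pullback f g, UY) ((pullback f g).presheaf.stalk x') :=
    (pullback f g).presheaf.algebra_section_stalk ⟨x', hx'UY⟩
  letI b3 : Algebra (X.presheaf.stalk (pullback.fst f g x')) ((pullback f g).presheaf.stalk x') :=
    ((pullback.fst f g).stalkMap x').hom.toAlgebra
  have l2 := hUY.isLocalization_stalk ⟨x', hx'UY⟩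
  rw [← h𝔮₁] at l2
  haveI := l2
  refine SepPrimF.hLoc1_of_chart (R0 := Γ(Y, US)) (A0 := Γ(X, UX)) (A0' := Γ(pullback f g, UY))
    (A := Y.presheaf.stalk (f (pullback.fst f g x'))) (B := X.presheaf.stalk (pullback.fst f g x'))
    (S0 := Γ(Spec (CommRingCat.of A'), ⊤))
    (F.presheaf.stalk (pullback.fst f g x'))
    (hUS.primeIdealOf ⟨f (pullback.fst f g x'), hyUS⟩).asIdeal.primeCompl
    (hUX.primeIdealOf ⟨pullback.fst f g x', hxUX⟩).asIdeal 𝔮₁.asIdeal hq1 hq2
    ((pullback f g).presheaf.stalk x') ?_ ?_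
  · intro t
    exact stalkMap_germ_eq (pullback.fst f g) hYX ⟨x', hx'UY⟩ t
  · have hM := (isFlatOverAt_iff_flat_stalkOver (pullback.snd f g)
      ((Scheme.Modules.pullback (pullback.fst f g)).obj F) hUT hYT ⟨x', hx'UY⟩).1 hfl
    let e1 : (((Scheme.Modules.pullback (pullback.fst f g)).obj F).presheaf.stalk x')
        ≃ₗ[(pullback f g).presheaf.stalk x']
        ((ModuleCat.extendScalars.{u, u, u} ((pullback.fst f g).stalkMap x').hom).obj
          ((stalkSh X (pullback.fst f g x')).obj F)) :=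
      ((stalkPullbackIso (pullback.fst f g) x').app F).toLinearEquiv
    let e2 : ((ModuleCat.extendScalars.{u, u, u} ((pullback.fst f g).stalkMap x').hom).obj
        ((stalkSh X (pullback.fst f g x')).obj F)) ≃ₗ[(pullback f g).presheaf.stalk x']
        (((pullback f g).presheaf.stalk x') ⊗[X.presheaf.stalk (pullback.fst f g x')]
          (F.presheaf.stalk (pullback.fst f g x'))) :=
      Groth.Agent.Helper8.extScalEquiv (R := X.presheaf.stalk (pullback.fst f g x'))
        (S := (pullback f g).presheaf.stalk x') ((stalkSh X (pullback.fst f g x')).obj F)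
    exact flat_compHom_of_linearEquiv _ (e1 ≪≫ₗ e2) hM

end Groth.Agent.Lib.Helper4.SepPrimG
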