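import Mathlib
import Groth.Prelude.Def_FlatMod2
import Groth.Agent.Lib.Helper6.GeomIrr
import Groth.Agent.Lib.Helper4.SepFlatO
import Groth.Agent.Lib.Helper4.SepPrimE
import Groth.Agent.Lib.Helper4.SepPrimG
import Groth.Agent.Lib.Helper7.CohStalk.Finite

/-!
# Artinian base, one point per i, primary residue extension (EGA IV 11.4.x) (helper4)
-/

set_option backward.isDefEq.respectTransparency.types false
set_option synthInstance.maxHeartbeats 400000
set_option autoImplicit false
set_option linter.unusedSectionVars false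
set_option linter.style.haveILetI false
set_option linter.unusedSimpArgs false
universe u v w
open CategoryTheory CategoryTheory.Limits AlgebraicGeometry TopologicalSpace Topology

namespace Groth.Agent.Lib.Helper4.SepPrimH

open TensorProduct IsLocalRing Groth.Agent.Lib.Helper4 Groth.Agent.Lib.Helper4.SepFlatO

theorem irreducibleSpace_of_hprim {X Y : Scheme.{u}} (f : X ⟶ Y) (x : X)
    (hprim : letI := (f.residueFieldMap x).hom.toAlgebra
      ∀ a : ↑(X.residueField x), IsSeparable ↑(Y.residueField (f x)) a →
        a ∈ (f.residueFieldMap x).hom.range)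
    (S0 : Type u) [CommRing S0] [IsLocalRing S0] [Algebra (Y.presheaf.stalk (f x)) S0]
    [IsLocalHom (algebraMap (Y.presheaf.stalk (f x)) S0)] :
    letI : Algebra (Y.presheaf.stalk (f x)) (X.presheaf.stalk x) := (f.stalkMap x).hom.toAlgebra
    haveI : IsLocalHom (algebraMap (Y.presheaf.stalk (f x)) (X.presheaf.stalk x)) := by
      show IsLocalHom (f.stalkMap x).hom
      infer_instance
    IrreducibleSpace (PrimeSpectrum ((ResidueField S0) ⊗[ResidueField (Y.presheaf.stalk (f x))]
      (ResidueField (X.presheaf.stalk x)))) := by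
  letI algAB : Algebra (Y.presheaf.stalk (f x)) (X.presheaf.stalk x) := (f.stalkMap x).hom.toAlgebra
  haveI loc1 : IsLocalHom (algebraMap (Y.presheaf.stalk (f x)) (X.presheaf.stalk x)) := by
    show IsLocalHom (f.stalkMap x).hom
    infer_instance
  apply Groth.Agent.Lib.Helper6.GeomIrr.irreducibleSpace_of_sepClosedIn
  intro a ha
  have hinst : (inferInstance : Algebra (ResidueField (Y.presheaf.stalk (f x)))
      (ResidueField (X.presheaf.stalk x))) = (f.residueFieldMap x).hom.toAlgebra := by
    apply Algebra.algebra_ext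
    intro r
    obtain ⟨r, rfl⟩ := residue_surjective r
    rfl
  have ha' : @IsSeparable (ResidueField (Y.presheaf.stalk (f x)))
      (ResidueField (X.presheaf.stalk x)) _ _ (f.residueFieldMap x).hom.toAlgebra a := by
    rw [← hinst]; exact ha
  obtain ⟨r, hr⟩ := hprim a ha'
  refine ⟨r, ?_⟩
  rw [← hr]
  obtain ⟨r, rfl⟩ := residue_surjective r
  rfl


set_option maxHeartbeats 1600000 in
theorem main {A : Type u} [CommRing A]
    [IsArtinianRing A] [IsLocalRing A] {X : Scheme.{u}} (f : X ⟶ Spec (CommRingCat.of A))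
    [LocallyOfFiniteType f] (F : X.Modules) (hF : Coh.IsCoh F) (x : X)
    {ι : Type u} (A' : ι → Type u) [∀ i, CommRing (A' i)] [∀ i, IsLocalRing (A' i)] (u : ∀ i, A →+* A' i)
    (hu : ∀ a : A, (∀ i, u i a = 0) → a = 0)
    (hprim : letI := (f.residueFieldMap x).hom.toAlgebra
      ∀ a : ↑(X.residueField x), IsSeparable ↑((Spec (CommRingCat.of A)).residueField (f x)) a →
        a ∈ (f.residueFieldMap x).hom.range)
    (hflat : ∀ i : ι, ∃ x' : ↥(pullback f (Spec.map (CommRingCat.ofHom (u i)))),
      pullback.fst f (Spec.map (CommRingCat.ofHom (u i))) x' = x ∧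
      pullback.snd f (Spec.map (CommRingCat.ofHom (u i))) x' = IsLocalRing.closedPoint (A' i) ∧
      FlatMod.IsFlatOverAt (pullback.snd f (Spec.map (CommRingCat.ofHom (u i))))
        ((Scheme.Modules.pullback (pullback.fst f (Spec.map (CommRingCat.ofHom (u i))))).obj F) x') :
    FlatMod.IsFlatOverAt f F x := by
  haveI : F.IsQuasicoherent := hF.1
  haveI : IsLocallyNoetherian X := LocallyOfFiniteType.isLocallyNoetherian f
  letI algAB : Algebra ((Spec (CommRingCat.of A)).presheaf.stalk (f x)) (X.presheaf.stalk x) :=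
    (f.stalkMap x).hom.toAlgebra
  haveI loc1 : IsLocalHom (algebraMap ((Spec (CommRingCat.of A)).presheaf.stalk (f x))
      (X.presheaf.stalk x)) := by
    show IsLocalHom (f.stalkMap x).hom
    infer_instance
  letI modAM : Module ((Spec (CommRingCat.of A)).presheaf.stalk (f x)) (F.presheaf.stalk x) :=
    FlatMod.moduleStalkOver f F x
  haveI towABM : IsScalarTower ((Spec (CommRingCat.of A)).presheaf.stalk (f x))
      (X.presheaf.stalk x) (F.presheaf.stalk x) :=
    IsScalarTower.of_algebraMap_smul fun _ _ => rfl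
  haveI hfin : Module.Finite (X.presheaf.stalk x) (F.presheaf.stalk x) :=
    Groth.Agent.Helper7.FinType.stalk_finite_of_isCoh F hF x
  -- the stalk of the base is `A`
  have hfx : f x = closedPoint (CommRingCat.of A) := eq_closedPoint_of_isArtinianRing A (f x)
  have hbij := bijective_toStalk (CommRingCat.of A) (f x) hfx
  let τ : A ≃+* ((Spec (CommRingCat.of A)).presheaf.stalk (f x)) :=
    RingEquiv.ofBijective _ hbij
  haveI : IsArtinianRing ((Spec (CommRingCat.of A)).presheaf.stalk (f x)) :=
    τ.isArtinianRing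
  let φ : ∀ i, ((Spec (CommRingCat.of A)).presheaf.stalk (f x)) →+* A' i :=
    fun i => (u i).comp (τ.symm : _ →+* A)
  have hφ : ∀ i, Spec.map (CommRingCat.ofHom (u i)) =
      Spec.map (CommRingCat.ofHom (φ i)) ≫ (Spec (CommRingCat.of A)).fromSpecStalk (f x) := by
    intro i
    rw [Spec.fromSpecStalk_eq, ← Spec.map_comp]
    congr 1
    ext a
    show u i a = u i (τ.symm (τ a))
    rw [RingEquiv.symm_apply_apply]
  letI algAS : ∀ i, Algebra ((Spec (CommRingCat.of A)).presheaf.stalk (f x))
      Γ(Spec (CommRingCat.of (A' i)), ⊤) :=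
    fun i => ((Scheme.ΓSpecIso (CommRingCat.of (A' i))).inv.hom.comp (φ i)).toAlgebra
  haveI locS : ∀ i, IsLocalHom (algebraMap ((Spec (CommRingCat.of A)).presheaf.stalk (f x))
      Γ(Spec (CommRingCat.of (A' i)), ⊤)) := fun i => isLocalHom_of_isArtinianRing _
  have hH : ∀ i, SepPrimD.HStep ((Spec (CommRingCat.of A)).presheaf.stalk (f x))
      (X.presheaf.stalk x) Γ(Spec (CommRingCat.of (A' i)), ⊤) (F.presheaf.stalk x) := fun i => by
    haveI := irreducibleSpace_of_hprim f x hprim Γ(Spec (CommRingCat.of (A' i)), ⊤)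
    exact SepPrimD.hStep_of_hLoc1
      (SepPrimG.hLoc1_of_flat f F x (A' i) (φ i) _ (hφ i) (hflat i))
  have hsep : ∀ a : ((Spec (CommRingCat.of A)).presheaf.stalk (f x)),
      (∀ i, algebraMap ((Spec (CommRingCat.of A)).presheaf.stalk (f x))
        Γ(Spec (CommRingCat.of (A' i)), ⊤) a = 0) → a = 0 := by
    intro a ha
    have h1 : τ.symm a = 0 := by
      apply hu
      intro i
      have h2 := ha i
      have hinj := (ConcreteCategory.bijective_of_isIso
        (Scheme.ΓSpecIso (CommRingCat.of (A' i))).inv).1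
      apply hinj
      rw [map_zero]
      exact h2
    have := congrArg τ h1
    rwa [RingEquiv.apply_symm_apply, map_zero] at this
  exact SepPrimE.flat_of_separating_artinian'
    (A := (Spec (CommRingCat.of A)).presheaf.stalk (f x)) (B := X.presheaf.stalk x)
    (M := F.presheaf.stalk x) (fun i => Γ(Spec (CommRingCat.of (A' i)), ⊤)) hsep hH

end Groth.Agent.Lib.Helper4.SepPrimH
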