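import Mathlib
import Groth.Prelude.Def_Curv2
import Groth.Agent.Lib.Helper4.SerreVan

/-!
# Hilbert polynomial equals h^0 for large twists (helper4)
-/

set_option backward.isDefEq.respectTransparency.types false
set_option synthInstance.maxHeartbeats 400000
set_option autoImplicit false
set_option linter.unusedSectionVars false
set_option linter.style.haveILetI false
set_option linter.unusedSimpArgs false
universe u v w
open CategoryTheory CategoryTheory.Limits AlgebraicGeometry
open Groth.Agent.Lib.Helper4

namespace Groth.Agent.Lib.Helper4.SerreVan2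

theorem s7677 (k : Type u) [Field k] (n : ℕ)
    (F : (CohB1.ProjSpace n k).Modules) (hF : Coh.IsCoh F) (P : Polynomial ℚ)
    (hP : ∀ d : ℤ, (Curv2.euler k (CohB1.ProjSpace n k)
      (CohB1.tensorMod F (Twist.twistProjSpace n k d)) : ℚ) = P.eval (d : ℚ)) :
    ∃ d₀ : ℤ, ∀ d : ℤ, d₀ ≤ d →
      P.eval (d : ℚ) = (Module.finrank k (Coh.HH (CohB1.ProjSpace n k)
        (CohB1.tensorMod F (Twist.twistProjSpace n k d)) 0) : ℚ) := by
  obtain ⟨m₀, h⟩ := SerreVan.serre_vanishing n k F hF
  refine ⟨m₀, fun d hd => ?_⟩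
  rw [← hP d]
  have h0 : Curv2.euler k (CohB1.ProjSpace n k) (CohB1.tensorMod F (Twist.twistProjSpace n k d)) =
      (Module.finrank k (Coh.HH (CohB1.ProjSpace n k)
        (CohB1.tensorMod F (Twist.twistProjSpace n k d)) 0) : ℤ) := by
    unfold Curv2.euler
    rw [finsum_eq_single _ 0]
    · rw [pow_zero, one_mul]
    · intro i hi
      haveI : Subsingleton (Coh.HH (CohB1.ProjSpace n k)
          (CohB1.tensorMod F (Twist.twistProjSpace n k d)) i) := h d hd i (Nat.pos_of_ne_zero hi)
      rw [Module.finrank_zero_of_subsingleton, Nat.cast_zero, mul_zero]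
  rw [h0]
  norm_cast

end Groth.Agent.Lib.Helper4.SerreVan2
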