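import Mathlib
import Groth.Prelude.Def_ModSite2
import Groth.Agent.Lib.Helper4.RestrTensorK
import Groth.Agent.Lib.Helper5.Misc.TensorSES
import Groth.Agent.S6147

/-!
# Hom(F,G) ⊗ H ≅ Hom(F, G ⊗ H) for F of finite presentation and H flat on a ringed site (helper4)
-/

set_option backward.isDefEq.respectTransparency.types false
set_option synthInstance.maxHeartbeats 400000
set_option autoImplicit false
set_option linter.unusedSectionVars false
set_option linter.style.haveILetI false
set_option linter.unusedSimpArgs false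
universe u v w
open CategoryTheory CategoryTheory.Limits Opposite

namespace Groth.Agent.Lib.Helper4.SheafHomTensorFlat
open MonoidalCategory
open Groth.Agent.Lib.Helper5.TensorSheaf Groth.Agent.Lib.Helper5
  Groth.Agent.Lib.Helper4.RestrTensorA Groth.Agent.Lib.Helper4.MateCube
  Groth.Agent.Lib.Helper4.RestrTensorK
  Groth.Agent.Lib.Helper4.SheafHomColim Groth.Agent.Lib.Helper4.FinPres
  Groth.Agent.Lib.Helper4.OverMapPres Groth.Agent.Lib.Helper4.ExtSuppSS1
  Groth.Agent.Lib.Helper5.TenAssoc

variable {C : Type u} [SmallCategory C] {J : GrothendieckTopology C}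
  {O : Sheaf J CommRingCat.{u}}

/-- (L1) naturality of the canonical map in `F` -/
lemma cF_natural {F F' : ModSite.Mod O} (φ : F' ⟶ F) (H G : ModSite.Mod O) :
    (cF F H).app G ≫ (ExtSupp.sheafHomMap φ).app (((ModSite.tensorBi O).flip.obj H).obj G) =
      ((ModSite.tensorBi O).flip.obj H).map ((ExtSupp.sheafHomMap φ).app G) ≫
        (cF F' H).app G := by
  refine cmate_natural (ModSite.sheafHomAdj F) (ModSite.sheafHomAdj F')
    ((ModSite.tensorBi O).flip.map φ) (sig O H F) (sig O H F') ?_ G
  intro X
  exact sigObj_nat₃ X H φ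

/-- (L2) the unit case -/
lemma isIso_cF_unit (H G : ModSite.Mod O) : IsIso ((cF (ModSite.unit O) H).app G) := by
  haveI : ((ModSite.tensorBi O).flip.obj (ModSite.unit O)).IsEquivalence :=
    Functor.isEquivalence_of_iso (rightUnitNatIso O).symm
  exact isIso_cmate_of_isIso (ModSite.sheafHomAdj (ModSite.unit O)) (sig O H (ModSite.unit O)) G

/-- (L3) the free case -/
lemma isIso_cF_free (I : Type u) [Fintype I] (H G : ModSite.Mod O) :
    IsIso ((cF (SheafOfModules.free (R := ModSite.ringSh O) I) H).app G) := by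
  haveI := isIso_cF_unit H G
  refine isIso_of_sum_retract (ι := I)
    (fun i => ((ModSite.tensorBi O).flip.obj H).map
      ((ExtSupp.sheafHomMap (SheafOfModules.ιFree (R := ModSite.ringSh O) i)).app G))
    (fun i => ((ModSite.tensorBi O).flip.obj H).map
      ((ExtSupp.sheafHomMap (πFree (R := ModSite.ringSh O) i)).app G))
    (fun i => (ExtSupp.sheafHomMap (SheafOfModules.ιFree (R := ModSite.ringSh O) i)).app
      (((ModSite.tensorBi O).flip.obj H).obj G))
    (fun i => (ExtSupp.sheafHomMap (πFree (R := ModSite.ringSh O) i)).app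
      (((ModSite.tensorBi O).flip.obj H).obj G))
    ((cF (SheafOfModules.free (R := ModSite.ringSh O) I) H).app G)
    ((cF (ModSite.unit O) H).app G)
    (fun i => cF_natural _ H G) (fun i => cF_natural _ H G) ?_ ?_
  · have h : ∀ i : I, ExtSupp.sheafHomMap (SheafOfModules.ιFree (R := ModSite.ringSh O) i) ≫
        ExtSupp.sheafHomMap (πFree (R := ModSite.ringSh O) i) =
        ExtSupp.sheafHomMap (πFree (R := ModSite.ringSh O) i ≫ SheafOfModules.ιFree i) :=
      fun i => (sheafHomMap_comp _ _).symm
    have h' : ∀ i : I, ((ModSite.tensorBi O).flip.obj H).map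
        ((ExtSupp.sheafHomMap (SheafOfModules.ιFree (R := ModSite.ringSh O) i)).app G) ≫
        ((ModSite.tensorBi O).flip.obj H).map
          ((ExtSupp.sheafHomMap (πFree (R := ModSite.ringSh O) i)).app G) =
        ((ModSite.tensorBi O).flip.obj H).map
          ((ExtSupp.sheafHomMap (πFree (R := ModSite.ringSh O) i ≫
            SheafOfModules.ιFree i)).app G) := by
      intro i
      rw [← Functor.map_comp, ← NatTrans.comp_app, h]
    rw [Finset.sum_congr rfl (fun i _ => h' i), ← Functor.map_sum, ← NatTrans.app_sum,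
      ← sheafHomMap_sum, sum_πFree_ιFree, sheafHomMap_id]
    exact CategoryTheory.Functor.map_id _ _
  · have h : ∀ i : I, (ExtSupp.sheafHomMap (SheafOfModules.ιFree (R := ModSite.ringSh O) i)).app
          (((ModSite.tensorBi O).flip.obj H).obj G) ≫
        (ExtSupp.sheafHomMap (πFree (R := ModSite.ringSh O) i)).app
          (((ModSite.tensorBi O).flip.obj H).obj G) =
        (ExtSupp.sheafHomMap (πFree (R := ModSite.ringSh O) i ≫ SheafOfModules.ιFree i)).app
          (((ModSite.tensorBi O).flip.obj H).obj G) := by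
      intro i
      rw [← NatTrans.comp_app, ← sheafHomMap_comp]
    rw [Finset.sum_congr rfl (fun i _ => h i), ← NatTrans.app_sum,
      ← sheafHomMap_sum, sum_πFree_ιFree, sheafHomMap_id]
    rfl

/-- (L4) the finitely presented case -/
theorem isIso_cF_of_isCok {Ir Ig : Type u} [Finite Ir] [Finite Ig] {F : ModSite.Mod O}
    {A : SheafOfModules.free (R := ModSite.ringSh O) Ir ⟶
      SheafOfModules.free (R := ModSite.ringSh O) Ig}
    {π : SheafOfModules.free (R := ModSite.ringSh O) Ig ⟶ F} (h : IsCok A π)
    (H : ModSite.Mod O) (hH : ModSite.IsFlat H) (G : ModSite.Mod O) :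
    IsIso ((cF F H).app G) := by
  haveI := Fintype.ofFinite Ir
  haveI := Fintype.ofFinite Ig
  haveI := isIso_cF_free Ir H G
  haveI := isIso_cF_free Ig H G
  haveI : PreservesFiniteLimits ((ModSite.tensorBi O).flip.obj H) := hH.1
  haveI : PreservesFiniteColimits ((ModSite.tensorBi O).flip.obj H) := hH.2
  haveI := sheafHomMap_cok_mono h G
  haveI := sheafHomMap_cok_mono h (((ModSite.tensorBi O).flip.obj H).obj G)
  have hex := (sheafHomMap_cok_exact h G).map ((ModSite.tensorBi O).flip.obj H)
  have hex' := sheafHomMap_cok_exact h (((ModSite.tensorBi O).flip.obj H).obj G)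
  have w : ((ModSite.tensorBi O).flip.obj H).map ((ExtSupp.sheafHomMap π).app G) ≫
      ((ModSite.tensorBi O).flip.obj H).map ((ExtSupp.sheafHomMap A).app G) = 0 := by
    rw [← Functor.map_comp, sheafHomMap_cok_zero h G, Functor.map_zero]
  exact isIso_of_kernel_comparison
    (((ModSite.tensorBi O).flip.obj H).map ((ExtSupp.sheafHomMap π).app G))
    (((ModSite.tensorBi O).flip.obj H).map ((ExtSupp.sheafHomMap A).app G))
    ((ExtSupp.sheafHomMap π).app (((ModSite.tensorBi O).flip.obj H).obj G))
    ((ExtSupp.sheafHomMap A).app (((ModSite.tensorBi O).flip.obj H).obj G))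
    w (sheafHomMap_cok_zero h _) hex hex'
    ((cF F H).app G) ((cF (SheafOfModules.free (R := ModSite.ringSh O) Ig) H).app G)
    ((cF (SheafOfModules.free (R := ModSite.ringSh O) Ir) H).app G)
    (cF_natural π H G) (cF_natural A H G)

/-- the canonical map is an isomorphism for `F` locally finitely presented and `H` flat -/
theorem isIso_cF_of_locFinPres (F : ModSite.Mod O) (hF : LocFinPres F)
    (H : ModSite.Mod O) (hH : ModSite.IsFlat H) (G : ModSite.Mod O) :
    IsIso ((cF F H).app G) := by
  apply isIso_of_locally_isIso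
  intro V
  obtain ⟨R, hR, hfp⟩ := hF V
  refine ⟨R, hR, ?_⟩
  intro W g hg
  obtain ⟨Ig, Ir, hIg, hIr, p, A, hA⟩ := hfp g hg
  exact isIso_restr_cF O W F H G
    (isIso_cF_of_isCok hA ((ModSite.restr O W).obj H) (Groth.Agent.S6147.result O H hH W)
      ((ModSite.restr O W).obj G))

theorem main (F G H : ModSite.Mod O)
    [SheafOfModules.IsFinitePresentation (R := ModSite.ringSh O) F]
    [ModSite.HasSheafHom F] (hH : ModSite.IsFlat H) :
    Nonempty (((ModSite.tensorBi O).obj ((ModSite.sheafHom F).obj G)).obj H ≅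
      (ModSite.sheafHom F).obj (((ModSite.tensorBi O).obj G).obj H)) := by
  haveI := isIso_cF_of_locFinPres F (locFinPres_of_isFinitePresentation F) H hH G
  exact ⟨asIso ((cF F H).app G)⟩

end Groth.Agent.Lib.Helper4.SheafHomTensorFlat
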