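import Mathlib

namespace Groth.Agent.Helper4.SM

universe u

variable {A : Type*} [CommRing A] {M : Type*} [AddCommGroup M] [Module A M]

theorem exists_smul_eq_zero_of_fg (S : Submonoid A) (N : Submodule A M) (hN : N.FG)
    (h : ∀ x ∈ N, ∃ s ∈ S, s • x = 0) : ∃ s ∈ S, ∀ x ∈ N, s • x = 0 := by
  classical
  obtain ⟨G, rfl⟩ := hN
  choose! t ht ht0 using h
  refine ⟨∏ g ∈ G, t g, Submonoid.prod_mem _ fun g hg => ht g (Submodule.subset_span hg), ?_⟩
  intro x hx
  induction hx using Submodule.span_induction with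
  | mem g hg =>
    rw [← Finset.mul_prod_erase G t hg, mul_comm, mul_smul, ht0 g (Submodule.subset_span hg),
      smul_zero]
  | zero => simp
  | add x y _ _ hx hy => rw [smul_add, hx, hy, add_zero]
  | smul a x _ hx => rw [smul_comm, hx, smul_zero]

theorem mk_one_eq_zero_iff (S : Submonoid A) (m : M) :
    LocalizedModule.mk m (1 : S) = 0 ↔ ∃ s ∈ S, s • m = 0 := by
  rw [← LocalizedModule.zero_mk (1 : S), LocalizedModule.mk_eq]
  constructor
  · rintro ⟨u, hu⟩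
    refine ⟨u, u.2, ?_⟩
    have : u • m = 0 := by simpa using hu
    exact this
  · rintro ⟨s, hs, h⟩
    exact ⟨⟨s, hs⟩, by simpa using h⟩

/-- S6820 -/
theorem exists_mem_ker_smul_eq_ker_smul_sq [IsNoetherianRing A] [Module.Finite A M]
    (S : Submonoid A) (π : A)
    (h : ∀ m : LocalizedModule S M, π ^ 2 • m = 0 → π • m = 0) :
    ∃ s ∈ S, ∀ n : ℕ, 0 < n → ∀ m : M, (s ^ n * π) ^ 2 • m = 0 → (s ^ n * π) • m = 0 := by
  have hNoeth : IsNoetherian A M := isNoetherian_of_isNoetherianRing_of_finite A M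
  -- the kernel of π²
  let K : Submodule A M := LinearMap.ker (LinearMap.lsmul A M (π ^ 2))
  -- the S-torsion
  let T : Submodule A M :=
    { carrier := {m | ∃ s ∈ S, s • m = 0}
      add_mem' := by
        rintro a b ⟨s, hs, hsa⟩ ⟨t, ht, htb⟩
        refine ⟨s * t, S.mul_mem hs ht, ?_⟩
        rw [smul_add, mul_smul, smul_comm, hsa, mul_smul, htb]; simp
      zero_mem' := ⟨1, S.one_mem, by simp⟩
      smul_mem' := by
        rintro c a ⟨s, hs, hsa⟩
        exact ⟨s, hs, by rw [smul_comm, hsa, smul_zero]⟩ }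
  obtain ⟨s₁, hs₁, hs₁T⟩ := exists_smul_eq_zero_of_fg S T (IsNoetherian.noetherian T)
    (fun x hx => hx)
  -- image of K under π is S-torsion
  let K' : Submodule A M := K.map (LinearMap.lsmul A M π)
  obtain ⟨s₀, hs₀, hs₀K⟩ := exists_smul_eq_zero_of_fg S K' (IsNoetherian.noetherian K') (by
    rintro _ ⟨k, hk, rfl⟩
    have hk' : π ^ 2 • k = 0 := hk
    have h1 : π ^ 2 • LocalizedModule.mk k (1 : S) = 0 := by
      rw [LocalizedModule.smul'_mk, hk', LocalizedModule.zero_mk]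
    have h2 := h _ h1
    rw [LocalizedModule.smul'_mk, mk_one_eq_zero_iff] at h2
    exact h2)
  refine ⟨s₀ * s₁, S.mul_mem hs₀ hs₁, ?_⟩
  intro n hn m hm
  have h1 : π ^ 2 • m ∈ T := by
    refine ⟨(s₀ * s₁) ^ (2 * n), S.pow_mem (S.mul_mem hs₀ hs₁) _, ?_⟩
    rw [← hm, ← mul_smul]
    congr 1
    ring
  have h2 : s₁ • (π ^ 2 • m) = 0 := hs₁T _ h1
  have h3 : s₁ • m ∈ K := by
    change π ^ 2 • (s₁ • m) = 0
    rw [smul_comm, h2]
  have h4 : s₀ • (π • (s₁ • m)) = 0 := hs₀K _ ⟨s₁ • m, h3, rfl⟩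
  obtain ⟨k, rfl⟩ : ∃ k, n = k + 1 := ⟨n - 1, by omega⟩
  have h5 : ((s₀ * s₁) ^ (k + 1) * π) • m = (s₀ * s₁) ^ k • (s₀ • (π • (s₁ • m))) := by
    simp only [← mul_smul]
    congr 1
    ring
  rw [h5, h4, smul_zero]

end Groth.Agent.Helper4.SM
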