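import Mathlib

/-!
# Smoothness at a point via lifting along square-zero surjections of local rings (helper4)
-/

set_option backward.isDefEq.respectTransparency.types false
set_option synthInstance.maxHeartbeats 400000
set_option autoImplicit false
set_option linter.unusedSectionVars false
set_option linter.style.haveILetI false
set_option linter.unusedSimpArgs false
universe u v w
open CategoryTheory CategoryTheory.Limits AlgebraicGeometry TopologicalSpace IsLocalRing

namespace Groth.Agent.Lib.Helper4.SmoothLift1

/-- the localized surjection as an algebra map -/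
theorem exists_formallySmooth_local_surjection {R C : Type u} [CommRing R] [CommRing C]
    [Algebra R C] [Algebra.FiniteType R C] (p : Ideal C) [p.IsPrime] :
    ∃ (P : Type u) (_ : CommRing P) (_ : Algebra R P) (_ : IsLocalRing P)
      (_ : Algebra.FormallySmooth R P) (f : P →ₐ[R] Localization.AtPrime p),
      Function.Surjective f := by
  obtain ⟨n, π, hπ⟩ := (Algebra.FiniteType.iff_quotient_mvPolynomial'' (R := R) (S := C)).mp
    inferInstance
  let 𝔭 : Ideal (MvPolynomial (Fin n) R) := p.comap π.toRingHom
  haveI : 𝔭.IsPrime := Ideal.comap_isPrime _ _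
  let f₀ : Localization.AtPrime 𝔭 →+* Localization.AtPrime p :=
    Localization.localRingHom 𝔭 p π.toRingHom rfl
  have hf₀ : Function.Surjective f₀ :=
    RingHom.surjective_localRingHom_of_surjective π.toRingHom hπ p
  let f : Localization.AtPrime 𝔭 →ₐ[R] Localization.AtPrime p :=
    { f₀ with
      commutes' := fun r => by
        show f₀ (algebraMap R (Localization.AtPrime 𝔭) r) = _
        rw [IsScalarTower.algebraMap_apply R (MvPolynomial (Fin n) R) (Localization.AtPrime 𝔭),
          Localization.localRingHom_to_map,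
          IsScalarTower.algebraMap_apply R C (Localization.AtPrime p)]
        congr 1
        exact π.commutes r }
  exact ⟨Localization.AtPrime 𝔭, inferInstance, inferInstance, inferInstance, inferInstance, f, hf₀⟩



/-- Local lifting criterion (ring level): if all square-zero lifting problems with local test rings
centred at `p` can be solved, then `C_p` is formally smooth over `R`. -/
theorem formallySmooth_atPrime_of_local_lifting {R C : Type u} [CommRing R] [CommRing C]
    [Algebra R C] [Algebra.FiniteType R C] (p : Ideal C) [p.IsPrime]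
    (H : ∀ (B B' : Type u) [CommRing B] [CommRing B'] [IsLocalRing B] [IsLocalRing B']
      (φ : B' →+* B), Function.Surjective φ → RingHom.ker φ ^ 2 = ⊥ →
      ∀ (a : C →+* B) (b : R →+* B'), (maximalIdeal B).comap a = p →
        φ.comp b = a.comp (algebraMap R C) →
        ∃ g : C →+* B', φ.comp g = a ∧ g.comp (algebraMap R C) = b) :
    Algebra.FormallySmooth R (Localization.AtPrime p) := by
  obtain ⟨P, _, _, _, _, f, hf⟩ := exists_formallySmooth_local_surjection (R := R) p
  -- the test rings
  have hφ : Function.Surjective f.kerSquareLift.toRingHom :=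
    Ideal.Quotient.lift_surjective_of_surjective _ _ hf
  have hsq : RingHom.ker f.kerSquareLift.toRingHom ^ 2 = ⊥ := by
    rw [AlgHom.ker_kerSquareLift, Ideal.cotangentIdeal_square]
  haveI : Nontrivial (P ⧸ RingHom.ker f.toRingHom ^ 2) := hφ.nontrivial
  haveI : IsLocalRing (P ⧸ RingHom.ker f.toRingHom ^ 2) :=
    IsLocalRing.of_surjective' (Ideal.Quotient.mk (RingHom.ker f.toRingHom ^ 2))
      Ideal.Quotient.mk_surjective
  have hap : (maximalIdeal (Localization.AtPrime p)).comap
      (algebraMap C (Localization.AtPrime p)) = p :=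
    IsLocalization.AtPrime.under_maximalIdeal (Localization.AtPrime p) p
  have hab : f.kerSquareLift.toRingHom.comp (algebraMap R (P ⧸ RingHom.ker f.toRingHom ^ 2)) =
      (algebraMap C (Localization.AtPrime p)).comp (algebraMap R C) := by
    ext r
    show f.kerSquareLift (algebraMap R _ r) = algebraMap C _ (algebraMap R C r)
    rw [AlgHom.commutes, ← IsScalarTower.algebraMap_apply]
  obtain ⟨g₀, hg₀, hg₀'⟩ := H (Localization.AtPrime p) (P ⧸ RingHom.ker f.toRingHom ^ 2)
    f.kerSquareLift.toRingHom hφ hsq _ _ hap hab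
  -- extend to the localization
  haveI : IsLocalHom f.kerSquareLift.toRingHom := hφ.isLocalHom
  have hunits : ∀ s : p.primeCompl, IsUnit (g₀ s) := by
    intro s
    apply isUnit_of_map_unit f.kerSquareLift.toRingHom
    have : f.kerSquareLift.toRingHom (g₀ s) = algebraMap C _ (s : C) :=
      congrArg (fun h => h (s : C)) hg₀
    rw [this]
    exact IsLocalization.map_units (Localization.AtPrime p) s
  let g : Localization.AtPrime p →ₐ[R] (P ⧸ RingHom.ker f.toRingHom ^ 2) :=
    { IsLocalization.lift hunits with
      commutes' := fun r => by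
        show IsLocalization.lift hunits (algebraMap R (Localization.AtPrime p) r) = _
        rw [IsScalarTower.algebraMap_apply R C (Localization.AtPrime p), IsLocalization.lift_eq]
        exact congrArg (fun h => h r) hg₀' }
  refine Algebra.FormallySmooth.of_split f g ?_
  apply AlgHom.coe_ringHom_injective
  refine IsLocalization.ringHom_ext p.primeCompl ?_
  ext c
  show f.kerSquareLift.toRingHom (IsLocalization.lift hunits (algebraMap C _ c)) =
    algebraMap C _ c
  rw [IsLocalization.lift_eq]
  exact congrArg (fun h => h c) hg₀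



/-- A morphism from the spectrum of a local ring whose closed point lands in an affine open `V`
factors through `V`, i.e. is induced by a ring map out of `Γ(X, V)`. -/
theorem exists_eq_SpecMap_fromSpec {X : Scheme.{u}} {V : X.Opens} (hV : IsAffineOpen V)
    (B : CommRingCat.{u}) [IsLocalRing B] (α : Spec B ⟶ X) (h : α (closedPoint B) ∈ V) :
    ∃ a : Γ(X, V) ⟶ B, α = Spec.map a ≫ hV.fromSpec := by
  have htop : α ⁻¹ᵁ V = ⊤ := Scheme.preimage_eq_top_of_closedPoint_mem α h
  have hle : (⊤ : (Spec B).Opens) ≤ α ⁻¹ᵁ V := htop.ge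
  refine ⟨α.appLE V ⊤ hle ≫ (Scheme.ΓSpecIso B).hom, ?_⟩
  have h1 := IsAffineOpen.SpecMap_appLE_fromSpec α hV (isAffineOpen_top (Spec B)) hle
  rw [IsAffineOpen.fromSpec_top, Scheme.isoSpec_Spec_inv] at h1
  rw [Spec.map_comp, Category.assoc, h1, ← Category.assoc, ← Spec.map_comp,
    Iso.inv_hom_id, Spec.map_id, Category.id_comp]



/-- Ring-level lifting from formal smoothness of the localization. -/
theorem local_lifting_of_formallySmooth_atPrime {R C : Type u} [CommRing R] [CommRing C]
    [Algebra R C] (p : Ideal C) [p.IsPrime]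
    [Algebra.FormallySmooth R (Localization.AtPrime p)]
    (B B' : Type u) [CommRing B] [CommRing B'] [IsLocalRing B] [IsLocalRing B']
    (φ : B' →+* B) (hφ : Function.Surjective φ) (hsq : RingHom.ker φ ^ 2 = ⊥)
    (a : C →+* B) (b : R →+* B') (hp : (maximalIdeal B).comap a = p)
    (hab : φ.comp b = a.comp (algebraMap R C)) :
    ∃ g : C →+* B', φ.comp g = a ∧ g.comp (algebraMap R C) = b := by
  letI : Algebra R B' := b.toAlgebra
  letI : Algebra R B := (φ.comp b).toAlgebra
  have hunits : ∀ s : p.primeCompl, IsUnit (a s) := by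
    intro s
    by_contra hs
    have : a s ∈ maximalIdeal B := (IsLocalRing.mem_maximalIdeal _).mpr hs
    have h2 : (s : C) ∈ (maximalIdeal B).comap a := this
    rw [hp] at h2
    exact s.2 h2
  let a' : Localization.AtPrime p →ₐ[R] B :=
    { IsLocalization.lift hunits with
      commutes' := fun r => by
        show IsLocalization.lift hunits (algebraMap R (Localization.AtPrime p) r) = φ (b r)
        rw [IsScalarTower.algebraMap_apply R C (Localization.AtPrime p), IsLocalization.lift_eq]
        exact (congrArg (fun h => h r) hab).symm }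
  let φ' : B' →ₐ[R] B := { φ with commutes' := fun r => rfl }
  have hφ' : Function.Surjective φ' := hφ
  have hnil : IsNilpotent (RingHom.ker (φ' : B' →+* B)) := ⟨2, hsq⟩
  let l : Localization.AtPrime p →ₐ[R] B' :=
    Algebra.FormallySmooth.liftOfSurjective a' φ' hφ' hnil
  refine ⟨l.toRingHom.comp (algebraMap C (Localization.AtPrime p)), ?_, ?_⟩
  · ext c
    show φ' (l (algebraMap C _ c)) = a c
    rw [Algebra.FormallySmooth.liftOfSurjective_apply]
    show IsLocalization.lift hunits (algebraMap C _ c) = a c
    rw [IsLocalization.lift_eq]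
  · ext r
    show l (algebraMap C _ (algebraMap R C r)) = b r
    rw [← IsScalarTower.algebraMap_apply R C (Localization.AtPrime p), l.commutes]
    rfl

/-- The prime of `Γ(X, V)` corresponding to the image of the closed point. -/
theorem primeIdealOf_eq_comap {X : Scheme.{u}} {V : X.Opens} (hV : IsAffineOpen V)
    (B : CommRingCat.{u}) [IsLocalRing B] (a : Γ(X, V) ⟶ B) (x : X) (hx : x ∈ V)
    (h : (Spec.map a ≫ hV.fromSpec) (closedPoint B) = x) :
    (hV.primeIdealOf ⟨x, hx⟩).asIdeal = (maximalIdeal B).comap a.hom := by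
  have h1 : hV.fromSpec (Spec.map a (closedPoint B)) = hV.fromSpec (hV.primeIdealOf ⟨x, hx⟩) := by
    rw [hV.fromSpec_primeIdealOf]
    exact h
  have h2 := hV.fromSpec.isOpenEmbedding.injective h1
  rw [← h2]
  rfl



/-- `Spec φ` maps the closed point to the closed point for surjective `φ`. -/
theorem SpecMap_closedPoint_of_surjective {B B' : Type u} [CommRing B] [CommRing B']
    [IsLocalRing B] [IsLocalRing B'] (φ : B' →+* B) (hφ : Function.Surjective φ) :
    (Spec.map (CommRingCat.ofHom φ)) (closedPoint B) = closedPoint B' := by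
  haveI : IsLocalHom φ := hφ.isLocalHom
  exact IsLocalRing.comap_closedPoint φ

/-- Translation of a commuting square of affine-local data into a ring equation. -/
theorem square_iff {X Y : Scheme.{u}} (f : X ⟶ Y) {U : Y.Opens} (hU : IsAffineOpen U)
    {V : X.Opens} (hV : IsAffineOpen V) (hVU : V ≤ f ⁻¹ᵁ U)
    {B B' : CommRingCat.{u}} (φ : B' ⟶ B) (a : Γ(X, V) ⟶ B) (b : Γ(Y, U) ⟶ B') :
    Spec.map φ ≫ (Spec.map b ≫ hU.fromSpec) = (Spec.map a ≫ hV.fromSpec) ≫ f ↔
      b ≫ φ = f.appLE U V hVU ≫ a := by
  rw [Category.assoc, ← IsAffineOpen.SpecMap_appLE_fromSpec f hU hV hVU, ← Category.assoc,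
    ← Category.assoc, ← Spec.map_comp, ← Spec.map_comp, cancel_mono]
  exact ⟨fun h => Spec.map_injective h, fun h => by rw [h]⟩

theorem S5008_main {X Y : Scheme.{u}} (f : X ⟶ Y)
    [LocallyOfFinitePresentation f] (x : ↥X) :
    x ∈ f.smoothLocus ↔ ∀ (B B' : Type u) [CommRing B] [CommRing B'] [IsLocalRing B] [IsLocalRing B'] (φ : B' →+* B),
      Function.Surjective φ → RingHom.ker φ ^ 2 = ⊥ →
      ∀ (α : Spec (CommRingCat.of B) ⟶ X) (β : Spec (CommRingCat.of B') ⟶ Y),
        α.base (IsLocalRing.closedPoint B) = x → Spec.map (CommRingCat.ofHom φ) ≫ β = α ≫ f →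
        ∃ γ : Spec (CommRingCat.of B') ⟶ X, Spec.map (CommRingCat.ofHom φ) ≫ γ = α ∧ γ ≫ f = β := by
  obtain ⟨_, ⟨U, hU, rfl⟩, hxU, -⟩ :=
    Y.isBasis_affineOpens.exists_subset_of_mem_open (Set.mem_univ (f x)) isOpen_univ
  obtain ⟨_, ⟨V, hV, rfl⟩, hxV, hVU⟩ :=
    X.isBasis_affineOpens.exists_subset_of_mem_open hxU (U.2.preimage f.continuous)
  have hfp := f.finitePresentation_appLE hU hV hVU
  algebraize [(f.appLE U V hVU).hom]
  haveI : Algebra.FiniteType Γ(Y, U) Γ(X, V) := inferInstance
  rw [Scheme.Hom.mem_smoothLocus, formallySmooth_stalkMap_iff U hU V hV hVU hxV]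
  constructor
  · intro hsm B B' _ _ _ _ φ hφ hsq α β hα hcomm
    haveI : Algebra.FormallySmooth Γ(Y, U)
      (Localization.AtPrime (hV.primeIdealOf ⟨x, hxV⟩).asIdeal) := hsm
    have hc' : (Spec.map (CommRingCat.ofHom φ)) (closedPoint B) = closedPoint B' :=
      SpecMap_closedPoint_of_surjective φ hφ
    obtain ⟨a, rfl⟩ := exists_eq_SpecMap_fromSpec hV (CommRingCat.of B) α (by rw [hα]; exact hxV)
    have hβ : β (closedPoint B') ∈ U := by
      rw [← hc', ← Scheme.Hom.comp_apply, hcomm, Scheme.Hom.comp_apply, hα]
      exact hxU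
    obtain ⟨b, rfl⟩ := exists_eq_SpecMap_fromSpec hU (CommRingCat.of B') β hβ
    have hab := (square_iff f hU hV hVU (CommRingCat.ofHom φ) a b).mp hcomm
    have hp := primeIdealOf_eq_comap hV (CommRingCat.of B) a x hxV hα
    obtain ⟨g, hg1, hg2⟩ := local_lifting_of_formallySmooth_atPrime
      (R := Γ(Y, U)) (C := Γ(X, V)) (hV.primeIdealOf ⟨x, hxV⟩).asIdeal B B' φ hφ hsq
      a.hom b.hom hp.symm (by
        have := congrArg CommRingCat.Hom.hom hab
        exact this)
    refine ⟨Spec.map (CommRingCat.ofHom g) ≫ hV.fromSpec, ?_, ?_⟩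
    · rw [← Category.assoc, ← Spec.map_comp]
      congr 2
      ext c
      exact congrArg (fun h => h c) hg1
    · rw [Category.assoc, ← IsAffineOpen.SpecMap_appLE_fromSpec f hU hV hVU, ← Category.assoc,
        ← Spec.map_comp]
      congr 2
      ext r
      exact congrArg (fun h => h r) hg2
  · intro H
    show Algebra.FormallySmooth Γ(Y, U)
      (Localization.AtPrime (hV.primeIdealOf ⟨x, hxV⟩).asIdeal)
    apply formallySmooth_atPrime_of_local_lifting
    intro B B' _ _ _ _ φ hφ hsq a b hp hab
    have hc' : (Spec.map (CommRingCat.ofHom φ)) (closedPoint B) = closedPoint B' :=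
      SpecMap_closedPoint_of_surjective φ hφ
    have hα : (Spec.map (CommRingCat.ofHom a) ≫ hV.fromSpec) (closedPoint B) = x := by
      rw [Scheme.Hom.comp_apply]
      have : (Spec.map (CommRingCat.ofHom a)) (closedPoint B) = hV.primeIdealOf ⟨x, hxV⟩ := by
        apply PrimeSpectrum.ext
        exact hp
      rw [this, hV.fromSpec_primeIdealOf]
    have hcomm := (square_iff f hU hV hVU (CommRingCat.ofHom φ) (CommRingCat.ofHom a)
      (CommRingCat.ofHom b)).mpr (by
        ext r
        exact congrArg (fun h => h r) hab)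
    obtain ⟨γ, hγ1, hγ2⟩ := H B B' φ hφ hsq _ _ hα hcomm
    have hγx : γ (closedPoint B') ∈ V := by
      rw [← hc', ← Scheme.Hom.comp_apply, hγ1, hα]
      exact hxV
    obtain ⟨g, rfl⟩ := exists_eq_SpecMap_fromSpec hV (CommRingCat.of B') γ hγx
    refine ⟨g.hom, ?_, ?_⟩
    · rw [← Category.assoc, ← Spec.map_comp, cancel_mono] at hγ1
      have := Spec.map_injective hγ1
      exact congrArg CommRingCat.Hom.hom this
    · rw [Category.assoc, ← IsAffineOpen.SpecMap_appLE_fromSpec f hU hV hVU, ← Category.assoc,
        ← Spec.map_comp, cancel_mono] at hγ2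
      have := Spec.map_injective hγ2
      exact congrArg CommRingCat.Hom.hom this


end Groth.Agent.Lib.Helper4.SmoothLift1
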