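import Mathlib
import Groth.Prelude.Def_Coh

/-!
# Stalk at generic point of reduced special fibre: maximal ideal is extended (S17018) (helper4)
-/

set_option backward.isDefEq.respectTransparency.types false
set_option synthInstance.maxHeartbeats 400000
set_option autoImplicit false
set_option linter.unusedSectionVars false
set_option linter.style.haveILetI false
set_option linter.unusedSimpArgs false
universe u v w
open CategoryTheory CategoryTheory.Limits AlgebraicGeometry TopologicalSpace Opposite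

namespace Groth.Agent.Lib.Helper4.SpecFibGen1

/-- Any morphism to `Spec R` is `toSpecΓ` followed by `Spec` of `toGlobal`. -/
theorem eq_toSpecΓ_comp {X : Scheme.{u}} {R : Type u} [CommRing R]
    (f : X ⟶ Spec (CommRingCat.of R)) :
    f = X.toSpecΓ ≫ Spec.map (CommRingCat.ofHom (Coh.toGlobal f)) := by
  have h1 := Scheme.toSpecΓ_naturality f
  calc f = f ≫ (Spec (CommRingCat.of R)).toSpecΓ ≫
        Spec.map (Scheme.ΓSpecIso (CommRingCat.of R)).inv := by
        rw [toSpecΓ_SpecMap_ΓSpecIso_inv, Category.comp_id]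
    _ = X.toSpecΓ ≫ Spec.map f.appTop ≫ Spec.map (Scheme.ΓSpecIso (CommRingCat.of R)).inv := by
        rw [← Category.assoc, h1, Category.assoc]
    _ = X.toSpecΓ ≫ Spec.map (CommRingCat.ofHom (Coh.toGlobal f)) := by
        rw [← Spec.map_comp]; rfl

/-- `fromSpec` of an affine open followed by `f`. -/
theorem fromSpec_comp {X : Scheme.{u}} {R : Type u} [CommRing R]
    (f : X ⟶ Spec (CommRingCat.of R)) {V : X.Opens} (hV : IsAffineOpen V) :
    hV.fromSpec ≫ f = Spec.map (CommRingCat.ofHom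
      ((X.presheaf.map (homOfLE (le_top : V ≤ ⊤)).op).hom.comp (Coh.toGlobal f))) := by
  conv_lhs => rw [eq_toSpecΓ_comp f]
  rw [← Category.assoc, hV.fromSpec_toSpecΓ, ← Spec.map_comp]
  rfl

/-- (b) kernel of `gs.app V` is contained in the extended ideal. -/
theorem ker_app_le {R k : Type u} [CommRing R] [CommRing k] (ρ : R →+* k)
    (hρ : Function.Surjective ρ)
    {X Xs : Scheme.{u}} (f : X ⟶ Spec (CommRingCat.of R)) (gs : Xs ⟶ X)
    (fs : Xs ⟶ Spec (CommRingCat.of k))
    (hs : IsPullback gs fs f (Spec.map (CommRingCat.ofHom ρ)))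
    {V : X.Opens} (hV : IsAffineOpen V) (a : Γ(X, V)) (ha : (gs.app V).hom a = 0) :
    a ∈ Ideal.map ((X.presheaf.map (homOfLE (le_top : V ≤ ⊤)).op).hom.comp (Coh.toGlobal f))
      (RingHom.ker ρ) := by
  set φ : R →+* Γ(X, V) :=
    (X.presheaf.map (homOfLE (le_top : V ≤ ⊤)).op).hom.comp (Coh.toGlobal f) with hφ
  set I : Ideal Γ(X, V) := Ideal.map φ (RingHom.ker ρ) with hI
  let π : Γ(X, V) →+* Γ(X, V) ⧸ I := Ideal.Quotient.mk I
  have hker : RingHom.ker ρ ≤ RingHom.ker (π.comp φ) := by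
    intro r hr
    rw [RingHom.mem_ker, RingHom.comp_apply]
    exact Ideal.Quotient.eq_zero_iff_mem.mpr (Ideal.mem_map_of_mem φ hr)
  let ψ : k →+* Γ(X, V) ⧸ I := ρ.liftOfSurjective hρ ⟨π.comp φ, hker⟩
  have hψ : ψ.comp ρ = π.comp φ := ρ.liftOfSurjective_comp hρ ⟨π.comp φ, hker⟩
  have hcomm : (Spec.map (CommRingCat.ofHom π) ≫ hV.fromSpec) ≫ f =
      Spec.map (CommRingCat.ofHom ψ) ≫ Spec.map (CommRingCat.ofHom ρ) := by
    rw [Category.assoc, fromSpec_comp f hV, ← Spec.map_comp, ← Spec.map_comp,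
      ← CommRingCat.ofHom_comp, ← CommRingCat.ofHom_comp, hψ]
  let l : Spec (CommRingCat.of (Γ(X, V) ⧸ I)) ⟶ Xs := hs.lift _ _ hcomm
  have hl : l ≫ gs = Spec.map (CommRingCat.ofHom π) ≫ hV.fromSpec := hs.lift_fst _ _ hcomm
  have hle : (⊤ : (Spec (CommRingCat.of (Γ(X, V) ⧸ I))).Opens) ≤ (l ≫ gs) ⁻¹ᵁ V := by
    rw [hl]
    intro t _
    show (Spec.map (CommRingCat.ofHom π) ≫ hV.fromSpec) t ∈ V
    rw [Scheme.Hom.comp_apply]
    have h0 := hV.range_fromSpec
    have h1 : hV.fromSpec (Spec.map (CommRingCat.ofHom π) t) ∈ Set.range hV.fromSpec :=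
      Set.mem_range_self _
    rw [h0] at h1
    exact h1
  have h1 := IsAffineOpen.SpecMap_appLE_fromSpec (l ≫ gs) hV
    (isAffineOpen_top (Spec (CommRingCat.of (Γ(X, V) ⧸ I)))) hle
  rw [IsAffineOpen.fromSpec_top, Scheme.isoSpec_Spec_inv] at h1
  conv_rhs at h1 => rw [hl, ← Category.assoc, ← Spec.map_comp]
  rw [cancel_mono] at h1
  have h2 := Spec.map_injective h1
  have h3 : ((l ≫ gs).appLE V ⊤ hle).hom a = 0 := by
    rw [Scheme.Hom.comp_appLE, CommRingCat.hom_comp, RingHom.comp_apply, ha, map_zero]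
  rw [h2] at h3
  have h4 : π a = 0 := by
    have h5 := congrArg (Scheme.ΓSpecIso (CommRingCat.of (Γ(X, V) ⧸ I))).hom.hom h3
    rw [map_zero, CommRingCat.hom_comp, RingHom.comp_apply, ← RingHom.comp_apply,
      ← CommRingCat.hom_comp, Iso.inv_hom_id] at h5
    exact h5
  exact Ideal.Quotient.eq_zero_iff_mem.mp h4

/-- (a) stalk at the generic point of an irreducible component of a reduced scheme has zero
maximal ideal. -/
theorem maximalIdeal_stalk_eq_bot {Y : Scheme.{u}} [IsReduced Y] (ξ : Y)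
    (hξ : closure ({ξ} : Set Y) ∈ irreducibleComponents Y) :
    IsLocalRing.maximalIdeal (Y.presheaf.stalk ξ) = ⊥ := by
  have hprime : ∀ p : Ideal (Y.presheaf.stalk ξ), p.IsPrime →
      p = IsLocalRing.maximalIdeal (Y.presheaf.stalk ξ) := by
    intro p hp
    let P : PrimeSpectrum (Y.presheaf.stalk ξ) := ⟨p, hp⟩
    have hy : (Y.fromSpecStalk ξ) P ⤳ ξ := by
      have h0 : (Y.fromSpecStalk ξ) P ∈ Set.range (Y.fromSpecStalk ξ) := Set.mem_range_self _
      rw [Scheme.range_fromSpecStalk] at h0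
      exact h0
    have hy2 : ξ ⤳ (Y.fromSpecStalk ξ) P := by
      rw [specializes_iff_closure_subset]
      have hirr : IsIrreducible (closure ({(Y.fromSpecStalk ξ) P} : Set Y)) :=
        isIrreducible_singleton.closure
      exact hξ.2 hirr (specializes_iff_closure_subset.mp hy)
    have heq : (Y.fromSpecStalk ξ) P = ξ := (hy.antisymm hy2).eq
    have h3 : P = IsLocalRing.closedPoint (Y.presheaf.stalk ξ) := by
      apply (Y.fromSpecStalk ξ).isEmbedding.injective
      rw [heq, Scheme.fromSpecStalk_closedPoint]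
    exact congrArg PrimeSpectrum.asIdeal h3
  have hnil : nilradical (Y.presheaf.stalk ξ) = ⊥ := by
    rw [nilradical_eq_zero, Ideal.zero_eq_bot]
  rw [nilradical_eq_sInf] at hnil
  rw [← hnil]
  apply le_antisymm
  · apply le_sInf
    intro J hJ
    rw [hprime J hJ]
  · exact sInf_le (inferInstance : (IsLocalRing.maximalIdeal (Y.presheaf.stalk ξ)).IsPrime)

/-- (c) kernel of the stalk map is contained in the extended ideal. -/
theorem ker_stalkMap_le {R k : Type u} [CommRing R] [CommRing k] (ρ : R →+* k)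
    (hρ : Function.Surjective ρ)
    {X Xs : Scheme.{u}} (f : X ⟶ Spec (CommRingCat.of R)) (gs : Xs ⟶ X)
    (fs : Xs ⟶ Spec (CommRingCat.of k))
    (hs : IsPullback gs fs f (Spec.map (CommRingCat.ofHom ρ)))
    (hemb : Topology.IsEmbedding gs)
    (ξ : Xs) (s : X.presheaf.stalk (gs ξ)) (hs0 : (gs.stalkMap ξ).hom s = 0) :
    s ∈ Ideal.map ((X.presheaf.germ ⊤ (gs ξ) trivial).hom.comp (Coh.toGlobal f))
      (RingHom.ker ρ) := by
  obtain ⟨V0, hxV0, s0, rfl⟩ := X.presheaf.exists_germ_eq s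
  have h1 : (Xs.presheaf.germ (gs ⁻¹ᵁ V0) ξ hxV0).hom ((gs.app V0).hom s0) = 0 := by
    rw [← hs0]; exact (Scheme.Hom.germ_stalkMap_apply gs V0 ξ hxV0 s0).symm
  have h2 : (Xs.presheaf.germ (gs ⁻¹ᵁ V0) ξ hxV0).hom ((gs.app V0).hom s0) =
      (Xs.presheaf.germ (gs ⁻¹ᵁ V0) ξ hxV0).hom 0 := by rw [h1, map_zero]
  obtain ⟨W', hξW', i1, i2, hres⟩ := Xs.presheaf.germ_eq ξ hxV0 hxV0 _ _ h2
  rw [map_zero] at hres
  obtain ⟨V1s, hV1o, hV1eq⟩ := hemb.isInducing.isOpen_iff.mp W'.2
  let V1 : X.Opens := ⟨V1s, hV1o⟩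
  have hxV1 : gs ξ ∈ V1 := by
    show gs ξ ∈ V1s
    have h0 : ξ ∈ gs ⁻¹' V1s := by rw [hV1eq]; exact hξW'
    exact h0
  obtain ⟨_, ⟨V : X.Opens, hV, rfl⟩, hxV, hVle⟩ :=
    X.isBasis_affineOpens.exists_subset_of_mem_open
      (show gs ξ ∈ ((V0 ⊓ V1 : X.Opens) : Set X) from ⟨hxV0, hxV1⟩) (V0 ⊓ V1).2
  have hVV0 : V ≤ V0 := fun y hy => (hVle hy).1
  have hVV1 : V ≤ V1 := fun y hy => (hVle hy).2
  have hpre : gs ⁻¹ᵁ V ≤ W' := by
    intro y hy
    have h0 : y ∈ gs ⁻¹' V1s := hVV1 hy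
    rw [hV1eq] at h0; exact h0
  have ha' : (gs.app V).hom ((X.presheaf.map (homOfLE hVV0).op).hom s0) = 0 := by
    have hn := congr($(gs.naturality (homOfLE hVV0).op).hom s0)
    simp only [CommRingCat.hom_comp, RingHom.comp_apply] at hn
    rw [hn]
    have hfac : Xs.presheaf.map ((Opens.map gs.base).map (homOfLE hVV0).op.unop).op =
        Xs.presheaf.map i1.op ≫ Xs.presheaf.map (homOfLE hpre).op := by
      rw [← Functor.map_comp]; rfl
    rw [hfac, CommRingCat.hom_comp, RingHom.comp_apply, hres, map_zero]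
  have hmem := ker_app_le ρ hρ f gs fs hs hV _ ha'
  have hg : (X.presheaf.germ V0 (gs ξ) hxV0).hom s0 =
      (X.presheaf.germ V (gs ξ) hxV).hom ((X.presheaf.map (homOfLE hVV0).op).hom s0) :=
    (X.presheaf.germ_res_apply (homOfLE hVV0) (gs ξ) hxV s0).symm
  have h5 := Ideal.mem_map_of_mem (X.presheaf.germ V (gs ξ) hxV).hom hmem
  rw [Ideal.map_map] at h5
  have hring : (X.presheaf.germ V (gs ξ) hxV).hom.comp
      ((X.presheaf.map (homOfLE (le_top : V ≤ ⊤)).op).hom.comp (Coh.toGlobal f)) =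
      (X.presheaf.germ ⊤ (gs ξ) trivial).hom.comp (Coh.toGlobal f) := by
    ext r
    simp only [RingHom.comp_apply]
    exact X.presheaf.germ_res_apply (homOfLE (le_top : V ≤ ⊤)) (gs ξ) hxV _
  rw [hring, ← hg] at h5
  exact h5

/-- (d) the extended ideal is contained in the kernel of the stalk map. -/
theorem map_le_ker_stalkMap {R k : Type u} [CommRing R] [CommRing k] (ρ : R →+* k)
    {X Xs : Scheme.{u}} (f : X ⟶ Spec (CommRingCat.of R)) (gs : Xs ⟶ X)
    (fs : Xs ⟶ Spec (CommRingCat.of k))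
    (hw : gs ≫ f = fs ≫ Spec.map (CommRingCat.ofHom ρ)) (ξ : Xs) :
    Ideal.map ((X.presheaf.germ ⊤ (gs ξ) trivial).hom.comp (Coh.toGlobal f)) (RingHom.ker ρ) ≤
      RingHom.ker (gs.stalkMap ξ).hom := by
  rw [Ideal.map_le_iff_le_comap]
  intro r hr
  rw [Ideal.mem_comap, RingHom.mem_ker, RingHom.comp_apply]
  have h0 := Scheme.Hom.germ_stalkMap_apply gs ⊤ ξ trivial (Coh.toGlobal f r)
  refine h0.trans ?_
  have h1 : (gs.app ⊤).hom (Coh.toGlobal f r) = Coh.toGlobal (gs ≫ f) r := rfl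
  have h2 : Coh.toGlobal (fs ≫ Spec.map (CommRingCat.ofHom ρ)) r = 0 := by
    have h3 := congr($(Scheme.ΓSpecIso_inv_naturality (CommRingCat.ofHom ρ)).hom r)
    simp only [CommRingCat.hom_comp, RingHom.comp_apply, CommRingCat.hom_ofHom] at h3
    show (fs.appTop).hom ((Spec.map (CommRingCat.ofHom ρ)).appTop.hom
      ((Scheme.ΓSpecIso (CommRingCat.of R)).inv.hom r)) = 0
    rw [← h3, (RingHom.mem_ker).mp hr, map_zero, map_zero]
  rw [h1, hw, h2]
  exact map_zero _

theorem main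
    (R : Type u) [CommRing R] [IsLocalRing R]
    (X : Scheme.{u}) (f : X ⟶ Spec (CommRingCat.of R))
    (Xs : Scheme.{u}) (gs : Xs ⟶ X) (fs : Xs ⟶ Spec (CommRingCat.of (IsLocalRing.ResidueField R)))
    (hs : IsPullback gs fs f (Spec.map (CommRingCat.ofHom (IsLocalRing.residue R))))
    [IsReduced Xs]
    (ξ : Xs) (hξ : closure ({ξ} : Set Xs) ∈ irreducibleComponents Xs)
    (B : Type u) [CommRing B] [IsLocalRing B] [Algebra R B]
    (e : X.presheaf.stalk (gs.base ξ) ≅ CommRingCat.of B)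
    (he : e.hom.hom.comp ((X.presheaf.germ ⊤ (gs.base ξ) trivial).hom.comp (Coh.toGlobal f)) =
      algebraMap R B) :
    IsLocalRing.maximalIdeal B = Ideal.map (algebraMap R B) (IsLocalRing.maximalIdeal R) := by
  have hsurj : Function.Surjective (IsLocalRing.residue R) := IsLocalRing.residue_surjective
  have hker : RingHom.ker (IsLocalRing.residue R) = IsLocalRing.maximalIdeal R :=
    IsLocalRing.ker_residue
  haveI : IsClosedImmersion (Spec.map (CommRingCat.ofHom (IsLocalRing.residue R))) :=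
    IsClosedImmersion.spec_of_surjective _ hsurj
  haveI : IsClosedImmersion gs := MorphismProperty.of_isPullback hs.flip inferInstance
  have hmS : IsLocalRing.maximalIdeal (X.presheaf.stalk (gs.base ξ)) =
      Ideal.map ((X.presheaf.germ ⊤ (gs.base ξ) trivial).hom.comp (Coh.toGlobal f))
        (IsLocalRing.maximalIdeal R) := by
    apply le_antisymm
    · intro s hs'
      rw [← hker]
      apply ker_stalkMap_le _ hsurj f gs fs hs gs.isEmbedding ξ s
      have h0 : (gs.stalkMap ξ).hom s ∈ IsLocalRing.maximalIdeal (Xs.presheaf.stalk ξ) := by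
        rw [IsLocalRing.mem_maximalIdeal, mem_nonunits_iff]
        intro hu
        exact (IsLocalRing.mem_maximalIdeal _).mp hs'
          (isUnit_of_map_unit (gs.stalkMap ξ).hom s hu)
      rw [maximalIdeal_stalk_eq_bot ξ hξ] at h0
      exact h0
    · rw [← hker]
      refine (map_le_ker_stalkMap _ f gs fs hs.w ξ).trans ?_
      exact IsLocalRing.le_maximalIdeal (RingHom.ker_ne_top _)
  have hhi : ∀ b : B, e.hom.hom (e.inv.hom b) = b := by
    intro b
    rw [← RingHom.comp_apply, ← CommRingCat.hom_comp, Iso.inv_hom_id]; rfl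
  have hih : ∀ s : X.presheaf.stalk (gs.base ξ), e.inv.hom (e.hom.hom s) = s := by
    intro s
    rw [← RingHom.comp_apply, ← CommRingCat.hom_comp, Iso.hom_inv_id]; rfl
  have hBm : ∀ b : B, b ∈ IsLocalRing.maximalIdeal B ↔
      e.inv.hom b ∈ IsLocalRing.maximalIdeal (X.presheaf.stalk (gs.base ξ)) := by
    intro b
    rw [IsLocalRing.mem_maximalIdeal, IsLocalRing.mem_maximalIdeal, mem_nonunits_iff,
      mem_nonunits_iff, not_iff_not]
    constructor
    · intro hu; exact hu.map e.inv.hom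
    · intro hu
      have h0 := hu.map e.hom.hom
      rwa [hhi] at h0
  have hmap : Ideal.map (algebraMap R B) (IsLocalRing.maximalIdeal R) =
      Ideal.map e.hom.hom (Ideal.map
        ((X.presheaf.germ ⊤ (gs.base ξ) trivial).hom.comp (Coh.toGlobal f))
        (IsLocalRing.maximalIdeal R)) := by
    rw [Ideal.map_map, he]
  rw [hmap, ← hmS]
  ext b
  rw [hBm]
  constructor
  · intro hb
    have h0 := Ideal.mem_map_of_mem e.hom.hom hb
    rwa [hhi] at h0
  · intro hb
    have hle : Ideal.map e.hom.hom (IsLocalRing.maximalIdeal (X.presheaf.stalk (gs.base ξ))) ≤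
        Ideal.comap e.inv.hom (IsLocalRing.maximalIdeal (X.presheaf.stalk (gs.base ξ))) := by
      rw [Ideal.map_le_iff_le_comap]
      intro s hs'
      rw [Ideal.mem_comap, Ideal.mem_comap, hih]; exact hs'
    exact hle hb

end Groth.Agent.Lib.Helper4.SpecFibGen1
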