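import Mathlib
import Groth.Prelude.Def_AlgGrp
import Groth.Prelude.Def_W4bk4git07Quot
import Groth.Agent.Lib.Helper4.Act1

/-!
# monoid structure on the fibre of the stabilizer scheme of a group action over a point (universal submonoid of T-points) (helper4)
-/

set_option backward.isDefEq.respectTransparency.types false
set_option synthInstance.maxHeartbeats 400000
set_option autoImplicit false
set_option linter.unusedSectionVars false
set_option linter.style.haveILetI false
set_option linter.unusedSimpArgs false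
universe u v w v' u'
open CategoryTheory CategoryTheory.Limits AlgebraicGeometry TopologicalSpace Opposite
open MonoidalCategory CartesianMonoidalCategory MonObj GrpObj

namespace Groth.Agent.Lib.Helper4.StabMon1

section Abstract

variable {C : Type u} [Category.{v} C] [CartesianMonoidalCategory C]
variable {D : Type u'} [Category.{v'} D] [CartesianMonoidalCategory D]
variable (Φ : D ⥤ C) {G : C} [MonObj G]
variable (P : ∀ T : D, Submonoid (Φ.obj T ⟶ G))
variable (hP : ∀ {T' T : D} (v : T' ⟶ T) (g : Φ.obj T ⟶ G), g ∈ P T → Φ.map v ≫ g ∈ P T')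
variable {F : D} (i : Φ.obj F ⟶ G) (hi : i ∈ P F)
variable (huniv : ∀ (T : D) (g : Φ.obj T ⟶ G), g ∈ P T → ∃! u : T ⟶ F, Φ.map u ≫ i = g)

include hP hi huniv in
theorem J_inj {T : D} (u u' : T ⟶ F) (h : Φ.map u ≫ i = Φ.map u' ≫ i) : u = u' :=
  (huniv T (Φ.map u ≫ i) (hP u i hi)).unique rfl h.symm

/-- the monoid structure on the universal object -/
noncomputable def monObjOfUniv : MonObj F where
  one := (huniv (𝟙_ D) 1 (one_mem _)).choose
  mul := (huniv (F ⊗ F) ((Φ.map (fst F F) ≫ i) * (Φ.map (snd F F) ≫ i))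
    (mul_mem (hP _ _ hi) (hP _ _ hi))).choose
  one_mul := by
    have h1 := (huniv (𝟙_ D) 1 (one_mem _)).choose_spec.1
    have h2 := (huniv (F ⊗ F) ((Φ.map (fst F F) ≫ i) * (Φ.map (snd F F) ≫ i))
      (mul_mem (hP _ _ hi) (hP _ _ hi))).choose_spec.1
    apply J_inj Φ P hP i hi huniv
    rw [Φ.map_comp, Category.assoc, h2, MonObj.comp_mul, ← Category.assoc, ← Φ.map_comp,
      ← Category.assoc, ← Φ.map_comp, whiskerRight_fst, whiskerRight_snd, Φ.map_comp,
      Category.assoc, h1, MonObj.comp_one, _root_.one_mul, leftUnitor_hom]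
  mul_one := by
    have h1 := (huniv (𝟙_ D) 1 (one_mem _)).choose_spec.1
    have h2 := (huniv (F ⊗ F) ((Φ.map (fst F F) ≫ i) * (Φ.map (snd F F) ≫ i))
      (mul_mem (hP _ _ hi) (hP _ _ hi))).choose_spec.1
    apply J_inj Φ P hP i hi huniv
    rw [Φ.map_comp, Category.assoc, h2, MonObj.comp_mul, ← Category.assoc, ← Φ.map_comp,
      ← Category.assoc, ← Φ.map_comp, whiskerLeft_fst, whiskerLeft_snd, Φ.map_comp,
      Category.assoc, h1, MonObj.comp_one, _root_.mul_one, rightUnitor_hom]
  mul_assoc := by
    have h2 := (huniv (F ⊗ F) ((Φ.map (fst F F) ≫ i) * (Φ.map (snd F F) ≫ i))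
      (mul_mem (hP _ _ hi) (hP _ _ hi))).choose_spec.1
    apply J_inj Φ P hP i hi huniv
    have key : ∀ {T : D} (u : T ⟶ F ⊗ F), Φ.map (u ≫ (huniv (F ⊗ F) ((Φ.map (fst F F) ≫ i) * (Φ.map (snd F F) ≫ i))
      (mul_mem (hP _ _ hi) (hP _ _ hi))).choose) ≫ i = (Φ.map (u ≫ fst F F) ≫ i) * (Φ.map (u ≫ snd F F) ≫ i) := by
      intro T u
      rw [Φ.map_comp, Category.assoc, h2, MonObj.comp_mul, ← Category.assoc, ← Φ.map_comp,
        ← Category.assoc, ← Φ.map_comp]
    rw [key, ← Category.assoc, key, whiskerRight_fst, whiskerRight_snd, key]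
    simp only [Category.assoc, whiskerLeft_fst, whiskerLeft_snd, associator_hom_fst,
      associator_hom_snd_fst, associator_hom_snd_snd]
    rw [← Category.assoc (α_ F F F).hom, key, _root_.mul_assoc]
    simp only [Category.assoc, associator_hom_snd_fst, associator_hom_snd_snd]

end Abstract


section Stab

variable {S : Scheme.{u}} {G X : Over S} [GrpObj G] (a : AlgGrp.Action G X)

/-- the graph morphism `(σ, p₂)` on underlying schemes -/
noncomputable abbrev psiL : (G ⊗ X).left ⟶ (X ⊗ X).left := (GIT.psi a (𝟙 X)).left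

/-- the diagonal on underlying schemes -/
noncomputable abbrev diagL (X : Over S) : X.left ⟶ (X ⊗ X).left := (lift (𝟙 X) (𝟙 X)).left

/-- the structure map of the stabilizer -/
noncomputable abbrev sg : pullback (psiL a) (diagL X) ⟶ X.left := pullback.snd (psiL a) (diagL X)

lemma psi_fst : GIT.psi a (𝟙 X) ≫ fst X X = a.act := by
  rw [GIT.psi, lift_fst, whiskerLeft_id, Category.id_comp]

lemma psi_snd : GIT.psi a (𝟙 X) ≫ snd X X = snd G X := by
  rw [GIT.psi, lift_snd]

lemma psiL_fst : psiL a ≫ (fst X X).left = a.act.left := by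
  rw [← Over.comp_left, psi_fst]

lemma psiL_snd : psiL a ≫ (snd X X).left = (snd G X).left := by
  rw [← Over.comp_left, psi_snd]

lemma diagL_fst : diagL X ≫ (fst X X).left = 𝟙 _ := by
  rw [← Over.comp_left, lift_fst]; rfl

lemma diagL_snd : diagL X ≫ (snd X X).left = 𝟙 _ := by
  rw [← Over.comp_left, lift_snd]; rfl

lemma fst_snd_eq : pullback.fst (psiL a) (diagL X) ≫ (snd G X).left = sg a := by
  have h := congrArg (fun t => t ≫ (snd X X).left) (pullback.condition (f := psiL a) (g := diagL X))
  simp only [Category.assoc] at h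
  rw [psiL_snd, diagL_snd, Category.comp_id] at h
  exact h

lemma fst_act_eq : pullback.fst (psiL a) (diagL X) ≫ a.act.left = sg a := by
  have h := congrArg (fun t => t ≫ (fst X X).left) (pullback.condition (f := psiL a) (g := diagL X))
  simp only [Category.assoc] at h
  rw [psiL_fst, diagL_fst, Category.comp_id] at h
  exact h

/-- a stabilizing pair gives a point of the stabilizer -/
noncomputable def toStab {T : Over S} (h : T ⟶ G) (y : T ⟶ X) (hy : lift h y ≫ a.act = y) :
    T.left ⟶ pullback (psiL a) (diagL X) :=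
  pullback.lift (lift h y).left y.left (by
    rw [← Over.comp_left, ← Over.comp_left]; congr 1
    rw [GIT.psi, comp_lift, comp_lift, whiskerLeft_id, Category.id_comp, hy, lift_snd,
      Category.comp_id])

lemma toStab_fst {T : Over S} (h : T ⟶ G) (y : T ⟶ X) (hy : lift h y ≫ a.act = y) :
    toStab a h y hy ≫ pullback.fst _ _ = (lift h y).left := pullback.lift_fst _ _ _

lemma toStab_sg {T : Over S} (h : T ⟶ G) (y : T ⟶ X) (hy : lift h y ≫ a.act = y) :
    toStab a h y hy ≫ sg a = y.left := pullback.lift_snd _ _ _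

lemma stab_hom_ext {T₀ : Scheme.{u}} (u u' : T₀ ⟶ pullback (psiL a) (diagL X))
    (h1 : u ≫ pullback.fst _ _ ≫ (fst G X).left = u' ≫ pullback.fst _ _ ≫ (fst G X).left)
    (h2 : u ≫ sg a = u' ≫ sg a) : u = u' := by
  apply pullback.hom_ext
  · refine pullback.hom_ext (f := G.hom) (g := X.hom) ?_ ?_
    · simpa only [Category.assoc, Over.fst_left] using h1
    · have h3 := fst_snd_eq a
      rw [Over.snd_left] at h3
      rw [Category.assoc, Category.assoc, h3]
      exact h2
  · exact h2



section Fibre

variable {B : Scheme.{u}} (b : B ⟶ X.left)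

/-- post-composition with the structure map of the point -/
noncomputable abbrev Phi : Over B ⥤ Over S := Over.map (b ≫ X.hom)

/-- the constant point over `T` -/
noncomputable def xT (T : Over B) : (Phi b).obj T ⟶ X := Over.homMk (T.hom ≫ b) (by simp)

lemma xT_left (T : Over B) : (xT b T).left = T.hom ≫ b := rfl

lemma map_xT {T' T : Over B} (v : T' ⟶ T) : (Phi b).map v ≫ xT b T = xT b T' := by
  ext
  simp [xT]

/-- the stabilizer submonoid of `T`-points -/
noncomputable def stabSub (T : Over B) : Submonoid ((Phi b).obj T ⟶ G) where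
  carrier := {g | lift g (xT b T) ≫ a.act = xT b T}
  one_mem' := Groth.Agent.Helper4.Act.one_smul' a.act a.one_act _
  mul_mem' := by
    intro g h hg hh
    simp only [Set.mem_setOf_eq] at *
    rw [Groth.Agent.Helper4.Act.mul_smul' a.act a.mul_act, hh, hg]

lemma mem_stabSub {T : Over B} (g : (Phi b).obj T ⟶ G) :
    g ∈ stabSub a b T ↔ lift g (xT b T) ≫ a.act = xT b T := Iff.rfl

lemma stabSub_comp {T' T : Over B} (v : T' ⟶ T) (g : (Phi b).obj T ⟶ G)
    (hg : g ∈ stabSub a b T) : (Phi b).map v ≫ g ∈ stabSub a b T' := by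
  rw [mem_stabSub] at hg ⊢
  rw [← map_xT b v, ← comp_lift, Category.assoc, hg]

/-- the fibre of the stabilizer over the point -/
noncomputable abbrev FibObj : Over B := Over.mk (pullback.snd (sg a) b)

lemma fib_w : (pullback.fst (sg a) b ≫ pullback.fst (psiL a) (diagL X) ≫ (fst G X).left) ≫ G.hom =
    pullback.snd (sg a) b ≫ b ≫ X.hom := by
  have h1 : (fst G X).left ≫ G.hom = (snd G X).left ≫ X.hom :=
    (Over.w (fst G X)).trans (Over.w (snd G X)).symm
  simp only [Category.assoc]
  rw [h1, ← Category.assoc (pullback.fst (psiL a) (diagL X)), fst_snd_eq,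
    ← Category.assoc, pullback.condition, Category.assoc]

/-- the universal stabilizing element -/
noncomputable def fibI : (Phi b).obj (FibObj a b) ⟶ G :=
  Over.homMk (pullback.fst (sg a) b ≫ pullback.fst (psiL a) (diagL X) ≫ (fst G X).left)
    (fib_w a b)

lemma fibI_left : (fibI a b).left =
    pullback.fst (sg a) b ≫ pullback.fst (psiL a) (diagL X) ≫ (fst G X).left := rfl

lemma lift_fibI_left : (lift (fibI a b) (xT b (FibObj a b))).left =
    pullback.fst (sg a) b ≫ pullback.fst (psiL a) (diagL X) := by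
  refine pullback.hom_ext (f := G.hom) (g := X.hom) ?_ ?_
  · rw [← Over.fst_left, ← Over.comp_left, lift_fst, fibI_left, Category.assoc]
  · rw [← Over.snd_left, ← Over.comp_left, lift_snd, xT_left, Category.assoc, fst_snd_eq,
      pullback.condition]
    rfl

lemma fibI_mem : fibI a b ∈ stabSub a b (FibObj a b) := by
  rw [mem_stabSub]
  ext
  rw [Over.comp_left, lift_fibI_left, Category.assoc, fst_act_eq, xT_left, pullback.condition]
  rfl




/-- existence part of the universal property -/
noncomputable def fibLift {T : Over B} (g : (Phi b).obj T ⟶ G) (hg : g ∈ stabSub a b T) :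
    T ⟶ FibObj a b :=
  Over.homMk (pullback.lift (toStab a g (xT b T) hg) T.hom (by rw [toStab_sg, xT_left]))
    (pullback.lift_snd _ _ _)

lemma fibLift_fibI {T : Over B} (g : (Phi b).obj T ⟶ G) (hg : g ∈ stabSub a b T) :
    (Phi b).map (fibLift a b g hg) ≫ fibI a b = g := by
  ext
  rw [Over.comp_left, Over.map_map_left, fibI_left]
  simp only [fibLift, Over.homMk_left]
  rw [pullback.lift_fst_assoc, ← Category.assoc, toStab_fst, ← Over.comp_left, lift_fst]

lemma fib_hom_ext {T : Over B} (u u' : T ⟶ FibObj a b)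
    (h : (Phi b).map u ≫ fibI a b = (Phi b).map u' ≫ fibI a b) : u = u' := by
  ext
  have hw : u.left ≫ pullback.snd (sg a) b = u'.left ≫ pullback.snd (sg a) b :=
    (Over.w u).trans (Over.w u').symm
  refine pullback.hom_ext (f := sg a) (g := b) ?_ hw
  apply stab_hom_ext
  · have h' := congrArg CommaMorphism.left h
    simpa only [Over.comp_left, Over.map_map_left, fibI_left, Category.assoc] using h'
  · rw [Category.assoc, Category.assoc, pullback.condition, ← Category.assoc, hw, Category.assoc]

theorem fib_univ (T : Over B) (g : (Phi b).obj T ⟶ G) (hg : g ∈ stabSub a b T) :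
    ∃! u : T ⟶ FibObj a b, (Phi b).map u ≫ fibI a b = g :=
  ⟨fibLift a b g hg, fibLift_fibI a b g hg,
    fun u hu => fib_hom_ext a b _ _ (hu.trans (fibLift_fibI a b g hg).symm)⟩

/-- the fibre of the stabilizer over a point is a monoid object -/
noncomputable def fibMonObj : MonObj (FibObj a b) :=
  monObjOfUniv (Phi b) (stabSub a b) (fun v g hg => stabSub_comp a b v g hg) (fibI a b)
    (fibI_mem a b) (fib_univ a b)

end Fibre

end Stab

end Groth.Agent.Lib.Helper4.StabMon1
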