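import Mathlib
import Groth.Prelude.Def_AlgGrp
import Groth.Prelude.Def_W4bk4git07Quot
import Groth.Agent.Lib.Helper4.Act1
import Groth.Agent.Lib.Helper4.StabMon1
import Groth.Agent.Lib.Helper6.Cartier.Local

/-!
# stabilizer fibres: universally injective iff trivial (char 0 via Cartier for monoids, or G etale); S18508 (helper4)
-/

set_option backward.isDefEq.respectTransparency.types false
set_option synthInstance.maxHeartbeats 400000
set_option autoImplicit false
set_option linter.unusedSectionVars false
set_option linter.style.haveILetI false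
set_option linter.unusedSimpArgs false
universe u v w v' u'
open CategoryTheory CategoryTheory.Limits AlgebraicGeometry TopologicalSpace Opposite
open MonoidalCategory CartesianMonoidalCategory MonObj GrpObj
open Groth.Agent.Lib.Helper4.StabMon1

namespace Groth.Agent.Lib.Helper4.StabFree1

/-- a separated morphism with a section, reduced one-point source: isomorphism -/
theorem isIso_of_section_of_reduced {Y B : Scheme.{u}} (π : Y ⟶ B) (s : B ⟶ Y)
    (hs : s ≫ π = 𝟙 B) [IsSeparated π] [IsReduced Y] [Subsingleton Y] [Nonempty B] : IsIso π := by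
  have h1 : IsClosedImmersion (s ≫ π) := by rw [hs]; infer_instance
  have h2 : IsClosedImmersion s := IsClosedImmersion.of_comp s π
  have h3 : Surjective s := ⟨fun y => ⟨Classical.arbitrary B, Subsingleton.elim _ _⟩⟩
  have h4 : IsIso s := isIso_of_isClosedImmersion_of_surjective s
  have h5 : IsIso (s ≫ π) := by rw [hs]; infer_instance
  exact IsIso.of_isIso_comp_left s π

section Main

variable {k : Type u} [Field k] {G X : Over (Spec (CommRingCat.of k))} [GrpObj G]
  (a : AlgGrp.Action G X)

instance lft_tensor' [LocallyOfFiniteType G.hom] [LocallyOfFiniteType X.hom] :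
    LocallyOfFiniteType (G ⊗ X).hom := by
  have : (G ⊗ X).hom = pullback.fst G.hom X.hom ≫ G.hom := rfl
  rw [this]; infer_instance

instance lft_psiL [LocallyOfFiniteType G.hom] [LocallyOfFiniteType X.hom] :
    LocallyOfFiniteType (psiL a) := by
  have h : psiL a ≫ (X ⊗ X).hom = (G ⊗ X).hom := Over.w (GIT.psi a (𝟙 X))
  have : LocallyOfFiniteType (psiL a ≫ (X ⊗ X).hom) := by rw [h]; infer_instance
  exact locallyOfFiniteType_of_comp (psiL a) (X ⊗ X).hom

instance sep_tensor' [IsSeparated G.hom] [IsSeparated X.hom] :
    IsSeparated (G ⊗ X).hom := by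
  have : (G ⊗ X).hom = pullback.fst G.hom X.hom ≫ G.hom := rfl
  rw [this]; infer_instance

instance sep_psiL [IsSeparated G.hom] [IsSeparated X.hom] :
    IsSeparated (psiL a) := by
  have h : psiL a ≫ (X ⊗ X).hom = (G ⊗ X).hom := Over.w (GIT.psi a (𝟙 X))
  have : IsSeparated (psiL a ≫ (X ⊗ X).hom) := by rw [h]; infer_instance
  exact IsSeparated.of_comp (psiL a) (X ⊗ X).hom



theorem isIso_fibre_charZero [CharZero k] [LocallyOfFiniteType G.hom] [LocallyOfFiniteType X.hom]
    [IsSeparated G.hom] [IsSeparated X.hom] (hui : UniversallyInjective (sg a)) (x : X.left) :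
    IsIso ((sg a).fiberToSpecResidueField x) := by
  let κ : Type u := X.left.residueField x
  let b : Spec (CommRingCat.of κ) ⟶ X.left := X.left.fromSpecResidueField x
  let F : Over (Spec (CommRingCat.of κ)) := FibObj a b
  letI : MonObj F := fibMonObj a b
  have hFhom : F.hom = (sg a).fiberToSpecResidueField x := rfl
  have i1 : LocallyOfFiniteType F.hom :=
    (inferInstance : LocallyOfFiniteType (pullback.snd (sg a) b))
  have i2 : IsSeparated F.hom := (inferInstance : IsSeparated (pullback.snd (sg a) b))
  have i3 : UniversallyInjective F.hom :=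
    MorphismProperty.pullback_snd (P := @UniversallyInjective) (sg a) b hui
  have i4 : CharZero κ :=
    charZero_of_injective_ringHom (f := (Spec.preimage (b ≫ X.hom)).hom) (RingHom.injective _)
  have hred := Groth.Agent.Lib.Helper6.Cartier.isReduced_stalk_unit F
  have hsub : Subsingleton F.left := ⟨fun y y' => F.hom.injective (Subsingleton.elim _ _)⟩
  have i5 : IsReduced F.left := by
    have : ∀ y : F.left, _root_.IsReduced (F.left.presheaf.stalk y) := fun y => by
      rw [Subsingleton.elim y (Groth.Agent.Lib.Helper6.Cartier.e F)]; exact hred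
    exact isReduced_of_isReduced_stalk F.left
  rw [← hFhom]
  exact isIso_of_section_of_reduced F.hom η[F].left (Over.w η[F])



/-- universally injective + unramified + section ⇒ iso -/
theorem isIso_of_section_of_unramified {Y B : Scheme.{u}} (π : Y ⟶ B) (s : B ⟶ Y)
    (hs : s ≫ π = 𝟙 B) [FormallyUnramified π] [LocallyOfFiniteType π] [UniversallyInjective π] :
    IsIso π := by
  have h1 : Surjective (pullback.diagonal π) := (UniversallyInjective.iff_diagonal π).mp inferInstance
  have h2 : IsIso (pullback.diagonal π) :=
    (isIso_iff_isOpenImmersion_and_surjective _).mpr ⟨inferInstance, h1⟩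
  have h3 : Mono π := (pullback.isIso_diagonal_iff π).mp h2
  have h4 : IsSplitEpi π := ⟨⟨s, hs⟩⟩
  exact isIso_of_mono_of_isSplitEpi π

theorem isIso_fibre_etale [Etale G.hom] [LocallyOfFiniteType X.hom]
    (hui : UniversallyInjective (sg a)) (x : X.left) :
    IsIso ((sg a).fiberToSpecResidueField x) := by
  let κ : Type u := X.left.residueField x
  let b : Spec (CommRingCat.of κ) ⟶ X.left := X.left.fromSpecResidueField x
  let F : Over (Spec (CommRingCat.of κ)) := FibObj a b
  letI : MonObj F := fibMonObj a b
  have hFhom : F.hom = (sg a).fiberToSpecResidueField x := rfl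
  have i1 : LocallyOfFiniteType F.hom :=
    (inferInstance : LocallyOfFiniteType (pullback.snd (sg a) b))
  have i3 : UniversallyInjective F.hom :=
    MorphismProperty.pullback_snd (P := @UniversallyInjective) (sg a) b hui
  -- the monomorphism into the base change of `G`
  let m : F.left ⟶ pullback G.hom (b ≫ X.hom) :=
    pullback.lift (fibI a b).left F.hom (Over.w (fibI a b))
  have hm : Mono m := by
    refine ⟨fun {T₀} u u' h => ?_⟩
    have h1 : u ≫ F.hom = u' ≫ F.hom := by
      have := congrArg (fun t => t ≫ pullback.snd G.hom (b ≫ X.hom)) h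
      simpa only [Category.assoc, m, pullback.lift_snd] using this
    have h2 : u ≫ (fibI a b).left = u' ≫ (fibI a b).left := by
      have := congrArg (fun t => t ≫ pullback.fst G.hom (b ≫ X.hom)) h
      simpa only [Category.assoc, m, pullback.lift_fst] using this
    let T : Over (Spec (CommRingCat.of κ)) := Over.mk (u ≫ F.hom)
    let ũ : T ⟶ F := Over.homMk u rfl
    let ũ' : T ⟶ F := Over.homMk u' h1.symm
    have h3 : ũ = ũ' := by
      apply fib_hom_ext a b
      ext
      rw [Over.comp_left, Over.comp_left, Over.map_map_left, Over.map_map_left]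
      exact h2
    exact congrArg CommaMorphism.left h3
  have i4 : FormallyUnramified m := inferInstance
  have i5 : FormallyUnramified F.hom := by
    have : F.hom = m ≫ pullback.snd G.hom (b ≫ X.hom) := (pullback.lift_snd _ _ _).symm
    rw [this]
    have i6 : Etale (pullback.snd G.hom (b ≫ X.hom)) := inferInstance
    have i7 : FormallyUnramified (pullback.snd G.hom (b ≫ X.hom)) := inferInstance
    exact MorphismProperty.comp_mem (W := @FormallyUnramified) _ _ i4 i7
  rw [← hFhom]
  exact isIso_of_section_of_unramified F.hom η[F].left (Over.w η[F])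

end Main


/-- a morphism all of whose fibres are isomorphic to the residue field spectrum is universally
injective -/
theorem univInj_of_fibres {Y Z : Scheme.{u}} (f : Y ⟶ Z)
    (h : ∀ z : Z, IsIso (f.fiberToSpecResidueField z)) : UniversallyInjective f := by
  have hT := (tfae_universallyInjective f).out 0 1
  rw [hT]
  intro K _ g₁ g₂ hg
  dsimp only at hg
  obtain ⟨z, φ, hφ⟩ : ∃ (z : Z) (φ : Spec (.of K) ⟶ Spec (Z.residueField z)),
      φ ≫ Z.fromSpecResidueField z = g₁ ≫ f :=
    ⟨_, Spec.map ((Scheme.SpecToEquivOfField K Z) (g₁ ≫ f)).2,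
      (Scheme.SpecToEquivOfField K Z).left_inv (g₁ ≫ f)⟩
  let g₁' : Spec (.of K) ⟶ pullback f (Z.fromSpecResidueField z) := pullback.lift g₁ φ hφ.symm
  let g₂' : Spec (.of K) ⟶ pullback f (Z.fromSpecResidueField z) :=
    pullback.lift g₂ φ (hg ▸ hφ.symm)
  have := h z
  have h1 : g₁' ≫ f.fiberToSpecResidueField z = g₂' ≫ f.fiberToSpecResidueField z :=
    (pullback.lift_snd _ _ _).trans (pullback.lift_snd _ _ _).symm
  have hm : Mono (f.fiberToSpecResidueField z) := inferInstance
  have h2 : g₁' = g₂' := (cancel_mono (f.fiberToSpecResidueField z)).mp h1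
  have h3 := congrArg (fun t => t ≫ pullback.fst f (Z.fromSpecResidueField z)) h2
  simpa only [g₁', g₂', pullback.lift_fst] using h3


theorem main_S18508 (k : Type u) [Field k]
    (G X : Over (Spec (CommRingCat.of k))) [GrpObj G] [IsAffine G.left] [LocallyOfFiniteType G.hom]
    [LocallyOfFiniteType X.hom] [QuasiCompact X.hom] [IsSeparated X.hom]
    (hG : CharZero k ∨ (IsFinite G.hom ∧ Etale G.hom)) (a : AlgGrp.Action G X) :
    UniversallyInjective (Limits.pullback.snd (GIT.psi a (𝟙 X)).left (CartesianMonoidalCategory.lift (𝟙 X) (𝟙 X)).left) ↔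
      ∀ x : ↥X.left, IsIso ((Limits.pullback.snd (GIT.psi a (𝟙 X)).left (CartesianMonoidalCategory.lift (𝟙 X) (𝟙 X)).left).fiberToSpecResidueField x) := by
  refine ⟨fun hui x => ?_, fun h => univInj_of_fibres _ h⟩
  have : IsSeparated G.hom := inferInstance
  rcases hG with h0 | ⟨_, h2⟩
  · exact isIso_fibre_charZero a hui x
  · exact isIso_fibre_etale a hui x

end Groth.Agent.Lib.Helper4.StabFree1
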