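import Mathlib
import Groth.Prelude.Def_AlgGrp
import Groth.Prelude.Def_W4bk4git07Quot
import Groth.Agent.Lib.Helper4.Act1
import Groth.Agent.Lib.Helper4.StabMon1
import Groth.Agent.Lib.Helper4.StabFree1
import Groth.Agent.Lib.Helper3.SecIso

/-!
# free actions: trivial stabilizer => graph morphism mono; proper + trivial stabilizers => closed immersion (S18503, S18509) (helper4)
-/

set_option backward.isDefEq.respectTransparency.types false
set_option synthInstance.maxHeartbeats 400000
set_option autoImplicit false
set_option linter.unusedSectionVars false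
set_option linter.style.haveILetI false
set_option linter.unusedSimpArgs false
universe u v w v' u'
open CategoryTheory CategoryTheory.Limits AlgebraicGeometry TopologicalSpace Opposite
open MonoidalCategory CartesianMonoidalCategory MonObj GrpObj
open Groth.Agent.Lib.Helper4.StabMon1 Groth.Agent.Lib.Helper4.StabFree1

namespace Groth.Agent.Lib.Helper4.StabFree2

section Gen

variable {S : Scheme.{u}} {G X : Over S} [GrpObj G] (a : AlgGrp.Action G X)

/-- the unit section of the stabilizer -/
noncomputable def eStab : X.left ⟶ pullback (psiL a) (diagL X) :=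
  toStab a (1 : X ⟶ G) (𝟙 X) (Groth.Agent.Helper4.Act.one_smul' a.act a.one_act _)

lemma eStab_sg : eStab a ≫ sg a = 𝟙 X.left := toStab_sg a _ _ _

/-- if the stabilizer is trivial, the graph morphism is a monomorphism -/
theorem mono_psiL_of_isIso [IsIso (sg a)] : Mono (psiL a) := by
  refine ⟨fun {T₀} p p' h => ?_⟩
  let T : Over S := Over.mk (p ≫ (G ⊗ X).hom)
  have hw : p' ≫ (G ⊗ X).hom = p ≫ (G ⊗ X).hom := by
    rw [← Over.w (GIT.psi a (𝟙 X)), ← Category.assoc, ← Category.assoc, h]
  let P : T ⟶ G ⊗ X := Over.homMk p rfl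
  let P' : T ⟶ G ⊗ X := Over.homMk p' hw
  have hP : P ≫ GIT.psi a (𝟙 X) = P' ≫ GIT.psi a (𝟙 X) := by
    apply Over.OverMorphism.ext
    exact h
  have hy : P ≫ snd G X = P' ≫ snd G X := by
    have := congrArg (fun t => t ≫ snd X X) hP
    simpa only [Category.assoc, psi_snd] using this
  have hact : P ≫ a.act = P' ≫ a.act := by
    have := congrArg (fun t => t ≫ fst X X) hP
    simpa only [Category.assoc, psi_fst] using this
  let g : T ⟶ G := P ≫ fst G X
  let g' : T ⟶ G := P' ≫ fst G X
  let y : T ⟶ X := P ≫ snd G X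
  have hPl : P = lift g y := by
    apply CartesianMonoidalCategory.hom_ext <;> simp [g, y]
  have hPl' : P' = lift g' y := by
    apply CartesianMonoidalCategory.hom_ext <;> simp [g', y, hy]
  have hst : lift (g⁻¹ * g') y ≫ a.act = y := by
    rw [Groth.Agent.Helper4.Act.mul_smul' a.act a.mul_act, ← hPl', ← hact, hPl,
      ← Groth.Agent.Helper4.Act.mul_smul' a.act a.mul_act, inv_mul_cancel,
      Groth.Agent.Helper4.Act.one_smul' a.act a.one_act]
  have h1 : toStab a (g⁻¹ * g') y hst = toStab a 1 y
      (Groth.Agent.Helper4.Act.one_smul' a.act a.one_act _) := by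
    rw [← cancel_mono (sg a), toStab_sg, toStab_sg]
  have h2 := congrArg (fun t => t ≫ pullback.fst _ _ ≫ (fst G X).left) h1
  simp only [← Category.assoc, toStab_fst] at h2
  rw [← Over.comp_left, ← Over.comp_left, lift_fst, lift_fst] at h2
  have h3 : g⁻¹ * g' = 1 := by
    apply Over.OverMorphism.ext
    exact h2
  have h4 : g' = g := by
    rw [inv_mul_eq_one] at h3
    exact h3.symm
  have h5 : P = P' := by rw [hPl, hPl', h4]
  exact congrArg CommaMorphism.left h5

end Gen


section Main

variable {k : Type u} [Field k] {G X : Over (Spec (CommRingCat.of k))} [GrpObj G]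
  (a : AlgGrp.Action G X)

theorem isIso_sg_of_trivial [LocallyOfFiniteType G.hom] [LocallyOfFiniteType X.hom]
    (hcl : IsClosedMap (sg a).base)
    (htriv : ∀ x : X.left, IsIso ((sg a).fiberToSpecResidueField x)) : IsIso (sg a) := by
  have hN : IsLocallyNoetherian X.left := LocallyOfFiniteType.isLocallyNoetherian X.hom
  have i1 : LocallyOfFiniteType (sg a) :=
    (inferInstance : LocallyOfFiniteType (pullback.snd (psiL a) (diagL X)))
  have i2 : LocallyOfFinitePresentation (sg a) := inferInstance
  refine IsZariskiLocalAtTarget.of_forall_exists_morphismRestrict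
    (P := MorphismProperty.isomorphisms Scheme) (fun x => ?_)
  exact Groth.Agent.Helper3.SecIso.S5321_main _ _ (sg a) (eStab a) (eStab_sg a) hcl x
    ⟨⊤, trivial, inferInstance⟩ (htriv x)

theorem main_S18503 (k : Type u) [Field k]
    (G X : Over (Spec (CommRingCat.of k))) [GrpObj G] [IsAffine G.left] [LocallyOfFiniteType G.hom]
    [LocallyOfFiniteType X.hom] [QuasiCompact X.hom] [QuasiSeparated X.hom]
    (a : AlgGrp.Action G X) (hp : IsProper (GIT.psi a (𝟙 X)).left)
    (htriv : ∀ x : ↥X.left, IsIso ((Limits.pullback.snd (GIT.psi a (𝟙 X)).left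
      (CartesianMonoidalCategory.lift (𝟙 X) (𝟙 X)).left).fiberToSpecResidueField x)) :
    IsClosedImmersion (GIT.psi a (𝟙 X)).left := by
  have i1 : IsProper (sg a) := MorphismProperty.pullback_snd (P := @IsProper) _ _ hp
  have i2 : IsIso (sg a) := isIso_sg_of_trivial a (sg a).isClosedMap htriv
  rw [IsClosedImmersion.iff_isProper_and_mono]
  exact ⟨hp, mono_psiL_of_isIso a⟩

theorem main_S18509 (k : Type u) [Field k]
    (G X : Over (Spec (CommRingCat.of k))) [GrpObj G] [IsAffine G.left] [LocallyOfFiniteType G.hom]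
    [LocallyOfFiniteType X.hom] [QuasiCompact X.hom] [IsSeparated X.hom]
    (hG : CharZero k ∨ (IsFinite G.hom ∧ Etale G.hom)) (a : AlgGrp.Action G X) :
    IsClosedImmersion (GIT.psi a (𝟙 X)).left ↔
      IsProper (GIT.psi a (𝟙 X)).left ∧ UniversallyInjective (Limits.pullback.snd (GIT.psi a (𝟙 X)).left (CartesianMonoidalCategory.lift (𝟙 X) (𝟙 X)).left) := by
  constructor
  · intro h
    refine ⟨inferInstance, ?_⟩
    have : IsClosedImmersion (sg a) := MorphismProperty.pullback_snd (P := @IsClosedImmersion) _ _ h
    infer_instance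
  · rintro ⟨hp, hui⟩
    exact main_S18503 k G X a hp ((main_S18508 k G X hG a).mp hui)

end Main

end Groth.Agent.Lib.Helper4.StabFree2
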