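import Mathlib
import Groth.Prelude.Def_ModSite
import Groth.Prelude.Def_ModSite2
import Groth.Agent.Lib.Helper5.Misc.ShriekSheaf

/-!
# Stalk of the extension by zero of a module at a point of the site (helper4)
-/

set_option backward.isDefEq.respectTransparency.types false
set_option synthInstance.maxHeartbeats 400000
set_option autoImplicit false
set_option linter.unusedSectionVars false
set_option linter.style.haveILetI false
set_option linter.unusedSimpArgs false
universe u v w
open CategoryTheory CategoryTheory.Limits Opposite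

namespace Groth.Agent.Lib.Helper4.StalkShriek

open Groth.Agent.Lib.Helper5 Groth.Agent.Lib.Helper5.TensorSheaf

variable {C : Type u} [SmallCategory C] {J : GrothendieckTopology C}
    (O : Sheaf J CommRingCat.{u}) (U : C) (G : ModSite.Mod (O.over U))
    (p : GrothendieckTopology.Point.{u} J)

/-- the underlying presheaf of modules on `C/U` -/
noncomputable abbrev M₀ : PresheafOfModules.{u} (Shriek.RU U (ShriekSheaf.Rg O)) :=
  (fgt (O.over U)).obj G

/-- the explicit abelian presheaf `V ↦ ⨁_φ G(φ)` -/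
noncomputable abbrev P₀ : Cᵒᵖ ⥤ AddCommGrpCat.{u} := Shriek.shriekAb (M₀ O U G)

noncomputable def iso1 : ModSite.stalkAb p ((ShriekSheaf.extZero' O U).obj G) ≅
    p.presheafFiber.obj (P₀ O U G) :=
  (GrothendieckTopology.Point.presheafToSheafCompSheafFiberIso p AddCommGrpCat.{u}).app (P₀ O U G)


/-- the underlying abelian presheaf of `G` on `C/U` -/
noncomputable abbrev Q₀ : (Over U)ᵒᵖ ⥤ AddCommGrpCat.{u} := (ModSite.toAb G).obj

open Classical in
/-- inclusion of a summand -/
noncomputable def inc (W : Over U) : (Q₀ O U G).obj (op W) ⟶ (P₀ O U G).obj (op W.left) :=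
  AddCommGrpCat.ofHom
    (DirectSum.of (fun φ : W.left ⟶ U => Shriek.summand (M₀ O U G) φ) W.hom)

open Classical in
lemma inc_apply (W : Over U) (m : (Q₀ O U G).obj (op W)) :
    (inc O U G W).hom m =
      DirectSum.of (fun φ : W.left ⟶ U => Shriek.summand (M₀ O U G) φ) W.hom m := rfl

open Classical in
lemma inc_naturality {W' W : Over U} (k : W' ⟶ W) :
    (Q₀ O U G).map k.op ≫ inc O U G W' = inc O U G W ≫ (P₀ O U G).map k.left.op := by
  ext m
  change (inc O U G W').hom (((Q₀ O U G).map k.op).hom m) =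
    Shriek.secMap (M₀ O U G) k.left ((inc O U G W).hom m)
  rw [inc_apply, inc_apply, Shriek.secMap_of]
  exact (Shriek.of_map_congr (M₀ O U G) (Over.w k)
    (Over.homMk k.left : Over.mk (k.left ≫ W.hom) ⟶ Over.mk W.hom) k rfl m).symm


/-- the explicit model of the stalk of the extension by zero -/
noncomputable abbrev T₀ : AddCommGrpCat.{u} := p.presheafFiber.obj (P₀ O U G)

/-- the injection of the stalk at the point over `x` -/
noncomputable def ιx (x : p.fiber.obj U) : ModSite.stalkAb (p.over x) G ⟶ T₀ O U G p :=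
  (p.over x).presheafFiberDesc (P := Q₀ O U G)
    (fun W y => inc O U G W ≫ p.toPresheafFiber W.left y.1 (P₀ O U G))
    (by
      intro W' W k y
      rw [← Category.assoc, inc_naturality, Category.assoc, p.toPresheafFiber_w]
      rfl)

lemma toPF_ιx (x : p.fiber.obj U) (W : Over U) (y : (p.over x).fiber.obj W) :
    (p.over x).toPresheafFiber W y (Q₀ O U G) ≫ ιx O U G p x =
      inc O U G W ≫ p.toPresheafFiber W.left y.1 (P₀ O U G) :=
  (p.over x).toPresheafFiber_presheafFiberDesc _ _ W y


section desc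

variable {O U G p}
variable (s : Cofan (fun x : p.fiber.obj U => ModSite.stalkAb (p.over x) G))

/-- the component maps of the descent morphism -/
noncomputable def σ {V : C} (φ : V ⟶ U) (y : p.fiber.obj V) (x : p.fiber.obj U)
    (hx : p.fiber.map φ y = x) : Shriek.summand (M₀ O U G) φ →+ s.pt :=
  ((p.over x).toPresheafFiber (Over.mk φ) ⟨y, hx⟩ (Q₀ O U G) ≫ s.inj x).hom

lemma σ_res {V V' : C} (h : V' ⟶ V) (φ : V ⟶ U) (y' : p.fiber.obj V') (x : p.fiber.obj U)
    (hx : p.fiber.map (h ≫ φ) y' = x) (hx' : p.fiber.map φ (p.fiber.map h y') = x)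
    (m : Shriek.summand (M₀ O U G) φ) :
    σ s (h ≫ φ) y' x hx (Shriek.gres (M₀ O U G) h φ m) = σ s φ (p.fiber.map h y') x hx' m := by
  have h1 := (p.over x).toPresheafFiber_w
    (Over.homMk h : Over.mk (h ≫ φ) ⟶ Over.mk φ) ⟨y', hx⟩ (Q₀ O U G)
  have h2 := congrArg (fun t => (t ≫ s.inj x).hom m) h1
  exact h2


open Classical in
/-- the descent morphism on sections over `V` -/
noncomputable def descV (V : C) (y : p.fiber.obj V) : (P₀ O U G).obj (op V) ⟶ s.pt :=
  AddCommGrpCat.ofHom
    (DirectSum.toAddMonoid (fun φ : V ⟶ U => σ s φ y (p.fiber.map φ y) rfl))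

open Classical in
lemma descV_of (V : C) (y : p.fiber.obj V) (φ : V ⟶ U) (m : Shriek.summand (M₀ O U G) φ) :
    (descV s V y).hom (DirectSum.of (fun φ : V ⟶ U => Shriek.summand (M₀ O U G) φ) φ m) =
      σ s φ y (p.fiber.map φ y) rfl m :=
  DirectSum.toAddMonoid_of _ _ _

lemma σ_res' {V V' : C} (h : V' ⟶ V) (φ : V ⟶ U) (y' : p.fiber.obj V') (x x' : p.fiber.obj U)
    (hx : p.fiber.map (h ≫ φ) y' = x) (hx' : p.fiber.map φ (p.fiber.map h y') = x') (e : x = x')
    (m : Shriek.summand (M₀ O U G) φ) :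
    σ s (h ≫ φ) y' x hx (Shriek.gres (M₀ O U G) h φ m) = σ s φ (p.fiber.map h y') x' hx' m := by
  subst e
  exact σ_res s h φ y' x hx hx' m

open Classical in
lemma descV_w {V' V : C} (h : V' ⟶ V) (y' : p.fiber.obj V') :
    (P₀ O U G).map h.op ≫ descV s V' y' = descV s V (p.fiber.map h y') := by
  have key2 : ((descV s V' y').hom).comp (Shriek.secMap (M₀ O U G) h) =
      (descV s V (p.fiber.map h y')).hom := by
    apply DirectSum.addHom_ext
    intro φ a
    change (descV s V' y').hom (Shriek.secMap (M₀ O U G) h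
      (DirectSum.of (fun φ : V ⟶ U => Shriek.summand (M₀ O U G) φ) φ a)) = _
    rw [Shriek.secMap_of, descV_of]
    refine Eq.trans ?_ (descV_of s V _ φ a).symm
    have e : p.fiber.map (h ≫ φ) y' = p.fiber.map φ (p.fiber.map h y') :=
      ConcreteCategory.congr_hom (p.fiber.map_comp h φ) y'
    exact σ_res' s h φ y' _ _ rfl rfl e a
  ext m
  exact DFunLike.congr_fun key2 m

/-- the descent morphism -/
noncomputable def descT : T₀ O U G p ⟶ s.pt :=
  p.presheafFiberDesc (P := P₀ O U G) (fun V y => descV s V y)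
    (fun _ _ h y' => descV_w s h y')

lemma toPF_descT (V : C) (y : p.fiber.obj V) :
    p.toPresheafFiber V y (P₀ O U G) ≫ descT s = descV s V y :=
  p.toPresheafFiber_presheafFiberDesc _ _ V y

open Classical in
lemma ιx_descT (x : p.fiber.obj U) : ιx O U G p x ≫ descT s = s.inj x := by
  apply (p.over x).presheafFiber_hom_ext
  intro W y
  refine ((Category.assoc _ _ _).symm.trans
    ((congrArg (fun t => t ≫ descT s) (toPF_ιx O U G p x W y)).trans
      ((Category.assoc _ _ _).trans
        (congrArg (fun t => inc O U G W ≫ t) (toPF_descT s W.left y.1))))).trans ?_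
  obtain ⟨y₀, hy⟩ := y
  have hy' : p.fiber.map W.hom y₀ = x := hy
  subst hy'
  ext m
  change (descV s W.left y₀).hom
    (DirectSum.of (fun φ : W.left ⟶ U => Shriek.summand (M₀ O U G) φ) W.hom m) = _
  rw [descV_of]
  rfl

open Classical in
lemma descT_uniq (f : T₀ O U G p ⟶ s.pt) (hf : ∀ x, ιx O U G p x ≫ f = s.inj x) :
    f = descT s := by
  apply p.presheafFiber_hom_ext
  intro V y
  rw [toPF_descT]
  have key2 : (p.toPresheafFiber V y (P₀ O U G) ≫ f).hom = (descV s V y).hom := by
    apply DirectSum.addHom_ext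
    intro φ a
    refine Eq.trans ?_ (descV_of s V y φ a).symm
    have h1 := toPF_ιx O U G p (p.fiber.map φ y) (Over.mk φ) ⟨y, rfl⟩
    have h2 : f.hom ((ιx O U G p (p.fiber.map φ y)).hom
        (((p.over (p.fiber.map φ y)).toPresheafFiber (Over.mk φ) ⟨y, rfl⟩ (Q₀ O U G)).hom a)) =
        f.hom ((p.toPresheafFiber V y (P₀ O U G)).hom ((inc O U G (Over.mk φ)).hom a)) :=
      congrArg (fun t => f.hom (t.hom a)) h1
    have h3 : f.hom ((ιx O U G p (p.fiber.map φ y)).hom
        (((p.over (p.fiber.map φ y)).toPresheafFiber (Over.mk φ) ⟨y, rfl⟩ (Q₀ O U G)).hom a)) =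
        (s.inj (p.fiber.map φ y)).hom
          (((p.over (p.fiber.map φ y)).toPresheafFiber (Over.mk φ) ⟨y, rfl⟩ (Q₀ O U G)).hom a) :=
      congrArg (fun t => t.hom
        (((p.over (p.fiber.map φ y)).toPresheafFiber (Over.mk φ) ⟨y, rfl⟩ (Q₀ O U G)).hom a))
        (hf (p.fiber.map φ y))
    exact h2.symm.trans h3
  ext m
  exact DFunLike.congr_fun key2 m

end desc


/-- the cofan of stalks over the explicit model is a coproduct -/
noncomputable def isColimitCofan :
    IsColimit (Cofan.mk (T₀ O U G p) (fun x : p.fiber.obj U => ιx O U G p x)) :=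
  mkCofanColimit _ (fun s => descT s) (fun s x => ιx_descT s x)
    (fun s f hf => descT_uniq s f hf)

theorem main : Nonempty (ModSite.stalkAb p ((ModSite.extZero O U).obj G) ≅
    ∐ fun x : p.fiber.obj U => ModSite.stalkAb (p.over x) G) := by
  have e0 : ModSite.stalkAb p ((ModSite.extZero O U).obj G) ≅
      ModSite.stalkAb p ((ShriekSheaf.extZero' O U).obj G) :=
    (p.sheafFiber (A := AddCommGrpCat.{u})).mapIso
      ((SheafOfModules.toSheaf (ModSite.ringSh O)).mapIso ((ShriekSheaf.extZeroIso O U).symm.app G))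
  have e2 : (∐ fun x : p.fiber.obj U => ModSite.stalkAb (p.over x) G) ≅ T₀ O U G p :=
    (coproductIsCoproduct _).coconePointUniqueUpToIso (isColimitCofan O U G p)
  exact ⟨e0 ≪≫ iso1 O U G p ≪≫ e2.symm⟩

end Groth.Agent.Lib.Helper4.StalkShriek
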