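import Mathlib
import Groth.Prelude
import Groth.Agent.Lib.Helper4.GeomCnt1
import Groth.Agent.Lib.Helper4.ChevCrit7
import Groth.Agent.Lib.Helper7.GeomConn.UnivOpenRad
import Groth.Agent.Lib.Helper1.DomGen
import Groth.Agent.S3411

/-!
# Lower semicontinuity of the geometric number of connected components over a geometrically unibranch point (S3414) (helper4) (helper4)
-/

set_option backward.isDefEq.respectTransparency.types false
set_option synthInstance.maxHeartbeats 400000
set_option autoImplicit false
set_option linter.unusedSectionVars false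
set_option linter.style.haveILetI false
set_option linter.unusedSimpArgs false
universe u v w
open CategoryTheory CategoryTheory.Limits AlgebraicGeometry TopologicalSpace Topology

namespace Groth.Agent.Lib.Helper4.SteinLsc1

open Groth.Agent.Lib.Helper4.GeomCnt1 Groth.Agent.Lib.Helper4.Equi7

/-- composing with a proper morphism with geometrically connected fibres does not change the
geometric number of connected components of the fibres -/
theorem nGeomConnComp_comp_eq {X Y' Y : Scheme.{u}} (p : X ⟶ Y') (ν : Y' ⟶ Y) [IsProper p]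
    [GeometricallyConnected p] (y : Y) :
    MoreMor.nGeomConnComp (p ≫ ν) y = MoreMor.nGeomConnComp ν y := by
  rw [nGeomConnComp_eq_card, nGeomConnComp_eq_card]
  rw [← card_connectedComponents_congr (pullbackRightPullbackFstIso ν (geomPt Y y) p)]
  haveI : GeometricallyConnected (pullback.snd p (pullback.fst ν (geomPt Y y))) := inferInstance
  have hcl : IsClosedMap (pullback.snd p (pullback.fst ν (geomPt Y y))) :=
    (pullback.snd p (pullback.fst ν (geomPt Y y))).isClosedMap
  exact ENat.card_congr ((hcl.isQuotientMap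
    (pullback.snd p (pullback.fst ν (geomPt Y y))).continuous
    (pullback.snd p (pullback.fst ν (geomPt Y y))).surjective).isCoinducing.connectedComponentsHomeomorph
      (pullback.snd p (pullback.fst ν (geomPt Y y))).isConnected_preimage_singleton).toEquiv

open Groth.Agent.Helper7.GeomConn in
/-- EGA IV 15.5.? -/
theorem S3414_main {X Y : Scheme.{u}} [IrreducibleSpace Y]
    [IsLocallyNoetherian Y] (f : X ⟶ Y) [IsProper f]
    (hdom : ∀ Z ∈ irreducibleComponents (X : Type u), closure (f.base '' Z) = Set.univ) (y₀ : Y)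
    (hy : CAlg2.IsGeomUnibranch (Y.presheaf.stalk y₀)) :
    ∃ V ∈ nhds y₀, ∀ z ∈ V, MoreMor.nGeomConnComp f y₀ ≤ MoreMor.nGeomConnComp f z := by
  haveI hfin := ZC.isFinite_fromNormalization' f
  haveI hprop := ZC.isProper_toNormalization f
  haveI hgc := UI.geometricallyConnected_toNormalization f
  obtain ⟨p, hp⟩ : ∃ p : X ⟶ f.normalization, p = f.toNormalization := ⟨_, rfl⟩
  obtain ⟨ν, hν⟩ : ∃ ν : f.normalization ⟶ Y, ν = f.fromNormalization := ⟨_, rfl⟩
  rw [← hp] at hprop hgc
  rw [← hν] at hfin
  have hfac : p ≫ ν = f := by rw [hp, hν]; exact f.toNormalization_fromNormalization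
  have hn : ∀ y, MoreMor.nGeomConnComp f y = MoreMor.nGeomConnComp ν y := by
    intro y
    have := nGeomConnComp_comp_eq p ν y
    rwa [hfac] at this
  have hpsurj : Function.Surjective p := p.surjective
  have hcomm : ∀ t : X, ν (p t) = f t := by
    intro t
    rw [← Scheme.Hom.comp_apply, hfac]
  have hUO : ∀ x' : ↥f.normalization, ν x' = y₀ → EGA43.IsUnivOpenAt ν x' := by
    intro x' hx'
    obtain ⟨Z, hZ, hxZ⟩ :=
      exists_mem_irreducibleComponents_subset_of_isIrreducible ({x'} : Set ↥f.normalization)
        isIrreducible_singleton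
    have hZcl := isClosed_of_mem_irreducibleComponents Z hZ
    obtain ⟨ζ, hζ⟩ := QuasiSober.sober hZ.1 hZcl
    have hζmax : ∀ z' : ↥f.normalization, z' ⤳ ζ → z' = ζ :=
      Groth.Agent.Helper1.DomGen.genMax_of_mem_irreducibleComponents ζ (by rw [hζ.def]; exact hZ)
    obtain ⟨ξ, hξ⟩ := hpsurj ζ
    obtain ⟨ZX, hZX, hξZX⟩ :=
      exists_mem_irreducibleComponents_subset_of_isIrreducible ({ξ} : Set X)
        isIrreducible_singleton
    have hZXcl := isClosed_of_mem_irreducibleComponents ZX hZX
    obtain ⟨ξ₀, hξ₀⟩ := QuasiSober.sober hZX.1 hZXcl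
    have hsp : ξ₀ ⤳ ξ := hξ₀.specializes (hξZX rfl)
    have hpξ₀ : p ξ₀ = ζ := by
      apply hζmax
      rw [← hξ]
      exact hsp.map p.continuous
    have hdense : closure ({f ξ₀} : Set Y) = Set.univ := by
      rw [← hdom ZX hZX, ← hξ₀.def, closure_image_closure f.continuous, Set.image_singleton]
    have hνζ : closure ({ν ζ} : Set Y) = Set.univ := by
      rw [← hpξ₀, hcomm]; exact hdense
    let Zc : TopologicalSpace.Closeds ↥f.normalization := ⟨Z, hZcl⟩
    haveI : IsReduced (Scheme.IdealSheafData.vanishingIdeal Zc).subscheme :=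
      isReduced_vanishingIdeal_subscheme Zc
    haveI : IrreducibleSpace ↥(Scheme.IdealSheafData.vanishingIdeal Zc).subscheme :=
      irreducibleSpace_vanishingIdeal_subscheme Zc hZ.1
    haveI : IsIntegral (Scheme.IdealSheafData.vanishingIdeal Zc).subscheme :=
      isIntegral_of_irreducibleSpace_of_isReduced _
    have hr : Set.range (Scheme.IdealSheafData.vanishingIdeal Zc).subschemeι = Z := by
      rw [Scheme.IdealSheafData.range_subschemeι,
        Scheme.IdealSheafData.coe_support_vanishingIdeal]
      rfl
    haveI : IsFinite ((Scheme.IdealSheafData.vanishingIdeal Zc).subschemeι ≫ ν) := inferInstance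
    haveI : IsDominant ((Scheme.IdealSheafData.vanishingIdeal Zc).subschemeι ≫ ν) := by
      constructor
      rw [DenseRange, dense_iff_closure_eq, Scheme.Hom.comp_base, TopCat.coe_comp, Set.range_comp,
        hr]
      apply Set.eq_univ_of_univ_subset
      rw [← hνζ]
      exact closure_mono (Set.singleton_subset_iff.mpr ⟨ζ, hζ.mem, rfl⟩)
    have hx'r : x' ∈ Set.range (Scheme.IdealSheafData.vanishingIdeal Zc).subschemeι := by
      rw [hr]; exact hxZ rfl
    have hy' : CAlg2.IsGeomUnibranch (Y.presheaf.stalk (ν x')) := by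
      rw [hx']; exact hy
    exact Groth.Agent.Lib.Helper4.ChevCrit7.isUnivOpenAt_of_quasiSection ν x' hy'
      (Scheme.IdealSheafData.vanishingIdeal Zc).subschemeι hx'r
  obtain ⟨V, hV, hVn⟩ := Groth.Agent.S3411.result ν y₀ hUO
  exact ⟨V, hV, fun z hz => by rw [hn, hn]; exact hVn z hz⟩

end Groth.Agent.Lib.Helper4.SteinLsc1
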