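import Mathlib
import Groth.Prelude.Def_BlowUp2
import Groth.Prelude.Def_FlatMod2
import Groth.Prelude.Def_Coh
import Groth.Prelude.Def_Fitting
import Groth.Agent.Lib.Lead.FittSh
import Groth.Agent.Lib.Lead.BCU3
import Groth.Agent.Lib.Lead.SD2
import Groth.Agent.Lib.Helper1.PF12
import Groth.Agent.Lib.Helper1.VBQ3
import Groth.Agent.Lib.Helper1.FinPush
import Groth.Agent.Lib.Helper1.SubExt8
import Groth.Agent.Lib.Helper3.EdgeLS1
import Groth.Agent.Lib.Helper4.Fitting19
import Groth.Agent.Lib.Helper4.Fitting11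
import Groth.Agent.Lib.Helper4.EffCartier
import Groth.Agent.Lib.Helper4.IdealComap
import Groth.Agent.Lib.Helper4.FComplFree1

/-!
# Strict transform along the blow-up of a Fitting ideal: local generation (helper4) (helper4)
-/

set_option backward.isDefEq.respectTransparency.types false
set_option synthInstance.maxHeartbeats 400000
set_option autoImplicit false
set_option linter.unusedSectionVars false
set_option linter.style.haveILetI false
set_option linter.unusedSimpArgs false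
universe u v w
open CategoryTheory CategoryTheory.Limits AlgebraicGeometry TopologicalSpace Opposite
open Groth.Agent.Helper4.Fitting
open Groth.Agent.Helper1 Groth.Agent.Helper1.QcCech
open Groth.Agent.Lib.Helper4

namespace Groth.Agent.Lib.Helper4.StrictFitt1

section Alg
variable {R : Type u} [CommRing R] {M : Type v} [AddCommGroup M] [Module R M]

theorem exists_minor_not_mem {n : ℕ} (x : Fin n → M) (q : ℕ) (f : R) (p : Ideal R)
    [hp : p.IsPrime] (hf : Ideal.span (minorSet R x q) = Ideal.span {f}) :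
    (∃ h : R, h ∉ p ∧ h * f = 0) ∨
    ∃ (z : Fin q → (Fin n → R)) (e : Fin q → Fin n) (c : R), (∀ j, ∑ i, z j i • x i = 0) ∧
      c ∉ p ∧ minorDet z e = c * f := by
  by_contra hcon
  rw [not_or] at hcon
  obtain ⟨h1, h2⟩ := hcon
  have hle : Ideal.span (minorSet R x q) ≤ p * Ideal.span {f} := by
    apply Ideal.span_le.2
    rintro d ⟨z, e, hz, rfl⟩
    have hd : minorDet z e ∈ Ideal.span {f} := by
      rw [← hf]; exact Ideal.subset_span ⟨z, e, hz, rfl⟩
    obtain ⟨c, hc⟩ := Ideal.mem_span_singleton'.1 hd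
    have hcp : c ∈ p := by
      by_contra hcp
      exact h2 ⟨z, e, c, hz, hcp, hc.symm⟩
    change minorDet z e ∈ p * Ideal.span {f}
    rw [← hc]
    exact Ideal.mul_mem_mul hcp (Ideal.mem_span_singleton_self f)
  rw [hf] at hle
  have hfm : f ∈ p * Ideal.span {f} := hle (Ideal.mem_span_singleton_self f)
  rw [Ideal.mem_mul_span_singleton] at hfm
  obtain ⟨m, hm, hmf⟩ := hfm
  refine h1 ⟨1 - m, ?_, by rw [sub_mul, one_mul, hmf, sub_self]⟩
  intro h
  have := p.add_mem h hm
  rw [sub_add_cancel] at this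
  exact hp.ne_top ((Ideal.eq_top_iff_one _).2 this)

/-- non-local form: if `Fit_k(M) = (f)` then near any prime `M` is generated by `k` elements modulo
`f`-torsion. -/
theorem exists_smul_sub_mem_torsion [Module.Finite R M] (k : ℕ) (f : R)
    (hf : Fitt.ideal R M k = Ideal.span {f}) (p : Ideal R) [hp : p.IsPrime] :
    ∃ h : R, h ∉ p ∧ ∃ y : Fin k → M, ∀ m : M, ∃ w ∈ Submodule.span R (Set.range y),
      f • (h • m - w) = 0 := by
  classical
  obtain ⟨n, x, hx⟩ := Module.Finite.exists_fin (R := R) (M := M)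
  have hF : Ideal.span (minorSet R x (n - k)) = Ideal.span {f} := by
    rw [← F_eq_span_minorSet, ← ideal_eq_F x hx k, hf]
  have case1 : ∀ h : R, h ∉ p → h * f = 0 → ∃ h : R, h ∉ p ∧ ∃ y : Fin k → M, ∀ m : M,
      ∃ w ∈ Submodule.span R (Set.range y), f • (h • m - w) = 0 := by
    intro h hh hhf
    refine ⟨h, hh, fun _ => 0, fun m => ⟨0, Submodule.zero_mem _, ?_⟩⟩
    rw [sub_zero, smul_smul, mul_comm, hhf, zero_smul]
  rcases exists_minor_not_mem x (n - k) f p hF with ⟨h, hh, hhf⟩ | ⟨z, e, c, hz, hc, hd⟩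
  · exact case1 h hh hhf
  by_cases he : Function.Injective e
  swap
  · rw [minorDet_eq_zero_of_not_injective z e he] at hd
    exact case1 c hc hd.symm
  set T : Set M := x '' (Set.range e)ᶜ with hT
  have hmem : ∀ i, ∃ w ∈ Submodule.span R T, f • (c • x i - w) = 0 := by
    intro i
    by_cases hi : i ∈ Set.range e
    · obtain ⟨a, rfl⟩ := hi
      have hcoef : ∀ i, ∃ γ : R, minorDet z (Function.update e a i) = f * γ := by
        intro i
        have : minorDet z (Function.update e a i) ∈ Ideal.span {f} := by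
          rw [← hF]; exact Ideal.subset_span ⟨z, Function.update e a i, hz, rfl⟩
        obtain ⟨c', hc'⟩ := Ideal.mem_span_singleton'.1 this
        exact ⟨c', by rw [← hc', mul_comm]⟩
      choose γ₀ hγ₀ using hcoef
      let γ : Fin n → R := fun i => if i = e a then c else if i ∈ Set.range e then 0 else γ₀ i
      have hγ : ∀ i, minorDet z (Function.update e a i) = f * γ i := by
        intro i
        by_cases h1 : i = e a
        · subst h1
          simp only [γ, if_true]
          rw [Function.update_eq_self, hd, mul_comm]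
        · by_cases h2 : i ∈ Set.range e
          · obtain ⟨a', rfl⟩ := h2
            have hne : a' ≠ a := fun h => h1 (by rw [h])
            simp only [γ, h1, if_false, Set.mem_range_self, if_true, mul_zero]
            apply minorDet_eq_zero_of_not_injective
            intro hinj
            have : Function.update e a (e a') a = Function.update e a (e a') a' := by
              rw [Function.update_self, Function.update_of_ne hne]
            exact hne (hinj this).symm
          · simp only [γ, h1, h2, if_false]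
            exact hγ₀ i
      have hrel := cramer_relation x z hz e a
      simp only [hγ, mul_smul] at hrel
      rw [← Finset.smul_sum] at hrel
      have hγa : γ (e a) = c := by simp [γ]
      refine ⟨-(∑ i ∈ Finset.univ.erase (e a), γ i • x i), ?_, ?_⟩
      · apply Submodule.neg_mem
        apply Submodule.sum_mem
        intro i hi
        by_cases hir : i ∈ Set.range e
        · have hne : i ≠ e a := Finset.ne_of_mem_erase hi
          have : γ i = 0 := by simp only [γ, if_neg hne, if_pos hir]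
          rw [this, zero_smul]; exact Submodule.zero_mem _
        · apply Submodule.smul_mem
          apply Submodule.subset_span
          exact ⟨i, hir, rfl⟩
      · have h3 : c • x (e a) = γ (e a) • x (e a) := by rw [hγa]
        rw [sub_neg_eq_add, h3, Finset.add_sum_erase Finset.univ (fun i => γ i • x i) (Finset.mem_univ (e a))]
        exact hrel
    · exact ⟨c • x i, Submodule.smul_mem _ _ (Submodule.subset_span ⟨i, hi, rfl⟩),
        by rw [sub_self, smul_zero]⟩
  have hcard : T.ncard ≤ k := by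
    calc T.ncard ≤ ((Set.range e)ᶜ).ncard := Set.ncard_image_le (Set.toFinite _)
      _ = n - (n - k) := by
        rw [Set.ncard_compl, Set.ncard_range_of_injective he]
        simp
      _ ≤ k := by omega
  obtain ⟨y, hy1, -⟩ := exists_tuple_of_ncard_le T (Set.toFinite _) hcard
  refine ⟨c, hc, y, ?_⟩
  have hTy : Submodule.span R T ≤ Submodule.span R (Set.range y) := Submodule.span_mono hy1
  intro m
  have hm : m ∈ Submodule.span R (Set.range x) := by rw [hx]; trivial
  induction hm using Submodule.span_induction with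
  | mem v hv =>
    obtain ⟨i, rfl⟩ := hv
    obtain ⟨w, hw, h0⟩ := hmem i
    exact ⟨w, hTy hw, h0⟩
  | zero => exact ⟨0, Submodule.zero_mem _, by simp⟩
  | add a b _ _ ha hb =>
    obtain ⟨w1, hw1, h1⟩ := ha
    obtain ⟨w2, hw2, h2⟩ := hb
    refine ⟨w1 + w2, Submodule.add_mem _ hw1 hw2, ?_⟩
    have : c • (a + b) - (w1 + w2) = (c • a - w1) + (c • b - w2) := by rw [smul_add]; abel
    rw [this, smul_add, h1, h2, add_zero]
  | smul r a _ ha =>
    obtain ⟨w, hw, h0⟩ := ha
    refine ⟨r • w, Submodule.smul_mem _ _ hw, ?_⟩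
    have : c • (r • a) - r • w = r • (c • a - w) := by rw [smul_sub, smul_comm]
    rw [this, smul_comm, h0, smul_zero]

/-- finiteness under `IsBC`. -/
theorem finite_of_isBC {A A' : Type u} [CommRing A] [CommRing A'] (φ : A →+* A')
    {M N : Type u} [AddCommGroup M] [Module A M] [AddCommGroup N] [Module A' N] [Module.Finite A M]
    (l : M → N) (h : Groth.Agent.Lead.BCU.IsBC φ l) : Module.Finite A' N := by
  letI := φ.toAlgebra
  letI : Module A N := Module.compHom N φ
  haveI : IsScalarTower A A' N := ⟨fun a a' n => by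
    change (φ a * a') • n = φ a • a' • n
    exact mul_smul _ _ _⟩
  obtain ⟨l', -, hb⟩ := h
  exact Module.Finite.equiv hb.equiv

end Alg

section Geo
open Scheme.Modules

/-- an epimorphism from the free module from a locally spanning family of sections -/
theorem epi_desc_psi {X : Scheme.{u}} (N : X.Modules) (W : X.Opens) {n : ℕ} (b : Fin n → Γ(N, W))
    (h : ∀ (O : X.Opens) (hO : O ≤ W) (τ : Γ(N, O)) (x : X), x ∈ O →
      ∃ (V₁ : X.Opens) (hV : V₁ ≤ O), x ∈ V₁ ∧ ∃ r : Fin n → Γ(X, V₁),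
        res N hV τ = ∑ i, r i • res N (hV.trans hO) (b i)) :
    Epi (Sigma.desc (VBQ.psi b)) := by
  apply PF12.epi_desc_of_locally
  intro O' τ x hx
  obtain ⟨V₁, hV, hxV, r, hr⟩ := h (W.ι ''ᵁ O') (W.ι_image_le O')
    (show Γ(N, W.ι ''ᵁ O') from τ) (W.ι x) ⟨x, hx, rfl⟩
  have hle : W.ι ''ᵁ (W.ι ⁻¹ᵁ V₁ ⊓ O') ≤ V₁ := by
    rintro _ ⟨z, hz, rfl⟩
    exact hz.1
  refine ⟨W.ι ⁻¹ᵁ V₁ ⊓ O', inf_le_right, ⟨hxV, hx⟩, ?_⟩
  have hinv : ∀ ρ : Γ(X, W.ι ''ᵁ (W.ι ⁻¹ᵁ V₁ ⊓ O')),
      (W.ι.appIso (W.ι ⁻¹ᵁ V₁ ⊓ O')).inv.hom ((W.ι.appIso (W.ι ⁻¹ᵁ V₁ ⊓ O')).hom.hom ρ) = ρ := by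
    intro ρ
    rw [← CommRingCat.comp_apply, Iso.hom_inv_id]
    rfl
  have key : (N.restrict W.ι).presheaf.map (homOfLE (inf_le_right : W.ι ⁻¹ᵁ V₁ ⊓ O' ≤ O')).op τ =
      ∑ i, (VBQ.psi b i).app (W.ι ⁻¹ᵁ V₁ ⊓ O')
        ((W.ι.appIso (W.ι ⁻¹ᵁ V₁ ⊓ O')).hom.hom (resR hle (r i))) := by
    have h1 : (N.restrict W.ι).presheaf.map
        (homOfLE (inf_le_right : W.ι ⁻¹ᵁ V₁ ⊓ O' ≤ O')).op τ =
        res N hle (res N hV (show Γ(N, W.ι ''ᵁ O') from τ)) := by
      rw [res_res]
      rfl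
    rw [h1, hr, map_sum]
    refine Finset.sum_congr rfl fun i _ => ?_
    rw [VBQ.psi_app, hinv, res_smul, res_res]
  rw [key]
  exact AddSubgroup.sum_mem _ fun i _ =>
    AddSubgroup.subset_closure (Set.mem_iUnion.2 ⟨i, _, rfl⟩)

end Geo

section Main
open Scheme.Modules

/-- local data for the strict transform at a point -/
theorem local_fitt (S : Scheme.{u}) (F : S.Modules) (hF : Coh.IsQCoh F) (hft : CohB1.IsFT F)
    (k : ℕ) {S' : Scheme.{u}} (b : S' ⟶ S)
    (hE : BlowUp.IsEffCartierIdeal ((Fitt.sheafIdeal F k).comap b)) (s' : S') :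
    ∃ (W : S.Opens) (hW : IsAffineOpen W) (V : S'.Opens) (hV : IsAffineOpen V)
      (hVW : V ≤ b ⁻¹ᵁ W) (f : Γ(S', V)),
      s' ∈ V ∧ f ∈ nonZeroDivisors Γ(S', V) ∧
      ((Fitt.sheafIdeal F k).comap b).ideal ⟨V, hV⟩ = Ideal.span {f} ∧
      Module.Finite Γ(S, W) Γ(F, W) ∧
      Module.Finite Γ(S', V) Γ((Scheme.Modules.pullback b).obj F, V) ∧
      (∀ j, Fitt.ideal Γ(S', V) Γ((Scheme.Modules.pullback b).obj F, V) j =
        (Fitt.ideal Γ(S, W) Γ(F, W) j).map (b.appLE W V hVW).hom) ∧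
      Fitt.ideal Γ(S', V) Γ((Scheme.Modules.pullback b).obj F, V) k = Ideal.span {f} := by
  haveI : F.IsQuasicoherent := hF
  obtain ⟨_, ⟨W, hW, rfl⟩, hsW, -⟩ := S.isBasis_affineOpens.exists_subset_of_mem_open
    (Set.mem_univ (b s')) isOpen_univ
  obtain ⟨⟨V, hV⟩, hsV, hVW, f, hf, hIf⟩ := Groth.Agent.Helper4.EffCartier.shrink hE s' (b ⁻¹ᵁ W) hsW
  haveI hfinM : Module.Finite Γ(S, W) Γ(F, W) := FinPush.finite_sections F ⟨hF, hft⟩ hW
  have hbc := Groth.Agent.Lead.BCU.isBC_unitRes b F hW hV hVW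
  have hfj := fun j => FComplFree1.fitt_of_isBC _ _ hbc j
  refine ⟨W, hW, V, hV, hVW, f, hsV, hf, hIf, hfinM, finite_of_isBC _ _ hbc, hfj, ?_⟩
  rw [hfj k, ← Groth.Agent.Lead.FittSh.sheafIdeal_ideal F hft k ⟨W, hW⟩,
    ← Groth.Agent.Helper4.IdealComap.ideal_comap_eq_map b _ ⟨V, hV⟩ ⟨W, hW⟩ hVW]
  exact hIf

theorem s8911 (S : Scheme.{u}) (F : S.Modules) (hF : Coh.IsQCoh F) (hft : CohB1.IsFT F)
    (k : ℕ) {S' : Scheme.{u}} (b : S' ⟶ S) (hb : BlowUp.IsBlowUp b (Fitt.sheafIdeal F k))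
    (G : S'.Modules) (π : (Scheme.Modules.pullback b).obj F ⟶ G)
    (hG : BlowUp.IsStrictTransform b (Fitt.sheafIdeal F k) F G π) (s' : ↥S') :
    ∃ U : S'.Opens, s' ∈ U ∧ ∃ q : FlatMod.freeMod (↑U) k ⟶ G.restrict U.ι, Epi q := by
  haveI : F.IsQuasicoherent := hF
  obtain ⟨W, hW, V, hV, hVW, f, hsV, hf, hIf, hfinM, hfin, hfj, hfit⟩ :=
    local_fitt S F hF hft k b hb.1 s'
  haveI := hfin
  haveI : ((Scheme.Modules.pullback b).obj F).IsQuasicoherent :=
    Groth.Agent.Lead.PB.isQuasicoherent_pullback _ _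
  obtain ⟨h, hh, y, hy⟩ := exists_smul_sub_mem_torsion k f hfit (hV.primeIdealOf ⟨s', hsV⟩).asIdeal
  have hUV : S'.basicOpen h ≤ V := S'.basicOpen_le h
  refine ⟨S'.basicOpen h, (Groth.Agent.Lead.SD.mem_basicOpen_iff hV ⟨s', hsV⟩ h).2 hh,
    Sigma.desc (VBQ.psi fun i => res G hUV (π.app V (y i))), ?_⟩
  apply epi_desc_psi
  intro O hO τ x hxO
  haveI : Epi π := hG.1
  obtain ⟨W₁, hW₁, hxW₁, t', ht'⟩ := Groth.Agent.Helper3.EdgeLS.exists_local_lift π O τ x hxO
  have hxV : x ∈ V := hUV (hO hxO)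
  obtain ⟨g, hgW₁, hxg⟩ := hV.exists_basicOpen_le ⟨x, hxW₁⟩ hxV
  have hDV : S'.basicOpen g ≤ V := S'.basicOpen_le g
  have hDO : S'.basicOpen g ≤ O := hgW₁.trans hW₁
  have hDU : S'.basicOpen g ≤ S'.basicOpen h := hDO.trans hO
  -- localization
  letI := Groth.Agent.Lead.SD.basicOpenModule ((Scheme.Modules.pullback b).obj F) g
  haveI := Groth.Agent.Lead.SD.isLocalizedModule_res ((Scheme.Modules.pullback b).obj F) hV g
  obtain ⟨⟨n, ⟨_, j, rfl⟩⟩, hn⟩ := IsLocalizedModule.surj (Submonoid.powers g)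
    (Groth.Agent.Lead.SD.resₗ ((Scheme.Modules.pullback b).obj F) g) (res ((Scheme.Modules.pullback b).obj F) hgW₁ t')
  have hn' : resR hDV (g ^ j) • res ((Scheme.Modules.pullback b).obj F) hgW₁ t' =
      res ((Scheme.Modules.pullback b).obj F) hDV n := hn
  obtain ⟨w, hw, h0⟩ := hy n
  obtain ⟨c, rfl⟩ := (Submodule.mem_span_range_iff_exists_fun _).1 hw
  have hπ0 : π.app V (h • n - ∑ i, c i • y i) = 0 := by
    rw [hG.2 ⟨V, hV⟩]
    refine ⟨1, fun a ha => ?_⟩
    rw [pow_one] at ha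
    have ha' : a ∈ Ideal.span {f} := by
      rw [← hIf]; exact ha
    obtain ⟨a', rfl⟩ := Ideal.mem_span_singleton'.1 ha'
    rw [mul_smul, h0, smul_zero]
  have hπ1 : h • π.app V n = ∑ i, c i • π.app V (y i) := by
    have h1 := hπ0
    rw [map_sub, sub_eq_zero] at h1
    rw [← Scheme.Modules.Hom.app_smul]
    refine h1.trans ?_
    rw [map_sum]
    refine Finset.sum_congr rfl fun i _ => ?_
    exact Scheme.Modules.Hom.app_smul π _ _
  -- restrict to `D(g)`
  have e1 : res G hDV (π.app V n) = resR hDV (g ^ j) • res G hDO τ := by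
    rw [← QcExt.app_res, ← hn']
    have h2 : π.app (S'.basicOpen g) (resR hDV (g ^ j) • res ((Scheme.Modules.pullback b).obj F) hgW₁ t') =
        resR hDV (g ^ j) • π.app (S'.basicOpen g) (res ((Scheme.Modules.pullback b).obj F) hgW₁ t') :=
      Scheme.Modules.Hom.app_smul π _ _
    rw [h2, QcExt.app_res]
    have h3 : π.app W₁ t' = res G hW₁ τ := ht'
    rw [h3, res_res]
  have e2 : (resR hDV h * resR hDV (g ^ j)) • res G hDO τ =
      ∑ i, resR hDV (c i) • res G hDU (res G hUV (π.app V (y i))) := by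
    rw [mul_smul, ← e1, ← res_smul, hπ1, map_sum]
    refine Finset.sum_congr rfl fun i _ => ?_
    rw [res_smul, res_res]
  have hu : IsUnit (resR hDV h * resR hDV (g ^ j)) := by
    apply IsUnit.mul
    · have h1 : IsUnit (resR hUV h) := S'.toRingedSpace.isUnit_res_basicOpen h
      have h2 : resR hDV h = resR hDU (resR hUV h) := (resR_resR _ _ _).symm
      rw [h2]
      exact h1.map _
    · rw [map_pow]
      exact (S'.toRingedSpace.isUnit_res_basicOpen g).pow j
  obtain ⟨u, hu'⟩ := hu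
  refine ⟨S'.basicOpen g, hDO, hxg, fun i => (↑u⁻¹ : Γ(S', S'.basicOpen g)) * resR hDV (c i), ?_⟩
  have e3 := congrArg (fun z => (↑u⁻¹ : Γ(S', S'.basicOpen g)) • z) e2
  simp only [] at e3
  rw [← hu', smul_smul, Units.inv_mul, one_smul, Finset.smul_sum] at e3
  rw [e3]
  refine Finset.sum_congr rfl fun i _ => ?_
  rw [smul_smul]

end Main

end Groth.Agent.Lib.Helper4.StrictFitt1
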