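import Mathlib
import Groth.Prelude.Def_BlowUp2
import Groth.Prelude.Def_FlatMod2
import Groth.Prelude.Def_Coh
import Groth.Prelude.Def_Fitting
import Groth.Agent.Lib.Lead.FittSh
import Groth.Agent.Lib.Lead.FittStrat
import Groth.Agent.Lib.Lead.VBL3
import Groth.Agent.Lib.Lead.PBQc
import Groth.Agent.Lib.Helper1.CurveGlueC
import Groth.Agent.Lib.Helper1.TwistSec
import Groth.Agent.Lib.Helper4.Fitting15
import Groth.Agent.Lib.Helper4.StrictFitt1

/-!
# Strict transform along the blow-up of a Fitting ideal: local freeness (helper4) (helper4)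
-/

set_option backward.isDefEq.respectTransparency.types false
set_option synthInstance.maxHeartbeats 400000
set_option autoImplicit false
set_option linter.unusedSectionVars false
set_option linter.style.haveILetI false
set_option linter.unusedSimpArgs false
universe u v w
open CategoryTheory CategoryTheory.Limits AlgebraicGeometry TopologicalSpace Opposite
open Groth.Agent.Helper4.Fitting
open Groth.Agent.Helper1 Groth.Agent.Helper1.QcCech
open Groth.Agent.Lib.Helper4 Groth.Agent.Lib.Helper4.StrictFitt1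

namespace Groth.Agent.Lib.Helper4.StrictFitt2

section Alg
variable {R' : Type u} [CommRing R'] {N : Type u} [AddCommGroup N] [Module R' N]

theorem quotient_fitt_bot [Module.Finite R' N] (f : R') (hf : f ∈ nonZeroDivisors R') (j : ℕ)
    (hN : Fitt.ideal R' N j = ⊥) :
    Fitt.ideal R' (N ⧸ FlatCA.powTorsion R' f N) j = ⊥ := by
  rw [eq_bot_iff]
  intro d' hd'
  rw [Ideal.mem_bot]
  let E := LinearEquiv.ofBijective _ (map_mkQ_powTorsion_bijective f (N := N))
  have hloc : Fitt.ideal (Localization (Submonoid.powers f))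
      (LocalizedModule (Submonoid.powers f) (N ⧸ FlatCA.powTorsion R' f N)) j = ⊥ := by
    rw [← ideal_congr E j, ideal_localizedModule, hN, Ideal.map_bot]
  rw [ideal_localizedModule] at hloc
  have h0 : algebraMap R' (Localization (Submonoid.powers f)) d' = 0 := by
    have := Ideal.mem_map_of_mem (algebraMap R' (Localization (Submonoid.powers f))) hd'
    rw [hloc, Ideal.mem_bot] at this
    exact this
  rw [IsLocalization.map_eq_zero_iff (Submonoid.powers f)] at h0
  obtain ⟨⟨_, m, rfl⟩, hm⟩ := h0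
  have hm' : f ^ m * d' = 0 := hm
  have hfm : f ^ m ∈ nonZeroDivisors R' := pow_mem hf m
  exact (mul_right_mem_nonZeroDivisors_eq_zero_iff hfm).1 (by rw [mul_comm]; exact hm')

/-- generation and independence modulo `f`-power torsion near a prime -/
theorem exists_basis_mod_torsion [Module.Finite R' N]
    (k : ℕ) (f : R') (hf : f ∈ nonZeroDivisors R') (hfit : Fitt.ideal R' N k = Ideal.span {f})
    (hbot : ∀ j, j < k → Fitt.ideal R' N j = ⊥) (p : Ideal R') [hp : p.IsPrime] :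
    ∃ h : R', h ∉ p ∧ ∃ y : Fin k → N,
      (∀ m : N, ∃ w ∈ Submodule.span R' (Set.range y), f • (h • m - w) = 0) ∧
      (∀ c : Fin k → R', (∃ l : ℕ, f ^ l • ∑ i, c i • y i = 0) →
        ∀ i, ∃ m : ℕ, h ^ m * c i = 0) := by
  obtain ⟨h, hh, y, hy⟩ := exists_smul_sub_mem_torsion k f hfit p
  refine ⟨h, hh, y, hy, ?_⟩
  rintro c ⟨l, hl⟩ i
  have hk : 0 < k := Fin.pos i
  set T := FlatCA.powTorsion R' f N with hT
  let y' : Fin k → N ⧸ T := fun i => Submodule.mkQ T (y i)
  have hy' : ∀ q : N ⧸ T, h • q ∈ Submodule.span R' (Set.range y') := by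
    intro q
    obtain ⟨m, rfl⟩ := Submodule.mkQ_surjective T q
    obtain ⟨w, hw, h0⟩ := hy m
    have h1 : h • m - w ∈ T := by
      rw [mem_powTorsion_iff]; exact ⟨1, by rw [pow_one]; exact h0⟩
    have h2 : Submodule.mkQ T (h • m) = Submodule.mkQ T w := by
      rw [← sub_eq_zero, ← map_sub]
      exact (Submodule.Quotient.mk_eq_zero T).2 h1
    rw [← map_smul, h2]
    have h3 : Submodule.map (Submodule.mkQ T) (Submodule.span R' (Set.range y)) ≤
        Submodule.span R' (Set.range y') := by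
      rw [Submodule.map_span, Submodule.span_le]
      rintro _ ⟨_, ⟨i, rfl⟩, rfl⟩
      exact Submodule.subset_span ⟨i, rfl⟩
    exact h3 ⟨w, hw, rfl⟩
  have hspan := span_mk_eq_top (Submonoid.powers h) h (Submonoid.mem_powers h) y' hy'
  have h4 : (∑ i, c i • y' i : N ⧸ T) = 0 := by
    have h5 : Submodule.mkQ T (∑ i, c i • y i) = 0 := by
      refine (Submodule.Quotient.mk_eq_zero T).2 ?_
      rw [mem_powTorsion_iff]; exact ⟨l, hl⟩
    rw [map_sum] at h5
    rw [← h5]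
    refine Finset.sum_congr rfl fun i _ => ?_
    rw [map_smul]
  have hrel : ∑ i, (algebraMap R' (Localization.Away h) (c i)) •
      (LocalizedModule.mk (y' i) (1 : Submonoid.powers h)) = 0 := by
    have h5 := congrArg (LocalizedModule.mkLinearMap (Submonoid.powers h) (N ⧸ T)) h4
    rw [map_sum, map_zero] at h5
    rw [← h5]
    refine Finset.sum_congr rfl fun i _ => ?_
    rw [map_smul, algebraMap_smul]
    rfl
  have hmem := coord_mem_ideal_of_relation (R := Localization.Away h)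
    (fun i => LocalizedModule.mk (y' i) (1 : Submonoid.powers h)) hspan (k - 1) (by omega)
    (fun i => algebraMap R' (Localization.Away h) (c i)) hrel i
  rw [ideal_localizedModule, quotient_fitt_bot f hf (k - 1) (hbot (k - 1) (by omega)),
    Ideal.map_bot, Ideal.mem_bot, IsLocalization.map_eq_zero_iff (Submonoid.powers h)] at hmem
  obtain ⟨⟨_, m, rfl⟩, hm⟩ := hmem
  exact ⟨m, hm⟩

end Alg

section Sheaf
variable {X : Scheme.{u}}

/-- a family of sections which is locally a basis is a basis -/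
theorem isBasisOn_of_locally (N : X.Modules) (W : X.Opens) {n : ℕ} (b : Fin n → Γ(N, W))
    (hinj : ∀ (V : X.Opens) (hV : V ≤ W) (r : Fin n → Γ(X, V)) (x : X), x ∈ V →
      ∑ i, r i • res N hV (b i) = 0 →
        ∃ (V' : X.Opens) (hV' : V' ≤ V), x ∈ V' ∧ ∀ i, resR hV' (r i) = 0)
    (hsurj : ∀ (V : X.Opens) (hV : V ≤ W) (τ : Γ(N, V)) (x : X), x ∈ V →
      ∃ (V' : X.Opens) (hV' : V' ≤ V), x ∈ V' ∧ ∃ r : Fin n → Γ(X, V'),
        res N hV' τ = ∑ i, r i • res N (hV'.trans hV) (b i)) :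
    PFrame.IsBasisOn N W b := by
  have hinj' : ∀ (V : X.Opens) (hV : V ≤ W) (r : Fin n → Γ(X, V)),
      ∑ i, r i • res N hV (b i) = 0 → r = 0 := by
    intro V hV r hr
    funext i
    apply CurveGlue.functions_eq_of_locally
    intro y hy
    obtain ⟨V', hV', hyV', h0⟩ := hinj V hV r y hy hr
    exact ⟨V', hV', hyV', by rw [h0 i]; exact (map_zero _).symm⟩
  intro V hV
  constructor
  · intro r r' hrr'
    have h1 : ∑ i, (r - r') i • res N hV (b i) = 0 := by
      simp only [Pi.sub_apply, sub_smul, Finset.sum_sub_distrib]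
      rw [sub_eq_zero]
      exact hrr'
    exact sub_eq_zero.1 (hinj' V hV (r - r') h1)
  · intro τ
    choose V' hV' hxV' r hr using fun x : V => hsurj V hV τ x.1 x.2
    have hcompat : ∀ (x y : V) (i : Fin n),
        resR (inf_le_left : V' x ⊓ V' y ≤ V' x) (r x i) =
          resR (inf_le_right : V' x ⊓ V' y ≤ V' y) (r y i) := by
      intro x y
      have e1 := congrArg (res N (inf_le_left : V' x ⊓ V' y ≤ V' x)) (hr x)
      have e2 := congrArg (res N (inf_le_right : V' x ⊓ V' y ≤ V' y)) (hr y)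
      rw [res_res, map_sum] at e1 e2
      simp only [res_smul, res_res] at e1 e2
      have h0 := hinj' (V' x ⊓ V' y) (inf_le_left.trans ((hV' x).trans hV))
        (fun i => resR inf_le_left (r x i) - resR inf_le_right (r y i)) (by
          simp only [sub_smul, Finset.sum_sub_distrib]
          rw [sub_eq_zero]
          exact e1.symm.trans e2)
      intro i
      exact sub_eq_zero.1 (congrFun h0 i)
    have hcov : V ≤ ⨆ x : V, V' x := fun x hx => Opens.mem_iSup.2 ⟨⟨x, hx⟩, hxV' ⟨x, hx⟩⟩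
    choose ρ hρ using fun i => CurveGlue.glue_functions V' V hV' hcov (fun x => r x i)
      (fun x y => hcompat x y i)
    refine ⟨ρ, ?_⟩
    apply TwistSec.eq_of_locally N
    intro x hx
    refine ⟨V' ⟨x, hx⟩, hV' ⟨x, hx⟩, hxV' ⟨x, hx⟩, ?_⟩
    rw [hr ⟨x, hx⟩, map_sum]
    refine Finset.sum_congr rfl fun i _ => ?_
    rw [res_smul, res_res, hρ i ⟨x, hx⟩]

end Sheaf

section Low
open Scheme.Modules

/-- the lower Fitting ideal sheaves vanish on affine opens inside an open where the module is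
locally free of rank `k` -/
theorem ideal_bot_of_le (S : Scheme.{u}) (F : S.Modules) (hF : Coh.IsQCoh F) (hft : CohB1.IsFT F)
    (k : ℕ) (U₀ : S.Opens) (hfree : FlatMod.IsFinLocFreeOfRank k (F.restrict U₀.ι))
    (j : ℕ) (hj : j < k) {D : S.Opens} (hD : IsAffineOpen D) (hDU : D ≤ U₀) :
    (Fitt.sheafIdeal F j).ideal ⟨D, hD⟩ = ⊥ := by
  haveI : F.IsQuasicoherent := hF
  have h1 : FlatMod.IsFinLocFreeOfRank k ((Scheme.Modules.pullback U₀.ι).obj F) :=
    Groth.Agent.Lead.VBL.isFinLocFreeOfRank_of_iso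
      ((Scheme.Modules.restrictFunctorIsoPullback U₀.ι).app F) hfree
  have hq : ((Scheme.Modules.pullback U₀.ι).obj F).IsQuasicoherent :=
    Groth.Agent.Lead.PB.isQuasicoherent_pullback U₀.ι F
  have hft' := Groth.Agent.Lead.PB.isFT_pullback U₀.ι F hft
  have h2 := ((Groth.Agent.S8875.result _ _ hq hft' k).1 h1).1 j hj
  have hc : (Fitt.sheafIdeal F j).comap U₀.ι = ⊥ := by
    rw [Groth.Agent.S8872.result U₀.ι F hF hft j, h2]
  have hD' : IsAffineOpen (U₀.ι ⁻¹ᵁ D) :=
    hD.preimage_of_isOpenImmersion U₀.ι (by rw [Scheme.Opens.opensRange_ι]; exact hDU)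
  have h3 := Scheme.IdealSheafData.ideal_comap_of_isOpenImmersion (Fitt.sheafIdeal F j) U₀.ι
    ⟨U₀.ι ⁻¹ᵁ D, hD'⟩
  rw [hc] at h3
  have hEq : (⟨U₀.ι ''ᵁ (U₀.ι ⁻¹ᵁ D), hD'.image_of_isOpenImmersion U₀.ι⟩ : S.affineOpens) =
      ⟨D, hD⟩ := by
    apply Subtype.ext
    show U₀.ι ''ᵁ (U₀.ι ⁻¹ᵁ D) = D
    rw [Scheme.Hom.image_preimage_eq_opensRange_inf, Scheme.Opens.opensRange_ι]
    exact inf_eq_right.2 hDU
  rw [← hEq, eq_bot_iff]
  intro z hz
  rw [Ideal.mem_bot]
  have hbij : Function.Bijective ((U₀.ι.appIso (U₀.ι ⁻¹ᵁ D)).inv.hom) :=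
    (ConcreteCategory.isIso_iff_bijective (U₀.ι.appIso (U₀.ι ⁻¹ᵁ D)).inv).1 inferInstance
  obtain ⟨z', rfl⟩ := hbij.2 z
  have hz' : z' ∈ (⊥ : (↑U₀ : Scheme.{u}).IdealSheafData).ideal ⟨U₀.ι ⁻¹ᵁ D, hD'⟩ := by
    rw [h3]
    exact hz
  have : z' = 0 := hz'
  rw [this, map_zero]

end Low

section Main
open Scheme.Modules

/-- elements of the lower Fitting ideals are killed by powers of elements of `Fit_k` -/
theorem lower_bot (S : Scheme.{u}) (F : S.Modules) (hF : Coh.IsQCoh F) (hft : CohB1.IsFT F)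
    (k : ℕ)
    (hfree : FlatMod.IsFinLocFreeOfRank k
      (F.restrict (Scheme.Opens.ι (Fitt.sheafIdeal F k).support.compl)))
    {W : S.Opens} (hW : IsAffineOpen W) [Module.Finite Γ(S, W) Γ(F, W)]
    (a : Γ(S, W)) (ha : a ∈ Fitt.ideal Γ(S, W) Γ(F, W) k) (j : ℕ) (hj : j < k)
    (d : Γ(S, W)) (hd : d ∈ Fitt.ideal Γ(S, W) Γ(F, W) j) : ∃ m : ℕ, a ^ m * d = 0 := by
  haveI : F.IsQuasicoherent := hF
  have hDU : S.basicOpen a ≤ (Fitt.sheafIdeal F k).support.compl := by
    intro x hx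
    have hxW : x ∈ W := S.basicOpen_le a hx
    show x ∉ (Fitt.sheafIdeal F k).support
    intro hsupp
    have h1 := (Groth.Agent.Lead.FittSh.mem_support_iff_le (Fitt.sheafIdeal F k) hW
      ⟨x, hxW⟩).1 hsupp
    rw [Groth.Agent.Lead.FittSh.sheafIdeal_ideal F hft k ⟨W, hW⟩] at h1
    exact (Groth.Agent.Lead.SD.mem_basicOpen_iff hW ⟨x, hxW⟩ a).1 hx (h1 ha)
  have hD : IsAffineOpen (S.basicOpen a) := hW.basicOpen a
  have h2 := ideal_bot_of_le S F hF hft k _ hfree j hj hD hDU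
  rw [Groth.Agent.Lead.FittSh.sheafIdeal_ideal F hft j ⟨_, hD⟩] at h2
  have h3 := (Groth.Agent.Lead.FittSh.fitt_map_basicOpen F hW j a).trans h2
  have h4 : (S.presheaf.map (homOfLE (S.basicOpen_le a)).op).hom d = 0 := by
    have := Ideal.mem_map_of_mem (S.presheaf.map (homOfLE (S.basicOpen_le a)).op).hom hd
    rw [h3, Ideal.mem_bot] at this
    exact this
  haveI := hW.isLocalization_basicOpen a
  have h5 : algebraMap Γ(S, W) Γ(S, S.basicOpen a) d = 0 := h4
  rw [IsLocalization.map_eq_zero_iff (Submonoid.powers a)] at h5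
  obtain ⟨⟨_, m, rfl⟩, hm⟩ := h5
  exact ⟨m, hm⟩

variable {S' : Scheme.{u}} (P G : S'.Modules) [P.IsQuasicoherent] (π : P ⟶ G)
  (E : S'.IdealSheafData)
  (hker : ∀ (V : S'.affineOpens) (m : P.presheaf.obj (Opposite.op V.1)),
    π.app V.1 m = 0 ↔ BlowUp.KilledByPowerNear E P V m)
  {V : S'.Opens} (hV : IsAffineOpen V) (f : Γ(S', V))

include hker hV in
theorem local_span [Epi π] (hIf : E.ideal ⟨V, hV⟩ = Ideal.span {f})
    {k : ℕ} (h : Γ(S', V)) (y : Fin k → Γ(P, V))
    (hy : ∀ m : Γ(P, V), ∃ w ∈ Submodule.span Γ(S', V) (Set.range y), f • (h • m - w) = 0)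
    (O : S'.Opens) (hO : O ≤ S'.basicOpen h) (τ : Γ(G, O)) (x : S') (hxO : x ∈ O) :
    ∃ (V₁ : S'.Opens) (hV₁ : V₁ ≤ O), x ∈ V₁ ∧ ∃ r : Fin k → Γ(S', V₁),
      res G hV₁ τ = ∑ i, r i • res G (hV₁.trans hO)
        (res G (S'.basicOpen_le h) (π.app V (y i))) := by
  have hUV : S'.basicOpen h ≤ V := S'.basicOpen_le h
  obtain ⟨W₁, hW₁, hxW₁, t', ht'⟩ := Groth.Agent.Helper3.EdgeLS.exists_local_lift π O τ x hxO
  have hxV : x ∈ V := hUV (hO hxO)
  obtain ⟨g, hgW₁, hxg⟩ := hV.exists_basicOpen_le ⟨x, hxW₁⟩ hxV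
  have hDV : S'.basicOpen g ≤ V := S'.basicOpen_le g
  have hDO : S'.basicOpen g ≤ O := hgW₁.trans hW₁
  have hDU : S'.basicOpen g ≤ S'.basicOpen h := hDO.trans hO
  letI := Groth.Agent.Lead.SD.basicOpenModule P g
  haveI := Groth.Agent.Lead.SD.isLocalizedModule_res P hV g
  obtain ⟨⟨n, ⟨_, j, rfl⟩⟩, hn⟩ := IsLocalizedModule.surj (Submonoid.powers g)
    (Groth.Agent.Lead.SD.resₗ P g) (res P hgW₁ t')
  have hn' : resR hDV (g ^ j) • res P hgW₁ t' = res P hDV n := hn
  obtain ⟨w, hw, h0⟩ := hy n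
  obtain ⟨c, rfl⟩ := (Submodule.mem_span_range_iff_exists_fun _).1 hw
  have hπ0 : π.app V (h • n - ∑ i, c i • y i) = 0 := by
    rw [hker ⟨V, hV⟩]
    refine ⟨1, fun a ha => ?_⟩
    rw [pow_one] at ha
    have ha' : a ∈ Ideal.span {f} := by
      rw [← hIf]; exact ha
    obtain ⟨a', rfl⟩ := Ideal.mem_span_singleton'.1 ha'
    rw [mul_smul, h0, smul_zero]
  have hπ1 : h • π.app V n = ∑ i, c i • π.app V (y i) := by
    have h1 := hπ0
    rw [map_sub, sub_eq_zero] at h1
    rw [← Scheme.Modules.Hom.app_smul]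
    refine h1.trans ?_
    rw [map_sum]
    refine Finset.sum_congr rfl fun i _ => ?_
    exact Scheme.Modules.Hom.app_smul π _ _
  have e1 : res G hDV (π.app V n) = resR hDV (g ^ j) • res G hDO τ := by
    rw [← QcExt.app_res, ← hn']
    have h2 : π.app (S'.basicOpen g) (resR hDV (g ^ j) • res P hgW₁ t') =
        resR hDV (g ^ j) • π.app (S'.basicOpen g) (res P hgW₁ t') :=
      Scheme.Modules.Hom.app_smul π _ _
    rw [h2, QcExt.app_res]
    have h3 : π.app W₁ t' = res G hW₁ τ := ht'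
    rw [h3, res_res]
  have e2 : (resR hDV h * resR hDV (g ^ j)) • res G hDO τ =
      ∑ i, resR hDV (c i) • res G hDU (res G hUV (π.app V (y i))) := by
    rw [mul_smul, ← e1, ← res_smul, hπ1, map_sum]
    refine Finset.sum_congr rfl fun i _ => ?_
    rw [res_smul, res_res]
  have hu : IsUnit (resR hDV h * resR hDV (g ^ j)) := by
    apply IsUnit.mul
    · have h1 : IsUnit (resR hUV h) := S'.toRingedSpace.isUnit_res_basicOpen h
      have h2 : resR hDV h = resR hDU (resR hUV h) := (resR_resR _ _ _).symm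
      rw [h2]
      exact h1.map _
    · rw [map_pow]
      exact (S'.toRingedSpace.isUnit_res_basicOpen g).pow j
  obtain ⟨u, hu'⟩ := hu
  refine ⟨S'.basicOpen g, hDO, hxg, fun i => (↑u⁻¹ : Γ(S', S'.basicOpen g)) * resR hDV (c i), ?_⟩
  have e3 := congrArg (fun z => (↑u⁻¹ : Γ(S', S'.basicOpen g)) • z) e2
  simp only [] at e3
  rw [← hu', smul_smul, Units.inv_mul, one_smul, Finset.smul_sum] at e3
  rw [e3]
  refine Finset.sum_congr rfl fun i _ => ?_
  rw [smul_smul]

include hker hV in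
theorem local_inj (hf : f ∈ nonZeroDivisors Γ(S', V)) (hIf : E.ideal ⟨V, hV⟩ = Ideal.span {f})
    {k : ℕ} (h : Γ(S', V)) (y : Fin k → Γ(P, V))
    (hyb : ∀ c : Fin k → Γ(S', V), (∃ l : ℕ, f ^ l • ∑ i, c i • y i = 0) →
      ∀ i, ∃ m : ℕ, h ^ m * c i = 0)
    (V₂ : S'.Opens) (hV₂ : V₂ ≤ S'.basicOpen h) (r : Fin k → Γ(S', V₂)) (x : S') (hx : x ∈ V₂)
    (hr : ∑ i, r i • res G hV₂ (res G (S'.basicOpen_le h) (π.app V (y i))) = 0) :
    ∃ (V' : S'.Opens) (hV' : V' ≤ V₂), x ∈ V' ∧ ∀ i, resR hV' (r i) = 0 := by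
  have hUV : S'.basicOpen h ≤ V := S'.basicOpen_le h
  have hxV : x ∈ V := hUV (hV₂ hx)
  obtain ⟨g, hgV₂, hxg⟩ := hV.exists_basicOpen_le ⟨x, hx⟩ hxV
  have hDV : S'.basicOpen g ≤ V := S'.basicOpen_le g
  have hDU : S'.basicOpen g ≤ S'.basicOpen h := hgV₂.trans hV₂
  have hD : IsAffineOpen (S'.basicOpen g) := hV.basicOpen g
  refine ⟨S'.basicOpen g, hgV₂, hxg, ?_⟩
  haveI := hV.isLocalization_basicOpen g
  obtain ⟨⟨_, J, rfl⟩, hJ⟩ := IsLocalization.exist_integer_multiples (Submonoid.powers g)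
    Finset.univ (fun i => resR hgV₂ (r i))
  choose a ha using fun i => hJ i (Finset.mem_univ i)
  have ha' : ∀ i, resR hDV (a i) = resR hDV (g ^ J) * resR hgV₂ (r i) := fun i => ha i
  have hug : IsUnit (resR hDV g) := S'.toRingedSpace.isUnit_res_basicOpen g
  have huh : IsUnit (resR hDV h) := by
    have h1 : IsUnit (resR hUV h) := S'.toRingedSpace.isUnit_res_basicOpen h
    have h2 : resR hDV h = resR hDU (resR hUV h) := (resR_resR _ _ _).symm
    rw [h2]
    exact h1.map _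
  -- the section `m = ∑ aᵢ yᵢ` is killed by `π` on `D(g)`
  have hm0 : π.app (S'.basicOpen g) (res P hDV (∑ i, a i • y i)) = 0 := by
    rw [QcExt.app_res, map_sum, map_sum]
    have h1 : ∀ i, res G hDV (π.app V (a i • y i)) =
        resR hDV (g ^ J) • (resR hgV₂ (r i) • res G hgV₂ (res G hV₂ (res G hUV (π.app V (y i))))) := by
      intro i
      rw [Scheme.Modules.Hom.app_smul, res_smul, ha' i, mul_smul, res_res, res_res]
    rw [Finset.sum_congr rfl fun i _ => h1 i, ← Finset.smul_sum]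
    have h2 := congrArg (res G hgV₂) hr
    rw [map_sum, map_zero] at h2
    simp only [res_smul] at h2
    rw [h2, smul_zero]
  rw [hker ⟨S'.basicOpen g, hD⟩] at hm0
  obtain ⟨n₀, hn₀⟩ := hm0
  obtain ⟨-, hID⟩ := Groth.Agent.Helper4.EffCartier.restrict E ⟨V, hV⟩ f hf hIf
    ⟨S'.basicOpen g, hD⟩ hDV
  have hfmem : resR hDV f ^ n₀ ∈ (E ^ n₀).ideal ⟨S'.basicOpen g, hD⟩ := by
    show resR hDV f ^ n₀ ∈ (E.ideal ⟨S'.basicOpen g, hD⟩) ^ n₀
    apply Ideal.pow_mem_pow
    rw [hID]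
    exact Ideal.mem_span_singleton_self _
  have h3 := hn₀ _ hfmem
  -- back to `V`
  letI := Groth.Agent.Lead.SD.basicOpenModule P g
  haveI := Groth.Agent.Lead.SD.isLocalizedModule_res P hV g
  have h4 : Groth.Agent.Lead.SD.resₗ P g (f ^ n₀ • ∑ i, a i • y i) =
      Groth.Agent.Lead.SD.resₗ P g 0 := by
    rw [map_zero]
    show res P hDV (f ^ n₀ • ∑ i, a i • y i) = 0
    rw [res_smul, map_pow]
    exact h3
  obtain ⟨⟨_, l, rfl⟩, hl⟩ := IsLocalizedModule.exists_of_eq (S := Submonoid.powers g) h4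
  have hl' : g ^ l • (f ^ n₀ • ∑ i, a i • y i) = 0 := by
    have := hl
    rw [smul_zero] at this
    exact this
  have h5 : f ^ n₀ • ∑ i, (g ^ l * a i) • y i = 0 := by
    have e : ∑ i, (g ^ l * a i) • y i = g ^ l • ∑ i, a i • y i := by
      rw [Finset.smul_sum]
      exact Finset.sum_congr rfl fun i _ => mul_smul _ _ _
    rw [e, smul_comm]
    exact hl'
  intro i
  obtain ⟨mi, hmi⟩ := hyb (fun i => g ^ l * a i) ⟨n₀, h5⟩ i
  have h6 := congrArg (resR hDV) hmi
  rw [map_mul, map_mul, map_pow, map_pow, map_zero, ha' i, map_pow] at h6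
  have hu : IsUnit (resR hDV h ^ mi * (resR hDV g ^ l * resR hDV g ^ J)) :=
    (huh.pow mi).mul ((hug.pow l).mul (hug.pow J))
  have h7 : (resR hDV h ^ mi * (resR hDV g ^ l * resR hDV g ^ J)) * resR hgV₂ (r i) = 0 := by
    rw [← h6]; ring
  exact (hu.mul_right_eq_zero).1 h7

end Main

section Final
open Scheme.Modules

theorem s8912 (S : Scheme.{u}) (F : S.Modules) (hF : Coh.IsQCoh F) (hft : CohB1.IsFT F)
    (k : ℕ)
    (hfree : FlatMod.IsFinLocFreeOfRank k
      (F.restrict (Scheme.Opens.ι (Fitt.sheafIdeal F k).support.compl)))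
    {S' : Scheme.{u}} (b : S' ⟶ S) (hb : BlowUp.IsBlowUp b (Fitt.sheafIdeal F k)) (G : S'.Modules)
    (π : (Scheme.Modules.pullback b).obj F ⟶ G)
    (hG : BlowUp.IsStrictTransform b (Fitt.sheafIdeal F k) F G π) :
    FlatMod.IsFinLocFreeOfRank k G := by
  intro s'
  haveI : F.IsQuasicoherent := hF
  obtain ⟨W, hW, V, hV, hVW, f, hsV, hf, hIf, hfinM, hfin, hfj, hfit⟩ :=
    local_fitt S F hF hft k b hb.1 s'
  haveI := hfinM
  haveI := hfin
  haveI : ((Scheme.Modules.pullback b).obj F).IsQuasicoherent :=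
    Groth.Agent.Lead.PB.isQuasicoherent_pullback _ _
  have hbot : ∀ j, j < k → Fitt.ideal Γ(S', V) Γ((Scheme.Modules.pullback b).obj F, V) j = ⊥ := by
    intro j hj
    rw [hfj j, eq_bot_iff, Ideal.map_le_iff_le_comap]
    intro d hd
    rw [Ideal.mem_comap, Ideal.mem_bot]
    have hrad : Ideal.map (b.appLE W V hVW).hom (Fitt.ideal Γ(S, W) Γ(F, W) k) ≤
        (Ideal.span {(b.appLE W V hVW).hom d}).annihilator.radical := by
      rw [Ideal.map_le_iff_le_comap]
      intro a ha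
      obtain ⟨m, hm⟩ := lower_bot S F hF hft k hfree hW a ha j hj d hd
      refine ⟨m, ?_⟩
      rw [← map_pow, Submodule.mem_annihilator_span_singleton, smul_eq_mul, ← map_mul, hm,
        map_zero]
    have hfmem : f ∈ Ideal.map (b.appLE W V hVW).hom (Fitt.ideal Γ(S, W) Γ(F, W) k) := by
      rw [← hfj k, hfit]
      exact Ideal.mem_span_singleton_self f
    obtain ⟨m, hm⟩ := hrad hfmem
    rw [Submodule.mem_annihilator_span_singleton, smul_eq_mul] at hm
    have hfm : f ^ m ∈ nonZeroDivisors Γ(S', V) := pow_mem hf m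
    exact (mul_right_mem_nonZeroDivisors_eq_zero_iff hfm).1 (by rw [mul_comm]; exact hm)
  obtain ⟨h, hh, y, hya, hyb⟩ := exists_basis_mod_torsion k f hf hfit hbot
    (hV.primeIdealOf ⟨s', hsV⟩).asIdeal
  haveI : Epi π := hG.1
  refine ⟨S'.basicOpen h, (Groth.Agent.Lead.SD.mem_basicOpen_iff hV ⟨s', hsV⟩ h).2 hh, ?_⟩
  apply VBQ.nonempty_restrict_iso_freeMod
    (b := fun i => res G (S'.basicOpen_le h) (π.app V (y i)))
  apply isBasisOn_of_locally
  · intro V₂ hV₂ r x hx hr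
    exact local_inj _ G π _ hG.2 hV f hf hIf h y hyb V₂ hV₂ r x hx hr
  · intro O hO τ x hx
    exact local_span _ G π _ hG.2 hV f hIf h y hya O hO τ x hx

end Final

end Groth.Agent.Lib.Helper4.StrictFitt2
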