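import Mathlib
import Groth.Prelude.Def_BlowUp2
import Groth.Prelude.Def_FlatMod2
import Groth.Prelude.Def_Coh
import Groth.Prelude.Def_CInt
import Groth.Prelude.Def_Fitting
import Groth.Agent.Lib.Lead.FittSh
import Groth.Agent.Lib.Lead.FittStrat
import Groth.Agent.Lib.Lead.FP2
import Groth.Agent.Lib.Lead.LimZ4
import Groth.Agent.Lib.Lead.FLF6
import Groth.Agent.Lib.Helper1.CohACC
import Groth.Agent.Lib.Helper1.QcAbel
import Groth.Agent.Lib.Helper1.AffPushEpi
import Groth.Agent.Lib.Helper3.KerFP3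
import Groth.Agent.Lib.Helper4.Fitting4
import Groth.Agent.Lib.Helper4.StrictFitt2

/-!
# S8913: blow-up in Fit_r of an fp module, strict transform locally free, kernel fp and zero over U (helper4)
-/

set_option backward.isDefEq.respectTransparency.types false
set_option synthInstance.maxHeartbeats 400000
set_option autoImplicit false
set_option linter.unusedSectionVars false
set_option linter.style.haveILetI false
set_option linter.unusedSimpArgs false
universe u v w
open CategoryTheory CategoryTheory.Limits AlgebraicGeometry TopologicalSpace Opposite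
open Groth.Agent.Helper4.Fitting
open Groth.Agent.Helper1 Groth.Agent.Helper1.QcCech
open Groth.Agent.Lib.Helper4 Groth.Agent.Lib.Helper4.StrictFitt1 Groth.Agent.Lib.Helper4.StrictFitt2

namespace Groth.Agent.Lib.Helper4.StrictFitt3

section A
open Scheme.Modules

variable (X : Scheme.{u}) (F : X.Modules) (hF : CohB1.IsFP F) (U : X.Opens) (r : ℕ)
  (hfree : FlatMod.IsFinLocFreeOfRank r (F.restrict U.ι))

include hF hfree in
/-- the `r`-th Fitting ideal sheaf pulls back to the unit ideal on `U` -/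
theorem comap_eq_top : (Fitt.sheafIdeal F r).comap U.ι = ⊤ := by
  haveI : SheafOfModules.IsFinitePresentation (R := X.ringCatSheaf) F := hF
  have hqc : Coh.IsQCoh F := inferInstance
  have hft : CohB1.IsFT F := inferInstance
  haveI : F.IsQuasicoherent := hqc
  have h1 : FlatMod.IsFinLocFreeOfRank r ((Scheme.Modules.pullback U.ι).obj F) :=
    Groth.Agent.Lead.VBL.isFinLocFreeOfRank_of_iso
      ((Scheme.Modules.restrictFunctorIsoPullback U.ι).app F) hfree
  have hq : ((Scheme.Modules.pullback U.ι).obj F).IsQuasicoherent :=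
    Groth.Agent.Lead.PB.isQuasicoherent_pullback U.ι F
  have hft' := Groth.Agent.Lead.PB.isFT_pullback U.ι F hft
  have h2 := ((Groth.Agent.S8875.result _ _ hq hft' r).1 h1).2 r le_rfl
  rw [Groth.Agent.S8872.result U.ι F hqc hft r, h2]

include hF hfree in
theorem admissible : BlowUp.IsAdmissibleFor U (Fitt.sheafIdeal F r) := by
  haveI : SheafOfModules.IsFinitePresentation (R := X.ringCatSheaf) F := hF
  have hqc : Coh.IsQCoh F := inferInstance
  have hft : CohB1.IsFT F := inferInstance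
  haveI : F.IsQuasicoherent := hqc
  constructor
  · intro W
    rw [Groth.Agent.Lead.FittSh.sheafIdeal_ideal F hft r W]
    haveI := Groth.Agent.Lead.FP.fp_sections_of_isFP F hF W.2
    exact ideal_fg_of_finitePresentation r
  · rw [Set.disjoint_left]
    intro x hx hxU
    have h1 := congrArg Scheme.IdealSheafData.support (comap_eq_top X F hF U r hfree)
    rw [Scheme.IdealSheafData.support_comap, Scheme.IdealSheafData.support_top] at h1
    have h2 : (⟨x, hxU⟩ : U) ∈
        (Fitt.sheafIdeal F r).support.preimage U.ι.continuous := hx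
    rw [h1] at h2
    exact h2

include hF hfree in
/-- lower Fitting ideals vanish on affine opens, by schematic density -/
theorem fitt_lower_bot (hU : CInt.IsSchematicallyDense U) {W : X.Opens} (hW : IsAffineOpen W)
    (j : ℕ) (hj : j < r) : Fitt.ideal Γ(X, W) Γ(F, W) j = ⊥ := by
  haveI : SheafOfModules.IsFinitePresentation (R := X.ringCatSheaf) F := hF
  have hqc : Coh.IsQCoh F := inferInstance
  have hft : CohB1.IsFT F := inferInstance
  haveI : F.IsQuasicoherent := hqc
  rw [eq_bot_iff]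
  intro d hd
  rw [Ideal.mem_bot]
  apply hU W
  rw [map_zero]
  apply CurveGlue.functions_eq_of_locally
  intro x hx
  obtain ⟨_, ⟨D, hD, rfl⟩, hxD, hDle⟩ := X.isBasis_affineOpens.exists_subset_of_mem_open hx
    (W ⊓ U).2
  have hDle' : D ≤ W ⊓ U := hDle
  refine ⟨D, hDle', hxD, ?_⟩
  have h1 := ideal_bot_of_le X F hqc hft r U hfree j hj hD (hDle'.trans inf_le_right)
  have h2 : resR (hDle'.trans inf_le_left) d ∈ (Fitt.sheafIdeal F j).ideal ⟨D, hD⟩ := by
    rw [← (Fitt.sheafIdeal F j).map_ideal (U := ⟨D, hD⟩) (V := ⟨W, hW⟩) (hDle'.trans inf_le_left)]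
    apply Ideal.mem_map_of_mem
    rw [Groth.Agent.Lead.FittSh.sheafIdeal_ideal F hft j ⟨W, hW⟩]
    exact hd
  rw [h1, Ideal.mem_bot] at h2
  rw [map_zero]
  exact (resR_resR _ _ _).trans h2

end A

section B
open Scheme.Modules

/-- (2): the strict transform is locally free of rank `r` -/
theorem locFree (X : Scheme.{u}) (F : X.Modules) (hF : CohB1.IsFP F) (U : X.Opens)
    (hU : CInt.IsSchematicallyDense U) (r : ℕ)
    (hfree : FlatMod.IsFinLocFreeOfRank r (F.restrict U.ι))
    {X' : Scheme.{u}} (b : X' ⟶ X) (hb : BlowUp.IsBlowUp b (Fitt.sheafIdeal F r))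
    (G : X'.Modules) (π : (Scheme.Modules.pullback b).obj F ⟶ G)
    (hG : BlowUp.IsStrictTransform b (Fitt.sheafIdeal F r) F G π) :
    FlatMod.IsFinLocFreeOfRank r G := by
  intro s'
  haveI : SheafOfModules.IsFinitePresentation (R := X.ringCatSheaf) F := hF
  have hqc : Coh.IsQCoh F := inferInstance
  have hft : CohB1.IsFT F := inferInstance
  haveI : F.IsQuasicoherent := hqc
  obtain ⟨W, hW, V, hV, hVW, f, hsV, hf, hIf, hfinM, hfin, hfj, hfit⟩ :=
    local_fitt X F hqc hft r b hb.1 s'
  haveI := hfinM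
  haveI := hfin
  haveI : ((Scheme.Modules.pullback b).obj F).IsQuasicoherent :=
    Groth.Agent.Lead.PB.isQuasicoherent_pullback _ _
  have hbot : ∀ j, j < r →
      Fitt.ideal Γ(X', V) Γ((Scheme.Modules.pullback b).obj F, V) j = ⊥ := by
    intro j hj
    rw [hfj j, fitt_lower_bot X F hF U r hfree hU hW j hj, Ideal.map_bot]
  obtain ⟨h, hh, y, hya, hyb⟩ := exists_basis_mod_torsion r f hf hfit hbot
    (hV.primeIdealOf ⟨s', hsV⟩).asIdeal
  haveI : Epi π := hG.1
  refine ⟨X'.basicOpen h, (Groth.Agent.Lead.SD.mem_basicOpen_iff hV ⟨s', hsV⟩ h).2 hh, ?_⟩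
  apply VBQ.nonempty_restrict_iso_freeMod
    (b := fun i => res G (X'.basicOpen_le h) (π.app V (y i)))
  apply isBasisOn_of_locally
  · intro V₂ hV₂ r' x hx hr
    exact local_inj _ G π _ hG.2 hV f hf hIf h y hyb V₂ hV₂ r' x hx hr
  · intro O hO τ x hx
    exact local_span _ G π _ hG.2 hV f hIf h y hya O hO τ x hx

/-- (3a): the kernel of `b^*F → G` is finitely presented when `G` is locally free -/
theorem kernel_fp (X : Scheme.{u}) (F : X.Modules) (hF : CohB1.IsFP F) (r : ℕ)
    {X' : Scheme.{u}} (b : X' ⟶ X) (G : X'.Modules)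
    (π : (Scheme.Modules.pullback b).obj F ⟶ G) [Epi π]
    (hG : FlatMod.IsFinLocFreeOfRank r G) : CohB1.IsFP (kernel π) := by
  haveI : SheafOfModules.IsFinitePresentation (R := X.ringCatSheaf) F := hF
  haveI : F.IsQuasicoherent := inferInstance
  haveI : ((Scheme.Modules.pullback b).obj F).IsQuasicoherent :=
    Groth.Agent.Lead.PB.isQuasicoherent_pullback _ _
  have hlf := Groth.Agent.Lead.FLF.isFinLocFree_of_isFinLocFreeOfRank G r hG
  haveI : G.IsQuasicoherent := Groth.Agent.Lead.FLF.isQuasicoherent_of_isFinLocFree G hlf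
  haveI : (kernel π).IsQuasicoherent := Groth.Agent.Helper1.QcAbel.isQuasicoherent_kernel π
  rw [Groth.Agent.Lead.FP.isFP_iff_affineOpens]
  intro U' hU'
  haveI := Groth.Agent.Lead.FP.fp_sections_of_isFP _
    (Groth.Agent.Lead.LimZ.isFP_pullback b F hF) hU'
  obtain ⟨hfin, hproj⟩ := (Groth.Agent.Lead.FLF.isFinLocFree_iff_affineOpens G).1 hlf U' hU'
  haveI := hfin
  haveI := hproj
  have hsurj : Function.Surjective (Groth.Agent.Helper3.RelFPS.appₗ π U') :=
    Groth.Agent.Helper1.AffPushEpi.app_surjective_of_epi π U' hU'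
  haveI h1 : Module.FinitePresentation Γ(X', U')
      ↥(LinearMap.ker (Groth.Agent.Helper3.RelFPS.appₗ π U')) :=
    Module.finitePresentation_of_projective_of_exact
      (LinearMap.ker (Groth.Agent.Helper3.RelFPS.appₗ π U')).subtype
      (Groth.Agent.Helper3.RelFPS.appₗ π U')
      (Submodule.injective_subtype _) hsurj (LinearMap.exact_subtype_ker_map _)
  exact Module.FinitePresentation.of_equiv
    (Groth.Agent.Helper3.KerFP.sectionsKernelEquiv π U').symm

/-- (3b): the kernel of `b^*F → G` vanishes over `b⁻¹ U` -/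
theorem kernel_restrict_zero (X : Scheme.{u}) (F : X.Modules) (hF : CohB1.IsFP F) (U : X.Opens)
    (r : ℕ) (hfree : FlatMod.IsFinLocFreeOfRank r (F.restrict U.ι))
    {X' : Scheme.{u}} (b : X' ⟶ X) (G : X'.Modules)
    (π : (Scheme.Modules.pullback b).obj F ⟶ G)
    (hG : BlowUp.IsStrictTransform b (Fitt.sheafIdeal F r) F G π)
    [(kernel π).IsQuasicoherent] :
    IsZero ((kernel π).restrict (b ⁻¹ᵁ U).ι) := by
  have hEtop : ((Fitt.sheafIdeal F r).comap b).comap (b ⁻¹ᵁ U).ι = ⊤ := by
    rw [← Scheme.IdealSheafData.comap_comp, ← morphismRestrict_ι,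
      Scheme.IdealSheafData.comap_comp, comap_eq_top X F hF U r hfree,
      Scheme.IdealSheafData.comap_top]
  apply CohACC.isZero_of_affine_cover _
    (fun O : (b ⁻¹ᵁ U).toScheme.affineOpens => O.1) (fun O => O.2)
    (iSup_affineOpens_eq_top _)
  intro O z
  have hO' : IsAffineOpen ((b ⁻¹ᵁ U).ι ''ᵁ O.1) := O.2.image_of_isOpenImmersion _
  have hz : ∀ z' : Γ(kernel π, (b ⁻¹ᵁ U).ι ''ᵁ O.1), z' = 0 := by
    intro z'
    apply Groth.Agent.Helper1.FtLocal.app_injective_of_mono (kernel.ι π) _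
    rw [map_zero]
    have hπm : π.app _ ((kernel.ι π).app _ z') = 0 :=
      congrArg (fun φ => Scheme.Modules.Hom.app φ ((b ⁻¹ᵁ U).ι ''ᵁ O.1) z') (kernel.condition π)
    obtain ⟨n, hn⟩ := (hG.2 ⟨_, hO'⟩ _).1 hπm
    have htop : ((Fitt.sheafIdeal F r).comap b).ideal ⟨_, hO'⟩ = ⊤ := by
      have h2 := Scheme.IdealSheafData.ideal_comap_of_isOpenImmersion
        ((Fitt.sheafIdeal F r).comap b) (b ⁻¹ᵁ U).ι O
      rw [hEtop] at h2
      exact Ideal.comap_eq_top_iff.1 h2.symm
    have h1 : (1 : Γ(X', (b ⁻¹ᵁ U).ι ''ᵁ O.1)) ∈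
        (((Fitt.sheafIdeal F r).comap b) ^ n).ideal ⟨_, hO'⟩ := by
      rw [Scheme.IdealSheafData.ideal_pow, Pi.pow_apply, htop, Ideal.top_pow]
      trivial
    have := hn 1 h1
    rwa [one_smul] at this
  exact hz z

/-- **S8913** -/
theorem s8913 (X : Scheme.{u}) (F : X.Modules) (hF : CohB1.IsFP F)
    (U : X.Opens) (hU : CInt.IsSchematicallyDense U) (r : ℕ)
    (hfree : FlatMod.IsFinLocFreeOfRank r (F.restrict U.ι)) :
    BlowUp.IsAdmissibleFor U (Fitt.sheafIdeal F r) ∧
      ∀ (X' : Scheme.{u}) (b : X' ⟶ X), BlowUp.IsBlowUp b (Fitt.sheafIdeal F r) →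
        ∀ (G : X'.Modules) (π : (Scheme.Modules.pullback b).obj F ⟶ G),
          BlowUp.IsStrictTransform b (Fitt.sheafIdeal F r) F G π →
          FlatMod.IsFinLocFreeOfRank r G ∧ CohB1.IsFP (kernel π) ∧
            IsZero ((kernel π).restrict (b ⁻¹ᵁ U).ι) := by
  refine ⟨admissible X F hF U r hfree, ?_⟩
  intro X' b hb G π hG
  have hlf := locFree X F hF U hU r hfree b hb G π hG
  haveI : Epi π := hG.1
  haveI : SheafOfModules.IsFinitePresentation (R := X.ringCatSheaf) F := hF
  haveI : F.IsQuasicoherent := inferInstance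
  haveI : ((Scheme.Modules.pullback b).obj F).IsQuasicoherent :=
    Groth.Agent.Lead.PB.isQuasicoherent_pullback _ _
  haveI : G.IsQuasicoherent := Groth.Agent.Lead.FLF.isQuasicoherent_of_isFinLocFree G
    (Groth.Agent.Lead.FLF.isFinLocFree_of_isFinLocFreeOfRank G r hlf)
  haveI : (kernel π).IsQuasicoherent := Groth.Agent.Helper1.QcAbel.isQuasicoherent_kernel π
  exact ⟨hlf, kernel_fp X F hF r b G π hlf, kernel_restrict_zero X F hF U r hfree b G π hG⟩

end B

end Groth.Agent.Lib.Helper4.StrictFitt3
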