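import Mathlib

/-!
# Swap-invariants of the fourth power of the diagonal ideal (helper4)
-/

set_option backward.isDefEq.respectTransparency.types false
set_option synthInstance.maxHeartbeats 400000
set_option autoImplicit false
set_option linter.unusedSectionVars false
set_option linter.style.haveILetI false
set_option linter.unusedSimpArgs false
universe u v w

namespace Groth.Agent.Lib.Helper4.SwapInvDiag1
open TensorProduct
open scoped Pointwise

section
variable (k R : Type u) [Field k] [NeZero (2 : k)] [CommRing R] [Algebra k R]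

/-- the swap of the two factors -/
noncomputable abbrev sw : R ⊗[k] R →ₐ[k] R ⊗[k] R :=
  ((Algebra.TensorProduct.comm k R R : R ⊗[k] R ≃ₐ[k] R ⊗[k] R) : R ⊗[k] R →ₐ[k] R ⊗[k] R)

/-- the subalgebra of swap-invariants -/
noncomputable abbrev E : Subalgebra k (R ⊗[k] R) := AlgHom.equalizer (sw k R) (AlgHom.id k (R ⊗[k] R))

theorem sw_sw (y : R ⊗[k] R) : sw k R (sw k R y) = y := by
  induction y using TensorProduct.induction_on with
  | zero => simp
  | tmul a b => simp [sw]
  | add x y hx hy => simp only [map_add, hx, hy]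

/-- the averaging operator -/
noncomputable def avg (y : R ⊗[k] R) : E k R :=
  ⟨(2⁻¹ : k) • (y + sw k R y), by
    rw [AlgHom.mem_equalizer, map_smul, map_add, sw_sw, AlgHom.id_apply, add_comm]⟩

theorem avg_add (y z : R ⊗[k] R) : avg k R (y + z) = avg k R y + avg k R z := by
  apply Subtype.ext
  simp only [avg, map_add, Subalgebra.coe_add]
  rw [← smul_add]; congr 1; abel

theorem avg_of_mem (x : E k R) : avg k R x.1 = x := by
  apply Subtype.ext
  have hx : sw k R x.1 = x.1 := x.2
  simp only [avg, hx]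
  rw [← two_smul k (x.1), smul_smul, inv_mul_cancel₀ (NeZero.ne (2 : k)), one_smul]

theorem avg_mul_of_mem (a : R ⊗[k] R) (g : E k R) : avg k R (a * g.1) = avg k R a * g := by
  apply Subtype.ext
  have hg : sw k R g.1 = g.1 := g.2
  simp only [avg, map_mul, hg, Subalgebra.coe_mul]
  rw [← add_mul, smul_mul_assoc]

/-- the generators `1 ⊗ s - s ⊗ 1` of the diagonal ideal -/
def D : Set (R ⊗[k] R) := Set.range fun s : R => (1 : R) ⊗ₜ[k] s - s ⊗ₜ[k] (1 : R)

theorem sw_D (x : R ⊗[k] R) (hx : x ∈ D k R) : sw k R x = -x := by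
  obtain ⟨s, rfl⟩ := hx
  simp [sw]

theorem main :
    Ideal.comap (E k R).val (KaehlerDifferential.ideal k R ^ 4) =
      (Ideal.comap (E k R).val (KaehlerDifferential.ideal k R ^ 2)) ^ 2 := by
  apply le_antisymm
  · intro x hx
    rw [Ideal.mem_comap] at hx
    have hI2 : KaehlerDifferential.ideal k R ^ 2 = Ideal.span (D k R * D k R) := by
      rw [← KaehlerDifferential.span_range_eq_ideal, pow_two, Ideal.span_mul_span']; rfl
    have hI4 : KaehlerDifferential.ideal k R ^ 4 = Ideal.span ((D k R * D k R) * (D k R * D k R)) := by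
      rw [show 4 = 2 * 2 from rfl, pow_mul, hI2, pow_two, Ideal.span_mul_span']
    -- lift generators
    have hgen : ∀ g ∈ D k R * D k R, ∃ ĝ : E k R, ĝ.1 = g ∧
        ĝ ∈ Ideal.comap (E k R).val (KaehlerDifferential.ideal k R ^ 2) := by
      intro g hg
      have hg2 : g ∈ KaehlerDifferential.ideal k R ^ 2 := by rw [hI2]; exact Ideal.subset_span hg
      obtain ⟨a, ha, b, hb, rfl⟩ := hg
      refine ⟨⟨a * b, ?_⟩, rfl, ?_⟩
      · rw [AlgHom.mem_equalizer, map_mul, sw_D k R a ha, sw_D k R b hb, AlgHom.id_apply]; ring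
      · rw [Ideal.mem_comap]; exact hg2
    have key : ∀ y ∈ Ideal.span ((D k R * D k R) * (D k R * D k R)), ∀ a : R ⊗[k] R,
        avg k R (a * y) ∈ (Ideal.comap (E k R).val (KaehlerDifferential.ideal k R ^ 2)) ^ 2 := by
      intro y hy
      induction hy using Submodule.span_induction with
      | mem y hy =>
        intro a
        obtain ⟨g, hg, g', hg', rfl⟩ := hy
        obtain ⟨ĝ, rfl, hĝ⟩ := hgen g hg
        obtain ⟨ĝ', rfl, hĝ'⟩ := hgen g' hg'
        have : a * (ĝ.1 * ĝ'.1) = a * (ĝ * ĝ').1 := rfl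
        rw [this, avg_mul_of_mem, pow_two]
        exact Ideal.mul_mem_left _ _ (Ideal.mul_mem_mul hĝ hĝ')
      | zero => intro a; rw [mul_zero]; convert Ideal.zero_mem _; apply Subtype.ext; simp [avg]
      | add y z _ _ hy hz => intro a; rw [mul_add, avg_add]; exact add_mem (hy a) (hz a)
      | smul b y _ hy => intro a; rw [smul_eq_mul, ← mul_assoc]; exact hy (a * b)
    have := key x.1 (by rw [← hI4]; exact hx) 1
    rwa [one_mul, avg_of_mem] at this
  · refine (Ideal.le_comap_pow _ 2).trans ?_
    rw [← pow_mul]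

end
end Groth.Agent.Lib.Helper4.SwapInvDiag1
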