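import Mathlib
import Groth.Prelude.Def_SymTen
import Groth.Prelude.Def_W4c5normfunctorschNorm

/-!
# Symmetric tensors preserve the span of pure tensors with two equal factors (helper4)
-/

set_option backward.isDefEq.respectTransparency.types false
set_option synthInstance.maxHeartbeats 400000
set_option autoImplicit false
set_option linter.unusedSectionVars false
set_option linter.style.haveILetI false
set_option linter.unusedSimpArgs false
universe u v w

namespace Groth.Agent.Lib.Helper4.SymTenAlt1
open Finset
open scoped TensorProduct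

section basic
variable (R : Type u) [CommRing R] (A : Type u) [CommRing A] [Algebra R A]
  (P : Type u) [AddCommGroup P] [Module R P] [Module A P] [IsScalarTower R A P] (d : ℕ)

theorem tpowAct_tprod_tprod (a : Fin d → A) (p : Fin d → P) :
    SymTen.tpowAct R A P d (PiTensorProduct.tprod R a) (PiTensorProduct.tprod R p) =
      PiTensorProduct.tprod R (fun k => a k • p k) := by
  rw [SymTen.tpowAct, PiTensorProduct.lift.tprod, MultilinearMap.compLinearMap_apply,
    PiTensorProduct.mapMultilinear_apply, PiTensorProduct.map_tprod]
  rfl

theorem reindex_tpowAct (σ : Equiv.Perm (Fin d)) (a : ⨂[R] _ : Fin d, A) (x : ⨂[R] _ : Fin d, P) :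
    PiTensorProduct.reindex R (fun _ : Fin d => P) σ (SymTen.tpowAct R A P d a x) =
      SymTen.tpowAct R A P d (PiTensorProduct.reindex R (fun _ : Fin d => A) σ a)
        (PiTensorProduct.reindex R (fun _ : Fin d => P) σ x) := by
  induction a using PiTensorProduct.induction_on with
  | smul_tprod r a =>
    induction x using PiTensorProduct.induction_on with
    | smul_tprod s p =>
      simp only [map_smul, LinearMap.smul_apply, tpowAct_tprod_tprod, PiTensorProduct.reindex_tprod]
    | add x y hx hy => simp only [map_add, hx, hy]
  | add a b ha hb => simp only [map_add, LinearMap.add_apply, ha, hb]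

end basic

section alt
variable (R : Type u) [CommRing R] (P : Type u) [AddCommGroup P] [Module R P] (d : ℕ)

theorem gen_mem (p : Fin d → P) (i j : Fin d) (hij : i ≠ j) (h : p i = p j) :
    PiTensorProduct.tprod R p ∈ SymTen.altSpan R P d :=
  Submodule.subset_span ⟨p, i, j, hij, h, rfl⟩

/-- `z + τ z` lies in `altSpan` for a transposition `τ` -/
theorem add_swap_mem (i j : Fin d) (hij : i ≠ j) (z : ⨂[R] _ : Fin d, P) :
    z + PiTensorProduct.reindex R (fun _ : Fin d => P) (Equiv.swap i j) z ∈ SymTen.altSpan R P d := by
  induction z using PiTensorProduct.induction_on with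
  | smul_tprod r p =>
    rw [map_smul, ← smul_add]
    apply Submodule.smul_mem
    rw [PiTensorProduct.reindex_tprod, Equiv.symm_swap]
    set Φ : P → P → (⨂[R] _ : Fin d, P) := fun u v =>
      PiTensorProduct.tprod R (Function.update (Function.update p i u) j v) with hΦ
    have hadd1 : ∀ u u' v, Φ (u + u') v = Φ u v + Φ u' v := by
      intro u u' v
      simp only [hΦ]
      rw [Function.update_comm hij, Function.update_comm hij, Function.update_comm hij,
        MultilinearMap.map_update_add]
    have hadd2 : ∀ u v v', Φ u (v + v') = Φ u v + Φ u v' := by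
      intro u v v'
      simp only [hΦ]
      rw [MultilinearMap.map_update_add]
    have hdiag : ∀ u, Φ u u ∈ SymTen.altSpan R P d := by
      intro u
      apply gen_mem R P d _ i j hij
      rw [Function.update_self, Function.update_of_ne hij, Function.update_self]
    have h1 : Φ (p i) (p j) = PiTensorProduct.tprod R p := by
      simp only [hΦ, Function.update_eq_self]
    have h2 : Φ (p j) (p i) = PiTensorProduct.tprod R (fun k => p (Equiv.swap i j k)) := by
      simp only [hΦ]
      congr 1
      funext k
      by_cases hkj : k = j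
      · subst hkj; rw [Function.update_self, Equiv.swap_apply_right]
      · rw [Function.update_of_ne hkj]
        by_cases hki : k = i
        · subst hki; rw [Function.update_self, Equiv.swap_apply_left]
        · rw [Function.update_of_ne hki, Equiv.swap_apply_of_ne_of_ne hki hkj]
    have h3 : PiTensorProduct.tprod R p + PiTensorProduct.tprod R (fun k => p (Equiv.swap i j k)) =
        Φ (p i + p j) (p i + p j) - Φ (p i) (p i) - Φ (p j) (p j) := by
      rw [hadd1, hadd2, hadd2, h1, h2]; abel
    rw [h3]
    exact sub_mem (sub_mem (hdiag _) (hdiag _)) (hdiag _)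
  | add x y hx hy =>
    rw [map_add]
    have : x + y + ((PiTensorProduct.reindex R (fun _ : Fin d => P) (Equiv.swap i j)) x +
        (PiTensorProduct.reindex R (fun _ : Fin d => P) (Equiv.swap i j)) y) =
        (x + (PiTensorProduct.reindex R (fun _ : Fin d => P) (Equiv.swap i j)) x) +
        (y + (PiTensorProduct.reindex R (fun _ : Fin d => P) (Equiv.swap i j)) y) := by abel
    rw [this]
    exact add_mem hx hy

theorem map_mem {P' : Type u} [AddCommGroup P'] [Module R P'] (f : P →ₗ[R] P')
    (x : ⨂[R] _ : Fin d, P) (hx : x ∈ SymTen.altSpan R P d) :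
    PiTensorProduct.map (fun _ : Fin d => f) x ∈ SymTen.altSpan R P' d := by
  induction hx using Submodule.span_induction with
  | mem x hx =>
    obtain ⟨p, i, j, hij, h, rfl⟩ := hx
    rw [PiTensorProduct.map_tprod]
    exact gen_mem R P' d _ i j hij (by simp only [h])
  | zero => simp
  | add x y _ _ hx hy => rw [map_add]; exact add_mem hx hy
  | smul c x _ hx => rw [map_smul]; exact Submodule.smul_mem _ _ hx

end alt

section free
variable (R : Type u) [CommRing R] (F : Type u) [AddCommGroup F] [Module R F] (d : ℕ)
  {κ : Type} [LinearOrder κ] (b : Module.Basis κ R F)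

theorem repr_reindex (σ : Equiv.Perm (Fin d)) (w : ⨂[R] _ : Fin d, F) (J : Fin d → κ) :
    (_root_.Basis.piTensorProduct (fun _ : Fin d => b)).repr
      (PiTensorProduct.reindex R (fun _ : Fin d => F) σ w) J =
    (_root_.Basis.piTensorProduct (fun _ : Fin d => b)).repr w (fun k => J (σ k)) := by
  induction w using PiTensorProduct.induction_on with
  | smul_tprod r x =>
    simp only [map_smul, PiTensorProduct.reindex_tprod, Finsupp.smul_apply,
      _root_.Basis.piTensorProduct_repr_tprod_apply]
    congr 1
    exact (Equiv.prod_comp σ (fun k => b.repr (x (σ.symm k)) (J k))).symm.trans (by simp)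
  | add x y hx hy => simp only [map_add, Finsupp.add_apply, hx, hy]

include b in
theorem fixed_mem_of_basis (i j : Fin d) (hij : i ≠ j) (y : ⨂[R] _ : Fin d, F)
    (hy : PiTensorProduct.reindex R (fun _ : Fin d => F) (Equiv.swap i j) y = y) :
    y ∈ SymTen.altSpan R F d := by
  classical
  set B := _root_.Basis.piTensorProduct (fun _ : Fin d => b) with hB
  set c := B.repr y with hc
  have hcτ : ∀ J : Fin d → κ, c (fun k => J (Equiv.swap i j k)) = c J := by
    intro J
    rw [hc, ← repr_reindex R F d b (Equiv.swap i j) y J, hy]
  set yD := B.repr.symm (c.filter (fun I => I i = I j)) with hyD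
  set z := B.repr.symm (c.filter (fun I => I i < I j)) with hz
  have hsplit : y = yD + (z + PiTensorProduct.reindex R (fun _ : Fin d => F) (Equiv.swap i j) z) := by
    apply B.repr.injective
    ext J
    rw [map_add, map_add, Finsupp.add_apply, Finsupp.add_apply, hB,
      repr_reindex R F d b (Equiv.swap i j) z J, ← hB, hyD, hz,
      LinearEquiv.apply_symm_apply, LinearEquiv.apply_symm_apply, Finsupp.filter_apply,
      Finsupp.filter_apply, Finsupp.filter_apply]
    beta_reduce
    rw [Equiv.swap_apply_left, Equiv.swap_apply_right, hcτ J, ← hc]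
    rcases lt_trichotomy (J i) (J j) with h | h | h
    · rw [if_neg (ne_of_lt h), if_pos h, if_neg (not_lt_of_gt h)]; simp
    · rw [if_pos h, if_neg (by rw [h]; exact lt_irrefl _), if_neg (by rw [h]; exact lt_irrefl _)]; simp
    · rw [if_neg (ne_of_gt h), if_neg (not_lt_of_gt h), if_pos h]; simp
  rw [hsplit]
  refine add_mem ?_ (add_swap_mem R F d i j hij z)
  rw [hyD, Module.Basis.repr_symm_apply, Finsupp.linearCombination_apply]
  apply Submodule.sum_mem
  intro I hI
  apply Submodule.smul_mem
  have hI' : I i = I j := by
    by_contra hne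
    rw [Finsupp.mem_support_iff, Finsupp.filter_apply, if_neg hne] at hI
    exact hI rfl
  rw [hB, _root_.Basis.piTensorProduct_apply]
  exact gen_mem R F d _ i j hij (by simp only [hI'])

end free

section proj
variable (R : Type u) [CommRing R] (P : Type u) [AddCommGroup P] [Module R P]
  [Module.Finite R P] [Module.Projective R P] (d : ℕ)

theorem fixed_mem (i j : Fin d) (hij : i ≠ j) (y : ⨂[R] _ : Fin d, P)
    (hy : PiTensorProduct.reindex R (fun _ : Fin d => P) (Equiv.swap i j) y = y) :
    y ∈ SymTen.altSpan R P d := by
  obtain ⟨n, f, g, -, -, hfg⟩ := Module.Finite.exists_comp_eq_id_of_projective R P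
  have h1 : PiTensorProduct.reindex R (fun _ : Fin d => (Fin n → R)) (Equiv.swap i j)
      (PiTensorProduct.map (fun _ : Fin d => g) y) = PiTensorProduct.map (fun _ : Fin d => g) y := by
    rw [← PiTensorProduct.map_reindex, hy]
  have h2 := fixed_mem_of_basis R (Fin n → R) d (Pi.basisFun R (Fin n)) i j hij _ h1
  have h3 := map_mem R (Fin n → R) d f _ h2
  rw [← LinearMap.comp_apply, ← PiTensorProduct.map_comp, hfg, PiTensorProduct.map_id] at h3
  exact h3

end proj

theorem main (R : Type u) [CommRing R] (A : Type u) [CommRing A] [Algebra R A]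
    (P : Type u) [AddCommGroup P] [Module R P] [Module A P] [IsScalarTower R A P]
    [Module.Finite R P] [Module.Projective R P] (d : ℕ)
    (a : ⨂[R] _ : Fin d, A) (ha : a ∈ SymTen.TS R A d)
    (x : ⨂[R] _ : Fin d, P) (hx : x ∈ SymTen.altSpan R P d) :
    SymTen.tpowAct R A P d a x ∈ SymTen.altSpan R P d := by
  induction hx using Submodule.span_induction with
  | mem x hx =>
    obtain ⟨p, i, j, hij, h, rfl⟩ := hx
    apply fixed_mem R P d i j hij
    rw [reindex_tpowAct, ha (Equiv.swap i j), PiTensorProduct.reindex_tprod, Equiv.symm_swap]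
    congr 2
    funext k
    by_cases hki : k = i
    · subst hki; rw [Equiv.swap_apply_left, h]
    · by_cases hkj : k = j
      · subst hkj; rw [Equiv.swap_apply_right, h]
      · rw [Equiv.swap_apply_of_ne_of_ne hki hkj]
  | zero => simp
  | add x y _ _ hx hy => rw [map_add]; exact add_mem hx hy
  | smul c x _ hx => rw [map_smul]; exact Submodule.smul_mem _ _ hx

end Groth.Agent.Lib.Helper4.SymTenAlt1
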