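import Mathlib
import Groth.Prelude.Def_SymTen

/-!
# Polarization, symmetric tensors spanned by diagonal tensors, linearised norm (helper4)
-/

set_option backward.isDefEq.respectTransparency.types false
set_option synthInstance.maxHeartbeats 400000
set_option autoImplicit false
set_option linter.unusedSectionVars false
set_option linter.style.haveILetI false
set_option linter.unusedSimpArgs false
universe u v w

namespace Groth.Agent.Lib.Helper4.SymTenNorm1
open Finset
open scoped TensorProduct

/-- polarization identity for a multilinear map with all arguments in the same module -/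
theorem polarization {A : Type*} [CommRing A] {ι : Type*} [Fintype ι] [DecidableEq ι]
    {B N : Type*} [AddCommGroup B] [Module A B] [AddCommGroup N] [Module A N]
    (f : MultilinearMap A (fun _ : ι => B) N) (r : ι → B) :
    ∑ S : Finset ι, (-1 : ℤ) ^ S.card • f (fun _ => ∑ i ∈ Sᶜ, r i) =
      ∑ σ : Equiv.Perm ι, f (fun i => r (σ i)) := by
  have h1 : ∀ S : Finset ι, f (fun _ => ∑ i ∈ Sᶜ, r i) =
      ∑ g : ι → ι, if (∀ i, g i ∉ S) then f (fun i => r (g i)) else 0 := by
    intro S
    rw [f.map_sum_finset (fun _ j => r j) (fun _ => Sᶜ), ← Finset.sum_filter]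
    apply Finset.sum_congr _ (fun _ _ => rfl)
    ext g
    simp [Fintype.mem_piFinset]
  simp_rw [h1, Finset.smul_sum]
  rw [Finset.sum_comm]
  have h2 : ∀ g : ι → ι, ∑ S : Finset ι, (-1 : ℤ) ^ S.card •
      (if (∀ i, g i ∉ S) then f (fun i => r (g i)) else 0) =
      (if Function.Surjective g then f (fun i => r (g i)) else 0) := by
    intro g
    have h3 : ∀ S : Finset ι, (-1 : ℤ) ^ S.card •
        (if (∀ i, g i ∉ S) then f (fun i => r (g i)) else 0) =
        (if S ∈ ((univ.image g)ᶜ).powerset then (-1 : ℤ) ^ S.card else 0) • f (fun i => r (g i)) := by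
      intro S
      have : (∀ i, g i ∉ S) ↔ S ∈ ((univ.image g)ᶜ).powerset := by
        rw [Finset.mem_powerset, Finset.subset_compl_comm]
        constructor
        · intro h x hx
          obtain ⟨i, -, rfl⟩ := Finset.mem_image.mp hx
          exact Finset.mem_compl.mpr (h i)
        · intro h i
          exact Finset.mem_compl.mp (h (Finset.mem_image_of_mem g (Finset.mem_univ i)))
      by_cases hS : ∀ i, g i ∉ S
      · rw [if_pos hS, if_pos (this.mp hS)]
      · rw [if_neg hS, if_neg (fun h => hS (this.mpr h))]; simp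
    simp_rw [h3]
    rw [← Finset.sum_smul, Finset.sum_ite_mem, Finset.univ_inter,
      Finset.sum_powerset_neg_one_pow_card]
    have h4 : (univ.image g)ᶜ = ∅ ↔ Function.Surjective g := by
      rw [Finset.compl_eq_empty_iff]
      constructor
      · intro h x
        have hx : x ∈ univ.image g := by rw [h]; exact Finset.mem_univ x
        obtain ⟨i, -, rfl⟩ := Finset.mem_image.mp hx
        exact ⟨i, rfl⟩
      · exact Finset.image_univ_of_surjective
    by_cases hg : Function.Surjective g
    · rw [if_pos hg, if_pos (h4.mpr hg), one_smul]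
    · rw [if_neg hg, if_neg (fun h => hg (h4.mp h)), zero_smul]
  simp_rw [h2]
  rw [← Finset.sum_filter]
  symm
  apply Finset.sum_bij (s := (univ : Finset (Equiv.Perm ι))) (fun σ _ => (σ : ι → ι))
  · intro σ _
    simp [σ.surjective]
  · intro σ _ τ _ h
    exact Equiv.coe_fn_injective h
  · intro g hg
    have hg' : Function.Surjective g := (Finset.mem_filter.mp hg).2
    exact ⟨Equiv.ofBijective g ⟨Finite.injective_iff_surjective.mpr hg', hg'⟩, Finset.mem_univ _, rfl⟩
  · intro σ _
    rfl


section span
variable (A : Type u) [CommRing A] (B : Type u) [CommRing B] [Algebra A B] (d : ℕ)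

/-- the diagonal pure tensors -/
def diag : Set (⨂[A] _ : Fin d, B) := Set.range fun b : B => PiTensorProduct.tprod A (fun _ : Fin d => b)

/-- the (unnormalised) symmetrisation operator -/
noncomputable def symOp : (⨂[A] _ : Fin d, B) →ₗ[A] (⨂[A] _ : Fin d, B) :=
  ∑ σ : Equiv.Perm (Fin d), (PiTensorProduct.reindex A (fun _ : Fin d => B) σ).toLinearMap

theorem symOp_tprod_mem (r : Fin d → B) :
    symOp A B d (PiTensorProduct.tprod A r) ∈ Submodule.span A (diag A B d) := by
  have h1 : symOp A B d (PiTensorProduct.tprod A r) =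
      ∑ σ : Equiv.Perm (Fin d), PiTensorProduct.tprod A (fun i => r (σ i)) := by
    rw [symOp, LinearMap.sum_apply]
    rw [← Equiv.sum_comp (Equiv.inv (Equiv.Perm (Fin d)))]
    apply Finset.sum_congr rfl
    intro σ _
    simp only [LinearEquiv.coe_coe, PiTensorProduct.reindex_tprod, Equiv.inv_apply]
    rfl
  rw [h1, ← polarization (PiTensorProduct.tprod A) r]
  apply Submodule.sum_mem
  intro S _
  apply Submodule.smul_of_tower_mem
  exact Submodule.subset_span ⟨_, rfl⟩

theorem symOp_mem (x : ⨂[A] _ : Fin d, B) : symOp A B d x ∈ Submodule.span A (diag A B d) := by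
  have hx : x ∈ Submodule.span A (Set.range (PiTensorProduct.tprod A (s := fun _ : Fin d => B))) := by
    rw [PiTensorProduct.span_tprod_eq_top]; trivial
  induction hx using Submodule.span_induction with
  | mem x hx => obtain ⟨r, rfl⟩ := hx; exact symOp_tprod_mem A B d r
  | zero => simp
  | add x y _ _ hx hy => rw [map_add]; exact add_mem hx hy
  | smul c x _ hx => rw [map_smul]; exact Submodule.smul_mem _ _ hx

theorem symOp_of_mem (t : ⨂[A] _ : Fin d, B) (ht : t ∈ SymTen.TS A B d) :
    symOp A B d t = ((d.factorial : ℕ) : A) • t := by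
  rw [symOp, LinearMap.sum_apply]
  have : ∀ σ ∈ (Finset.univ : Finset (Equiv.Perm (Fin d))),
      (PiTensorProduct.reindex A (fun _ : Fin d => B) σ).toLinearMap t = t := fun σ _ => ht σ
  rw [Finset.sum_congr rfl this, Finset.sum_const, Finset.card_univ, Fintype.card_perm,
    Fintype.card_fin, Nat.cast_smul_eq_nsmul]

theorem mem_span_diag (hfact : IsUnit ((d.factorial : ℕ) : A)) (t : ⨂[A] _ : Fin d, B)
    (ht : t ∈ SymTen.TS A B d) : t ∈ Submodule.span A (diag A B d) := by
  obtain ⟨u, hu⟩ := hfact
  have h1 := symOp_mem A B d t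
  rw [symOp_of_mem A B d t ht, ← hu] at h1
  have h2 := Submodule.smul_mem _ ((u⁻¹ : Aˣ) : A) h1
  rwa [smul_smul, Units.inv_mul, one_smul] at h2

theorem span_tpow_eq_top (hfact : IsUnit ((d.factorial : ℕ) : A)) :
    Submodule.span A (Set.range (SymTen.tpow A B d)) = ⊤ := by
  rw [eq_top_iff]
  rintro ⟨t, ht⟩ -
  have h1 := mem_span_diag A B d hfact t ht
  have h2 : diag A B d = (SymTen.TS A B d).val.toLinearMap '' (Set.range (SymTen.tpow A B d)) := by
    rw [← Set.range_comp]; rfl
  rw [h2, ← Submodule.map_span] at h1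
  obtain ⟨t', ht', htt⟩ := h1
  have : t' = ⟨t, ht⟩ := Subtype.ext htt
  rwa [← this]

end span

section norm
variable (A : Type u) [CommRing A] (R : Type u) [CommRing R] [Algebra A R] (n : ℕ)
  (e : Module.Basis (Fin n) A R)

/-- the linear form `t ↦ det_e (t · (e₁ ⊗ ⋯ ⊗ eₙ))` on the tensor power -/
noncomputable def normForm : (⨂[A] _ : Fin n, R) →ₗ[A] A :=
  (PiTensorProduct.lift (e.det : MultilinearMap A (fun _ : Fin n => R) A)) ∘ₗ
    (LinearMap.mulRight A (PiTensorProduct.tprod A (fun i => e i)))

theorem normForm_tprod (r : R) :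
    normForm A R n e (PiTensorProduct.tprod A (fun _ : Fin n => r)) = Algebra.norm A r := by
  rw [normForm, LinearMap.comp_apply, LinearMap.mulRight_apply, PiTensorProduct.tprod_mul_tprod,
    PiTensorProduct.lift.tprod, Algebra.norm_eq_matrix_det e]
  change e.det _ = _
  rw [Module.Basis.det_apply]
  congr 1
  ext i j
  rw [Module.Basis.toMatrix_apply, Algebra.leftMulMatrix_eq_repr_mul]
  rfl

variable [Module.Free A R] [Module.Finite A R]

include e in
theorem exists_algHom (hfact : IsUnit ((n.factorial : ℕ) : A)) :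
    ∃ φ : SymTen.TS A R n →ₐ[A] A, ∀ r : R, φ (SymTen.tpow A R n r) = Algebra.norm A r := by
  set φ₀ : SymTen.TS A R n →ₗ[A] A := (normForm A R n e) ∘ₗ (SymTen.TS A R n).val.toLinearMap with hφ₀
  have hφ₀r : ∀ r : R, φ₀ (SymTen.tpow A R n r) = Algebra.norm A r := fun r => normForm_tprod A R n e r
  have htop := span_tpow_eq_top A R n hfact
  have hmul1 : ∀ (r : R) (t : SymTen.TS A R n), φ₀ (SymTen.tpow A R n r * t) = Algebra.norm A r * φ₀ t := by
    intro r t
    have ht : t ∈ Submodule.span A (Set.range (SymTen.tpow A R n)) := by rw [htop]; trivial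
    induction ht using Submodule.span_induction with
    | mem x hx =>
      obtain ⟨r', rfl⟩ := hx
      rw [← map_mul, hφ₀r, hφ₀r, map_mul]
    | zero => simp
    | add x y _ _ hx hy => rw [mul_add, map_add, map_add, hx, hy, mul_add]
    | smul c x _ hx => rw [mul_smul_comm, map_smul, map_smul, hx, smul_eq_mul, smul_eq_mul]; ring
  have hmul : ∀ (s t : SymTen.TS A R n), φ₀ (s * t) = φ₀ s * φ₀ t := by
    intro s t
    have hs : s ∈ Submodule.span A (Set.range (SymTen.tpow A R n)) := by rw [htop]; trivial
    induction hs using Submodule.span_induction with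
    | mem x hx =>
      obtain ⟨r', rfl⟩ := hx
      rw [hmul1, hφ₀r]
    | zero => simp
    | add x y _ _ hx hy => rw [add_mul, map_add, map_add, hx, hy, add_mul]
    | smul c x _ hx => rw [smul_mul_assoc, map_smul, map_smul, hx, smul_eq_mul, smul_eq_mul]; ring
  have hone : φ₀ 1 = 1 := by
    rw [← map_one (SymTen.tpow A R n), hφ₀r, map_one]
  exact ⟨AlgHom.ofLinearMap φ₀ hone hmul, hφ₀r⟩

theorem main (A : Type u) [CommRing A] (R : Type u) [CommRing R]
    [Algebra A R] [Module.Free A R] [Module.Finite A R] (n : ℕ) (hn : Module.finrank A R = n)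
    (hfact : IsUnit ((Nat.factorial n : ℕ) : A)) :
    ∃! φ : SymTen.TS A R n →ₐ[A] A, ∀ r : R, φ (SymTen.tpow A R n r) = Algebra.norm A r := by
  rcases subsingleton_or_nontrivial A with hA | hA
  · refine ⟨AlgHom.ofLinearMap 0 (Subsingleton.elim _ _) (fun _ _ => Subsingleton.elim _ _),
      fun _ => Subsingleton.elim _ _, fun ψ _ => ?_⟩
    ext t
    exact Subsingleton.elim _ _
  · obtain ⟨φ, hφ⟩ := exists_algHom A R n (Module.finBasisOfFinrankEq A R hn) hfact
    refine ⟨φ, hφ, fun ψ hψ => ?_⟩
    have : ψ.toLinearMap = φ.toLinearMap := by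
      apply LinearMap.ext_on (span_tpow_eq_top A R n hfact)
      rintro _ ⟨r, rfl⟩
      simp only [AlgHom.toLinearMap_apply]
      rw [hφ, hψ]
    ext t
    exact LinearMap.congr_fun this t

end norm

end Groth.Agent.Lib.Helper4.SymTenNorm1
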