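import Mathlib
import Groth.Prelude.Def_Coh
import Groth.Prelude.Def_FlatMod2
import Groth.Agent.Lib.Helper3.RegGlDim
import Groth.Agent.Lib.Helper1.QcExt
import Groth.Agent.Lib.Helper1.AffPushEpi
import Groth.Agent.Lib.Helper1.FtLocal
import Groth.Agent.Lib.Helper1.QcAbel
import Groth.Agent.Lib.Helper1.FinPush
import Groth.Agent.Lib.Lead.FLF4
import Groth.Agent.Lib.Lead.FLF1
import Groth.Agent.Lib.Lead.FLF6

/-!
# Syzygies on regular Noetherian schemes of bounded dimension are finite locally free (S16240) (helper4)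
-/

set_option backward.isDefEq.respectTransparency.types false
set_option synthInstance.maxHeartbeats 400000
set_option autoImplicit false
set_option linter.unusedSectionVars false
set_option linter.style.haveILetI false
set_option linter.unusedSimpArgs false
universe u v w
open CategoryTheory CategoryTheory.Limits AlgebraicGeometry TopologicalSpace Opposite

namespace Groth.Agent.Lib.Helper4.SyzygyReg1

section Alg
variable {R : Type u} [CommRing R]

theorem pdLT_of_ses {A B C : Type u} [AddCommGroup A] [AddCommGroup B] [AddCommGroup C]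
    [Module R A] [Module R B] [Module R C]
    (f : A →ₗ[R] B) (g : B →ₗ[R] C) (hf : Function.Injective f) (hg : Function.Surjective g)
    (hex : Function.Exact f g) (n : ℕ)
    (h2 : HasProjectiveDimensionLT (ModuleCat.of R B) n)
    (h3 : HasProjectiveDimensionLT (ModuleCat.of R C) (n + 1)) :
    HasProjectiveDimensionLT (ModuleCat.of R A) n := by
  let S : ShortComplex (ModuleCat.{u} R) := ShortComplex.mk (ModuleCat.ofHom f) (ModuleCat.ofHom g)
    (by ext x; exact hex.apply_apply_eq_zero x)
  have hS : S.ShortExact := ModuleCat.shortComplex_shortExact S hex hf hg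
  exact hS.hasProjectiveDimensionLT_X₁ n h2 h3

theorem pdLT_of_projective (B : Type u) [AddCommGroup B] [Module R B] [Module.Projective R B]
    (n : ℕ) (hn : 1 ≤ n) : HasProjectiveDimensionLT (ModuleCat.of R B) n := by
  haveI : Projective (ModuleCat.of R B) := (IsProjective.iff_projective B).1 inferInstance
  exact hasProjectiveDimensionLT_of_ge _ 1 n hn

theorem alg_main : ∀ (m : ℕ) (M : ℕ → Type u) [∀ j, AddCommGroup (M j)] [∀ j, Module R (M j)]
    (d : ∀ j, M j →ₗ[R] M (j + 1)),
    (∀ j, j < m → Function.Exact (d j) (d (j + 1))) →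
    Function.Surjective (d m) →
    (∀ j, j ≤ m → Module.Projective R (M j)) →
    ∀ n : ℕ, 1 ≤ n → HasProjectiveDimensionLT (ModuleCat.of R (M (m + 1))) (n + m + 1) →
    HasProjectiveDimensionLT (ModuleCat.of R (LinearMap.ker (d 0))) n := by
  intro m
  induction m with
  | zero =>
    intro M _ _ d _ hsurj hproj n hn hpd
    haveI := hproj 0 le_rfl
    refine pdLT_of_ses (LinearMap.ker (d 0)).subtype (d 0) (Submodule.injective_subtype _) hsurj
      ?_ n (pdLT_of_projective _ n hn) hpd
    intro x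
    constructor
    · intro hx; exact ⟨⟨x, hx⟩, rfl⟩
    · rintro ⟨y, rfl⟩; exact y.2
  | succ m ih =>
    intro M _ _ d hex hsurj hproj n hn hpd
    have h1 : HasProjectiveDimensionLT (ModuleCat.of R (LinearMap.ker (d 1))) (n + 1) := by
      refine ih (fun j => M (j + 1)) (fun j => d (j + 1)) (fun j hj => hex (j + 1) (by omega))
        hsurj (fun j hj => hproj (j + 1) (by omega)) (n + 1) (by omega) ?_
      have e : n + 1 + m + 1 = n + (m + 1) + 1 := by omega
      rw [e]; exact hpd
    haveI := hproj 0 (Nat.zero_le _)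
    have h01 := hex 0 (Nat.succ_pos m)
    let g : M 0 →ₗ[R] LinearMap.ker (d 1) :=
      LinearMap.codRestrict (LinearMap.ker (d 1)) (d 0) (fun x => h01.apply_apply_eq_zero x)
    refine pdLT_of_ses (LinearMap.ker (d 0)).subtype g (Submodule.injective_subtype _) ?_
      ?_ n (pdLT_of_projective _ n hn) h1
    · rintro ⟨y, hy⟩
      obtain ⟨x, hx⟩ := (h01 y).1 hy
      exact ⟨x, Subtype.ext hx⟩
    · intro x
      constructor
      · intro hx
        refine ⟨⟨x, ?_⟩, rfl⟩
        have := congrArg Subtype.val hx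
        exact this
      · rintro ⟨y, rfl⟩
        exact Subtype.ext y.2

theorem alg_full (m : ℕ) (M : ℕ → Type u) [∀ j, AddCommGroup (M j)] [∀ j, Module R (M j)]
    (d : ∀ j, M j →ₗ[R] M (j + 1))
    (hex : ∀ j, j < m → Function.Exact (d j) (d (j + 1)))
    (hinj : Function.Injective (d 0))
    (hsurj : Function.Surjective (d m))
    (hproj : ∀ j, 1 ≤ j → j ≤ m → Module.Projective R (M j))
    (hpd : HasProjectiveDimensionLT (ModuleCat.of R (M (m + 1))) (m + 1)) :
    Module.Projective R (M 0) := by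
  cases m with
  | zero =>
    haveI : Projective (ModuleCat.of R (M 1)) :=
      projective_iff_hasProjectiveDimensionLT_one.2 hpd
    haveI : Module.Projective R (M 1) := (IsProjective.iff_projective (M 1)).2 inferInstance
    exact Module.Projective.of_equiv (LinearEquiv.ofBijective (d 0) ⟨hinj, hsurj⟩).symm
  | succ m =>
    have h1 : HasProjectiveDimensionLT (ModuleCat.of R (LinearMap.ker (d 1))) 1 := by
      refine alg_main m (fun j => M (j + 1)) (fun j => d (j + 1))
        (fun j hj => hex (j + 1) (by omega)) hsurj (fun j hj => hproj (j + 1) (by omega) (by omega))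
        1 le_rfl ?_
      have e : 1 + m + 1 = m + 1 + 1 := by omega
      rw [e]; exact hpd
    haveI : Projective (ModuleCat.of R (LinearMap.ker (d 1))) :=
      projective_iff_hasProjectiveDimensionLT_one.2 h1
    haveI : Module.Projective R (LinearMap.ker (d 1)) :=
      (IsProjective.iff_projective _).2 inferInstance
    have h01 := hex 0 (Nat.succ_pos m)
    let g : M 0 →ₗ[R] LinearMap.ker (d 1) :=
      LinearMap.codRestrict (LinearMap.ker (d 1)) (d 0) (fun x => h01.apply_apply_eq_zero x)
    have hg : Function.Bijective g := by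
      constructor
      · intro x y hxy
        exact hinj (congrArg Subtype.val hxy)
      · rintro ⟨y, hy⟩
        obtain ⟨x, hx⟩ := (h01 y).1 hy
        exact ⟨x, Subtype.ext hx⟩
    exact Module.Projective.of_equiv (LinearEquiv.ofBijective g hg).symm

end Alg

section Geo
variable {X : Scheme.{u}}

/-- a morphism of modules as a linear map on sections -/
noncomputable def appL {M N : X.Modules} (φ : M ⟶ N) (U : X.Opens) :
    Γ(M, U) →ₗ[Γ(X, U)] Γ(N, U) where
  toFun m := φ.app U m
  map_add' a b := map_add _ a b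
  map_smul' r m := Scheme.Modules.Hom.app_smul φ r m

theorem sections_exact {A B C : X.Modules} [A.IsQuasicoherent] [B.IsQuasicoherent]
    [C.IsQuasicoherent] (f : A ⟶ B) (g : B ⟶ C) (w : f ≫ g = 0)
    (hex : (ShortComplex.mk f g w).Exact) (U : X.Opens) (hU : IsAffineOpen U)
    (x : Γ(B, U)) (hx : g.app U x = 0) : ∃ y : Γ(A, U), f.app U y = x := by
  haveI : (kernel g).IsQuasicoherent := Groth.Agent.Helper1.QcAbel.isQuasicoherent_kernel g
  let k : A ⟶ kernel g := kernel.lift g f w
  haveI : Epi k := (ShortComplex.exact_iff_epi_kernel_lift (ShortComplex.mk f g w)).1 hex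
  let S : ShortComplex X.Modules := ShortComplex.mk (kernel.ι g)
    (Abelian.factorThruImage g) (by
      rw [← cancel_mono (Abelian.image.ι g), Category.assoc, Abelian.image.fac,
        kernel.condition, Limits.zero_comp])
  let S' : ShortComplex X.Modules := ShortComplex.mk (kernel.ι g) g (kernel.condition _)
  have hS' : S'.Exact := ShortComplex.exact_of_f_is_kernel _ (kernelIsKernel g)
  let α : S ⟶ S' := { τ₁ := 𝟙 _, τ₂ := 𝟙 _, τ₃ := Abelian.image.ι g }
  have : Epi α.τ₁ := inferInstanceAs (Epi (𝟙 _))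
  have : IsIso α.τ₂ := inferInstanceAs (IsIso (𝟙 _))
  have : Mono α.τ₃ := inferInstanceAs (Mono (Abelian.image.ι g))
  have hS : S.Exact := (ShortComplex.exact_iff_of_epi_of_isIso_of_mono α).2 hS'
  have : Mono S.f := inferInstanceAs (Mono (kernel.ι g))
  have : Epi S.g := inferInstanceAs (Epi (Abelian.factorThruImage g))
  have hSE : S.ShortExact := { exact := hS }
  have hx' : (Abelian.factorThruImage g).app U x = 0 := by
    apply Groth.Agent.Helper1.FtLocal.app_injective_of_mono (Abelian.image.ι g) U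
    rw [map_zero]
    have := congrArg (fun ψ => Scheme.Modules.Hom.app ψ U x) (Abelian.image.fac g)
    exact this.trans hx
  obtain ⟨z, hz⟩ := Groth.Agent.Helper1.QcExt.app_exact hSE U x hx'
  obtain ⟨y, hy⟩ := Groth.Agent.Helper1.AffPushEpi.app_surjective_of_epi k U hU z
  refine ⟨y, ?_⟩
  have := congrArg (fun ψ => Scheme.Modules.Hom.app ψ U y) (kernel.lift_ι g f w)
  refine this.symm.trans ?_
  show (kernel.ι g).app U (k.app U y) = x
  rw [hy]; exact hz

end Geo

section Main
variable {X : Scheme.{u}} {m : ℕ} (S : ComposableArrows X.Modules (m + 1))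

theorem exact_of (hS : S.Exact) (a b c : Fin (m + 1 + 1)) (hab : a.1 + 1 = b.1)
    (hbc : b.1 + 1 = c.1) (h1 : a ≤ b) (h2 : b ≤ c) :
    ∃ w : S.map (homOfLE h1) ≫ S.map (homOfLE h2) = 0,
      (ShortComplex.mk (S.map (homOfLE h1)) (S.map (homOfLE h2)) w).Exact := by
  obtain ⟨a, ha⟩ := a
  obtain ⟨b, hb⟩ := b
  obtain ⟨c, hc⟩ := c
  simp only at hab hbc
  subst hab
  subst hbc
  exact ⟨_, hS.exact a (by omega)⟩

theorem mono_of (hmono : Mono (S.map' 0 1 (Nat.zero_le 1) (Nat.le_add_left 1 m)))
    (a b : Fin (m + 1 + 1)) (ha : a.1 = 0) (hb : b.1 = 1) (h : a ≤ b) :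
    Mono (S.map (homOfLE h)) := by
  obtain ⟨a, ha'⟩ := a
  obtain ⟨b, hb'⟩ := b
  simp only at ha hb
  subst ha
  subst hb
  exact hmono

theorem epi_of (hepi : Epi (S.map' m (m + 1) (Nat.le_succ m) (le_refl (m + 1))))
    (a b : Fin (m + 1 + 1)) (ha : a.1 = m) (hb : b.1 = m + 1) (h : a ≤ b) :
    Epi (S.map (homOfLE h)) := by
  obtain ⟨a, ha'⟩ := a
  obtain ⟨b, hb'⟩ := b
  simp only at ha hb
  subst ha
  subst hb
  exact hepi

theorem flf_of (hE : ∀ i : Fin m, FlatMod.IsFinLocFree
      (S.obj ⟨i.1 + 1, Nat.succ_lt_succ (Nat.lt_succ_of_lt i.2)⟩))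
    (a : Fin (m + 1 + 1)) (h1 : 1 ≤ a.1) (h2 : a.1 ≤ m) : FlatMod.IsFinLocFree (S.obj a) := by
  obtain ⟨a, ha⟩ := a
  simp only at h1 h2
  obtain ⟨b, rfl⟩ : ∃ b, a = b + 1 := ⟨a - 1, by omega⟩
  exact hE ⟨b, by omega⟩

theorem coh_of (hF : Coh.IsCoh (S.obj (Fin.last (m + 1)))) (a : Fin (m + 1 + 1))
    (ha : a.1 = m + 1) : Coh.IsCoh (S.obj a) := by
  have : a = Fin.last (m + 1) := Fin.ext ha
  rw [this]; exact hF

/-- the total index -/
def idx (m j : ℕ) : Fin (m + 1 + 1) := ⟨min j (m + 1), by omega⟩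

theorem idx_val (m j : ℕ) : (idx m j).1 = min j (m + 1) := rfl

theorem idx_le (m j : ℕ) : idx m j ≤ idx m (j + 1) := by
  rw [Fin.le_def, idx_val, idx_val]; omega

/-- the total family of objects -/
noncomputable def O (j : ℕ) : X.Modules := S.obj (idx m j)

/-- the total family of maps -/
noncomputable def D (j : ℕ) : O S j ⟶ O S (j + 1) := S.map (homOfLE (idx_le m j))

end Main

theorem main (X : Scheme.{u}) [IsNoetherian X]
    (hreg : ∀ x : X, IsRegularLocalRing (X.presheaf.stalk x)) (m : ℕ)
    (hdim : topologicalKrullDim ↥X ≤ (m : WithBot ℕ∞))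
    (S : ComposableArrows X.Modules (m + 1)) (hS : S.Exact)
    (hmono : Mono (S.map' 0 1 (Nat.zero_le 1) (Nat.le_add_left 1 m)))
    (hepi : Epi (S.map' m (m + 1) (Nat.le_succ m) (le_refl (m + 1))))
    (hE : ∀ i : Fin m, FlatMod.IsFinLocFree
      (S.obj ⟨i.1 + 1, Nat.succ_lt_succ (Nat.lt_succ_of_lt i.2)⟩))
    (hF : Coh.IsCoh (S.obj (Fin.last (m + 1)))) :
    FlatMod.IsFinLocFree (S.obj 0) := by
  have hflf : ∀ j, 1 ≤ j → j ≤ m → FlatMod.IsFinLocFree (O S j) := fun j h1 h2 =>
    flf_of S hE (idx m j) (by rw [idx_val]; omega) (by rw [idx_val]; omega)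
  have hcoh : Coh.IsCoh (O S (m + 1)) := coh_of S hF (idx m (m + 1)) (by rw [idx_val]; omega)
  have hq : ∀ j, 1 ≤ j → j ≤ m + 1 → (O S j).IsQuasicoherent := by
    intro j hj hj'
    by_cases h : j ≤ m
    · exact Groth.Agent.Lead.FLF.isQuasicoherent_of_isFinLocFree _ (hflf j hj h)
    · have : j = m + 1 := by omega
      subst this
      exact hcoh.1
  haveI hm0 : Mono (D S 0) :=
    mono_of S hmono (idx m 0) (idx m 1) (by rw [idx_val]; omega) (by rw [idx_val]; omega)
      (idx_le m 0)
  have hepim : Epi (D S m) :=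
    epi_of S hepi (idx m m) (idx m (m + 1)) (by rw [idx_val]; omega) (by rw [idx_val]; omega)
      (idx_le m m)
  have hexS : ∀ j, j < m → ∃ w, (ShortComplex.mk (D S j) (D S (j + 1)) w).Exact := fun j hj =>
    exact_of S hS (idx m j) (idx m (j + 1)) (idx m (j + 2))
      (by rw [idx_val, idx_val]; omega) (by rw [idx_val, idx_val]; omega)
      (idx_le m j) (idx_le m (j + 1))
  haveI hq0 : (O S 0).IsQuasicoherent := by
    haveI := hq 1 le_rfl (by omega)
    by_cases h : m = 0
    · subst h
      haveI : Epi (D S 0) := hepim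
      haveI : IsIso (D S 0) := isIso_of_mono_of_epi _
      exact Groth.Agent.Helper1.QcAbel.isQuasicoherent_of_iso (asIso (D S 0)).symm
    · haveI := hq 2 (by omega) (by omega)
      obtain ⟨w, hw⟩ := hexS 0 (by omega)
      have hk : IsLimit (KernelFork.ofι (D S 0) w) := hw.fIsKernel
      let e : O S 0 ≅ kernel (D S 1) := IsLimit.conePointUniqueUpToIso hk (limit.isLimit (parallelPair (D S 1) 0))
      haveI : (kernel (D S 1)).IsQuasicoherent :=
        Groth.Agent.Helper1.QcAbel.isQuasicoherent_kernel _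
      exact Groth.Agent.Helper1.QcAbel.isQuasicoherent_of_iso e.symm
  have e0 : S.obj 0 = O S 0 := by
    have : (0 : Fin (m + 1 + 1)) = idx m 0 := Fin.ext (by rw [idx_val]; simp)
    unfold O
    rw [← this]
  rw [e0, Groth.Agent.Lead.FLF.isFinLocFree_iff_affineOpens]
  intro U hU
  haveI : IsNoetherianRing Γ(X, U) := IsLocallyNoetherian.component_noetherian ⟨U, hU⟩
  have hinj : Function.Injective (appL (D S 0) U) :=
    Groth.Agent.Helper1.FtLocal.app_injective_of_mono (D S 0) U
  have hfinlast : Module.Finite Γ(X, U) Γ(O S (m + 1), U) :=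
    Groth.Agent.Helper1.FinPush.finite_sections _ hcoh hU
  have hfp : ∀ j, 1 ≤ j → j ≤ m → Module.Finite Γ(X, U) Γ(O S j, U) ∧
      Module.Projective Γ(X, U) Γ(O S j, U) := by
    intro j h1 h2
    haveI := hq j h1 (by omega)
    exact (Groth.Agent.Lead.FLF.isFinLocFree_iff_affineOpens _).1 (hflf j h1 h2) U hU
  have hfin1 : Module.Finite Γ(X, U) Γ(O S 1, U) := by
    by_cases h : 1 ≤ m
    · exact (hfp 1 le_rfl h).1
    · have : m = 0 := by omega
      subst this
      exact hfinlast
  have hfin0 : Module.Finite Γ(X, U) Γ(O S 0, U) :=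
    Module.Finite.of_injective (appL (D S 0) U) hinj
  refine ⟨hfin0, ?_⟩
  by_cases htriv : Subsingleton Γ(X, U)
  · haveI : Subsingleton Γ(O S 0, U) := Module.subsingleton Γ(X, U) _
    exact Module.Projective.of_free
  haveI : Nontrivial Γ(X, U) := not_subsingleton_iff_nontrivial.1 htriv
  have hdimU : ringKrullDim Γ(X, U) ≤ (m : WithBot ℕ∞) := by
    rw [← PrimeSpectrum.topologicalKrullDim_eq_ringKrullDim]
    exact le_trans (hU.fromSpec.isOpenEmbedding.isInducing.topologicalKrullDim_le) hdim
  obtain ⟨dd, hdd, hdm⟩ : ∃ dd : ℕ, ringKrullDim Γ(X, U) = dd ∧ dd ≤ m := by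
    have h0 : ringKrullDim Γ(X, U) ≠ ⊥ := by
      intro h
      have h00 := ringKrullDim_nonneg_of_nontrivial (R := Γ(X, U))
      rw [h] at h00
      exact absurd h00 (by simp)
    obtain ⟨k, hk⟩ := WithBot.ne_bot_iff_exists.1 h0
    rw [← hk] at hdimU
    have hk' : k ≤ (m : ℕ∞) := by exact_mod_cast hdimU
    have hk'' : k ≠ ⊤ := ne_top_of_le_ne_top (ENat.coe_ne_top m) hk'
    obtain ⟨n, hn⟩ := ENat.ne_top_iff_exists.1 hk''
    refine ⟨n, ?_, ?_⟩
    · rw [← hk, ← hn]; rfl
    · rw [← hn] at hk'; exact_mod_cast hk'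
  have hregU : ∀ p : PrimeSpectrum Γ(X, U),
      IsRegularLocalRing (Localization.AtPrime p.asIdeal) := by
    intro p
    let e2 : X.presheaf.stalk (hU.fromSpec p) ≃+* (Spec Γ(X, U)).presheaf.stalk p :=
      (asIso (hU.fromSpec.stalkMap p)).commRingCatIsoToRingEquiv
    let e1 : Localization.AtPrime p.asIdeal ≃+* (Spec Γ(X, U)).presheaf.stalk p :=
      (StructureSheaf.stalkIso Γ(X, U) p).toRingEquiv
    haveI := hreg (hU.fromSpec p)
    exact IsRegularLocalRing.of_ringEquiv (e2.trans e1.symm)
  refine alg_full (R := Γ(X, U)) m (fun j => Γ(O S j, U)) (fun j => appL (D S j) U) ?_ hinj ?_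
    (fun j h1 h2 => (hfp j h1 h2).2) ?_
  · intro j hj
    obtain ⟨w, hw⟩ := hexS j hj
    haveI : (O S j).IsQuasicoherent := by
      by_cases h : j = 0
      · subst h; exact hq0
      · exact hq j (by omega) (by omega)
    haveI := hq (j + 1) (by omega) (by omega)
    haveI := hq (j + 1 + 1) (by omega) (by omega)
    intro x
    constructor
    · intro hx
      exact sections_exact (D S j) (D S (j + 1)) w hw U hU x hx
    · rintro ⟨y, rfl⟩
      have := congrArg (fun ψ => Scheme.Modules.Hom.app ψ U y) w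
      exact this
  · haveI : (O S m).IsQuasicoherent := by
      by_cases h : m = 0
      · subst h; exact hq0
      · exact hq m (by omega) (by omega)
    haveI := hq (m + 1) (by omega) le_rfl
    haveI := hepim
    exact Groth.Agent.Helper1.AffPushEpi.app_surjective_of_epi (D S m) U hU
  · haveI := hfinlast
    have := Groth.Agent.Helper3.RegGlDim.pdLT_of_finite hregU dd hdd Γ(O S (m + 1), U)
    exact hasProjectiveDimensionLT_of_ge _ (dd + 1) (m + 1) (by omega)

end Groth.Agent.Lib.Helper4.SyzygyReg1
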