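import Mathlib
import Groth.Prelude
import Groth.Agent.Lib.Helper4.GenSmooth1
import Groth.Agent.Lib.Helper4.TopDim2
import Groth.Agent.Lib.Helper7.CurveThru.TrDim

/-!
# dimension of the closure of the image of the locus of tangent rank ≤ r is ≤ r in char 0 (generic smoothness + retraction modulo m² for formally smooth local maps + components) (S10938) (helper4) (helper4)
-/

set_option backward.isDefEq.respectTransparency.types false
set_option synthInstance.maxHeartbeats 400000
set_option autoImplicit false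
set_option linter.unusedSectionVars false
set_option linter.style.haveILetI false
set_option linter.unusedSimpArgs false
universe u v w
open CategoryTheory CategoryTheory.Limits AlgebraicGeometry TopologicalSpace IsLocalRing

namespace Groth.Agent.Lib.Helper4.TanRank1

section Alg

variable {A B : Type u} [CommRing A] [CommRing B] [IsLocalRing A] [IsLocalRing B]

theorem exists_retraction (δ : A →+* B) [IsLocalHom δ] (hfs : δ.FormallySmooth)
    (hres : Function.Bijective (IsLocalRing.ResidueField.map δ)) :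
    ∃ ψ : B →+* A ⧸ (maximalIdeal A) ^ 2, (∀ a, ψ (δ a) = Ideal.Quotient.mk _ a) ∧
      ∀ b ∈ maximalIdeal B, ψ b ∈ (maximalIdeal A).map (Ideal.Quotient.mk ((maximalIdeal A) ^ 2)) := by
  algebraize [δ]
  have hle : (maximalIdeal A) ^ 2 ≤ maximalIdeal A := Ideal.pow_le_self two_ne_zero
  let σ : ResidueField A ≃+* ResidueField B := RingEquiv.ofBijective (ResidueField.map δ) hres
  let f₀ : B →ₐ[A] ResidueField A :=
    { (σ.symm.toRingHom.comp (residue B)) with
      commutes' := fun a => by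
        change σ.symm (residue B (δ a)) = residue A a
        rw [RingEquiv.symm_apply_eq]
        exact (ResidueField.map_residue δ a).symm }
  let gq : (A ⧸ (maximalIdeal A) ^ 2) →ₐ[A] ResidueField A := Ideal.Quotient.factorₐ A hle
  have hgq : Function.Surjective gq := Ideal.Quotient.factor_surjective hle
  have hker : RingHom.ker gq.toRingHom =
      (maximalIdeal A).map (Ideal.Quotient.mk ((maximalIdeal A) ^ 2)) :=
    Ideal.Quotient.factor_ker hle
  have hnil : IsNilpotent (RingHom.ker gq.toRingHom) := by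
    refine ⟨2, ?_⟩
    rw [hker, ← Ideal.map_pow, Ideal.map_quotient_self]
    rfl
  let ψ : B →ₐ[A] A ⧸ (maximalIdeal A) ^ 2 :=
    Algebra.FormallySmooth.liftOfSurjective f₀ gq hgq hnil
  have hψ : ∀ b, gq (ψ b) = f₀ b := Algebra.FormallySmooth.liftOfSurjective_apply f₀ gq hgq hnil
  refine ⟨ψ.toRingHom, fun a => ?_, fun b hb => ?_⟩
  · exact ψ.commutes a
  · rw [← hker, RingHom.mem_ker]
    change gq (ψ b) = 0
    rw [hψ]
    change σ.symm (residue B b) = 0
    rw [(residue_eq_zero_iff b).mpr hb, map_zero]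

theorem dim_le_of_span [IsNoetherianRing A] (δ : A →+* B) [IsLocalHom δ] (hfs : δ.FormallySmooth)
    (hres : Function.Bijective (ResidueField.map δ)) (r : ℕ) (t : Finset B) (ht : t.card ≤ r)
    (htm : ∀ b ∈ t, b ∈ maximalIdeal B)
    (hspan : ∀ a ∈ maximalIdeal A, δ a ∈ Ideal.span (t : Set B) ⊔ (maximalIdeal B) ^ 2) :
    ringKrullDim A ≤ r := by
  obtain ⟨ψ, hψ1, hψ2⟩ := exists_retraction δ hfs hres
  set π := Ideal.Quotient.mk ((maximalIdeal A) ^ 2) with hπ
  have hπs : Function.Surjective π := Ideal.Quotient.mk_surjective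
  have hex : ∀ b : B, ∃ u : A, b ∈ t → (u ∈ maximalIdeal A ∧ π u = ψ b) := by
    intro b
    by_cases hb : b ∈ t
    · obtain ⟨u, hu, hu2⟩ := (Ideal.mem_map_iff_of_surjective π hπs).mp (hψ2 b (htm b hb))
      exact ⟨u, fun _ => ⟨hu, hu2⟩⟩
    · exact ⟨0, fun h => absurd h hb⟩
  choose u hu using hex
  let U : Ideal A := Ideal.span (u '' (t : Set B))
  have hUm : U ≤ maximalIdeal A := by
    rw [Ideal.span_le]
    rintro _ ⟨b, hb, rfl⟩
    exact (hu b hb).1
  have himg : ψ '' (t : Set B) = π '' (u '' (t : Set B)) := by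
    rw [Set.image_image]
    exact Set.image_congr fun b hb => ((hu b hb).2).symm
  have hψsq : ∀ z ∈ (maximalIdeal B) ^ 2, ψ z = 0 := by
    intro z hz
    have h1 : ψ z ∈ Ideal.map ψ ((maximalIdeal B) ^ 2) := Ideal.mem_map_of_mem ψ hz
    rw [Ideal.map_pow] at h1
    have h2 : Ideal.map ψ (maximalIdeal B) ≤ (maximalIdeal A).map π := by
      rw [Ideal.map_le_iff_le_comap]
      exact fun b hb => hψ2 b hb
    have h3 := Ideal.pow_right_mono h2 2 h1
    rw [← Ideal.map_pow, hπ, Ideal.map_quotient_self] at h3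
    exact h3
  have hle : maximalIdeal A ≤ U ⊔ maximalIdeal A • maximalIdeal A := by
    intro a ha
    obtain ⟨y, hy, z, hz, hyz⟩ := Submodule.mem_sup.mp (hspan a ha)
    have h1 : ψ y ∈ Ideal.map π U := by
      have : ψ y ∈ Ideal.map ψ (Ideal.span (t : Set B)) := Ideal.mem_map_of_mem ψ hy
      rwa [Ideal.map_span, himg, ← Ideal.map_span] at this
    obtain ⟨y', hy', hy2⟩ := (Ideal.mem_map_iff_of_surjective π hπs).mp h1
    have h2 : π a = π y' := by
      rw [← hψ1 a, ← hyz, map_add, hψsq z hz, add_zero, hy2]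
    have h3 : a - y' ∈ (maximalIdeal A) ^ 2 := by
      rw [← Ideal.Quotient.eq]
      exact h2
    rw [Ideal.smul_eq_mul, ← pow_two]
    have : a = y' + (a - y') := by ring
    rw [this]
    exact Submodule.add_mem_sup hy' h3
  have hmU : maximalIdeal A ≤ U :=
    Submodule.le_of_le_smul_of_le_jacobson_bot (IsNoetherian.noetherian _)
      (IsLocalRing.maximalIdeal_le_jacobson _) hle
  have heq : maximalIdeal A = U := le_antisymm hmU hUm
  calc ringKrullDim A ≤ ((maximalIdeal A).spanFinrank : WithBot ℕ∞) :=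
        ringKrullDim_le_spanFinrank_maximalIdeal A
    _ ≤ r := by
        have h1 : (maximalIdeal A).spanFinrank ≤ (u '' (t : Set B)).ncard := by
          rw [heq]
          exact Submodule.spanFinrank_span_le_ncard_of_finite (t.finite_toSet.image u)
        have h2 : (u '' (t : Set B)).ncard ≤ t.card := by
          have := Set.ncard_image_le (f := u) t.finite_toSet
          rwa [Set.ncard_coe_finset] at this
        exact_mod_cast h1.trans (h2.trans ht)

theorem mem_span_sup_sq {R : Type u} [CommRing R] [IsLocalRing R]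
    (S : Finset (CotangentSpace R)) :
    ∃ s : Finset R, s.card ≤ S.card ∧ (∀ b ∈ s, b ∈ maximalIdeal R) ∧
      ∀ v : maximalIdeal R, (maximalIdeal R).toCotangent v ∈
          Submodule.span (ResidueField R) (S : Set (CotangentSpace R)) →
        (v : R) ∈ Ideal.span (s : Set R) ⊔ (maximalIdeal R) ^ 2 := by
  classical
  have hsurj := (maximalIdeal R).toCotangent_surjective
  choose lift hlift using hsurj
  refine ⟨S.image (fun c => (lift c : R)), Finset.card_image_le, ?_, ?_⟩
  · intro b hb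
    obtain ⟨c, -, rfl⟩ := Finset.mem_image.mp hb
    exact (lift c).2
  · intro v hv
    have h1 : (maximalIdeal R).toCotangent v ∈
        Submodule.span R (S : Set (CotangentSpace R)) := by
      rw [← Submodule.restrictScalars_span R (ResidueField R) Ideal.Quotient.mk_surjective]
      exact hv
    have h2 : (S : Set (CotangentSpace R)) =
        (maximalIdeal R).toCotangent '' (lift '' (S : Set (CotangentSpace R))) := by
      rw [Set.image_image]
      simp [hlift]
    rw [h2, ← Submodule.map_span] at h1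
    obtain ⟨y, hy, hy2⟩ := h1
    have h3 : ((v - y : maximalIdeal R) : R) ∈ (maximalIdeal R) ^ 2 := by
      rw [← Ideal.toCotangent_eq_zero, map_sub, hy2, sub_self]
    have h4 : (y : R) ∈ Ideal.span ((S.image (fun c => (lift c : R)) : Finset R) : Set R) := by
      have := Submodule.mem_map_of_mem (f := (maximalIdeal R).subtype) hy
      rw [Submodule.map_span] at this
      have hset : (⇑(maximalIdeal R).subtype '' (lift '' (S : Set (CotangentSpace R)))) =
          ((S.image (fun c => (lift c : R)) : Finset R) : Set R) := by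
        ext b
        simp
      rw [hset] at this
      exact this
    have : (v : R) = (y : R) + ((v - y : maximalIdeal R) : R) := by
      push_cast; ring
    rw [this]
    exact Submodule.add_mem_sup h4 h3

end Alg

section Top

variable {α : Type u} [TopologicalSpace α]

theorem comp_props [NoetherianSpace α] (D : Set α) (Z₀ : Set ↥(closure D))
    (hZ₀ : Z₀ ∈ irreducibleComponents ↥(closure D)) :
    IsClosed (Subtype.val '' Z₀ : Set α) ∧ IsIrreducible (Subtype.val '' Z₀ : Set α) ∧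
      ∀ O : Set α, IsOpen O → (O ∩ Subtype.val '' Z₀).Nonempty →
        ∃ d ∈ D, d ∈ O ∧ d ∈ (Subtype.val '' Z₀ : Set α) := by
  have hcl : IsClosed Z₀ := isClosed_of_mem_irreducibleComponents Z₀ hZ₀
  have hirr : IsIrreducible (Subtype.val '' Z₀ : Set α) :=
    hZ₀.1.image _ continuous_subtype_val.continuousOn
  refine ⟨(isClosed_closure.isClosedEmbedding_subtypeVal.isClosedMap) _ hcl, hirr, ?_⟩
  intro O hO hOZ
  obtain ⟨o, ho, hone, hoZ⟩ :=
    NoetherianSpace.exists_isOpen_nonempty_subset_irreducibleComponent Z₀ hZ₀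
  obtain ⟨O₁, hO₁, rfl⟩ := isOpen_induced_iff.mp ho
  have h1 : ((Subtype.val '' Z₀ : Set α) ∩ O₁).Nonempty := by
    obtain ⟨c, hc⟩ := hone
    exact ⟨c.1, ⟨c, hoZ hc, rfl⟩, hc⟩
  have h2 : ((Subtype.val '' Z₀ : Set α) ∩ O).Nonempty := by rwa [Set.inter_comm]
  obtain ⟨p, hpZ, hpO, hpO₁⟩ := hirr.2 O O₁ hO hO₁ h2 h1
  obtain ⟨c, hcZ, rfl⟩ := hpZ
  have hpc : c.1 ∈ closure D := c.2
  obtain ⟨d, ⟨hdO, hdO₁⟩, hdD⟩ := mem_closure_iff.mp hpc (O ∩ O₁) (hO.inter hO₁) ⟨hpO, hpO₁⟩
  exact ⟨d, hdD, hdO, ⟨⟨d, subset_closure hdD⟩, hoZ hdO₁, rfl⟩⟩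

theorem dim_le_of_comps (D : Set α) (r : WithBot ℕ∞)
    (h : ∀ Z₀ ∈ irreducibleComponents ↥(closure D),
      topologicalKrullDim ↥(Subtype.val '' Z₀ : Set α) ≤ r) :
    topologicalKrullDim ↥(closure D) ≤ r := by
  rw [Groth.Agent.Helper4.TD.topologicalKrullDim_eq_iSup_irreducibleComponents]
  refine iSup₂_le fun Z₀ hZ₀ => le_trans ?_ (h Z₀ hZ₀)
  let φ : ↥Z₀ → ↥(Subtype.val '' Z₀ : Set α) := fun z => ⟨z.1.1, ⟨z.1, z.2, rfl⟩⟩
  have hφc : Continuous φ :=
    Continuous.subtype_mk (continuous_subtype_val.comp continuous_subtype_val) _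
  have hcomp : Topology.IsInducing (Subtype.val ∘ φ) := by
    change Topology.IsInducing (fun z : ↥Z₀ => (z.1.1 : α))
    exact Topology.IsInducing.subtypeVal.comp Topology.IsInducing.subtypeVal
  exact (hcomp.of_comp hφc continuous_subtype_val).topologicalKrullDim_le

theorem exists_comp_dominating [NoetherianSpace α] {β : Type u} [TopologicalSpace β] (f : α → β)
    (T₁ : Set α) (Z' : Set β) (hZirr : IsIrreducible Z') (hZ : Z' ⊆ closure (f '' T₁)) :
    ∃ W₀ ∈ irreducibleComponents ↥(closure T₁), Z' ⊆ closure (f '' (Subtype.val '' W₀)) := by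
  classical
  have hfin : (irreducibleComponents ↥(closure T₁)).Finite :=
    NoetherianSpace.finite_irreducibleComponents
  let F : Finset (Set β) := hfin.toFinset.image (fun W₀ => closure (f '' (Subtype.val '' W₀)))
  have hFcl : ∀ z ∈ F, IsClosed z := by
    intro z hz
    obtain ⟨W₀, -, rfl⟩ := Finset.mem_image.mp hz
    exact isClosed_closure
  have hcov : Z' ⊆ ⋃₀ (F : Set (Set β)) := by
    refine hZ.trans (closure_minimal ?_ (by rw [Set.sUnion_eq_biUnion]; exact F.finite_toSet.isClosed_biUnion hFcl))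
    rintro _ ⟨x, hx, rfl⟩
    have hxc : x ∈ closure T₁ := subset_closure hx
    refine Set.mem_sUnion.mpr ⟨closure (f '' (Subtype.val ''
      irreducibleComponent (⟨x, hxc⟩ : ↥(closure T₁)))), ?_, ?_⟩
    · rw [Finset.mem_coe, Finset.mem_image]
      exact ⟨_, hfin.mem_toFinset.mpr (irreducibleComponent_mem_irreducibleComponents _), rfl⟩
    · exact subset_closure ⟨x, ⟨⟨x, hxc⟩, mem_irreducibleComponent, rfl⟩, rfl⟩
  obtain ⟨z, hz, hsub⟩ := isIrreducible_iff_sUnion_isClosed.mp hZirr F hFcl hcov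
  obtain ⟨W₀, hW₀, rfl⟩ := Finset.mem_image.mp hz
  exact ⟨W₀, hfin.mem_toFinset.mp hW₀, hsub⟩

end Top

section Sch

theorem stalkMapAt_rfl {X Y : Scheme.{u}} (f : X ⟶ Y) (x : X) :
    FixPt.stalkMapAt f x (f x) rfl = (f.stalkMap x).hom := by
  unfold FixPt.stalkMapAt
  have h : (Y.presheaf.stalkCongr (Inseparable.of_eq (rfl : f x = f x))).inv = 𝟙 _ := by
    simp [TopCat.Presheaf.stalkCongr]
  rw [h, Category.id_comp]

theorem square_stalk {W X Y Z : Scheme.{u}} (ιW : W ⟶ X) (f : X ⟶ Y) (g : W ⟶ Z) (ιZ : Z ⟶ Y)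
    [SurjectiveOnStalks ιZ] (hsq : g ≫ ιZ = ιW ≫ f) (w : W)
    (a' : Z.presheaf.stalk (g w)) (ha' : a' ∈ maximalIdeal (Z.presheaf.stalk (g w))) :
    ∃ b' ∈ maximalIdeal (Y.presheaf.stalk (f (ιW w))),
      (g.stalkMap w).hom a' = (ιW.stalkMap w).hom ((f.stalkMap (ιW w)).hom b') := by
  obtain ⟨b, rfl⟩ := ιZ.stalkMap_surjective (g w) a'
  have hb : b ∈ maximalIdeal (Y.presheaf.stalk (ιZ (g w))) := by
    by_contra hb
    rw [mem_maximalIdeal, mem_nonunits_iff, not_not] at hb
    rw [mem_maximalIdeal, mem_nonunits_iff] at ha'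
    exact ha' (hb.map (ιZ.stalkMap (g w)).hom)
  have h1 := Scheme.Hom.stalkMap_congr_hom (g ≫ ιZ) (ιW ≫ f) hsq w
  rw [Scheme.Hom.stalkMap_comp, Scheme.Hom.stalkMap_comp] at h1
  obtain ⟨e, he⟩ : ∃ e : Y.presheaf.stalk (ιZ (g w)) ≅ Y.presheaf.stalk (f (ιW w)),
      ιZ.stalkMap (g w) ≫ g.stalkMap w = e.hom ≫ f.stalkMap (ιW w) ≫ ιW.stalkMap w := ⟨_, h1⟩
  refine ⟨e.hom.hom b, ?_, ?_⟩
  · by_contra hb'
    rw [mem_maximalIdeal, mem_nonunits_iff, not_not] at hb'
    have h2 := hb'.map e.inv.hom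
    have h3 : e.inv.hom (e.hom.hom b) = b := by
      have := congrArg (fun φ => φ.hom b) e.hom_inv_id
      simpa using this
    rw [h3] at h2
    rw [mem_maximalIdeal, mem_nonunits_iff] at hb
    exact hb h2
  · have := congrArg (fun φ => φ.hom b) he
    simpa using this

theorem residue_bijective (k : Type u) [Field k] [IsAlgClosed k] {W Z : Scheme.{u}}
    (qW : W ⟶ Spec (.of k)) (qZ : Z ⟶ Spec (.of k)) [LocallyOfFiniteType qW]
    [LocallyOfFiniteType qZ] (g : W ⟶ Z) (hg : g ≫ qZ = qW) (w : W)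
    (hw : IsClosed ({w} : Set W)) (hz : IsClosed ({g w} : Set Z)) :
    Function.Bijective (IsLocalRing.ResidueField.map (g.stalkMap w).hom) := by
  have key : (residueFieldIsoBase qZ (g w) hz).inv ≫ g.residueFieldMap w =
      (residueFieldIsoBase qW w hw).inv := by
    apply Spec.map_injective
    rw [Spec.map_comp, SpecMap_residueFieldIsoBase_inv, SpecMap_residueFieldIsoBase_inv,
      ← Category.assoc, Scheme.Hom.SpecMap_residueFieldMap_fromSpecResidueField, Category.assoc, hg]
  have h2 : g.residueFieldMap w =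
      (residueFieldIsoBase qZ (g w) hz).hom ≫ (residueFieldIsoBase qW w hw).inv := by
    rw [← key, Iso.hom_inv_id_assoc]
  have h3 : IsIso (g.residueFieldMap w) := by rw [h2]; infer_instance
  exact ConcreteCategory.bijective_of_isIso (g.residueFieldMap w)

theorem isClosed_image_point (k : Type u) [Field k] [IsAlgClosed k] {W Z : Scheme.{u}}
    (qW : W ⟶ Spec (.of k)) (qZ : Z ⟶ Spec (.of k)) [LocallyOfFiniteType qW]
    [LocallyOfFiniteType qZ] (g : W ⟶ Z) (hg : g ≫ qZ = qW) (w : W)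
    (hw : IsClosed ({w} : Set W)) : IsClosed ({g w} : Set Z) := by
  have hσ : (pointOfClosedPoint qW w hw ≫ g) ≫ qZ = 𝟙 _ := by
    rw [Category.assoc, hg, pointOfClosedPoint_comp]
  have := ((pointEquivClosedPoint qZ) ⟨pointOfClosedPoint qW w hw ≫ g, hσ⟩).2
  rw [mem_closedPoints_iff] at this
  simpa using this

theorem dim_le_stalk (k : Type u) [Field k] {Z : Scheme.{u}} [IrreducibleSpace Z]
    (q : Z ⟶ Spec (.of k)) [LocallyOfFiniteType q] (z : Z) (hz : IsClosed ({z} : Set Z)) :
    topologicalKrullDim Z ≤ ringKrullDim (Z.presheaf.stalk z) := by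
  have hcat : CAlg.IsUniversallyCatenary ((Spec (CommRingCat.of k)).presheaf.stalk (q z)) :=
    (Groth.Agent.Helper7.CurveThru.isSetup_spec_field k).2.1 (q z)
  have h1 := Groth.Agent.Lib.Helper4.JacDim1.stalk_dim_eq_gen q z hcat
  rw [Groth.Agent.Lib.Helper4.JacDim1.tr_eq_zero_of_isClosed q z hz, Nat.cast_zero, add_zero] at h1
  have h2 := Groth.Agent.Lib.Helper4.PropDim1.dim_closure_of_field k q (genericPoint Z)
  have h3 : closure ({genericPoint Z} : Set Z) = Set.univ := (genericPoint_spec Z).def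
  rw [h3, Groth.Agent.Lib.Helper4.PropDim1.tdim_univ] at h2
  rw [h2, h1]
  apply le_add_of_nonneg_left
  haveI : Nonempty (IrreducibleCloseds
      ↥{t : ↥(Spec (CommRingCat.of k)) | t ∈ closure ({q (genericPoint Z)} : Set _) ∧ t ⤳ q z}) := by
    have hmem : q z ∈ {t : ↥(Spec (CommRingCat.of k)) |
        t ∈ closure ({q (genericPoint Z)} : Set _) ∧ t ⤳ q z} := by
      refine ⟨?_, specializes_rfl⟩
      have : q z = q (genericPoint Z) := Subsingleton.elim (α := PrimeSpectrum k) _ _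
      rw [this]
      exact subset_closure rfl
    exact ⟨⟨closure {⟨q z, hmem⟩}, isIrreducible_singleton.closure, isClosed_closure⟩⟩
  exact Order.krullDim_nonneg

end Sch

section Main

theorem map_mem_maximalIdeal {A B : Type u} [CommRing A] [CommRing B] [IsLocalRing A] [IsLocalRing B]
    (φ : A →+* B) [IsLocalHom φ] {a : A} (ha : a ∈ maximalIdeal A) : φ a ∈ maximalIdeal B := by
  rw [mem_maximalIdeal, mem_nonunits_iff] at ha ⊢
  exact fun h => ha ((isUnit_map_iff φ a).mp h)

variable (k : Type u) [Field k] [IsAlgClosed k] [CharZero k]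

theorem claimA {X Y : Scheme.{u}} (qX : X ⟶ Spec (CommRingCat.of k))
    (qY : Y ⟶ Spec (CommRingCat.of k))
    [LocallyOfFiniteType qX] [QuasiCompact qX] [LocallyOfFiniteType qY] [QuasiCompact qY]
    (f : X ⟶ Y) (hf : f ≫ qY = qX) (r : ℕ) (T₀ : Set X)
    (hT₀ : ∀ x ∈ T₀, IsClosed ({x} : Set X) ∧ ∃ s : Finset (X.presheaf.stalk x), s.card ≤ r ∧
      (∀ b ∈ s, b ∈ maximalIdeal (X.presheaf.stalk x)) ∧
      ∀ a ∈ maximalIdeal (Y.presheaf.stalk (f x)),
        (f.stalkMap x).hom a ∈ Ideal.span (s : Set (X.presheaf.stalk x)) ⊔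
          maximalIdeal (X.presheaf.stalk x) ^ 2)
    (Z' : Set Y) (hZcl : IsClosed Z') (hZirr : IsIrreducible Z')
    (hdense : ∀ O : Set Y, IsOpen O → (O ∩ Z').Nonempty → ∃ x ∈ T₀, f x ∈ O ∧ f x ∈ Z') :
    topologicalKrullDim ↥Z' ≤ r := by
  classical
  haveI : IsLocallyNoetherian X := LocallyOfFiniteType.isLocallyNoetherian qX
  haveI : IsLocallyNoetherian Y := LocallyOfFiniteType.isLocallyNoetherian qY
  haveI : CompactSpace X := QuasiCompact.compactSpace_of_compactSpace qX
  haveI : IsNoetherian X := {}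
  haveI : NoetherianSpace X := inferInstance
  have hZ : Z' ⊆ closure (f '' (T₀ ∩ f ⁻¹' Z')) := by
    intro p hp
    rw [mem_closure_iff]
    intro O hO hpO
    obtain ⟨x, hx, hxO, hxZ⟩ := hdense O hO ⟨p, hpO, hp⟩
    exact ⟨f x, hxO, x, ⟨hx, hxZ⟩, rfl⟩
  obtain ⟨W₀, hW₀, hWdom⟩ := exists_comp_dominating (⇑f) (T₀ ∩ f ⁻¹' Z') Z' hZirr hZ
  obtain ⟨hWcl, hWirr, hWdense⟩ := comp_props (T₀ ∩ f ⁻¹' Z') W₀ hW₀
  have hWsub : (Subtype.val '' W₀ : Set X) ⊆ f ⁻¹' Z' := by
    rintro _ ⟨c, -, rfl⟩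
    have h1 : closure (T₀ ∩ f ⁻¹' Z') ⊆ f ⁻¹' Z' :=
      closure_minimal Set.inter_subset_right (hZcl.preimage f.continuous)
    exact h1 c.2
  obtain ⟨W, hWdef⟩ : ∃ W : Set X, W = Subtype.val '' W₀ := ⟨_, rfl⟩
  rw [← hWdef] at hWdom hWcl hWirr hWdense hWsub
  -- the schemes
  let CW : Closeds X := ⟨W, hWcl⟩
  let CZ : Closeds Y := ⟨Z', hZcl⟩
  let IW := Scheme.IdealSheafData.vanishingIdeal CW
  let IZ := Scheme.IdealSheafData.vanishingIdeal CZ
  have hrW : Set.range IW.subschemeι = W := by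
    rw [Scheme.IdealSheafData.range_subschemeι, Scheme.IdealSheafData.coe_support_vanishingIdeal]
    rfl
  have hrZ : Set.range IZ.subschemeι = Z' := by
    rw [Scheme.IdealSheafData.range_subschemeι, Scheme.IdealSheafData.coe_support_vanishingIdeal]
    rfl
  haveI : IrreducibleSpace ↥IW.subscheme :=
    Groth.Agent.Lib.Helper4.Equi7.irreducibleSpace_vanishingIdeal_subscheme CW hWirr
  haveI : IrreducibleSpace ↥IZ.subscheme :=
    Groth.Agent.Lib.Helper4.Equi7.irreducibleSpace_vanishingIdeal_subscheme CZ hZirr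
  haveI : IsReduced IW.subscheme :=
    Groth.Agent.Lib.Helper4.Equi7.isReduced_vanishingIdeal_subscheme CW
  haveI : IsReduced IZ.subscheme :=
    Groth.Agent.Lib.Helper4.Equi7.isReduced_vanishingIdeal_subscheme CZ
  haveI : IsIntegral IW.subscheme := isIntegral_of_irreducibleSpace_of_isReduced _
  haveI : IsIntegral IZ.subscheme := isIntegral_of_irreducibleSpace_of_isReduced _
  have H : IZ ≤ IW.map f := by
    change _ ≤ (Scheme.IdealSheafData.vanishingIdeal CW).map f
    rw [Scheme.IdealSheafData.map_vanishingIdeal]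
    apply Scheme.IdealSheafData.vanishingIdeal_antimono
    rw [TopologicalSpace.Closeds.closure_le]
    rintro _ ⟨x, hx, rfl⟩
    exact hWsub hx
  let g : IW.subscheme ⟶ IZ.subscheme := Scheme.IdealSheafData.subschemeMap IW IZ f H
  have hsq : g ≫ IZ.subschemeι = IW.subschemeι ≫ f :=
    Scheme.IdealSheafData.subschemeMap_subschemeι _ _ _ _
  have hpt : ∀ w : IW.subscheme, IZ.subschemeι (g w) = f (IW.subschemeι w) := fun w => by
    rw [← Scheme.Hom.comp_apply, hsq, Scheme.Hom.comp_apply]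
  let qW : IW.subscheme ⟶ Spec (CommRingCat.of k) := IW.subschemeι ≫ qX
  let qZ : IZ.subscheme ⟶ Spec (CommRingCat.of k) := IZ.subschemeι ≫ qY
  haveI : LocallyOfFiniteType qW := inferInstanceAs (LocallyOfFiniteType (IW.subschemeι ≫ qX))
  haveI : LocallyOfFiniteType qZ := inferInstanceAs (LocallyOfFiniteType (IZ.subschemeι ≫ qY))
  have hgq : g ≫ qZ = qW := by
    change g ≫ IZ.subschemeι ≫ qY = IW.subschemeι ≫ qX
    rw [← Category.assoc, hsq, Category.assoc, hf]
  have himg : (IZ.subschemeι '' Set.range g) = f '' W := by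
    ext y
    constructor
    · rintro ⟨_, ⟨w, rfl⟩, rfl⟩
      refine ⟨IW.subschemeι w, ?_, (hpt w).symm⟩
      rw [← hrW]
      exact Set.mem_range_self w
    · rintro ⟨x, hx, rfl⟩
      have hx' : x ∈ Set.range IW.subschemeι := by rw [hrW]; exact hx
      obtain ⟨w, rfl⟩ := hx'
      exact ⟨g w, ⟨w, rfl⟩, hpt w⟩
  have hdom : DenseRange g.base := by
    change Dense (Set.range g)
    rw [dense_iff_closure_eq, IZ.subschemeι.isEmbedding.closure_eq_preimage_closure_image, himg,
      Set.eq_univ_iff_forall]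
    intro z
    apply hWdom
    rw [← hrZ]
    exact Set.mem_range_self z
  obtain ⟨U, hUne, hUsm⟩ := Groth.Agent.Lib.Helper4.GenSmooth1.S10929_main k qW qZ g hgq hdom
  obtain ⟨O₃, hO₃, hO₃U⟩ := IW.subschemeι.isEmbedding.isInducing.isOpen_iff.mp U.2
  obtain ⟨w₀, hw₀⟩ := hUne
  have hne : (O₃ ∩ W).Nonempty := by
    refine ⟨IW.subschemeι w₀, ?_, ?_⟩
    · have : w₀ ∈ IW.subschemeι ⁻¹' O₃ := by rw [hO₃U]; exact hw₀
      exact this
    · rw [← hrW]; exact Set.mem_range_self w₀
  obtain ⟨x, hxT, hxO, hxW⟩ := hWdense O₃ hO₃ hne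
  have hx' : x ∈ Set.range IW.subschemeι := by rw [hrW]; exact hxW
  obtain ⟨w, rfl⟩ := hx'
  have hwU : w ∈ U := by
    have : w ∈ IW.subschemeι ⁻¹' O₃ := hxO
    rw [hO₃U] at this
    exact this
  obtain ⟨hxcl, s, hs, hsm, hspan⟩ := hT₀ _ hxT.1
  have hwcl : IsClosed ({w} : Set IW.subscheme) := by
    have hpre : ({w} : Set IW.subscheme) = IW.subschemeι ⁻¹' {IW.subschemeι w} := by
      ext w'
      simp only [Set.mem_singleton_iff, Set.mem_preimage]
      exact ⟨fun h => by rw [h], fun h => IW.subschemeι.isEmbedding.injective h⟩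
    rw [hpre]
    exact hxcl.preimage IW.subschemeι.continuous
  have hzcl : IsClosed ({g w} : Set IZ.subscheme) := isClosed_image_point k qW qZ g hgq w hwcl
  haveI : LocallyOfFiniteType (g ≫ qZ) := by rw [hgq]; infer_instance
  haveI : LocallyOfFiniteType g := locallyOfFiniteType_of_comp g qZ
  haveI : IsLocallyNoetherian IZ.subscheme := LocallyOfFiniteType.isLocallyNoetherian qZ
  haveI : LocallyOfFinitePresentation g := inferInstance
  have hfs : (g.stalkMap w).hom.FormallySmooth :=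
    (Groth.Agent.Lib.Helper4.StalkEtale1.exists_smooth_nhd_iff g w).mp ⟨U, hwU, hUsm⟩
  have hres := residue_bijective k qW qZ g hgq w hwcl hzcl
  let β := (IW.subschemeι.stalkMap w).hom
  let t : Finset (IW.subscheme.presheaf.stalk w) := s.image β
  have ht : t.card ≤ r := Finset.card_image_le.trans hs
  have htm : ∀ b ∈ t, b ∈ maximalIdeal (IW.subscheme.presheaf.stalk w) := by
    intro b hb
    obtain ⟨c, hc, rfl⟩ := Finset.mem_image.mp hb
    exact map_mem_maximalIdeal β (hsm c hc)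
  have hspan' : ∀ a' ∈ maximalIdeal (IZ.subscheme.presheaf.stalk (g w)),
      (g.stalkMap w).hom a' ∈ Ideal.span (t : Set (IW.subscheme.presheaf.stalk w)) ⊔
        maximalIdeal (IW.subscheme.presheaf.stalk w) ^ 2 := by
    intro a' ha'
    obtain ⟨b', hb', hab⟩ := square_stalk IW.subschemeι f g IZ.subschemeι hsq w a' ha'
    rw [hab]
    have h1 := hspan b' hb'
    have h2 : β ((f.stalkMap (IW.subschemeι w)).hom b') ∈
        Ideal.map β (Ideal.span (s : Set (X.presheaf.stalk (IW.subschemeι w))) ⊔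
          maximalIdeal (X.presheaf.stalk (IW.subschemeι w)) ^ 2) :=
      Ideal.mem_map_of_mem β h1
    rw [Ideal.map_sup, Ideal.map_span, Ideal.map_pow] at h2
    refine SetLike.le_def.mp (sup_le_sup ?_ ?_) h2
    · rw [Finset.coe_image]
    · refine Ideal.pow_right_mono ?_ 2
      rw [Ideal.map_le_iff_le_comap]
      exact fun c hc => map_mem_maximalIdeal β hc
  have hdimO := dim_le_of_span (g.stalkMap w).hom hfs hres r t ht htm hspan'
  have hdimZ := dim_le_stalk k qZ (g w) hzcl
  have hhomeo : topologicalKrullDim ↥Z' = topologicalKrullDim IZ.subscheme := by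
    rw [← hrZ]
    exact (IsHomeomorph.topologicalKrullDim_eq _
      IZ.subschemeι.isEmbedding.toHomeomorph.isHomeomorph).symm
  rw [hhomeo]
  exact hdimZ.trans hdimO

theorem main (k : Type u) [Field k] [IsAlgClosed k] [CharZero k]
    {X Y : Scheme.{u}} (qX : X ⟶ Spec (CommRingCat.of k)) (qY : Y ⟶ Spec (CommRingCat.of k))
    [LocallyOfFiniteType qX] [QuasiCompact qX] [LocallyOfFiniteType qY] [QuasiCompact qY]
    (f : X ⟶ Y) (hf : f ≫ qY = qX) (r : ℕ) :
    topologicalKrullDim ↥(closure (f.base '' {x : ↥X | IsClosed ({x} : Set ↥X) ∧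
      ∃ S : Finset (IsLocalRing.CotangentSpace (X.presheaf.stalk x)), S.card ≤ r ∧
        (LinearMap.range (FixPt.cotangentMapAt f x (f.base x) rfl) : Set (IsLocalRing.CotangentSpace (X.presheaf.stalk x))) ⊆
          (Submodule.span (IsLocalRing.ResidueField (X.presheaf.stalk x))
            (S : Set (IsLocalRing.CotangentSpace (X.presheaf.stalk x))) : Set (IsLocalRing.CotangentSpace (X.presheaf.stalk x)))})) ≤ r := by
  haveI : IsLocallyNoetherian Y := LocallyOfFiniteType.isLocallyNoetherian qY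
  haveI : CompactSpace Y := QuasiCompact.compactSpace_of_compactSpace qY
  haveI : IsNoetherian Y := {}
  haveI : NoetherianSpace Y := inferInstance
  obtain ⟨T₀, hT₀def⟩ : ∃ T₀ : Set X, T₀ = {x : ↥X | IsClosed ({x} : Set ↥X) ∧
      ∃ S : Finset (IsLocalRing.CotangentSpace (X.presheaf.stalk x)), S.card ≤ r ∧
        (LinearMap.range (FixPt.cotangentMapAt f x (f.base x) rfl) : Set (IsLocalRing.CotangentSpace (X.presheaf.stalk x))) ⊆
          (Submodule.span (IsLocalRing.ResidueField (X.presheaf.stalk x))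
            (S : Set (IsLocalRing.CotangentSpace (X.presheaf.stalk x))) : Set (IsLocalRing.CotangentSpace (X.presheaf.stalk x)))} := ⟨_, rfl⟩
  rw [← hT₀def]
  have hT₀ : ∀ x ∈ T₀, IsClosed ({x} : Set X) ∧ ∃ s : Finset (X.presheaf.stalk x), s.card ≤ r ∧
      (∀ b ∈ s, b ∈ maximalIdeal (X.presheaf.stalk x)) ∧
      ∀ a ∈ maximalIdeal (Y.presheaf.stalk (f x)),
        (f.stalkMap x).hom a ∈ Ideal.span (s : Set (X.presheaf.stalk x)) ⊔
          maximalIdeal (X.presheaf.stalk x) ^ 2 := by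
    intro x hx
    rw [hT₀def] at hx
    obtain ⟨hxcl, S, hS, hrange⟩ := hx
    refine ⟨hxcl, ?_⟩
    obtain ⟨s, hs1, hs2, hs3⟩ := mem_span_sup_sq S
    refine ⟨s, hs1.trans hS, hs2, fun a ha => ?_⟩
    have hmem : FixPt.cotangentMapAt f x (f x) rfl
        ((maximalIdeal (Y.presheaf.stalk (f x))).toCotangent ⟨a, ha⟩) ∈
        (Submodule.span (IsLocalRing.ResidueField (X.presheaf.stalk x))
          (S : Set (IsLocalRing.CotangentSpace (X.presheaf.stalk x))) :
            Set (IsLocalRing.CotangentSpace (X.presheaf.stalk x))) :=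
      hrange (SetLike.mem_coe.mpr (LinearMap.mem_range_self (FixPt.cotangentMapAt f x (f x) rfl)
        ((maximalIdeal (Y.presheaf.stalk (f x))).toCotangent ⟨a, ha⟩)))
    have hval : (FixPt.stalkMapAt f x (f x) rfl) a = (f.stalkMap x).hom a := by rw [stalkMapAt_rfl]
    have hcalc : FixPt.cotangentMapAt f x (f x) rfl
        ((maximalIdeal (Y.presheaf.stalk (f x))).toCotangent ⟨a, ha⟩) =
        (maximalIdeal (X.presheaf.stalk x)).toCotangent
          ⟨(f.stalkMap x).hom a, map_mem_maximalIdeal _ ha⟩ := by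
      unfold FixPt.cotangentMapAt
      rw [Ideal.mapCotangent_toCotangent]
      congr 1
      exact Subtype.ext hval
    exact hs3 ⟨(f.stalkMap x).hom a, map_mem_maximalIdeal _ ha⟩ (by rw [← hcalc]; exact hmem)
  apply dim_le_of_comps
  intro Z₀ hZ₀
  obtain ⟨hcl, hirr, hd⟩ := comp_props (f.base '' T₀) Z₀ hZ₀
  apply claimA k qX qY f hf r T₀ hT₀ _ hcl hirr
  intro O hO hOZ
  obtain ⟨d, ⟨x, hx, rfl⟩, hdO, hdZ⟩ := hd O hO hOZ
  exact ⟨x, hx, hdO, hdZ⟩

end Main

end Groth.Agent.Lib.Helper4.TanRank1
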