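import Mathlib
import Groth.Prelude.Def_CohB1

/-!
# Morphisms from a proper scheme over a complete base agreeing on all thickenings are equal (S5742) (helper4)
-/

set_option backward.isDefEq.respectTransparency.types false
set_option synthInstance.maxHeartbeats 400000
set_option autoImplicit false
set_option linter.unusedSectionVars false
set_option linter.style.haveILetI false
set_option linter.unusedSimpArgs false
universe u v w
open CategoryTheory CategoryTheory.Limits AlgebraicGeometry TopologicalSpace Opposite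

namespace Groth.Agent.Lib.Helper4.ThickExt1

theorem krull_ext {B : CommRingCat.{u}} [IsLocalRing B] [IsNoetherianRing B] (J : Ideal B)
    (hJ : J ≤ IsLocalRing.maximalIdeal B) {Y : Scheme.{u}} (α β : Spec B ⟶ Y)
    (H : ∀ n : ℕ, Spec.map (CommRingCat.ofHom (Ideal.Quotient.mk (J ^ (n + 1)))) ≫ α =
      Spec.map (CommRingCat.ofHom (Ideal.Quotient.mk (J ^ (n + 1)))) ≫ β) : α = β := by
  have hJtop : J ≠ ⊤ := fun h =>
    (IsLocalRing.maximalIdeal.isMaximal B).ne_top (top_le_iff.mp (h ▸ hJ))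
  obtain ⟨z, hz⟩ : ∃ z, (Spec.map (CommRingCat.ofHom (Ideal.Quotient.mk (J ^ (0 + 1))))) z =
      IsLocalRing.closedPoint B := by
    have hsurj : Function.Surjective (Ideal.Quotient.mk (J ^ (0 + 1))) :=
      Ideal.Quotient.mk_surjective
    have hr := _root_.range_comap_of_surjective _ _ hsurj
    have hmem : IsLocalRing.closedPoint B ∈
        Set.range (PrimeSpectrum.comap (Ideal.Quotient.mk (J ^ (0 + 1)))) := by
      rw [hr, Ideal.mk_ker, PrimeSpectrum.mem_zeroLocus]
      have h3 : J ^ (0 + 1) = J := by simp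
      rw [h3]
      exact hJ
    exact hmem
  have hcl : α (IsLocalRing.closedPoint B) = β (IsLocalRing.closedPoint B) := by
    rw [← hz, ← Scheme.Hom.comp_apply, ← Scheme.Hom.comp_apply, H 0]
  obtain ⟨_, ⟨V, hV, rfl⟩, hyV, -⟩ := Y.isBasis_affineOpens.exists_subset_of_mem_open
    (Set.mem_univ (α (IsLocalRing.closedPoint B))) isOpen_univ
  have hα : ∀ z, α z ∈ V := by
    have htop : α ⁻¹ᵁ V = ⊤ := IsLocalRing.closed_point_mem_iff.mp hyV
    intro z
    have hz : z ∈ α ⁻¹ᵁ V := by rw [htop]; trivial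
    exact hz
  have hβ : ∀ z, β z ∈ V := by
    have hyV' : β (IsLocalRing.closedPoint B) ∈ V := by rw [← hcl]; exact hyV
    have htop : β ⁻¹ᵁ V = ⊤ := IsLocalRing.closed_point_mem_iff.mp hyV'
    intro z
    have hz : z ∈ β ⁻¹ᵁ V := by rw [htop]; trivial
    exact hz
  let α₁ := IsOpenImmersion.lift hV.fromSpec α
    (by rw [hV.range_fromSpec]; rintro _ ⟨z, rfl⟩; exact hα z)
  let β₁ := IsOpenImmersion.lift hV.fromSpec β
    (by rw [hV.range_fromSpec]; rintro _ ⟨z, rfl⟩; exact hβ z)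
  have hα₁ : α₁ ≫ hV.fromSpec = α := IsOpenImmersion.lift_fac _ _ _
  have hβ₁ : β₁ ≫ hV.fromSpec = β := IsOpenImmersion.lift_fac _ _ _
  have ha : Spec.map (Spec.preimage α₁) = α₁ := Spec.map_preimage _
  have hb : Spec.map (Spec.preimage β₁) = β₁ := Spec.map_preimage _
  have hab : ∀ n, Spec.preimage α₁ ≫ CommRingCat.ofHom (Ideal.Quotient.mk (J ^ (n + 1))) =
      Spec.preimage β₁ ≫ CommRingCat.ofHom (Ideal.Quotient.mk (J ^ (n + 1))) := by
    intro n
    apply Spec.map_injective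
    rw [Spec.map_comp, Spec.map_comp, ha, hb, ← cancel_mono hV.fromSpec, Category.assoc,
      Category.assoc, hα₁, hβ₁]
    exact H n
  have heq : Spec.preimage α₁ = Spec.preimage β₁ := by
    ext c
    have h1 : (Spec.preimage α₁).hom c - (Spec.preimage β₁).hom c ∈ ⨅ n, J ^ n := by
      rw [Ideal.mem_iInf]
      intro n
      cases n with
      | zero => simp
      | succ n =>
        have h2 := congr($(hab n).hom c)
        simp only [CommRingCat.hom_comp, RingHom.comp_apply, CommRingCat.hom_ofHom] at h2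
        exact Ideal.Quotient.eq.mp h2
    rw [Ideal.iInf_pow_eq_bot_of_isLocalRing J hJtop] at h1
    exact sub_eq_zero.mp h1
  rw [← hα₁, ← hβ₁, ← ha, ← hb, heq]

theorem stalk_agree (A : Type u) [CommRing A] (I : Ideal A) {X Y : Scheme.{u}}
    [IsLocallyNoetherian X] (f : X ⟶ Spec (CommRingCat.of A)) (φ ψ : X ⟶ Y)
    (e : ∀ n : ℕ, CohB1.thickι f I n ≫ φ = CohB1.thickι f I n ≫ ψ) (x : X)
    (hx : I ≤ (f x).asIdeal) :
    X.fromSpecStalk x ≫ φ = X.fromSpecStalk x ≫ ψ := by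
  let ρ : CommRingCat.of A ⟶ X.presheaf.stalk x := Spec.preimage (X.fromSpecStalk x ≫ f)
  have hρ : Spec.map ρ = X.fromSpecStalk x ≫ f := Spec.map_preimage _
  let J : Ideal (X.presheaf.stalk x) := Ideal.map ρ.hom I
  have hJ : J ≤ IsLocalRing.maximalIdeal (X.presheaf.stalk x) := by
    rw [Ideal.map_le_iff_le_comap]
    have h1 : (Spec.map ρ) (IsLocalRing.closedPoint (X.presheaf.stalk x)) = f x := by
      rw [hρ, Scheme.Hom.comp_apply, Scheme.fromSpecStalk_closedPoint]
    have h2 : ((Spec.map ρ) (IsLocalRing.closedPoint (X.presheaf.stalk x))).asIdeal =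
        Ideal.comap ρ.hom (IsLocalRing.maximalIdeal (X.presheaf.stalk x)) := rfl
    rw [← h2, h1]
    exact hx
  apply krull_ext J hJ
  intro n
  have hle : I ^ (n + 1) ≤ Ideal.comap ρ.hom (J ^ (n + 1)) := by
    rw [← Ideal.map_le_iff_le_comap, Ideal.map_pow]
  have hcomm : (Spec.map (CommRingCat.ofHom (Ideal.Quotient.mk (J ^ (n + 1)))) ≫
      X.fromSpecStalk x) ≫ f =
      Spec.map (CommRingCat.ofHom (Ideal.quotientMap (J ^ (n + 1)) ρ.hom hle)) ≫
        CohB1.specQuot I n := by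
    rw [Category.assoc, ← hρ, ← Spec.map_comp]
    unfold CohB1.specQuot
    rw [← Spec.map_comp]
    congr 1
  let t : Spec (CommRingCat.of ((X.presheaf.stalk x) ⧸ J ^ (n + 1))) ⟶ CohB1.thick f I n :=
    pullback.lift _ _ hcomm
  have ht : t ≫ CohB1.thickι f I n =
      Spec.map (CommRingCat.ofHom (Ideal.Quotient.mk (J ^ (n + 1)))) ≫ X.fromSpecStalk x :=
    pullback.lift_fst _ _ _
  rw [← Category.assoc, ← Category.assoc, ← ht, Category.assoc, Category.assoc, e n]

theorem main (A : Type u) [CommRing A] [IsNoetherianRing A]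
    (I : Ideal A) [IsAdicComplete I A] {X Y : Scheme.{u}} (f : X ⟶ Spec (CommRingCat.of A))
    [IsProper f] (φ ψ : X ⟶ Y)
    (e : ∀ n : ℕ, CohB1.thickι f I n ≫ φ = CohB1.thickι f I n ≫ ψ) : φ = ψ := by
  haveI : IsLocallyNoetherian X := LocallyOfFiniteType.isLocallyNoetherian f
  refine Scheme.hom_ext_of_forall _ _ ?_
  by_contra hcon
  let Bad : Set X := {x | ∀ U : X.Opens, x ∈ U → U.ι ≫ φ ≠ U.ι ≫ ψ}
  have hBadClosed : IsClosed Bad := by
    rw [← isOpen_compl_iff, isOpen_iff_forall_mem_open]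
    intro x hx
    simp only [Bad, Set.mem_compl_iff, Set.mem_setOf_eq, not_forall, not_not] at hx
    obtain ⟨U, hxU, hU⟩ := hx
    exact ⟨U, fun z hz hzBad => hzBad U hz hU, U.isOpen, hxU⟩
  obtain ⟨x₀, hx₀⟩ : ∃ x₀, x₀ ∈ Bad := by
    by_contra hne
    apply hcon
    intro x
    by_contra hx
    exact hne ⟨x, fun U hxU hU => hx ⟨U, hxU, hU⟩⟩
  have hcl : IsClosed (f '' Bad) := f.isClosedMap _ hBadClosed
  obtain ⟨K, hK⟩ := (PrimeSpectrum.isClosed_iff_zeroLocus_ideal _).mp hcl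
  have hKtop : K ≠ ⊤ := by
    rintro rfl
    have hmem : f x₀ ∈ f '' Bad := ⟨x₀, hx₀, rfl⟩
    rw [hK] at hmem
    have h1 : (1 : A) ∈ (f x₀).asIdeal := hmem (Submodule.mem_top)
    exact (f x₀).isPrime.ne_top ((Ideal.eq_top_iff_one _).mpr h1)
  obtain ⟨M, hM, hKM⟩ := Ideal.exists_le_maximal K hKtop
  have hMmem : (⟨M, hM.isPrime⟩ : PrimeSpectrum A) ∈ f '' Bad := by
    rw [hK]
    exact hKM
  obtain ⟨x, hxBad, hfx⟩ := hMmem
  have hIM : I ≤ (f x).asIdeal := by
    rw [hfx]
    exact (IsAdicComplete.le_jacobson_bot I).trans (sInf_le ⟨bot_le, hM⟩)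
  obtain ⟨N, hxN, hN⟩ :=
    spread_out_unique_of_isGermInjective' φ ψ (stalk_agree A I f φ ψ e x hIM)
  exact hxBad N hxN hN

end Groth.Agent.Lib.Helper4.ThickExt1
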