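import Mathlib
import Groth.Agent.Lib.Helper1.TorL
import Groth.Agent.Lib.Helper1.TorBC
import Groth.Agent.Lib.Helper1.TorBC2
import Groth.Agent.Lib.Helper1.TorBal
import Groth.Agent.Lib.Helper1.TorDim
import Groth.Agent.Lib.Helper1.TorFilt

/-!
# Flatness from Tor vanishing against A/I, flatness on D(f_i) and on V(I) (S6377); uses Helper1 Tor libraries (helper4)
-/

set_option backward.isDefEq.respectTransparency.types false
set_option synthInstance.maxHeartbeats 400000
set_option autoImplicit false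
set_option linter.unusedSectionVars false
set_option linter.style.haveILetI false
set_option linter.unusedSimpArgs false
universe u v w
open CategoryTheory CategoryTheory.Limits TensorProduct MonoidalCategory
open Groth.Agent.Helper1.TorL Groth.Agent.Helper1.TorBC

namespace Groth.Agent.Lib.Helper4.TorFlat1

/-- bounded version of `TorBC.main` -/
theorem bc_bdd (A A' : Type u) [CommRing A] [CommRing A'] [Algebra A A']
    (Q' : Type u) [AddCommGroup Q'] [Module A' Q'] [Module A Q'] [IsScalarTower A A' Q'] (n : ℕ) :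
    ∀ (P : Type u) [AddCommGroup P] [Module A P],
    (∀ q : ℕ, 0 < q → q ≤ n + 1 →
      Subsingleton (T q (ModuleCat.of A P) (ModuleCat.of A A'))) →
    ∃ φ : T (n + 1) (ModuleCat.of A P) (ModuleCat.of A Q') →ₛₗ[algebraMap A A']
      T (n + 1) (ModuleCat.of A' (A' ⊗[A] P)) (ModuleCat.of A' Q'), Function.Bijective φ := by
  induction n with
  | zero =>
    intro P _ _ hP
    exact step_one A A' Q' P (hP 1 one_pos le_rfl)
  | succ n ih =>
    intro P _ _ hP
    have hS := freePres_shortExact (R := A) P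
    have hS' := bcPres_shortExact A A' P (hP 1 one_pos (by omega))
    have hK : ∀ q : ℕ, 0 < q → q ≤ n + 1 → Subsingleton
        (T q (ModuleCat.of A (freePres (R := A) P).X₁) (ModuleCat.of A A')) := by
      intro q hq hq'
      obtain ⟨q, rfl⟩ : ∃ k, q = k + 1 := ⟨q - 1, by omega⟩
      have := hP (q + 2) (by omega) (by omega)
      exact ModuleCat.subsingleton_of_isZero
        ((isZero_tor_succ_succ_iff P (ModuleCat.of A A') q).mp (ModuleCat.isZero_of_subsingleton _))
    obtain ⟨φ, hφ⟩ := ih (freePres (R := A) P).X₁ hK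
    have e := torShiftIso _ hS (ModuleCat.of A Q') (n + 1)
      (isZero_tor_succ_of_flat _ _ _) (isZero_tor_succ_of_flat _ _ _)
    have e' := torShiftIso _ hS' (ModuleCat.of A' Q') (n + 1)
      (isZero_tor_succ_of_flat _ _ _) (isZero_tor_succ_of_flat _ _ _)
    refine ⟨(e'.inv.hom).comp (φ.comp e.hom.hom), ?_⟩
    exact (e'.symm.toLinearEquiv.bijective).comp (hφ.comp e.toLinearEquiv.bijective)


open Groth.Agent.Helper1.TorBal in
/-- (F2) modules over `A ⧸ I` are Tor-acyclic against `M` in the range where `A ⧸ I` is. -/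
theorem isZero_tor_of_module_quot (A : Type u) [CommRing A] (I : Ideal A)
    (M : Type u) [AddCommGroup M] [Module A M] (k : ℕ)
    (h2 : Module.Flat (A ⧸ I) ((A ⧸ I) ⊗[A] M))
    (h3 : ∀ i : ℕ, 1 ≤ i → i ≤ k →
      IsZero (T i (ModuleCat.of A M) (ModuleCat.of A (A ⧸ I))))
    (Q : Type u) [AddCommGroup Q] [Module (A ⧸ I) Q] [Module A Q] [IsScalarTower A (A ⧸ I) Q]
    (j : ℕ) (hj : 1 ≤ j) (hjk : j ≤ k) :
    IsZero (T j (ModuleCat.of A Q) (ModuleCat.of A M)) := by
  rw [isZero_tor_symm]
  obtain ⟨n, rfl⟩ : ∃ n, j = n + 1 := ⟨j - 1, by omega⟩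
  obtain ⟨φ, hφ⟩ := bc_bdd A (A ⧸ I) Q n M (fun q hq hq' =>
    ModuleCat.subsingleton_of_isZero (h3 q hq (by omega)))
  have hz : IsZero (T (n + 1) (ModuleCat.of (A ⧸ I) ((A ⧸ I) ⊗[A] M)) (ModuleCat.of (A ⧸ I) Q)) :=
    isZero_tor_succ_of_flat _ _ n
  have : Subsingleton (T (n + 1) (ModuleCat.of (A ⧸ I) ((A ⧸ I) ⊗[A] M))
      (ModuleCat.of (A ⧸ I) Q)) := ModuleCat.subsingleton_of_isZero hz
  have : Subsingleton (T (n + 1) (ModuleCat.of A M) (ModuleCat.of A Q)) :=
    hφ.1.subsingleton
  exact ModuleCat.isZero_of_subsingleton _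


/-- (F1) modules over `A_g` are Tor-acyclic against `M` when `M_g` is flat over `A_g`. -/
theorem isZero_tor_of_localized (A : Type u) [CommRing A] (g : A)
    (M : Type u) [AddCommGroup M] [Module A M]
    (h1 : Module.Flat (Localization.Away g) (LocalizedModule (Submonoid.powers g) M))
    (L : Type u) [AddCommGroup L] [Module (Localization.Away g) L] [Module A L]
    [IsScalarTower A (Localization.Away g) L] (n : ℕ) :
    IsZero (T (n + 1) (ModuleCat.of A L) (ModuleCat.of A M)) := by
  obtain ⟨φ, hφ⟩ := Groth.Agent.Helper1.TorBC2.full A (Localization.Away g) M (n + 1) L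
  have hbc := IsLocalizedModule.isBaseChange (Submonoid.powers g) (Localization.Away g)
    (LocalizedModule.mkLinearMap (Submonoid.powers g) M)
  have hflat : Module.Flat (Localization.Away g) ((Localization.Away g) ⊗[A] M) :=
    Module.Flat.of_linearEquiv hbc.equiv
  have hz : IsZero (T (n + 1) (ModuleCat.of (Localization.Away g) L)
      (ModuleCat.of (Localization.Away g) ((Localization.Away g) ⊗[A] M))) :=
    isZero_tor_succ_of_flat_right _ n L
  have : Subsingleton (T (n + 1) (ModuleCat.of (Localization.Away g) L)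
      (ModuleCat.of (Localization.Away g) ((Localization.Away g) ⊗[A] M))) :=
    ModuleCat.subsingleton_of_isZero hz
  have : Subsingleton (T (n + 1) (ModuleCat.of A L) (ModuleCat.of A M)) :=
    hφ.1.subsingleton
  exact ModuleCat.isZero_of_subsingleton _


theorem isZero_pt_of_isColimit' {J D : Type*} [Category J] [Category D] [HasZeroMorphisms D]
    {F : J ⥤ D} {c : Cocone F} (hc : IsColimit c) (h : ∀ j, IsZero (F.obj j)) : IsZero c.pt := by
  rw [IsZero.iff_id_eq_zero]
  apply hc.hom_ext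
  intro j
  exact (h j).eq_of_src _ _

instance : IsDirectedOrder (ULift.{u} ℕ) :=
  ⟨fun a b => ⟨⟨max a.down b.down⟩, le_max_left _ _, le_max_right _ _⟩⟩

/-- Tor vanishing passes to directed unions (first variable). -/
theorem isZero_tor_of_directed_union {A : Type u} [CommRing A] (N : Type u) [AddCommGroup N]
    [Module A N] (Y : ModuleCat.{u} A) (n : ℕ) (S : ℕ → Submodule A N) (hS : Monotone S)
    (hsup : ∀ x : N, ∃ i, x ∈ S i)
    (h : ∀ i, IsZero (T n (ModuleCat.of A (S i)) Y)) :
    IsZero (T n (ModuleCat.of A N) Y) := by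
  classical
  let G : ULift.{u} ℕ → Type u := fun i => ↥(S i.down)
  let f : ∀ i j : ULift.{u} ℕ, i ≤ j → G i →ₗ[A] G j := fun i j hij =>
    Submodule.inclusion (hS (ULift.down_le.mpr hij))
  haveI : DirectedSystem G fun i j h => f i j h :=
    ⟨fun i x => by ext; rfl, fun i j k hij hjk x => by ext; rfl⟩
  have hcol := ModuleCat.directLimitIsColimit (R := A) G f
  haveI := Groth.Agent.Helper1.TorFilt.main Y n (ULift.{u} ℕ)
  have hc := isColimitOfPreserves ((Tor (ModuleCat.{u} A) n).flip.obj Y) hcol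
  have hz : IsZero (T n (ModuleCat.of A (Module.DirectLimit G f)) Y) :=
    isZero_pt_of_isColimit' hc (fun i => h i.down)
  -- the direct limit is `N`
  let g : ∀ i : ULift.{u} ℕ, G i →ₗ[A] N := fun i => (S i.down).subtype
  have hg : ∀ i j hij x, g j (f i j hij x) = g i x := fun i j hij x => rfl
  let e0 : Module.DirectLimit G f →ₗ[A] N := Module.DirectLimit.lift A _ G f g hg
  have hinj : Function.Injective e0 :=
    Module.DirectLimit.lift_injective g hg (fun i => Subtype.val_injective)
  have hsurj : Function.Surjective e0 := by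
    intro x
    obtain ⟨i, hi⟩ := hsup x
    exact ⟨Module.DirectLimit.of A _ G f ⟨i⟩ ⟨x, hi⟩, Module.DirectLimit.lift_of _ _ _⟩
  let e : Module.DirectLimit G f ≃ₗ[A] N := LinearEquiv.ofBijective e0 ⟨hinj, hsurj⟩
  exact IsZero.of_iso hz (torCongrLeft e.symm.toModuleIso Y n)


open Groth.Agent.Helper1.TorDim in
/-- modules killed by a power of `I` -/
theorem isZero_tor_of_pow_annihilates (A : Type u) [CommRing A] (I : Ideal A)
    (M : Type u) [AddCommGroup M] [Module A M] (k : ℕ)
    (h2 : Module.Flat (A ⧸ I) ((A ⧸ I) ⊗[A] M))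
    (h3 : ∀ i : ℕ, 1 ≤ i → i ≤ k →
      IsZero (T i (ModuleCat.of A M) (ModuleCat.of A (A ⧸ I)))) :
    ∀ (m : ℕ) (N : Type u) [AddCommGroup N] [Module A N],
      (∀ a ∈ I ^ m, ∀ x : N, a • x = 0) →
      ∀ j : ℕ, 1 ≤ j → j ≤ k → IsZero (T j (ModuleCat.of A N) (ModuleCat.of A M)) := by
  intro m
  induction m with
  | zero =>
    intro N _ _ hN j _ _
    have : Subsingleton N := ⟨fun x y => by
      have hx := hN 1 (by simp) x
      have hy := hN 1 (by simp) y
      rw [one_smul] at hx hy
      rw [hx, hy]⟩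
    exact isZero_tor_of_subsingleton (ModuleCat.of A N) _ j
  | succ m ih =>
    intro N _ _ hN j hj hjk
    have hS := shortExact_subtype_mkQ (R := A) (I • (⊤ : Submodule A N))
    have h₁ : IsZero (T j (ModuleCat.of A ↥(I • (⊤ : Submodule A N))) (ModuleCat.of A M)) := by
      apply ih _ _ j hj hjk
      intro a ha x
      ext
      show a • (x : N) = 0
      refine Submodule.smul_induction_on x.2 ?_ ?_
      · intro b hb y _
        rw [smul_smul]
        exact hN _ (by rw [pow_succ]; exact Ideal.mul_mem_mul ha hb) y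
      · intro y z hy hz
        rw [smul_add, hy, hz, add_zero]
    have h₃ : IsZero (T j (ModuleCat.of A (N ⧸ I • (⊤ : Submodule A N))) (ModuleCat.of A M)) :=
      isZero_tor_of_module_quot A I M k h2 h3 _ j hj hjk
    exact isZero_tor_X₂ _ hS (ModuleCat.of A M) j h₁ h₃

/-- `I`-power torsion modules -/
theorem isZero_tor_of_pow_torsion (A : Type u) [CommRing A] (I : Ideal A)
    (M : Type u) [AddCommGroup M] [Module A M] (k : ℕ)
    (h2 : Module.Flat (A ⧸ I) ((A ⧸ I) ⊗[A] M))
    (h3 : ∀ i : ℕ, 1 ≤ i → i ≤ k →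
      IsZero (T i (ModuleCat.of A M) (ModuleCat.of A (A ⧸ I))))
    (N : Type u) [AddCommGroup N] [Module A N]
    (hN : ∀ x : N, ∃ m : ℕ, ∀ a ∈ I ^ m, a • x = 0)
    (j : ℕ) (hj : 1 ≤ j) (hjk : j ≤ k) :
    IsZero (T j (ModuleCat.of A N) (ModuleCat.of A M)) := by
  let S : ℕ → Submodule A N := fun m =>
    { carrier := {x | ∀ a ∈ I ^ m, a • x = 0}
      add_mem' := fun {x y} hx hy a ha => by rw [smul_add, hx a ha, hy a ha, add_zero]
      zero_mem' := fun a _ => smul_zero a
      smul_mem' := fun c x hx a ha => by rw [smul_comm, hx a ha, smul_zero] }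
  have hS : Monotone S := fun m m' hmm' x hx a ha => hx a (Ideal.pow_le_pow_right hmm' ha)
  refine isZero_tor_of_directed_union N _ j S hS hN ?_
  intro m
  refine isZero_tor_of_pow_annihilates A I M k h2 h3 m _ ?_ j hj hjk
  intro a ha x
  ext
  exact x.2 a ha


/-- every element is killed by powers of the first `s` of the `f i` -/
def PowTors {A : Type u} [CommRing A] {r : ℕ} (f : Fin r → A) (s : ℕ)
    (N : Type u) [AddCommGroup N] [Module A N] : Prop :=
  ∀ x : N, ∀ i : Fin r, i.val < s → ∃ k : ℕ, f i ^ k • x = 0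

theorem powTors_all {A : Type u} [CommRing A] {r : ℕ} (f : Fin r → A)
    (N : Type u) [AddCommGroup N] [Module A N] (hN : PowTors f r N) (x : N) :
    ∃ m : ℕ, ∀ a ∈ Ideal.span (Set.range f) ^ m, a • x = 0 := by
  classical
  choose k hk using fun i : Fin r => hN x i i.2
  let K := Finset.univ.sup k
  let J : Ideal A := Ideal.span (Set.range fun i => f i ^ K)
  have hJ : J ≤ LinearMap.ker (LinearMap.toSpanSingleton A N x) := by
    rw [Ideal.span_le]
    rintro _ ⟨i, rfl⟩
    show (LinearMap.toSpanSingleton A N x) (f i ^ K) = 0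
    rw [LinearMap.toSpanSingleton_apply]
    have hle : k i ≤ K := Finset.le_sup (f := k) (Finset.mem_univ i)
    obtain ⟨d, hd⟩ := Nat.exists_eq_add_of_le hle
    rw [hd, add_comm, pow_add, mul_smul, hk i, smul_zero]
  have hrad : Ideal.span (Set.range f) ≤ J.radical := by
    rw [Ideal.span_le]
    rintro _ ⟨i, rfl⟩
    exact ⟨K, Ideal.subset_span ⟨i, rfl⟩⟩
  have hfg : (Ideal.span (Set.range f)).FG := ⟨(Finset.univ.image f), by simp⟩
  obtain ⟨m, hm⟩ := Ideal.exists_pow_le_of_le_radical_of_fg hrad hfg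
  refine ⟨m, fun a ha => ?_⟩
  have := hJ (hm ha)
  rwa [LinearMap.mem_ker, LinearMap.toSpanSingleton_apply] at this


section Main
variable (A : Type u) [CommRing A] (M : Type u) [AddCommGroup M] [Module A M] {r : ℕ}
  (f : Fin r → A)

/-- the inductive claim -/
def Claim (s : ℕ) : Prop :=
  ∀ (N : Type u) [AddCommGroup N] [Module A N], PowTors f s N →
    ∀ j : ℕ, 1 ≤ j → j ≤ s + 1 → IsZero (T j (ModuleCat.of A N) (ModuleCat.of A M))

theorem claim_step (s : ℕ) (hs : s < r)
    (h1 : Module.Flat (Localization.Away (f ⟨s, hs⟩))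
      (LocalizedModule (Submonoid.powers (f ⟨s, hs⟩)) M))
    (hc : Claim A M f (s + 1)) : Claim A M f s := by
  intro N _ _ hN j hj hjs
  obtain ⟨g, hg⟩ : ∃ g, g = f ⟨s, hs⟩ := ⟨_, rfl⟩
  rw [← hg] at h1
  obtain ⟨φ, hφ⟩ : ∃ φ, φ = LocalizedModule.mkLinearMap (Submonoid.powers g) N := ⟨_, rfl⟩
  haveI : IsLocalizedModule (Submonoid.powers g) φ := by rw [hφ]; infer_instance
  -- first sequence
  have hS1 : (ModuleCat.shortComplexOfCompEqZero (LinearMap.ker φ).subtype φ.rangeRestrict
      (by ext x; exact x.2)).ShortExact := by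
    refine ModuleCat.shortComplex_shortExact _ ?_ (Submodule.injective_subtype _)
      φ.surjective_rangeRestrict
    intro y
    constructor
    · intro hy
      exact ⟨⟨y, by rw [LinearMap.mem_ker]; exact congrArg Subtype.val hy⟩, rfl⟩
    · rintro ⟨z, rfl⟩
      ext
      exact z.2
  have hS2 := shortExact_subtype_mkQ (R := A) (LinearMap.range φ)
  -- torsion of kernel
  have hK : PowTors f (s + 1) ↥(LinearMap.ker φ) := by
    intro x i hi
    rcases Nat.lt_succ_iff_lt_or_eq.mp hi with hlt | heq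
    · obtain ⟨k, hk⟩ := hN x.1 i hlt
      exact ⟨k, by ext; exact hk⟩
    · have hx : φ x.1 = 0 := x.2
      rw [IsLocalizedModule.eq_zero_iff (Submonoid.powers g)] at hx
      obtain ⟨⟨_, k, rfl⟩, hk⟩ := hx
      have hi' : i = ⟨s, hs⟩ := Fin.ext heq
      refine ⟨k, ?_⟩
      ext
      rw [hi', ← hg]
      exact hk
  -- torsion of cokernel
  have hC : PowTors f (s + 1)
      (LocalizedModule (Submonoid.powers g) N ⧸ LinearMap.range φ) := by
    intro y i hi
    obtain ⟨y, rfl⟩ := Submodule.mkQ_surjective _ y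
    obtain ⟨⟨n, t⟩, hnt⟩ := IsLocalizedModule.surj (Submonoid.powers g) φ y
    rcases Nat.lt_succ_iff_lt_or_eq.mp hi with hlt | heq
    · obtain ⟨k, hk⟩ := hN n i hlt
      refine ⟨k, ?_⟩
      rw [← map_smul]
      have : f i ^ k • y = 0 := by
        apply IsLocalizedModule.smul_injective φ t
        show t • (f i ^ k • y) = t • 0
        rw [smul_zero, smul_comm, hnt, ← map_smul, hk, map_zero]
      rw [this, map_zero]
    · obtain ⟨_, k, rfl⟩ := t
      have hi' : i = ⟨s, hs⟩ := Fin.ext heq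
      refine ⟨k, ?_⟩
      rw [hi', ← hg, ← map_smul, Submodule.mkQ_apply, Submodule.Quotient.mk_eq_zero]
      exact ⟨n, hnt.symm⟩
  have hL : ∀ n : ℕ, IsZero (T (n + 1)
      (ModuleCat.of A (LocalizedModule (Submonoid.powers g) N)) (ModuleCat.of A M)) :=
    fun n => isZero_tor_of_localized A g M h1 _ n
  have hR : IsZero (T j (ModuleCat.of A ↥(LinearMap.range φ)) (ModuleCat.of A M)) := by
    obtain ⟨n, rfl⟩ : ∃ n, j = n + 1 := ⟨j - 1, by omega⟩
    exact isZero_tor_X₁ _ hS2 (ModuleCat.of A M) (n + 1)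
      (hc _ hC (n + 2) (by omega) (by omega)) (hL n)
  exact isZero_tor_X₂ _ hS1 (ModuleCat.of A M) j (hc _ hK j hj (by omega)) hR


open Groth.Agent.Helper1.TorBal in
theorem S6377_main {r : ℕ} (hr : 1 ≤ r) (f : Fin r → A)
    (h1 : ∀ i, Module.Flat (Localization.Away (f i)) (LocalizedModule (Submonoid.powers (f i)) M))
    (h2 : Module.Flat (A ⧸ Ideal.span (Set.range f)) ((A ⧸ Ideal.span (Set.range f)) ⊗[A] M))
    (h3 : ∀ i : ℕ, 1 ≤ i → i ≤ r + 1 →
      Limits.IsZero (((CategoryTheory.Tor (ModuleCat.{u} A) i).obj (ModuleCat.of A M)).obj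
        (ModuleCat.of A (A ⧸ Ideal.span (Set.range f))))) :
    Module.Flat A M := by
  have hmain : ∀ d s : ℕ, s + d = r → Claim A M f s := by
    intro d
    induction d with
    | zero =>
      intro s hs
      rw [add_zero] at hs
      subst hs
      intro N _ _ hN j hj hjs
      exact isZero_tor_of_pow_torsion A _ M (s + 1) h2 h3 N (powTors_all f N hN) j hj hjs
    | succ d ih =>
      intro s hs
      exact claim_step A M f s (by omega) (h1 _) (ih (s + 1) (by omega))
  have h0 := hmain r 0 (by omega)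
  rw [flat_iff_tor_one_quotient]
  intro I _
  rw [isZero_tor_symm]
  exact h0 _ (fun x i hi => absurd hi (Nat.not_lt_zero _)) 1 le_rfl le_rfl

end Main

end Groth.Agent.Lib.Helper4.TorFlat1
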