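import Mathlib
import Groth.Prelude.Def_AutSch
import Groth.Prelude.Def_AlgGrp
import Groth.Agent.Lib.Helper4.GrpConn1
import Groth.Agent.Lib.Helper4.HomDim1
import Groth.Agent.Lib.Helper4.WordPts1
import Groth.Agent.Lib.Helper4.FgSepPts1
import Groth.Agent.Lib.Helper6.GrpSch.Sep

/-!
# torsion points surject onto torsion of the component group (helper4)
-/

set_option backward.isDefEq.respectTransparency.types false
set_option synthInstance.maxHeartbeats 400000
set_option autoImplicit false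
set_option linter.unusedSectionVars false
set_option linter.style.haveILetI false
set_option linter.unusedSimpArgs false
universe u v w
open CategoryTheory CategoryTheory.Limits AlgebraicGeometry TopologicalSpace Opposite
open MonoidalCategory CartesianMonoidalCategory MonObj GrpObj

namespace Groth.Agent.Lib.Helper4.TorsComp1

section Top

theorem antitone_closed_stabilizes {α : Type*} [TopologicalSpace α] [NoetherianSpace α]
    (T : ℕ → Set α) (hT : ∀ j, IsClosed (T j)) (hanti : Antitone T) :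
    ∃ J, ∀ j, J ≤ j → T j = T J := by
  let a : ℕ →o Opens α :=
    ⟨fun j => ⟨(T j)ᶜ, (hT j).isOpen_compl⟩, fun i j hij => by
      show (T i)ᶜ ⊆ (T j)ᶜ
      exact Set.compl_subset_compl.mpr (hanti hij)⟩
  obtain ⟨J, hJ⟩ := WellFoundedGT.monotone_chain_condition a
  refine ⟨J, fun j hj => ?_⟩
  have h := congrArg (fun O : Opens α => (O : Set α)) (hJ j hj)
  have h' : (T J)ᶜ = (T j)ᶜ := h
  exact (compl_injective h').symm

end Top

section Geo
variable (k : Type u) [Field k] [IsAlgClosed k]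
  {G G0 : Over (Spec (CommRingCat.of k))} [GrpObj G] [GrpObj G0]
  (i : G0 ⟶ G) [IsMonHom i]

/-- the unit point -/
noncomputable abbrev e0 (G : Over (Spec (CommRingCat.of k))) [GrpObj G] : G.left :=
  η[G].left (IsLocalRing.closedPoint k)

theorem neutralSet_eq : SGA3x.neutralSet G = connectedComponent (e0 k G) := by
  unfold SGA3x.neutralSet
  have h1 : ∀ p : ↥(𝟙_ (Over (Spec (CommRingCat.of k)))).left,
      G.hom.base ⁻¹' {(𝟙_ (Over (Spec (CommRingCat.of k)))).hom.base p} = Set.univ := fun p =>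
    Set.eq_univ_of_forall fun z => Subsingleton.elim (α := ↥(Spec (CommRingCat.of k))) _ _
  have h2 : ∀ p : ↥(𝟙_ (Over (Spec (CommRingCat.of k)))).left, η[G].left.base p = e0 k G :=
    fun p => congrArg _ (Subsingleton.elim (α := ↥(Spec (CommRingCat.of k))) _ _)
  simp_rw [h1, h2, connectedComponentIn_univ]
  haveI : Nonempty ↥(𝟙_ (Over (Spec (CommRingCat.of k)))).left :=
    ⟨(IsLocalRing.closedPoint k : ↥(Spec (CommRingCat.of k)))⟩
  exact Set.iUnion_const _


variable {k} in
theorem range_i (hi : AutSch.IsIdComp i) :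
    Set.range i.left = connectedComponent (e0 k G) := by
  rw [← neutralSet_eq k]
  exact hi.2.2

include k in
theorem compactSpace_G0 (hi : AutSch.IsIdComp i) : CompactSpace G0.left := by
  haveI : IsOpenImmersion i.left := hi.2.1
  have hc : IsCompact (Set.range i.left) := by
    rw [range_i i hi]
    exact (Groth.Agent.Lib.Helper4.GrpConn1.main_S0355 k G).2
  rw [← Set.image_univ] at hc
  exact ⟨(i.left.isOpenEmbedding.isEmbedding.isCompact_iff).mpr hc⟩

include k in
theorem connectedSpace_G0 (hi : AutSch.IsIdComp i) : ConnectedSpace G0.left := by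
  haveI : IsOpenImmersion i.left := hi.2.1
  have hc : _root_.IsPreconnected (Set.range i.left) := by
    rw [range_i i hi]
    exact isPreconnected_connectedComponent
  rw [← Set.image_univ] at hc
  haveI : Nonempty G0.left := ⟨e0 k G0⟩
  haveI : PreconnectedSpace G0.left :=
    ⟨(i.left.isOpenEmbedding.isEmbedding.isInducing.isPreconnected_image).mp hc⟩
  exact ConnectedSpace.mk inferInstance

/-- the power map sends the neutral component into itself -/
theorem pow_image_subset [IsCommMonObj G] (n : ℕ) :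
    ((𝟙 G : G ⟶ G) ^ n).left '' connectedComponent (e0 k G) ⊆ connectedComponent (e0 k G) := by
  haveI := Groth.Agent.Lib.Helper4.FgSepPts1.isMonHom_pow k G n
  have h1 : _root_.IsPreconnected (((𝟙 G : G ⟶ G) ^ n).left '' connectedComponent (e0 k G)) :=
    isPreconnected_connectedComponent.image _ ((𝟙 G : G ⟶ G) ^ n).left.continuous.continuousOn
  have h2 : e0 k G ∈ ((𝟙 G : G ⟶ G) ^ n).left '' connectedComponent (e0 k G) := by
    refine ⟨e0 k G, mem_connectedComponent, ?_⟩
    show ((𝟙 G : G ⟶ G) ^ n).left (η[G].left _) = η[G].left _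
    rw [← Scheme.Hom.comp_apply, ← Over.comp_left, IsMonHom.one_hom]
  exact h1.subset_connectedComponent h2


theorem range_comp_pow (hi : AutSch.IsIdComp i) (m : ℕ) :
    Set.range (i ≫ (𝟙 G : G ⟶ G) ^ m).left =
      ((𝟙 G : G ⟶ G) ^ m).left '' connectedComponent (e0 k G) := by
  rw [Over.comp_left, Scheme.Hom.comp_base, TopCat.coe_comp, Set.range_comp]
  congr 1
  exact range_i i hi

open Groth.Agent.Lib.Helper4.HomDim1 in
theorem exists_stable [IsCommMonObj G] [LocallyOfFiniteType G.hom] (hi : AutSch.IsIdComp i)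
    (n : ℕ) :
    ∃ J : ℕ, ∀ j, J ≤ j → Set.range (i ≫ (𝟙 G : G ⟶ G) ^ (n ^ j)).left =
      Set.range (i ≫ (𝟙 G : G ⟶ G) ^ (n ^ J)).left := by
  haveI : IsOpenImmersion i.left := hi.2.1
  haveI := compactSpace_G0 k i hi
  haveI : LocallyOfFiniteType G0.hom := by
    rw [← Over.w i]
    infer_instance
  haveI : IsSeparated G.hom := Groth.Agent.Lib.Helper6.GrpSch.Sep.isSeparated_of_subsingleton G
  haveI : QuasiSeparatedSpace G.left := quasiSeparatedSpace_of_quasiSeparated G.hom
  haveI : IsLocallyNoetherian G0.left := LocallyOfFiniteType.isLocallyNoetherian G0.hom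
  haveI : IsNoetherian G0.left := {}
  let V : ℕ → Set G.left := fun j => Set.range (i ≫ (𝟙 G : G ⟶ G) ^ (n ^ j)).left
  have hVeq : ∀ j, V j = ((𝟙 G : G ⟶ G) ^ (n ^ j)).left '' connectedComponent (e0 k G) :=
    fun j => range_comp_pow k i hi _
  have hVC : ∀ j, V j ⊆ Set.range i.left := by
    intro j
    rw [hVeq j, range_i i hi]
    exact pow_image_subset k _
  have hVcl : ∀ j, IsClosed (V j) := by
    intro j
    haveI := Groth.Agent.Lib.Helper4.FgSepPts1.isMonHom_pow k G (n ^ j)
    haveI : IsMonHom (i ≫ (𝟙 G : G ⟶ G) ^ (n ^ j)) := inferInstance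
    exact isClosed_range_hom k G0 G (i ≫ (𝟙 G : G ⟶ G) ^ (n ^ j))
  have hVanti : Antitone V := by
    refine antitone_nat_of_succ_le fun j => ?_
    rw [hVeq j, hVeq (j + 1)]
    have h1 : (𝟙 G : G ⟶ G) ^ (n ^ (j + 1)) = ((𝟙 G : G ⟶ G) ^ n) ≫ (𝟙 G : G ⟶ G) ^ (n ^ j) := by
      rw [MonObj.comp_pow, Category.comp_id, ← pow_mul, pow_succ, mul_comm]
    rw [h1, Over.comp_left, Scheme.Hom.comp_base, TopCat.coe_comp, Set.image_comp]
    exact Set.image_mono (pow_image_subset k n)
  obtain ⟨J, hJ⟩ := antitone_closed_stabilizes (fun j => i.left ⁻¹' V j)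
    (fun j => (hVcl j).preimage i.left.continuous)
    (fun a b hab => Set.preimage_mono (hVanti hab))
  refine ⟨J, fun j hj => ?_⟩
  have h := hJ j hj
  show V j = V J
  rw [← Set.image_preimage_eq_of_subset (hVC j), ← Set.image_preimage_eq_of_subset (hVC J)]
  exact congrArg _ h


open Groth.Agent.Lib.Helper4.WordPts1 in
/-- a point of the neutral component whose image lies in the image of a homomorphism from the
neutral component is the image of a rational point -/
theorem exists_point_of_mem_range [LocallyOfFiniteType G.hom] (hi : AutSch.IsIdComp i)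
    (u : G0 ⟶ G) (y : 𝟙_ (Over (Spec (CommRingCat.of k))) ⟶ G)
    (hy : y.left (IsLocalRing.closedPoint k) ∈ Set.range u.left) :
    ∃ v₀ : 𝟙_ (Over (Spec (CommRingCat.of k))) ⟶ G0, v₀ ≫ u = y := by
  haveI : IsOpenImmersion i.left := hi.2.1
  haveI : LocallyOfFiniteType G0.hom := by
    rw [← Over.w i]
    infer_instance
  haveI : LocallyOfFiniteType (u.left ≫ G.hom) := by
    rw [Over.w u]
    infer_instance
  haveI : LocallyOfFiniteType u.left := locallyOfFiniteType_of_comp u.left G.hom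
  obtain ⟨x, hx⟩ := hy
  obtain ⟨w, -, -⟩ := Scheme.Pullback.exists_preimage_pullback (f := u.left) (g := y.left)
    x (IsLocalRing.closedPoint k) hx
  haveI : Nonempty ↥(pullback u.left y.left) := ⟨w⟩
  let π : pullback u.left y.left ⟶ Spec (CommRingCat.of k) := pullback.snd u.left y.left
  haveI : LocallyOfFiniteType π := inferInstanceAs (LocallyOfFiniteType (pullback.snd u.left y.left))
  obtain ⟨σ, hσ⟩ := exists_section_of_lft π
  have hz : (σ ≫ pullback.fst u.left y.left) ≫ u.left = y.left := by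
    rw [Category.assoc, pullback.condition, ← Category.assoc]
    erw [hσ]
    exact Category.id_comp _
  refine ⟨Over.homMk (σ ≫ pullback.fst u.left y.left) ?_, ?_⟩
  · have h1 : u.left ≫ G.hom = G0.hom := Over.w u
    rw [← h1, ← Category.assoc, hz]
    exact Over.w y
  · ext1
    exact hz

theorem key [IsCommMonObj G] [LocallyOfFiniteType G.hom] (hi : AutSch.IsIdComp i) (n : ℕ)
    (hn : 0 < n) (h : 𝟙_ (Over (Spec (CommRingCat.of k))) ⟶ G) (hh : h ∈ AutSch.ptsRange i) :
    ∃ w ∈ AutSch.ptsRange i, ∃ m : ℕ, 0 < m ∧ (h * (w ^ n)⁻¹) ^ m = 1 := by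
  obtain ⟨J, hJ⟩ := exists_stable k i hi n
  obtain ⟨h₀, rfl⟩ := (AutSch.mem_ptsRange_iff i h).mp hh
  let y : 𝟙_ (Over (Spec (CommRingCat.of k))) ⟶ G := (h₀ ≫ i) ^ (n ^ J)
  have hy1 : y = h₀ ≫ (i ≫ (𝟙 G : G ⟶ G) ^ (n ^ J)) := by
    rw [MonObj.comp_pow, MonObj.comp_pow, Category.comp_id]
  have hy2 : y.left (IsLocalRing.closedPoint k) ∈
      Set.range (i ≫ (𝟙 G : G ⟶ G) ^ (n ^ (2 * J + 1))).left := by
    rw [hJ (2 * J + 1) (by omega), hy1]
    exact ⟨h₀.left (IsLocalRing.closedPoint k), rfl⟩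
  obtain ⟨v₀, hv₀⟩ := exists_point_of_mem_range k i hi _ y hy2
  have hz : (v₀ ≫ i) ^ (n ^ (2 * J + 1)) = y := by
    rw [← hv₀, MonObj.comp_pow, MonObj.comp_pow, Category.comp_id]
  refine ⟨(v₀ ≫ i) ^ (n ^ J), Subgroup.pow_mem _ ((AutSch.mem_ptsRange_iff i _).mpr ⟨v₀, rfl⟩) _,
    n ^ J, pow_pos hn J, ?_⟩
  rw [mul_pow, inv_pow, ← pow_mul, ← pow_mul]
  have he : n ^ J * (n * n ^ J) = n ^ (2 * J + 1) := by ring
  rw [he, hz]
  exact mul_inv_cancel y

theorem main [IsCommMonObj G] [LocallyOfFiniteType G.hom] (hi : AutSch.IsIdComp i)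
    (g : 𝟙_ (Over (Spec (CommRingCat.of k))) ⟶ G) (n : ℕ) (hn : 0 < n)
    (hg : g ^ n ∈ AutSch.ptsRange i) :
    ∃ t : 𝟙_ (Over (Spec (CommRingCat.of k))) ⟶ G, IsOfFinOrder t ∧
      t⁻¹ * g ∈ AutSch.ptsRange i := by
  obtain ⟨w, hw, m, hm, hwm⟩ := key k i hi n hn (g ^ n) hg
  refine ⟨g * w⁻¹, ?_, ?_⟩
  · rw [isOfFinOrder_iff_pow_eq_one]
    refine ⟨n * m, Nat.mul_pos hn hm, ?_⟩
    rw [pow_mul, mul_pow, inv_pow]
    exact hwm
  · have : (g * w⁻¹)⁻¹ * g = w := by group
    rw [this]
    exact hw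

end Geo

end Groth.Agent.Lib.Helper4.TorsComp1
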