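import Mathlib
import Groth.Prelude.Def_NonAbH2
import Groth.Prelude.Def_Neron
import Groth.Agent.Lib.Helper4.RationalExt1
import Groth.Agent.Lib.Helper4.TorsNormal1

/-!
# generically trivial torsors under proper flat groups over Dedekind domains are trivial (S18487) (helper4) (helper4)
-/

set_option backward.isDefEq.respectTransparency.types false
set_option synthInstance.maxHeartbeats 400000
set_option autoImplicit false
set_option linter.unusedSectionVars false
set_option linter.style.haveILetI false
set_option linter.unusedSimpArgs false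
universe u v w
open CategoryTheory CategoryTheory.Limits AlgebraicGeometry TopologicalSpace Opposite

namespace Groth.Agent.Lib.Helper4.TorsDedekind1

/-- local rings of the spectrum of a Dedekind domain are valuation rings -/
theorem valuationRing_stalk (R : Type u) [CommRing R] [IsDedekindDomain R]
    (y : Spec (CommRingCat.of R)) :
    ∃ _ : IsDomain ((Spec (CommRingCat.of R)).presheaf.stalk y),
      ValuationRing ((Spec (CommRingCat.of R)).presheaf.stalk y) := by
  by_cases hy : y = genericPoint (Spec (CommRingCat.of R))
  · subst hy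
    letI : Field ((Spec (CommRingCat.of R)).presheaf.stalk (genericPoint (Spec (CommRingCat.of R)))) :=
      inferInstanceAs (Field (Spec (CommRingCat.of R)).functionField)
    exact ⟨inferInstance, inferInstance⟩
  · have hp : y.asIdeal ≠ ⊥ := by
      intro h
      apply hy
      rw [genericPoint_eq_bot_of_affine]
      exact PrimeSpectrum.ext h
    letI : Algebra R ((Spec (CommRingCat.of R)).presheaf.stalk y) :=
      (StructureSheaf.toStalk R y).hom.toAlgebra
    haveI : IsLocalization.AtPrime ((Spec (CommRingCat.of R)).presheaf.stalk y) y.asIdeal :=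
      StructureSheaf.IsLocalization.to_stalk R y
    haveI : IsDomain ((Spec (CommRingCat.of R)).presheaf.stalk y) :=
      IsLocalization.isDomain_of_le_nonZeroDivisors (M := y.asIdeal.primeCompl) _ y.asIdeal.primeCompl_le_nonZeroDivisors
    haveI := IsLocalization.AtPrime.isDiscreteValuationRing_of_dedekind_domain R hp
      ((Spec (CommRingCat.of R)).presheaf.stalk y)
    exact ⟨inferInstance, inferInstance⟩


/-- a `K`-point of an `R`-scheme gives a point over the local ring at the generic point -/
theorem exists_stalk_point (R : Type u) [CommRing R] [IsDomain R] {Y : Scheme.{u}}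
    (q : Y ⟶ Spec (CommRingCat.of R)) (σ : Spec (CommRingCat.of (FractionRing R)) ⟶ Y)
    (hσ : σ ≫ q = Neron.genPt R) :
    ∃ φ : Spec ((Spec (CommRingCat.of R)).presheaf.stalk (genericPoint (Spec (CommRingCat.of R)))) ⟶ Y,
      φ ≫ q = (Spec (CommRingCat.of R)).fromSpecStalk (genericPoint (Spec (CommRingCat.of R))) := by
  let L := (Spec (CommRingCat.of R)).functionField
  letI : Algebra R L :=
    @instAlgebraCarrierFunctionFieldSpec (CommRingCat.of R) (inferInstanceAs (IsDomain R))
  haveI : IsFractionRing R L :=
    @functionField_isFractionRing_of_affine (CommRingCat.of R) (inferInstanceAs (IsDomain R))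
  let e : FractionRing R ≃ₐ[R] L := FractionRing.algEquiv R L
  refine ⟨Spec.map (CommRingCat.ofHom (e : FractionRing R →+* L)) ≫ σ, ?_⟩
  rw [Category.assoc, hσ, Spec.fromSpecStalk_eq', ← Spec.map_comp]
  congr 1
  ext x
  exact e.commutes x

theorem main (R : Type u) [CommRing R] [IsDedekindDomain R]
    (G : Over (Spec (CommRingCat.of R))) [GrpObj G] [IsProper G.hom] [Flat G.hom]
    (P : NonAbH1.TorsorSch G Scheme.fppfPrecoverage) (h : NonAbH1.HasSectionOver P.X (Neron.genPt R)) :
    NonAbH1.HasSectionOver P.X (𝟙 (Spec (CommRingCat.of R))) := by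
  haveI : IsProper P.X.hom :=
    Groth.Agent.Lib.Helper4.TorsNormal1.torsor_hom_prop @IsProper G P.X inferInstance P.act P.isTorsor
  obtain ⟨σ, hσ⟩ := h
  obtain ⟨φ, hφ⟩ := exists_stalk_point R P.X.hom σ hσ
  obtain ⟨V, hηV, f, -, hf⟩ := spread_out_of_isGermInjective' (𝟙 (Spec (CommRingCat.of R))) P.X.hom φ
    (by rw [hφ, Category.comp_id])
  have hV : Dense (V : Set (Spec (CommRingCat.of R))) := V.2.dense ⟨_, hηV⟩
  obtain ⟨U', hVU, g', hg', -, hall⟩ := Groth.Agent.Lib.Helper4.RationalExt1.extend_to_proper P.X.hom
    (𝟙 (Spec (CommRingCat.of R))) Set.univ (fun y _ => valuationRing_stalk R y) V hV f hf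
  have hU' : U' = ⊤ := by
    apply Opens.ext
    ext y
    simp only [Opens.coe_top, Set.mem_univ, iff_true]
    exact hall y trivial
  subst hU'
  refine ⟨(Spec (CommRingCat.of R)).topIso.inv ≫ g', ?_⟩
  rw [Category.assoc, hg', Category.comp_id, Scheme.toIso_inv_ι]

end Groth.Agent.Lib.Helper4.TorsDedekind1
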