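import Mathlib
import Groth.Prelude.Def_NonAbH2
import Groth.Agent.Lib.Helper4.TorsFC2

/-!
# S18318: fppf torsors under a finite connected group scheme over a field are trivialised by a uniform power of Frobenius (helper4)
-/

set_option backward.isDefEq.respectTransparency.types false
set_option synthInstance.maxHeartbeats 400000
set_option autoImplicit false
set_option linter.unusedSectionVars false
set_option linter.style.haveILetI false
set_option linter.unusedSimpArgs false
universe u v w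
open CategoryTheory CategoryTheory.Limits AlgebraicGeometry
open MonoidalCategory CartesianMonoidalCategory MonObj GrpObj
open Groth.Agent.Lib.Helper4.GrpKer1 Groth.Agent.Lib.Helper4.GrpKer2 Groth.Agent.Lib.Helper4.GrpKer3 Groth.Agent.Lib.Helper4.TorsFC1 Groth.Agent.Lib.Helper4.TorsFC2

namespace Groth.Agent.Lib.Helper4.TorsFC3

/-- In a Noetherian ring with a single prime, of characteristic `p`, with an idempotent ring
endomorphism `e` whose kernel is prime: `a^(p^n) = (e a)^(p^n)` for some uniform `n`. -/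
lemma exists_pow_eq_of_local_artinian {A : Type u} [CommRing A] [IsNoetherianRing A]
    [Subsingleton (PrimeSpectrum A)] (p : ℕ) [Fact p.Prime] [ExpChar A p]
    (e : A →+* A) (he : ∀ a, e (e a) = e a) (hprime : (RingHom.ker e).IsPrime) :
    ∃ n : ℕ, ∀ a : A, a ^ (p ^ n) = (e a) ^ (p ^ n) := by
  obtain ⟨N, hN⟩ := IsNoetherianRing.isNilpotent_nilradical A
  have hker : RingHom.ker e ≤ nilradical A := by
    rw [nilradical_eq_sInf]
    apply le_sInf
    intro J hJ
    have : (⟨J, hJ⟩ : PrimeSpectrum A) = ⟨RingHom.ker e, hprime⟩ := Subsingleton.elim _ _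
    rw [PrimeSpectrum.ext_iff] at this
    exact this.ge
  refine ⟨N, fun a => ?_⟩
  have h1 : a - e a ∈ RingHom.ker e := by
    rw [RingHom.mem_ker, map_sub, he, sub_self]
  have h2 : (a - e a) ^ N = 0 := by
    have := Ideal.pow_mem_pow (hker h1) N
    rw [hN] at this
    exact this
  have hle : N ≤ p ^ N := (Nat.lt_pow_self (Fact.out : p.Prime).one_lt).le
  have h3 : (a - e a) ^ (p ^ N) = 0 := pow_eq_zero_of_le hle h2
  rw [sub_pow_expChar_pow, sub_eq_zero] at h3
  exact h3

/-- `b ⊗ 1 = 1 ⊗ b` in `L ⊗[K] L` forces `b ∈ K`. -/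
lemma mem_range_of_tmul_one_eq (K L : Type u) [Field K] [Field L] [Algebra K L] (b : L)
    (h : b ⊗ₜ[K] (1 : L) = (1 : L) ⊗ₜ[K] b) : b ∈ Set.range (algebraMap K L) := by
  obtain ⟨f, hf⟩ := Module.Projective.exists_dual_ne_zero K (V := L) (x := (1 : L)) one_ne_zero
  let f' : L →ₗ[K] K := (f 1)⁻¹ • f
  have hf' : f' 1 = 1 := by simp [f', hf]
  have := congrArg (fun t => TensorProduct.rid K L (LinearMap.lTensor L f' t)) h
  simp only [LinearMap.lTensor_tmul, TensorProduct.rid_tmul, hf', one_smul] at this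
  exact ⟨f' b, by rw [Algebra.algebraMap_eq_smul_one]; exact this.symm⟩

/-- `Spec.map` of the iterated Frobenius acts on global sections by `y ↦ y^(p^n)`. -/
lemma SpecMap_iterateFrobenius_appTop (R : Type u) [CommRing R] (p : ℕ) [ExpChar R p] (n : ℕ)
    (y : Γ(Spec (CommRingCat.of R), ⊤)) :
    (Spec.map (CommRingCat.ofHom (iterateFrobenius R p n))).appTop y = y ^ (p ^ n) := by
  have h1 := Scheme.ΓSpecIso_naturality (CommRingCat.ofHom (iterateFrobenius R p n))
  have h2 := congrArg (fun φ => φ.hom y) h1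
  simp only [CommRingCat.hom_comp, RingHom.coe_comp, Function.comp_apply, CommRingCat.hom_ofHom,
    iterateFrobenius_def] at h2
  apply (Scheme.ΓSpecIso (CommRingCat.of R)).commRingCatIsoToRingEquiv.injective
  rw [map_pow]
  exact h2

lemma unit_section_w {S : Scheme.{u}} (G : Over S) [GrpObj G] : η[G].left ≫ G.hom = 𝟙 S := by
  have := Over.w η[G]
  erw [this]; rfl

/-- A high power of Frobenius kills the points of a finite connected group scheme. -/
lemma frob_kills (K : Type u) [Field K] (p : ℕ) [Fact p.Prime] [ExpChar K p]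
    (G : Over (Spec (CommRingCat.of K))) [GrpObj G] [IsFinite G.hom] [ConnectedSpace G.left] :
    ∃ n : ℕ, ∀ (R : Type u) [CommRing R] [ExpChar R p] (g : Spec (CommRingCat.of R) ⟶ G.left),
      Spec.map (CommRingCat.ofHom (iterateFrobenius R p n)) ≫ g =
        Spec.map (CommRingCat.ofHom (iterateFrobenius R p n)) ≫ g ≫ G.hom ≫ η[G].left := by
  have haff : IsAffine G.left := isAffine_of_isAffineHom G.hom
  have hsub := subsingleton_of_finite_connected K G.left G.hom
  have hne : Nonempty (⊤ : G.left.Opens) := by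
    obtain ⟨x⟩ := (inferInstance : Nonempty G.left)
    exact ⟨⟨x, trivial⟩⟩
  have hnt : Nontrivial Γ(G.left, ⊤) := Scheme.component_nontrivial G.left ⊤
  -- the ring
  obtain ⟨ε, hε⟩ : ∃ ε : Γ(G.left, ⊤) ⟶ Γ(Spec (CommRingCat.of K), ⊤), ε = η[G].left.appTop := ⟨_, rfl⟩
  obtain ⟨σ, hσ⟩ : ∃ σ : Γ(Spec (CommRingCat.of K), ⊤) ⟶ Γ(G.left, ⊤), σ = G.hom.appTop := ⟨_, rfl⟩
  have hσε : σ ≫ ε = 𝟙 _ := by
    rw [hσ, hε, ← Scheme.Hom.comp_appTop, unit_section_w]; rfl
  have hfield : IsField Γ(Spec (CommRingCat.of K), ⊤) :=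
    (Scheme.ΓSpecIso (CommRingCat.of K)).commRingCatIsoToRingEquiv.toMulEquiv.isField
      (Field.toIsField K)
  letI := hfield.toField
  have hfin : σ.hom.Finite := by rw [hσ]; exact G.hom.finite_appTop
  have hnoeth : IsNoetherianRing Γ(G.left, ⊤) := by
    algebraize [σ.hom]
    exact IsNoetherianRing.of_finite Γ(Spec (CommRingCat.of K), ⊤) Γ(G.left, ⊤)
  have hprime : (RingHom.ker (ε ≫ σ).hom).IsPrime := by
    have : RingHom.ker (ε ≫ σ).hom = RingHom.ker ε.hom := by
      ext a
      simp only [RingHom.mem_ker, CommRingCat.hom_comp, RingHom.coe_comp, Function.comp_apply]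
      exact map_eq_zero_iff _ σ.hom.injective
    rw [this]
    exact RingHom.ker_isPrime ε.hom
  have hsubP : Subsingleton (PrimeSpectrum Γ(G.left, ⊤)) :=
    (G.left.isoSpec.hom.homeomorph).symm.subsingleton
  have hexp : ExpChar Γ(G.left, ⊤) p := by
    have hinj : Function.Injective (σ.hom.comp (Scheme.ΓSpecIso (CommRingCat.of K)).inv.hom) :=
      RingHom.injective _
    exact expChar_of_injective_ringHom hinj p
  obtain ⟨n, hn⟩ := exists_pow_eq_of_local_artinian p (ε ≫ σ).hom (by
    intro a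
    have := congrArg (fun φ => φ.hom (ε.hom a)) hσε
    simp only [CommRingCat.hom_comp, RingHom.coe_comp, Function.comp_apply, CommRingCat.hom_id,
      RingHom.id_apply] at this ⊢
    rw [this]) hprime
  refine ⟨n, fun R _ _ g => ?_⟩
  apply ext_of_isAffine
  ext a
  rw [Scheme.Hom.comp_appTop, Scheme.Hom.comp_appTop, Scheme.Hom.comp_appTop, Scheme.Hom.comp_appTop]
  simp only [CommRingCat.hom_comp, RingHom.coe_comp, Function.comp_apply]
  rw [SpecMap_iterateFrobenius_appTop, SpecMap_iterateFrobenius_appTop, ← map_pow, ← map_pow, hn a]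
  simp only [CommRingCat.hom_comp, RingHom.coe_comp, Function.comp_apply, hε, hσ]

/-- If `φ : T' ⟶ T` kills all `T`-points of `G`, it equalizes all `T`-points of a pseudo-torsor. -/
lemma torsor_points_eq_of_kills {S : Scheme.{u}} {G X : Over S} [GrpObj G]
    (a : AlgGrp.Action G X) (h : NonAbH1.IsPseudoTorsorSch a) {T' T : Over S} (φ : T' ⟶ T)
    (hφ : ∀ g : T ⟶ G, φ ≫ g = toUnit T' ≫ η[G]) (p₁ p₂ : T ⟶ X) : φ ≫ p₁ = φ ≫ p₂ := by
  unfold NonAbH1.IsPseudoTorsorSch at h
  obtain ⟨r, hr⟩ : ∃ r : T ⟶ G ⊗ X, r ≫ lift a.act (snd G X) = lift p₁ p₂ :=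
    ⟨lift p₁ p₂ ≫ inv (lift a.act (snd G X)), by rw [Category.assoc, IsIso.inv_hom_id, Category.comp_id]⟩
  have hr1 : r ≫ a.act = p₁ := by
    have := congrArg (fun m => m ≫ fst X X) hr
    simpa using this
  have hr2 : r ≫ snd G X = p₂ := by
    have := congrArg (fun m => m ≫ snd X X) hr
    simpa using this
  have hr3 : φ ≫ r = lift (toUnit T' ≫ η[G]) (φ ≫ p₂) := by
    apply CartesianMonoidalCategory.hom_ext
    · rw [Category.assoc, hφ, lift_fst]
    · rw [Category.assoc, hr2, lift_snd]
  rw [← hr1, ← Category.assoc, hr3, action_one_point]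

open scoped TensorProduct in
/-- the key step: `p^n`-th powers of residue field elements are rational. -/
lemma pow_mem_range_of_frob_kills (K : Type u) [Field K] (p : ℕ) [Fact p.Prime] [ExpChar K p]
    (G X : Over (Spec (CommRingCat.of K))) [GrpObj G]
    (a : AlgGrp.Action G X) (hps : NonAbH1.IsPseudoTorsorSch a) (n : ℕ)
    (hn : ∀ (R : Type u) [CommRing R] [ExpChar R p] (g : Spec (CommRingCat.of R) ⟶ G.left),
      Spec.map (CommRingCat.ofHom (iterateFrobenius R p n)) ≫ g =
        Spec.map (CommRingCat.ofHom (iterateFrobenius R p n)) ≫ g ≫ G.hom ≫ η[G].left)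
    (x : X.left) (ψ : CommRingCat.of K ⟶ X.left.residueField x)
    (hψ : Spec.map ψ = X.left.fromSpecResidueField x ≫ X.hom) (b : X.left.residueField x) :
    b ^ (p ^ n) ∈ Set.range ψ.hom := by
  algebraize [ψ.hom]
  have hexpR : ExpChar ((X.left.residueField x) ⊗[K] (X.left.residueField x)) p :=
    expChar_of_injective_algebraMap
      (algebraMap K ((X.left.residueField x) ⊗[K] (X.left.residueField x))).injective p
  obtain ⟨F, hF⟩ : ∃ F, F = Spec.map (CommRingCat.ofHom
      (iterateFrobenius ((X.left.residueField x) ⊗[K] (X.left.residueField x)) p n)) := ⟨_, rfl⟩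
  obtain ⟨t, ht⟩ : ∃ t, t = Spec.map (CommRingCat.ofHom
      (algebraMap K ((X.left.residueField x) ⊗[K] (X.left.residueField x)))) := ⟨_, rfl⟩
  obtain ⟨iL, hiL⟩ : ∃ iL, iL = Spec.map (CommRingCat.ofHom
      (Algebra.TensorProduct.includeLeft (R := K) (S := K) (A := X.left.residueField x)
        (B := X.left.residueField x)).toRingHom) := ⟨_, rfl⟩
  obtain ⟨iR, hiR⟩ : ∃ iR, iR = Spec.map (CommRingCat.ofHom
      (Algebra.TensorProduct.includeRight (R := K) (A := X.left.residueField x)
        (B := X.left.residueField x)).toRingHom) := ⟨_, rfl⟩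
  have hiL' : (iL ≫ X.left.fromSpecResidueField x) ≫ X.hom = t := by
    rw [Category.assoc, ← hψ, hiL, ht, ← Spec.map_comp]
    congr 1
  have hiR' : (iR ≫ X.left.fromSpecResidueField x) ≫ X.hom = t := by
    rw [Category.assoc, ← hψ, hiR, ht, ← Spec.map_comp]
    congr 1
    ext c
    exact (Algebra.TensorProduct.includeRight (R := K) (A := X.left.residueField x)
        (B := X.left.residueField x)).commutes c
  -- the objects
  obtain ⟨φ, hφ⟩ : ∃ φ : Over.mk (F ≫ t) ⟶ Over.mk t, φ.left = F := ⟨Over.homMk F rfl, rfl⟩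
  obtain ⟨p₁, hp₁⟩ : ∃ p₁ : Over.mk t ⟶ X, p₁.left = iL ≫ X.left.fromSpecResidueField x :=
    ⟨Over.homMk _ hiL', rfl⟩
  obtain ⟨p₂, hp₂⟩ : ∃ p₂ : Over.mk t ⟶ X, p₂.left = iR ≫ X.left.fromSpecResidueField x :=
    ⟨Over.homMk _ hiR', rfl⟩
  have hkill : ∀ g : Over.mk t ⟶ G, φ ≫ g = toUnit (Over.mk (F ≫ t)) ≫ η[G] := by
    intro g
    apply Over.OverMorphism.ext
    rw [Over.comp_left, Over.comp_left, hφ, toUnit_left, hF, hn, ← hF]
    have := Over.w g
    dsimp only [Over.mk_hom] at this ⊢
    rw [← Category.assoc g.left, this, Category.assoc]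
  have key := torsor_points_eq_of_kills a hps φ hkill p₁ p₂
  have key2 := congrArg (fun m => m.left) key
  simp only [Over.comp_left, hφ, hp₁, hp₂] at key2
  rw [← Category.assoc, ← Category.assoc, cancel_mono, hF, hiL, hiR, ← Spec.map_comp, ← Spec.map_comp] at key2
  have key3 := Spec.map_injective key2
  have key4 := congrArg (fun m => m.hom b) key3
  simp only [CommRingCat.hom_comp, CommRingCat.hom_ofHom, RingHom.coe_comp, Function.comp_apply,
    iterateFrobenius_def, AlgHom.toRingHom_eq_coe, RingHom.coe_coe,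
    Algebra.TensorProduct.includeLeft_apply, Algebra.TensorProduct.includeRight_apply,
    Algebra.TensorProduct.tmul_pow, one_pow] at key4
  exact mem_range_of_tmul_one_eq K (X.left.residueField x) _ key4

theorem S18318_main (K : Type u) [Field K]
    (p : ℕ) [ExpChar K p] (G : Over (Spec (CommRingCat.of K))) [GrpObj G] [IsFinite G.hom] [ConnectedSpace G.left] :
    ∃ n : ℕ, ∀ (X : Over (Spec (CommRingCat.of K))) (a : AlgGrp.Action G X), NonAbH1.IsTorsorFor Scheme.fppfPrecoverage a →
      NonAbH1.HasSectionOver X (Spec.map (CommRingCat.ofHom (iterateFrobenius K p n))) := by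
  rcases expChar_is_prime_or_one K p with hp | hp
  · -- p prime
    have : Fact p.Prime := ⟨hp⟩
    obtain ⟨n, hn⟩ := frob_kills K p G
    refine ⟨n, fun X a h => ?_⟩
    obtain ⟨hps, R, hR, hsec⟩ := h
    obtain ⟨U, f, hRf, -, ⟨u0, hu0⟩⟩ := exists_member_of_mem_precoverage _ hR (default : Spec (CommRingCat.of K))
    obtain ⟨s, hs⟩ := hsec f hRf
    obtain ⟨x, hx⟩ : ∃ x : X.left, x = s u0 := ⟨_, rfl⟩
    obtain ⟨ψ, hψ⟩ : ∃ ψ : CommRingCat.of K ⟶ X.left.residueField x,
        Spec.map ψ = X.left.fromSpecResidueField x ≫ X.hom := ⟨Spec.preimage _, Spec.map_preimage _⟩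
    have hmem := pow_mem_range_of_frob_kills K p G X a hps n hn x ψ hψ
    have hexpL : ExpChar (X.left.residueField x) p :=
      expChar_of_injective_ringHom ψ.hom.injective p
    -- the retraction-up-to-Frobenius
    obtain ⟨e, he⟩ : ∃ e : K ≃+* ψ.hom.range, ∀ c, (e c : X.left.residueField x) = ψ.hom c :=
      ⟨RingEquiv.ofBijective ψ.hom.rangeRestrict
        ⟨(ψ.hom.rangeRestrict).injective, ψ.hom.rangeRestrict_surjective⟩, fun c => rfl⟩
    obtain ⟨τ, hτ⟩ : ∃ τ : X.left.residueField x →+* K, ∀ b, ψ.hom (τ b) = b ^ (p ^ n) := by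
      refine ⟨e.symm.toRingHom.comp ((iterateFrobenius (X.left.residueField x) p n).codRestrict
        ψ.hom.range (fun b => by rw [iterateFrobenius_def]; exact hmem b)), fun b => ?_⟩
      simp only [RingHom.coe_comp, Function.comp_apply, RingEquiv.toRingHom_eq_coe, RingHom.coe_coe]
      rw [← he, RingEquiv.apply_symm_apply]
      rfl
    refine ⟨Spec.map (CommRingCat.ofHom τ) ≫ X.left.fromSpecResidueField x, ?_⟩
    rw [Category.assoc, ← hψ, ← Spec.map_comp]
    congr 1
    ext c
    apply ψ.hom.injective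
    simp only [CommRingCat.hom_comp, CommRingCat.hom_ofHom, RingHom.coe_comp, Function.comp_apply]
    rw [hτ, iterateFrobenius_def, map_pow]
  · -- characteristic zero
    subst hp
    have : CharZero K := charZero_of_expChar_one' K
    refine ⟨0, fun X a h => ?_⟩
    have h1 : iterateFrobenius K 1 0 = RingHom.id K := by
      ext a; simp
    rw [h1]
    have h2 : Spec.map (CommRingCat.ofHom (RingHom.id K)) = 𝟙 _ := Spec.map_id _
    rw [h2]
    exact S18319_main K G X a h

end Groth.Agent.Lib.Helper4.TorsFC3
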