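import Mathlib
import Groth.Prelude.Def_NonAbH2
import Groth.Agent.Lib.Helper4.TorsFC3

/-!
# S13959: torsors under infinitesimal group schemes: a point over a separable extension descends (helper4)
-/

set_option backward.isDefEq.respectTransparency.types false
set_option synthInstance.maxHeartbeats 400000
set_option autoImplicit false
set_option linter.unusedSectionVars false
set_option linter.style.haveILetI false
set_option linter.unusedSimpArgs false
universe u v w
open CategoryTheory CategoryTheory.Limits AlgebraicGeometry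
open MonoidalCategory CartesianMonoidalCategory MonObj GrpObj
open Groth.Agent.Lib.Helper4.GrpKer1 Groth.Agent.Lib.Helper4.GrpKer2 Groth.Agent.Lib.Helper4.GrpKer3 Groth.Agent.Lib.Helper4.TorsFC1 Groth.Agent.Lib.Helper4.TorsFC2 Groth.Agent.Lib.Helper4.TorsFC3

namespace Groth.Agent.Lib.Helper4.TorsFC4

open scoped TensorProduct in
/-- if `F/k` is purely inseparable and embeds into `L` with `L ⊗[k] L` reduced then `F = k`. -/
lemma surjective_of_purelyInseparable_of_reduced (k F L : Type u) [Field k] [Field F] [Field L]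
    [Algebra k F] [Algebra k L] [IsPurelyInseparable k F] [IsReduced (L ⊗[k] L)]
    (θ : F →ₐ[k] L) : Function.Surjective (algebraMap k F) := by
  intro b
  obtain ⟨q, hq⟩ := ExpChar.exists k
  obtain ⟨n, c, hc⟩ := IsPurelyInseparable.pow_mem k q b
  have hexpR : ExpChar (L ⊗[k] L) q :=
    expChar_of_injective_algebraMap (algebraMap k (L ⊗[k] L)).injective q
  have h1 : (θ b) ^ (q ^ n) = algebraMap k L c := by
    rw [← map_pow, ← hc, AlgHom.commutes]
  have h2 : ((θ b) ⊗ₜ[k] (1 : L) - (1 : L) ⊗ₜ[k] (θ b)) ^ (q ^ n) = 0 := by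
    rw [sub_pow_expChar_pow, Algebra.TensorProduct.tmul_pow, Algebra.TensorProduct.tmul_pow,
      one_pow, h1, Algebra.TensorProduct.tmul_one_eq_one_tmul, sub_self]
  have h3 : (θ b) ⊗ₜ[k] (1 : L) - (1 : L) ⊗ₜ[k] (θ b) = 0 :=
    IsReduced.eq_zero _ ⟨_, h2⟩
  obtain ⟨c', hc'⟩ := mem_range_of_tmul_one_eq k L (θ b) (sub_eq_zero.mp h3)
  refine ⟨c', θ.toRingHom.injective ?_⟩
  change θ (algebraMap k F c') = θ b
  rw [AlgHom.commutes, hc']

open scoped TensorProduct in
theorem S13959_main (k : Type u) [Field k] (L : Type u) [Field L] [Algebra k L]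
    [IsReduced (TensorProduct k L L)]
    (I E : Over (Spec (CommRingCat.of k))) [GrpObj I] [IsFinite I.hom] [Subsingleton ↥(I.left)]
    (a : AlgGrp.Action I E) (hE : NonAbH1.IsTorsorFor Scheme.fppfPrecoverage a)
    (hL : NonAbH1.HasSectionOver E (Spec.map (CommRingCat.ofHom (algebraMap k L)))) :
    NonAbH1.HasSectionOver E (𝟙 (Spec (CommRingCat.of k))) := by
  have hne : Nonempty I.left := ⟨η[I].left (default : Spec (CommRingCat.of k))⟩
  have hconn : ConnectedSpace I.left := { toPreconnectedSpace := inferInstance, toNonempty := hne }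
  obtain ⟨hps, -⟩ := hE
  obtain ⟨sL, hsL⟩ := hL
  obtain ⟨x, hx⟩ : ∃ x : E.left, x = sL (IsLocalRing.closedPoint L) := ⟨_, rfl⟩
  obtain ⟨θ', hθ'⟩ : ∃ θ' : E.left.residueField x ⟶ CommRingCat.of L,
      Spec.map θ' ≫ E.left.fromSpecResidueField x = sL := by
    subst hx
    exact ⟨_, Scheme.descResidueField_stalkClosedPointTo_fromSpecResidueField L E.left sL⟩
  obtain ⟨ψ, hψ⟩ : ∃ ψ : CommRingCat.of k ⟶ E.left.residueField x,
      Spec.map ψ = E.left.fromSpecResidueField x ≫ E.hom := ⟨Spec.preimage _, Spec.map_preimage _⟩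
  have hpi := isPurelyInseparable_of_injective_points k E.left E.hom
    (injective_points_of_torsor k I E a hps) x ψ hψ
  apply hasSection_of_bijective k E x ψ hψ
  have hcomp : ψ ≫ θ' = CommRingCat.ofHom (algebraMap k L) := by
    apply Spec.map_injective
    rw [Spec.map_comp, hψ, ← Category.assoc, hθ', hsL]
  algebraize [ψ.hom]
  obtain ⟨θ, hθ⟩ : ∃ θ : E.left.residueField x →ₐ[k] L, ∀ b, θ b = θ'.hom b :=
    ⟨{ θ'.hom with commutes' := fun c => congrArg (fun m => m.hom c) hcomp }, fun b => rfl⟩
  exact ⟨(algebraMap k (E.left.residueField x)).injective,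
    surjective_of_purelyInseparable_of_reduced k (E.left.residueField x) L θ⟩

end Groth.Agent.Lib.Helper4.TorsFC4
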