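import Mathlib
import Groth.Prelude.Def_Red
import Groth.Prelude.Def_MoreMor
import Groth.Prelude.Def_AbDual
import Groth.Agent.S4112
import Groth.Agent.Lib.Helper4.AbSchMulEtale1
import Groth.Agent.Lib.Helper7.FibEt.Smooth
import Groth.Agent.Lib.Helper7.SmoothSection
import Groth.Agent.Lib.Helper7.QuotEt
import Groth.Agent.Lib.Helper2.LfpOfComp

/-!
# N-torsion points of a smooth commutative group scheme over a henselian local ring lift uniquely from the residue field (N invertible) (helper4)
-/

set_option backward.isDefEq.respectTransparency.types false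
set_option synthInstance.maxHeartbeats 400000
set_option autoImplicit false
set_option linter.unusedSectionVars false
set_option linter.style.haveILetI false
set_option linter.unusedSimpArgs false
universe u v w
open CategoryTheory CategoryTheory.Limits AlgebraicGeometry TopologicalSpace Opposite
open MonoidalCategory CartesianMonoidalCategory MonObj GrpObj
open Groth.Agent.Lib.Helper4.AbSchMulEtale1

namespace Groth.Agent.Lib.Helper4.TorsHensel1

section Main
variable {S : Scheme.{u}} (X : Over S) [GrpObj X] [IsCommMonObj X] [Flat X.hom]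
  [LocallyOfFinitePresentation X.hom] [QuasiCompact X.hom]

open scoped Obj in
theorem etale_fibre (n : ℕ) (s : S) (hn : (n : S.residueField s) ≠ 0) :
    Etale ((Over.pullback (S.fromSpecResidueField s)).map ((𝟙 X) ^ n)).left := by
  have h0 := map_id_zpow (Over.pullback (S.fromSpecResidueField s)) X (n : ℤ)
  rw [zpow_natCast, zpow_natCast] at h0
  rw [h0]
  haveI hlft : LocallyOfFiniteType (Red.bc (S.fromSpecResidueField s) X).hom :=
    inferInstanceAs (LocallyOfFiniteType (pullback.snd X.hom (S.fromSpecResidueField s)))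
  haveI hqc : QuasiCompact (Red.bc (S.fromSpecResidueField s) X).hom :=
    inferInstanceAs (QuasiCompact (pullback.snd X.hom (S.fromSpecResidueField s)))
  haveI hcomm : IsCommMonObj (Red.bc (S.fromSpecResidueField s) X) := inferInstance
  exact Groth.Agent.S4112.result (S.residueField s) (Red.bc (S.fromSpecResidueField s) X) n hn

theorem etale_snd (n : ℕ) (s : S) (hn : (n : S.residueField s) ≠ 0) :
    Etale (pullback.snd ((𝟙 X) ^ n).left (X.hom.fiberι s)) := by
  have h := isPullback_map_left (S.fromSpecResidueField s) ((𝟙 X) ^ n)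
  have h' : IsPullback (X.hom.fiberι s)
      ((Over.pullback (S.fromSpecResidueField s)).map ((𝟙 X) ^ n)).left ((𝟙 X) ^ n).left
      (X.hom.fiberι s) := h.flip
  have e : pullback.snd ((𝟙 X) ^ n).left (X.hom.fiberι s) = h'.isoPullback.inv ≫
      ((Over.pullback (S.fromSpecResidueField s)).map ((𝟙 X) ^ n)).left :=
    (Iso.eq_inv_comp h'.isoPullback).mpr h'.isoPullback_hom_snd
  rw [e]
  exact (MorphismProperty.cancel_left_of_respectsIso @Etale _ _).mpr (etale_fibre X n s hn)

theorem natCast_ne_zero_of_isUnit (n : ℕ) (hn : IsUnit (n : Γ(S, ⊤))) (s : S) :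
    (n : S.residueField s) ≠ 0 := by
  let ψ : Γ(S, ⊤) →+* S.residueField s :=
    ((S.fromSpecResidueField s).appTop ≫ (Scheme.ΓSpecIso (S.residueField s)).hom).hom
  have h1 : IsUnit (ψ (n : Γ(S, ⊤))) := hn.map ψ
  rw [map_natCast] at h1
  exact h1.ne_zero

open Groth.Agent.Helper7.FibEt in
theorem etale_pow (n : ℕ) (hn : IsUnit (n : Γ(S, ⊤))) : Etale ((𝟙 X) ^ n).left := by
  obtain ⟨f, hf⟩ : ∃ f, f = ((𝟙 X) ^ n).left := ⟨_, rfl⟩
  have hfg : f ≫ X.hom = X.hom := by rw [hf]; exact Over.w _
  haveI hlfp' : LocallyOfFinitePresentation (f ≫ X.hom) := by rw [hfg]; infer_instance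
  haveI hlfp : LocallyOfFinitePresentation f :=
    Groth.Agent.Helper2.locallyOfFinitePresentation_of_comp f X.hom inferInstance hlfp'
  haveI hflat : Flat (f ≫ X.hom) := by rw [hfg]; infer_instance
  have het : ∀ s, Etale (pullback.snd f (X.hom.fiberι s)) := fun s => by
    rw [hf]; exact etale_snd X n s (natCast_ne_zero_of_isUnit n hn s)
  have hsm : Smooth f := by
    rw [← Scheme.Hom.smoothLocus_eq_top_iff]
    ext x
    simp only [Opens.coe_top, Set.mem_univ, iff_true]
    by_contra hx
    have h1 : Smooth (MoreMor.fiberMap f X.hom ((f ≫ X.hom) x)) := by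
      rw [← prop_snd_iff f X.hom @Smooth]
      haveI := het ((f ≫ X.hom) x)
      infer_instance
    exact (smooth_fiberMap_iff f X.hom ((f ≫ X.hom) x)
      (fun x' _ => Flat.stalkMap (f ≫ X.hom) x')).mp h1 ⟨x, hx, rfl⟩
  have hun : FormallyUnramified f := by
    refine of_forall_exists_nhd @FormallyUnramified f fun x => ?_
    have h1 : FormallyUnramified (MoreMor.fiberMap f X.hom ((f ≫ X.hom) x)) := by
      rw [← prop_snd_iff f X.hom @FormallyUnramified]
      haveI := het ((f ≫ X.hom) x)
      infer_instance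
    have h2 := (formallyUnramified_fiberMap_iff f X.hom ((f ≫ X.hom) x)).mp h1
    by_contra hx
    exact h2 ⟨x, hx, rfl⟩
  rw [← hf]
  exact (etale_iff_smooth_and_formallyUnramified f).mpr ⟨hsm, hun⟩

end Main


theorem preconnected_spec (R : Type u) [CommRing R] [IsLocalRing R] :
    PreconnectedSpace (PrimeSpectrum R) := by
  refine ⟨isPreconnected_of_forall (IsLocalRing.closedPoint R) (fun y _ =>
    ⟨closure {y}, Set.subset_univ _, ?_, subset_closure rfl, isPreconnected_singleton.closure⟩)⟩
  exact (specializes_iff_mem_closure).mp (IsLocalRing.specializes_closedPoint y)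

section Tors
variable {S : Scheme.{u}} (G : Over S) [GrpObj G] [IsCommMonObj G]

theorem pow_eq_one_iff (N : ℕ) (T : Over S) (a : T ⟶ G) :
    a ^ N = 1 ↔ a.left ≫ ((𝟙 G) ^ N).left = T.hom ≫ η[G].left := by
  have h1 : a ^ N = a ≫ (𝟙 G) ^ N := by rw [MonObj.comp_pow, Category.comp_id]
  have h2 : (toUnit T).left = T.hom := by
    have := Over.w (toUnit T)
    simpa using this
  rw [h1, Hom.one_def]
  constructor
  · intro h
    have := congrArg (fun m => m.left) h
    simpa only [Over.comp_left, h2] using this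
  · intro h
    apply Over.OverMorphism.ext
    simpa only [Over.comp_left, h2] using h

end Tors


open IsLocalRing in
theorem main (R : Type u) [CommRing R] [HenselianLocalRing R]
    (G : Over (Spec (CommRingCat.of R))) [GrpObj G] [IsCommMonObj G]
    [Smooth G.hom] [IsSeparated G.hom] [QuasiCompact G.hom]
    (N : ℕ) (hN : IsUnit (N : R))
    (τ : Over.mk (Spec.map (CommRingCat.ofHom (IsLocalRing.residue R))) ⟶ G)
    (hτ : τ ∈ AbDual.torsPts G N (Over.mk (Spec.map (CommRingCat.ofHom (IsLocalRing.residue R))))) :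
    ∃! σ : Over.mk (𝟙 (Spec (CommRingCat.of R))) ⟶ G,
      σ ∈ AbDual.torsPts G N (Over.mk (𝟙 (Spec (CommRingCat.of R)))) ∧
        Over.homMk (Spec.map (CommRingCat.ofHom (IsLocalRing.residue R))) (Category.comp_id _) ≫ σ = τ := by
  -- [N] is etale
  have hN' : IsUnit ((N : ℕ) : Γ(Spec (CommRingCat.of R), ⊤)) := by
    have := hN.map (Scheme.ΓSpecIso (CommRingCat.of R)).inv.hom
    rwa [map_natCast] at this
  obtain ⟨P, hP⟩ : ∃ P : G.left ⟶ G.left, P = ((𝟙 G) ^ N).left := ⟨_, rfl⟩
  haveI hPet : Etale P := by rw [hP]; exact etale_pow G N hN'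
  have hPG : P ≫ G.hom = G.hom := by rw [hP]; exact Over.w _
  haveI : IsSeparated (P ≫ G.hom) := by rw [hPG]; infer_instance
  haveI : IsSeparated P := IsSeparated.of_comp P G.hom
  obtain ⟨e, he⟩ : ∃ e : Spec (CommRingCat.of R) ⟶ G.left, e = η[G].left := ⟨_, rfl⟩
  have heG : e ≫ G.hom = 𝟙 _ := by
    rw [he]
    have := Over.w η[G]
    simpa using this
  -- the torsion subscheme
  let pZ : pullback P e ⟶ Spec (CommRingCat.of R) := pullback.snd P e
  haveI : Etale pZ := inferInstanceAs (Etale (pullback.snd P e))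
  haveI : IsSeparated pZ := inferInstanceAs (IsSeparated (pullback.snd P e))
  have hfstG : pullback.fst P e ≫ G.hom = pZ := by
    calc pullback.fst P e ≫ G.hom = pullback.fst P e ≫ P ≫ G.hom := by rw [hPG]
      _ = pullback.snd P e ≫ e ≫ G.hom := by rw [pullback.condition_assoc]
      _ = pZ := by rw [heG, Category.comp_id]
  have key : ∀ (T : Over (Spec (CommRingCat.of R))) (a : T ⟶ G),
      a ^ N = 1 ↔ a.left ≫ P = T.hom ≫ e := by
    intro T a; rw [hP, he]; exact pow_eq_one_iff G N T a
  haveI : PreconnectedSpace (Spec (CommRingCat.of R)) := preconnected_spec R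
  haveI : PreconnectedSpace ↥(Over.mk (𝟙 (Spec (CommRingCat.of R)))).left := preconnected_spec R
  -- uniqueness principle
  have huniq : ∀ σ₁ σ₂ : Over.mk (𝟙 (Spec (CommRingCat.of R))) ⟶ G,
      σ₁ ^ N = 1 → σ₂ ^ N = 1 →
      Spec.map (CommRingCat.ofHom (IsLocalRing.residue R)) ≫ σ₁.left =
        Spec.map (CommRingCat.ofHom (IsLocalRing.residue R)) ≫ σ₂.left → σ₁ = σ₂ := by
    intro σ₁ σ₂ h1 h2 h12
    have c1 : σ₁.left ≫ P = 𝟙 _ ≫ e := (key _ σ₁).mp h1
    have c2 : σ₂.left ≫ P = 𝟙 _ ≫ e := (key _ σ₂).mp h2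
    have hu : pullback.lift σ₁.left (𝟙 _) c1 = pullback.lift σ₂.left (𝟙 _) c2 := by
      refine Groth.Agent.Helper7.QuotEt.rigidity_point pZ _ _
        (by simp only [pZ, pullback.lift_snd])
        (Spec.map (CommRingCat.ofHom (IsLocalRing.residue R))) default ?_
      · apply pullback.hom_ext
        · simp only [Category.assoc, pullback.lift_fst, h12]
        · simp only [Category.assoc, pullback.lift_snd]
    apply Over.OverMorphism.ext
    have := congrArg (· ≫ pullback.fst P e) hu
    simpa only [pullback.lift_fst] using this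
  -- existence
  have cτ : τ.left ≫ P = Spec.map (CommRingCat.ofHom (IsLocalRing.residue R)) ≫ e :=
    (key _ τ).mp hτ
  obtain ⟨u, hu1, hu2⟩ := Groth.Agent.Helper7.SmoothSection.S5038_main R pZ
    (pullback.lift τ.left (Spec.map (CommRingCat.ofHom (IsLocalRing.residue R))) cτ)
    (pullback.lift_snd _ _ _)
  have hσG : (u ≫ pullback.fst P e) ≫ G.hom = 𝟙 _ := by
    rw [Category.assoc, hfstG, hu1]
  let σ : Over.mk (𝟙 (Spec (CommRingCat.of R))) ⟶ G :=
    Over.homMk (u ≫ pullback.fst P e) hσG
  have hσN : σ ^ N = 1 := by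
    rw [key]
    change (u ≫ pullback.fst P e) ≫ P = 𝟙 _ ≫ e
    rw [Category.assoc, pullback.condition, ← Category.assoc]
    change (u ≫ pZ) ≫ e = _
    rw [hu1]
  have hστ : Over.homMk (Spec.map (CommRingCat.ofHom (IsLocalRing.residue R)))
      (Category.comp_id _) ≫ σ = τ := by
    apply Over.OverMorphism.ext
    change Spec.map (CommRingCat.ofHom (IsLocalRing.residue R)) ≫ u ≫ pullback.fst P e = τ.left
    rw [← Category.assoc, hu2, pullback.lift_fst]
  refine ⟨σ, ⟨hσN, hστ⟩, ?_⟩
  rintro σ' ⟨h1, h2⟩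
  refine huniq σ' σ h1 hσN ?_
  have e1 := congrArg (fun m => m.left) h2
  have e2 := congrArg (fun m => m.left) hστ
  simp only [Over.comp_left, Over.homMk_left] at e1 e2
  rw [e1, e2]

end Groth.Agent.Lib.Helper4.TorsHensel1
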