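import Mathlib
import Groth.Prelude.Def_SGA7IX
import Groth.Agent.Lib.Helper4.TorsHensel1
import Groth.Agent.Lib.Helper4.DvrLift3

/-!
# prime-to-p torsion of a Neron model injects into the special fibre (S19509); field-valued points determined by image point when residue extension trivial (helper4) (helper4)
-/

set_option backward.isDefEq.respectTransparency.types false
set_option synthInstance.maxHeartbeats 400000
set_option autoImplicit false
set_option linter.unusedSectionVars false
set_option linter.style.haveILetI false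
set_option linter.unusedSimpArgs false
universe u v w
open CategoryTheory CategoryTheory.Limits AlgebraicGeometry TopologicalSpace Opposite
open MonoidalCategory CartesianMonoidalCategory MonObj GrpObj

namespace Groth.Agent.Lib.Helper4.TorsHensel2

/-- two field-valued points with the same image point and the same composite to the base agree, when the
residue field extension at the image point is trivial -/
theorem eq_of_apply_eq {Y B : Scheme.{u}} (p : Y ⟶ B) (k : Type u) [Field k]
    (a b : Spec (CommRingCat.of k) ⟶ Y) (hab : a ≫ p = b ≫ p)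
    (hpt : a (IsLocalRing.closedPoint k) = b (IsLocalRing.closedPoint k))
    (hsurj : ∀ y : Y, a (IsLocalRing.closedPoint k) = y → Function.Surjective (p.residueFieldMap y)) :
    a = b := by
  obtain ⟨⟨y₁, φ₁⟩, rfl⟩ := (Scheme.SpecToEquivOfField k Y).symm.surjective a
  obtain ⟨⟨y₂, φ₂⟩, rfl⟩ := (Scheme.SpecToEquivOfField k Y).symm.surjective b
  simp only [Scheme.SpecToEquivOfField_symm_apply] at hab hpt ⊢
  have h1 : (Spec.map φ₁ ≫ Y.fromSpecResidueField y₁) (IsLocalRing.closedPoint k) = y₁ := by
    rw [Scheme.Hom.comp_apply, Scheme.fromSpecResidueField_apply]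
  have h2 : (Spec.map φ₂ ≫ Y.fromSpecResidueField y₂) (IsLocalRing.closedPoint k) = y₂ := by
    rw [Scheme.Hom.comp_apply, Scheme.fromSpecResidueField_apply]
  have hy : y₁ = y₂ := by rw [← h1, ← h2]; exact hpt
  subst hy
  have hsurj := hsurj y₁ h1
  congr 1
  rw [Category.assoc, Category.assoc, ← Scheme.Hom.SpecMap_residueFieldMap_fromSpecResidueField,
    ← Category.assoc, ← Category.assoc, cancel_mono, ← Spec.map_comp, ← Spec.map_comp] at hab
  have h3 := Spec.map_injective hab
  haveI : Epi (p.residueFieldMap y₁) := ConcreteCategory.epi_of_surjective _ hsurj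
  congr 1
  rw [← cancel_epi (p.residueFieldMap y₁)]
  exact h3


theorem surjective_residueFieldMap_of_section {Y B : Scheme.{u}} (p : Y ⟶ B) (x : B ⟶ Y)
    (hx : x ≫ p = 𝟙 B) (s : B) : ∀ y : Y, x s = y → Function.Surjective (p.residueFieldMap y) := by
  rintro y rfl
  have hpt : (x ≫ p) s = (𝟙 B : B ⟶ B) s := by rw [hx]
  have h1 : p.residueFieldMap (x s) ≫ x.residueFieldMap s =
      (B.residueFieldCongr hpt).hom ≫ (𝟙 B : B ⟶ B).residueFieldMap s := by
    rw [← Scheme.residueFieldMap_comp]
    exact Scheme.Hom.residueFieldMap_congr hx s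
  have hinj : Function.Injective (x.residueFieldMap s) := (x.residueFieldMap s).hom.injective
  have hsur : Function.Surjective (B.residueFieldCongr hpt).hom :=
    ((ConcreteCategory.isIso_iff_bijective _).mp inferInstance).2
  have hid : ∀ d, ((𝟙 B : B ⟶ B).residueFieldMap s) d = d := fun d => by
    rw [Scheme.residueFieldMap_id]; rfl
  intro c
  obtain ⟨d, hd⟩ := hsur (x.residueFieldMap s c)
  refine ⟨d, hinj ?_⟩
  have e : (x.residueFieldMap s) ((p.residueFieldMap (x s)) d) =
      ((𝟙 B : B ⟶ B).residueFieldMap s) ((B.residueFieldCongr hpt).hom d) := by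
    exact congrArg (fun m => (ConcreteCategory.hom m) d) h1
  rw [e, hid]
  exact hd


open IsLocalRing in
/-- torsion sections of order invertible on a henselian local base which reduce to the unit point are trivial -/
theorem eq_one_of_pow_eq_one (R : Type u) [CommRing R] [HenselianLocalRing R]
    (G : Over (Spec (CommRingCat.of R))) [GrpObj G] [IsCommMonObj G]
    [Smooth G.hom] [IsSeparated G.hom] [QuasiCompact G.hom]
    (n : ℕ) (hn : IsUnit (n : R))
    (x : Over.mk (𝟙 (Spec (CommRingCat.of R))) ⟶ G) (hx : x ^ n = 1)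
    (hred : x.left.base (closedPoint R) = (η[G]).left.base (closedPoint R)) : x = 1 := by
  set res := Spec.map (CommRingCat.ofHom (IsLocalRing.residue R)) with hres
  let ρ : Over.mk res ⟶ Over.mk (𝟙 (Spec (CommRingCat.of R))) := Over.homMk res (Category.comp_id _)
  have hτ : (ρ ≫ (1 : Over.mk (𝟙 (Spec (CommRingCat.of R))) ⟶ G)) ∈
      AbDual.torsPts G n (Over.mk res) := by
    rw [AbDual.mem_torsPts, MonObj.comp_one, one_pow]
  obtain ⟨σ, -, huniq⟩ := Groth.Agent.Lib.Helper4.TorsHensel1.main R G n hn _ hτ
  have h1 : (1 : Over.mk (𝟙 (Spec (CommRingCat.of R))) ⟶ G) = σ :=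
    huniq 1 ⟨by rw [AbDual.mem_torsPts, one_pow], rfl⟩
  rw [h1]
  apply huniq x
  refine ⟨hx, ?_⟩
  apply Over.OverMorphism.ext
  show res ≫ x.left = res ≫ (1 : Over.mk (𝟙 (Spec (CommRingCat.of R))) ⟶ G).left
  have hone : (1 : Over.mk (𝟙 (Spec (CommRingCat.of R))) ⟶ G).left = (η[G]).left := by
    rw [Hom.one_def]
    have h2 : (toUnit (Over.mk (𝟙 (Spec (CommRingCat.of R))))).left = 𝟙 _ := by
      have := Over.w (toUnit (Over.mk (𝟙 (Spec (CommRingCat.of R)))))
      simpa using this
    rw [Over.comp_left, h2, Category.id_comp]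
  have hxw : x.left ≫ G.hom = 𝟙 _ := Over.w x
  have hηw : (η[G]).left ≫ G.hom = 𝟙 _ := by
    have := Over.w η[G]
    simpa using this
  have hcl : res (closedPoint (ResidueField R)) = closedPoint R := by
    rw [hres]
    exact IsLocalRing.comap_closedPoint (IsLocalRing.residue R)
  rw [hone]
  refine eq_of_apply_eq G.hom (ResidueField R) _ _ ?_ ?_ ?_
  · rw [Category.assoc, Category.assoc, hxw, hηw]
    rfl
  · rw [Scheme.Hom.comp_apply, Scheme.Hom.comp_apply, hcl]
    exact hred
  · intro y hy
    refine surjective_residueFieldMap_of_section G.hom x.left hxw (closedPoint R) y ?_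
    rw [← hy, Scheme.Hom.comp_apply, hcl]


theorem main19509 (R : Type u) [CommRing R] [IsDomain R]
    [IsDiscreteValuationRing R] [IsAdicComplete (IsLocalRing.maximalIdeal R) R] (K : Type u) [Field K] [Algebra R K]
    (p : ℕ) [Fact p.Prime] [CharP (IsLocalRing.ResidueField R) p]
    (N : Over (Spec (CommRingCat.of R))) [GrpObj N] [IsCommMonObj N] (hN : SGA7.IsNeron R K N)
    (x : 𝟙_ (Over (Spec (CommRingCat.of R))) ⟶ N) (n : ℕ) (hx : x ^ n = 1)
    (hred : x.left.base (IsLocalRing.closedPoint R) = (η[N]).left.base (IsLocalRing.closedPoint R))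
    (hnp : Nat.Coprime n p) : x = 1 := by
  haveI : HenselianLocalRing R :=
    Groth.Agent.Lib.Helper4.DvrLift3.henselianLocalRing_of_isAdicComplete' R
  obtain ⟨hsm, hsep, hqc, -⟩ := hN
  haveI := hsm; haveI := hsep; haveI := hqc
  have hunit : IsUnit (n : R) := by
    have hp : p.Prime := Fact.out
    have hnd : ¬ p ∣ n := fun h => by
      have := Nat.Coprime.eq_one_of_dvd hnp.symm h
      exact hp.one_lt.ne' this
    have h0 : ((n : ℕ) : IsLocalRing.ResidueField R) ≠ 0 := by
      rw [Ne, CharP.cast_eq_zero_iff (IsLocalRing.ResidueField R) p]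
      exact hnd
    have h1 : IsLocalRing.residue R (n : R) ≠ 0 := by rwa [map_natCast]
    rw [Ne, IsLocalRing.residue_eq_zero_iff] at h1
    by_contra hu
    exact h1 ((IsLocalRing.mem_maximalIdeal _).mpr hu)
  exact eq_one_of_pow_eq_one R N n hunit x hx hred

end Groth.Agent.Lib.Helper4.TorsHensel2
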