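import Mathlib
import Groth.Prelude.Def_NonAbH2
import Groth.Agent.Lib.Helper2.AlgSp.Descent
import Groth.Agent.Lib.Helper2.Sch.SmoothSlice
import Groth.Agent.Lib.Helper4.TorsFC2

/-!
# fppf torsors under smooth groups are etale-locally trivial (S14276) (helper4)
-/

set_option backward.isDefEq.respectTransparency.types false
set_option synthInstance.maxHeartbeats 400000
set_option autoImplicit false
set_option linter.unusedSectionVars false
set_option linter.style.haveILetI false
set_option linter.unusedSimpArgs false
universe u v w
open CategoryTheory CategoryTheory.Limits AlgebraicGeometry TopologicalSpace Opposite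
open MonoidalCategory CartesianMonoidalCategory MonObj GrpObj

namespace Groth.Agent.Lib.Helper4.TorsSmEt1

theorem main_S14276 {X : Scheme.{u}}
    (G : Over X) [GrpObj G] [Smooth G.hom] (P : Over X) (a : AlgGrp.Action G P)
    (h : NonAbH1.IsTorsorFor Scheme.fppfPrecoverage a) :
    NonAbH1.IsLocallyTrivialFor Scheme.etalePrecoverage P := by
  obtain ⟨hps, R, hR, hsec⟩ := h
  have hiso : IsIso (lift a.act (snd G P)) := hps
  have hsnd : Smooth (pullback.snd P.hom P.hom) := by
    have e : (lift a.act (snd G P)).left ≫ pullback.snd P.hom P.hom = pullback.snd G.hom P.hom := by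
      have := congrArg CommaMorphism.left (lift_snd a.act (snd G P))
      exact this
    haveI : IsIso (lift a.act (snd G P)).left := by
      have := (Over.forget X).map_isIso (lift a.act (snd G P))
      exact this
    have e2 : pullback.snd P.hom P.hom =
        inv (lift a.act (snd G P)).left ≫ pullback.snd G.hom P.hom := by
      rw [IsIso.eq_inv_comp, e]
    rw [e2]
    haveI : Smooth (pullback.snd G.hom P.hom) :=
      MorphismProperty.pullback_snd (P := @Smooth) G.hom P.hom inferInstance
    infer_instance
  haveI : MorphismProperty.IsLocalAtTarget (@Smooth : MorphismProperty Scheme.{u})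
      Scheme.fppfPrecoverage :=
    Groth.Agent.Helper2.AlgSpBasic.isLocalAtTarget_fppf_of_fpqc _
  have hsm : Smooth P.hom := by
    apply MorphismProperty.IsLocalAtTarget.of_forall_pullbackSnd (P := @Smooth)
      (K := Scheme.fppfPrecoverage) hR
    intro U g _ hg
    obtain ⟨s, hs⟩ := hsec g hg
    let l : pullback P.hom g ⟶ pullback P.hom P.hom :=
      pullback.lift (pullback.fst P.hom g) (pullback.snd P.hom g ≫ s) (by
        rw [Category.assoc, hs, pullback.condition])
    have sq : IsPullback l (pullback.snd P.hom g) (pullback.snd P.hom P.hom) s := by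
      refine IsPullback.of_right ?_ (pullback.lift_snd _ _ _) (IsPullback.of_hasPullback P.hom P.hom)
      have : l ≫ pullback.fst P.hom P.hom = pullback.fst P.hom g := pullback.lift_fst _ _ _
      rw [this, hs]
      exact IsPullback.of_hasPullback P.hom g
    exact MorphismProperty.of_isPullback sq hsnd
  have hsurj : Function.Surjective P.hom.base := by
    intro x
    obtain ⟨U, g, hRg, -, ⟨u0, hu0⟩⟩ :=
      Groth.Agent.Lib.Helper4.TorsFC2.exists_member_of_mem_precoverage _ hR x
    obtain ⟨s, hs⟩ := hsec g hRg
    refine ⟨s.base u0, ?_⟩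
    rw [← hu0, ← hs]
    rfl
  choose p hp using hsurj
  choose S' g s' hh hget hgs hhg using fun x : X =>
    Groth.Agent.Helper2.SchLib.exists_etale_section_of_smooth P.hom (p x)
  refine ⟨Presieve.ofArrows S' g, ?_, ?_⟩
  · unfold Scheme.etalePrecoverage
    rw [Scheme.ofArrows_mem_precoverage_iff]
    exact ⟨fun x => ⟨x, s' x, by rw [hgs, hp]⟩, hget⟩
  · rintro T f ⟨x⟩
    exact ⟨hh x, hhg x⟩

end Groth.Agent.Lib.Helper4.TorsSmEt1
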