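import Mathlib

/-!
# Graded algebras at torus-fixed points: degree-zero cotangent vanishing, homogeneity of local kernels (helper4)
-/

set_option backward.isDefEq.respectTransparency.types false
set_option synthInstance.maxHeartbeats 400000
set_option autoImplicit false
set_option linter.unusedSectionVars false
set_option linter.style.haveILetI false
set_option linter.unusedSimpArgs false
universe u v w x
open DirectSum

namespace Groth.Agent.Lib.Helper4.TorusGr1
open DirectSum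

variable {k : Type u} [Field k] {M : Type v} [AddCommGroup M] [DecidableEq M]
    {A : Type w} [CommRing A] [Algebra k A] (𝒜 : M → Submodule k A) [GradedAlgebra 𝒜]

/-- the degree-zero part of an element outside `m` is outside `m`. -/
theorem proj_zero_notMem (m : Ideal A)
    (hfix : ∀ i : M, i ≠ 0 → ∀ a ∈ 𝒜 i, a ∈ m) {s : A} (hs : s ∉ m) :
    ((decompose 𝒜 s 0 : 𝒜 0) : A) ∉ m := by
  classical
  intro h0
  apply hs
  rw [← DirectSum.sum_support_decompose 𝒜 s]
  refine Ideal.sum_mem _ fun i _ => ?_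
  by_cases hi : i = 0
  · subst hi; exact h0
  · exact hfix i hi _ (SetLike.coe_mem _)

/-- the `d`-component of `s * b` for `b` homogeneous of degree `i`. -/
theorem coe_decompose_mul_of_right_mem (s : A) {b : A} {i : M} (hb : b ∈ 𝒜 i) (d : M) :
    ((decompose 𝒜 (s * b) d : 𝒜 d) : A) = (decompose 𝒜 s (d - i) : 𝒜 (d - i)) * b := by
  have := DirectSum.coe_decompose_mul_add_of_right_mem 𝒜 (i := d - i) (a := s) hb
  rwa [sub_add_cancel] at this

theorem coe_decompose_mul_sum (s : A) (D : Finset M) (g : M → A) (hg : ∀ i, g i ∈ 𝒜 i) (d : M) :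
    ((decompose 𝒜 (s * ∑ i ∈ D, g i) d : 𝒜 d) : A) =
      ∑ i ∈ D, ((decompose 𝒜 s (d - i) : 𝒜 (d - i)) : A) * g i := by
  rw [Finset.mul_sum, DirectSum.decompose_sum, DFinsupp.finsetSum_apply,
    AddSubmonoidClass.coe_finsetSum]
  exact Finset.sum_congr rfl fun i _ => coe_decompose_mul_of_right_mem 𝒜 s (hg i) d

/-- S18790 -/
theorem mem_sq (m : Ideal A) [m.IsMaximal]
    (hfix : ∀ i : M, i ≠ 0 → ∀ a ∈ 𝒜 i, a ∈ m)
    (hred : ∀ a ∈ m, ∃ s ∉ m, s * a ∈ Ideal.span {b : A | ∃ i : M, i ≠ 0 ∧ b ∈ 𝒜 i})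
    {f : A} (hf0 : f ∈ 𝒜 0) (hfm : f ∈ m) : f ∈ m ^ 2 := by
  classical
  obtain ⟨s, hs, hsf⟩ := hred f hfm
  -- the degree zero part of anything in `J` lies in `m ^ 2`
  have key : ∀ x ∈ Ideal.span {b : A | ∃ i : M, i ≠ 0 ∧ b ∈ 𝒜 i},
      ∀ c : A, ((decompose 𝒜 (c * x) 0 : 𝒜 0) : A) ∈ m ^ 2 := by
    intro x hx
    induction hx using Submodule.span_induction with
    | mem b hb =>
      obtain ⟨i, hi, hbi⟩ := hb
      intro c
      rw [coe_decompose_mul_of_right_mem 𝒜 c hbi 0, pow_two]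
      refine Ideal.mul_mem_mul (hfix (0 - i) ?_ _ (SetLike.coe_mem _)) (hfix i hi _ hbi)
      simpa using hi
    | zero => intro c; simp
    | add x y _ _ hx hy =>
      intro c
      rw [mul_add, DirectSum.decompose_add, DirectSum.add_apply, Submodule.coe_add]
      exact Ideal.add_mem _ (hx c) (hy c)
    | smul a x _ hx =>
      intro c
      rw [smul_eq_mul, ← mul_assoc]
      exact hx (c * a)
  have h1 : ((decompose 𝒜 s 0 : 𝒜 0) : A) * f ∈ m ^ 2 := by
    have := key _ hsf 1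
    rw [one_mul, coe_decompose_mul_of_right_mem 𝒜 s hf0 0, sub_zero] at this
    exact this
  have hs0 := proj_zero_notMem 𝒜 m hfix hs
  obtain ⟨t, i, hi, hti⟩ := Ideal.IsMaximal.exists_inv ‹m.IsMaximal› hs0
  have : f = t * (((decompose 𝒜 s 0 : 𝒜 0) : A) * f) + i * f := by
    rw [← mul_assoc, ← add_mul, hti, one_mul]
  rw [this]
  refine Ideal.add_mem _ (Ideal.mul_mem_left _ _ h1) ?_
  rw [pow_two]
  exact Ideal.mul_mem_mul hi hfm

/-- the determinant trick: if `s ∉ m` kills `a` then some `t ∉ m` kills all homogeneous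
components of `a`. -/
theorem exists_kill_components (m : Ideal A) [m.IsMaximal]
    (hfix : ∀ i : M, i ≠ 0 → ∀ a ∈ 𝒜 i, a ∈ m) {s a : A} (hs : s ∉ m) (hsa : s * a = 0) :
    ∃ t ∉ m, ∀ i : M, t * ((decompose 𝒜 a i : 𝒜 i) : A) = 0 := by
  classical
  set D : Finset M := (decompose 𝒜 a).support with hD
  have ha : a = ∑ i ∈ D, ((decompose 𝒜 a i : 𝒜 i) : A) := (sum_support_decompose 𝒜 a).symm
  let S : Matrix D D A := Matrix.of fun d i => ((decompose 𝒜 s (d.1 - i.1) : 𝒜 (d.1 - i.1)) : A)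
  let v : D → A := fun i => ((decompose 𝒜 a i.1 : 𝒜 i.1) : A)
  have hSv : S.mulVec v = 0 := by
    funext d
    have h1 := coe_decompose_mul_sum 𝒜 s D (fun i => ((decompose 𝒜 a i : 𝒜 i) : A))
      (fun i => SetLike.coe_mem _) d.1
    rw [← ha, hsa] at h1
    simp only [DirectSum.decompose_zero, DirectSum.zero_apply, ZeroMemClass.coe_zero] at h1
    simp only [Matrix.mulVec, dotProduct, Pi.zero_apply, S, v, Matrix.of_apply]
    rw [Finset.sum_coe_sort D (fun i => ((decompose 𝒜 s (d.1 - i) : 𝒜 (d.1 - i)) : A) *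
      ((decompose 𝒜 a i : 𝒜 i) : A))]
    exact h1.symm
  have hdet : ∀ i : D, S.det * v i = 0 := by
    have h2 : (S.det • (1 : Matrix D D A)).mulVec v = 0 := by
      rw [← Matrix.adjugate_mul, ← Matrix.mulVec_mulVec, hSv, Matrix.mulVec_zero]
    rw [Matrix.smul_mulVec, Matrix.one_mulVec] at h2
    intro i
    have := congrFun h2 i
    simpa using this
  refine ⟨S.det, ?_, ?_⟩
  · intro hmem
    have hs0 := proj_zero_notMem 𝒜 m hfix hs
    have h3 : (Ideal.Quotient.mk m) S.det = 0 := Ideal.Quotient.eq_zero_iff_mem.mpr hmem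
    rw [RingHom.map_det] at h3
    have h4 : (Ideal.Quotient.mk m).mapMatrix S =
        Matrix.diagonal fun _ : D => (Ideal.Quotient.mk m) ((decompose 𝒜 s 0 : 𝒜 0) : A) := by
      ext d i
      by_cases hdi : d = i
      · subst hdi
        simp only [RingHom.mapMatrix_apply, Matrix.map_apply, Matrix.of_apply, S,
          Matrix.diagonal_apply_eq]
        rw [show d.1 - d.1 = 0 from sub_self _]
      · simp only [RingHom.mapMatrix_apply, Matrix.map_apply, Matrix.of_apply, S]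
        rw [Matrix.diagonal_apply_ne _ hdi]
        refine Ideal.Quotient.eq_zero_iff_mem.mpr (hfix _ ?_ _ (SetLike.coe_mem _))
        intro h
        exact hdi (Subtype.ext (sub_eq_zero.mp h))
    rw [h4, Matrix.det_diagonal, Finset.prod_const] at h3
    have hne : (Ideal.Quotient.mk m) ((decompose 𝒜 s 0 : 𝒜 0) : A) ≠ 0 :=
      fun h => hs0 (Ideal.Quotient.eq_zero_iff_mem.mp h)
    exact pow_ne_zero _ hne h3
  · intro i
    by_cases hi : i ∈ D
    · exact hdet ⟨i, hi⟩
    · have : (decompose 𝒜 a i : 𝒜 i) = 0 := by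
        simpa [hD, DFinsupp.mem_support_iff] using hi
      rw [this]; simp


variable {B : Type x} [CommRing B] [Algebra k B] (ℬ : M → Submodule k B) [GradedAlgebra ℬ]

theorem decompose_map (φ : B →ₐ[k] A) (hφ : ∀ i : M, ∀ b ∈ ℬ i, φ b ∈ 𝒜 i) (r : B) (i : M) :
    ((decompose 𝒜 (φ r) i : 𝒜 i) : A) = φ ((decompose ℬ r i : ℬ i) : B) := by
  classical
  induction r using DirectSum.Decomposition.inductionOn ℬ with
  | zero => simp
  | @homogeneous j b =>
    by_cases hij : j = i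
    · subst hij
      rw [DirectSum.decompose_of_mem_same 𝒜 (hφ j _ b.2), DirectSum.decompose_of_mem_same ℬ b.2]
    · rw [DirectSum.decompose_of_mem_ne 𝒜 (hφ j _ b.2) hij, DirectSum.decompose_of_mem_ne ℬ b.2 hij,
        map_zero]
  | add a b ha hb =>
    simp only [map_add, DirectSum.decompose_add, DirectSum.add_apply, Submodule.coe_add, ha, hb]

/-- S18791 -/
theorem isHomogeneous_ker (φ : B →ₐ[k] A) (hφ : ∀ i : M, ∀ b ∈ ℬ i, φ b ∈ 𝒜 i)
    (m : Ideal A) [m.IsMaximal] (hfix : ∀ i : M, i ≠ 0 → ∀ a ∈ 𝒜 i, a ∈ m) :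
    (RingHom.ker ((algebraMap A (Localization.AtPrime m)).comp (φ : B →+* A))).IsHomogeneous ℬ := by
  intro i r hr
  rw [RingHom.mem_ker, RingHom.comp_apply, IsLocalization.map_eq_zero_iff m.primeCompl] at hr ⊢
  obtain ⟨s, hs⟩ := hr
  obtain ⟨t, ht, hti⟩ := exists_kill_components 𝒜 m hfix (s := s.1) (a := φ r) s.2 hs
  refine ⟨⟨t, ht⟩, ?_⟩
  have := hti i
  rw [decompose_map 𝒜 ℬ φ hφ] at this
  exact this

end Groth.Agent.Lib.Helper4.TorusGr1
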