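import Mathlib
import Groth.Prelude.Def_Coh
import Groth.Prelude.Def_FlatMod2
import Groth.Prelude.Def_DDual2
import Groth.Prelude.Def_ega3
import Groth.Agent.Lib.Helper4.ExchAlg1
import Groth.Agent.Lib.Helper4.MumCx2

/-!
# The local criterion for the exchange property through the truncations A/m^(n+1) (Artin-Rees) (helper4)
-/

set_option backward.isDefEq.respectTransparency.types false
set_option synthInstance.maxHeartbeats 400000
set_option autoImplicit false
set_option linter.unusedSectionVars false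
set_option linter.style.haveILetI false
set_option linter.unusedSimpArgs false
universe u v w
open CategoryTheory
open CategoryTheory.Limits
open TensorProduct
open Groth.Agent.Lib.Helper4.HomEl1
open Groth.Agent.Lib.Helper4.ExchAlg1
open Groth.Agent.Lib.Helper4.MumCx2
open AlgebraicGeometry

namespace Groth.Agent.Lib.Helper4.TruncCrit1

variable {A : Type u} [CommRing A] (K : CochainComplex (ModuleCat.{u} A) ℤ)

section X2
variable (o p q : ℤ) (hop : o + 1 = p) (hpq : p + 1 = q)

include hop hpq in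
/-- a generalization of the connecting argument: if `T^p(N') → T^p(N)` is surjective, the kernel
of `B^q ⊗ N → K^q ⊗ N` is covered by the kernel of `B^q ⊗ N' → K^q ⊗ N'` -/
theorem exists_lift_ker_of_surjective {N' N : ModuleCat.{u} A} (g : N' ⟶ N)
    (hs : Function.Surjective ((CohIII.TFun K p).map g).hom) (x : (Bq K p q) ⊗[A] N)
    (hx : (Bq K p q).subtype.rTensor N x = 0) :
    ∃ x' : (Bq K p q) ⊗[A] N', (Bq K p q).subtype.rTensor N' x' = 0 ∧
      g.hom.lTensor (Bq K p q) x' = x := by
  obtain ⟨y'', rfl⟩ := LinearMap.rTensor_surjective N (sig_surjective K p q) x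
  have hy'' : y'' ∈ Zs (KM K N) p q := by
    change (K.d p q).hom.rTensor N y'' = 0
    rw [← subtype_comp_sig, LinearMap.rTensor_comp, LinearMap.comp_apply]
    exact hx
  obtain ⟨c, hc⟩ := hs (cls (KM K N) p q hpq ⟨y'', hy''⟩)
  obtain ⟨y, rfl⟩ := cls_surjective (KM K N') p q hpq c
  have hc' := (map_cls (CohIII.tensorMap K g) p q hpq y).symm.trans hc
  have hd : cls (KM K N) p q hpq
      (⟨((CohIII.tensorMap K g).f p).hom y.1, map_mem (CohIII.tensorMap K g) p q y⟩ -
        ⟨y'', hy''⟩) = 0 := by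
    rw [map_sub, hc', sub_self]
  obtain ⟨w, hw⟩ := (cls_eq_zero_iff (KM K N) o p q hop hpq _).1 hd
  have hw' : (K.d o p).hom.rTensor N w = g.hom.lTensor (K.X p) y.1 - y'' := hw
  refine ⟨(sig K p q).rTensor N' y.1, ?_, ?_⟩
  · rw [← LinearMap.comp_apply, ← LinearMap.rTensor_comp, subtype_comp_sig]
    exact y.2
  · have h4 : (sig K p q).rTensor N ((K.d o p).hom.rTensor N w) = 0 := by
      rw [← LinearMap.comp_apply, ← LinearMap.rTensor_comp, sig_comp_d K o p q,
        LinearMap.rTensor_zero, LinearMap.zero_apply]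
    have h6 : y'' = g.hom.lTensor (K.X p) y.1 - (K.d o p).hom.rTensor N w := by
      rw [hw']; abel
    rw [h6, map_sub, h4, sub_zero, ← LinearMap.comp_apply, ← LinearMap.comp_apply,
      LinearMap.lTensor_comp_rTensor, LinearMap.rTensor_comp_lTensor]

end X2

section AR
variable [IsLocalRing A] [IsNoetherianRing A]

open IsLocalRing in
/-- Artin–Rees: an element of `B ⊗ k` in the kernel of `B ⊗ k → Q ⊗ k` vanishes as soon as it lifts
to the kernel of `B ⊗ A/m^(n+1) → Q ⊗ A/m^(n+1)` for every `n` -/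
theorem rTensor_residue_injective_of_truncations {Q : Type u} [AddCommGroup Q] [Module A Q]
    [Module.Finite A Q] (B : Submodule A Q)
    (h : ∀ (n : ℕ) (x : B ⊗[A] (A ⧸ maximalIdeal A)),
      B.subtype.rTensor (A ⧸ maximalIdeal A) x = 0 →
      ∃ x' : B ⊗[A] (A ⧸ maximalIdeal A ^ (n + 1)),
        B.subtype.rTensor (A ⧸ maximalIdeal A ^ (n + 1)) x' = 0 ∧
        ((Ideal.Quotient.factorₐ A (Ideal.pow_le_self (I := maximalIdeal A)
          (Nat.succ_ne_zero n))).toLinearMap).lTensor B x' = x) :
    Function.Injective (B.subtype.rTensor (A ⧸ maximalIdeal A)) := by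
  rw [injective_iff_map_eq_zero]
  intro x hx
  obtain ⟨c, hc⟩ := Ideal.exists_pow_inf_eq_pow_smul (maximalIdeal A) B
  obtain ⟨x', hx', rfl⟩ := h c x hx
  -- `x'` is a pure tensor
  obtain ⟨b, hb⟩ := Submodule.mkQ_surjective _
    (TensorProduct.tensorQuotEquivQuotSMul B (maximalIdeal A ^ (c + 1)) x')
  have hx'b : x' = b ⊗ₜ[A] (1 : A ⧸ maximalIdeal A ^ (c + 1)) := by
    have := congrArg (TensorProduct.tensorQuotEquivQuotSMul B (maximalIdeal A ^ (c + 1))).symm hb
    rw [LinearEquiv.symm_apply_apply] at this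
    rw [← this]
    rfl
  subst hx'b
  -- `b` lies in `m^(c+1) Q`
  have h1 : (b : Q) ∈ (maximalIdeal A ^ (c + 1)) • (⊤ : Submodule A Q) := by
    rw [LinearMap.rTensor_tmul] at hx'
    have := congrArg (TensorProduct.tensorQuotEquivQuotSMul Q (maximalIdeal A ^ (c + 1))) hx'
    rw [map_zero] at this
    have h2 : TensorProduct.tensorQuotEquivQuotSMul Q (maximalIdeal A ^ (c + 1))
        ((b : Q) ⊗ₜ[A] (1 : A ⧸ maximalIdeal A ^ (c + 1))) = Submodule.Quotient.mk (b : Q) := by
      have := TensorProduct.tensorQuotEquivQuotSMul_tmul_mk (M := Q) (maximalIdeal A ^ (c + 1))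
        (b : Q) 1
      rw [one_smul] at this
      exact this
    rw [show B.subtype b = (b : Q) from rfl, h2] at this
    exact (Submodule.Quotient.mk_eq_zero _).1 this
  have h3 : (b : Q) ∈ maximalIdeal A ^ (c + 1) • (⊤ : Submodule A Q) ⊓ B := ⟨h1, b.2⟩
  rw [hc (c + 1) (by omega), show c + 1 - c = 1 by omega, pow_one] at h3
  have h4 : (b : Q) ∈ maximalIdeal A • B :=
    (smul_mono_right _ inf_le_right : maximalIdeal A • (maximalIdeal A ^ c • (⊤ : Submodule A Q) ⊓ B) ≤ maximalIdeal A • B) h3
  -- hence `b ∈ m • ⊤` inside `B`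
  have h5 : b ∈ maximalIdeal A • (⊤ : Submodule A B) := by
    have h6 : maximalIdeal A • B = (maximalIdeal A • (⊤ : Submodule A B)).map B.subtype := by
      rw [Submodule.map_smul'', Submodule.map_top, Submodule.range_subtype]
    rw [h6] at h4
    obtain ⟨b', hb', hbb'⟩ := h4
    have : b' = b := Subtype.ext hbb'
    rw [← this]
    exact hb'
  rw [LinearMap.lTensor_tmul]
  have h7 : (Ideal.Quotient.factorₐ A (Ideal.pow_le_self (I := maximalIdeal A)
      (Nat.succ_ne_zero c))).toLinearMap (1 : A ⧸ maximalIdeal A ^ (c + 1)) = 1 :=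
    map_one (Ideal.Quotient.factorₐ A (Ideal.pow_le_self (I := maximalIdeal A)
      (Nat.succ_ne_zero c)))
  rw [h7]
  apply (TensorProduct.tensorQuotEquivQuotSMul B (maximalIdeal A)).injective
  rw [map_zero]
  have h8 := TensorProduct.tensorQuotEquivQuotSMul_tmul_mk (M := B) (maximalIdeal A) b 1
  rw [one_smul] at h8
  refine h8.trans ?_
  exact (Submodule.Quotient.mk_eq_zero _).2 h5

end AR

section Main
variable [IsLocalRing A] [IsNoetherianRing A] (o p q : ℤ) (hop : o + 1 = p) (hpq : p + 1 = q)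

open IsLocalRing in
include hop hpq in
/-- **the local criterion for the exchange property, through the truncations** -/
theorem presSurj_of_truncations [Module.Finite A (K.X q)] [Module.Free A (K.X q)]
    (h : ∀ n : ℕ, Function.Surjective ((CohIII.TFun K p).map (ModuleCat.ofHom
        (Ideal.Quotient.factorₐ A (Ideal.pow_le_self (I := maximalIdeal A)
          (Nat.succ_ne_zero n))).toLinearMap :
        ModuleCat.of A (A ⧸ maximalIdeal A ^ (n + 1)) ⟶
          ModuleCat.of A (A ⧸ maximalIdeal A))).hom) :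
    PresSurj K p := by
  have h1 : Function.Injective ((Bq K p q).subtype.rTensor (A ⧸ maximalIdeal A)) := by
    apply rTensor_residue_injective_of_truncations
    intro n x hx
    exact exists_lift_ker_of_surjective K o p q hop hpq _ (h n) x hx
  haveI : IsNoetherian A (K.X q) := isNoetherian_of_isNoetherianRing_of_finite A _
  haveI : Module.Free A (K.X q ⧸ Bq K p q) :=
    Module.free_of_lTensor_residueField_injective (Bq K p q).subtype (Bq K p q).mkQ
      (Submodule.mkQ_surjective _) (LinearMap.exact_subtype_mkQ _)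
      ((LinearMap.lTensor_inj_iff_rTensor_inj _ _).2 h1)
  exact (presSurj_iff_flat K o p q hop hpq).2 inferInstance

end Main

theorem s4506 (A : Type u) [CommRing A]
    [IsNoetherianRing A] [IsLocalRing A] (X : Scheme.{u}) [X.Over (Spec (CommRingCat.of A))]
    [IsProper (X ↘ Spec (CommRingCat.of A))] (F : X.Modules) (hF : Coh.IsCoh F)
    (hfl : FlatMod.IsFlatOver (X ↘ Spec (CommRingCat.of A)) F) (p : ℕ) :
    (CohIII.tensorAFunctor A F ⋙ CohIII.HAb X p).PreservesEpimorphisms ↔
      ∀ n : ℕ, Function.Surjective ((CohIII.tensorAFunctor A F ⋙ CohIII.HAb X p).map (ModuleCat.ofHom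
        (Ideal.Quotient.factorₐ A (Ideal.pow_le_self (I := IsLocalRing.maximalIdeal A)
          (Nat.succ_ne_zero n))).toLinearMap :
        ModuleCat.of A (A ⧸ IsLocalRing.maximalIdeal A ^ (n + 1)) ⟶
          ModuleCat.of A (A ⧸ IsLocalRing.maximalIdeal A))).hom := by
  obtain ⟨K, hff, _, _, hiso⟩ := exists_mumford_complex A X F hF hfl
  obtain ⟨e⟩ := hiso p
  haveI := (hff ((p : ℤ) + 1)).1
  haveI := (hff ((p : ℤ) + 1)).2
  rw [preservesEpi_iff K (p : ℤ) e]
  constructor
  · intro h n
    rw [map_surjective_iff K (p : ℤ) e]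
    exact h _ _ _ (Ideal.Quotient.factor_surjective (Ideal.pow_le_self (I := IsLocalRing.maximalIdeal A)
      (Nat.succ_ne_zero n)))
  · intro h
    apply presSurj_of_truncations K ((p : ℤ) - 1) (p : ℤ) ((p : ℤ) + 1) (by omega) rfl
    intro n
    rw [← map_surjective_iff K (p : ℤ) e]
    exact h n

end Groth.Agent.Lib.Helper4.TruncCrit1
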