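import Mathlib
import Groth.Prelude
import Groth.Agent.Lib.Helper7.SHensFinite
import Groth.Agent.Lib.Helper7.SHens.Main
import Groth.Agent.Lib.Helper8.HensGU5
import Groth.Agent.Lib.Helper8.HensUB2
import Groth.Agent.Lib.Helper4.ChevCrit4

/-!
# Geometric unibranchness passes to quotients by nil ideals (helper4)
-/

set_option backward.isDefEq.respectTransparency.types false
set_option synthInstance.maxHeartbeats 400000
set_option autoImplicit false
set_option linter.unusedSectionVars false
set_option linter.style.haveILetI false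
set_option linter.unusedSimpArgs false
universe u v w
open CategoryTheory CategoryTheory.Limits AlgebraicGeometry TopologicalSpace Topology
open TensorProduct IsLocalRing

namespace Groth.Agent.Lib.Helper4.UniComp4

/-- primality of the nilradical is insensitive to surjections with nil kernel -/
theorem isPrime_nilradical_iff_of_surjective {T S : Type*} [CommRing T] [CommRing S] (f : T →+* S)
    (hf : Function.Surjective f) (hker : RingHom.ker f ≤ nilradical T) :
    (nilradical S).IsPrime ↔ (nilradical T).IsPrime := by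
  have hcomap : (nilradical S).comap f = nilradical T := by
    ext a
    rw [Ideal.mem_comap, mem_nilradical, mem_nilradical]
    constructor
    · rintro ⟨n, hn⟩
      rw [← map_pow] at hn
      have h1 : a ^ n ∈ nilradical T := hker hn
      rw [mem_nilradical] at h1
      exact IsNilpotent.of_pow h1
    · intro h
      exact h.map f
  constructor
  · intro h
    rw [← hcomap]
    exact Ideal.comap_isPrime f _
  · intro h
    have h1 : nilradical S = (nilradical T).map f := by
      rw [← hcomap, Ideal.map_comap_of_surjective f hf]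
    rw [h1]
    exact Ideal.map_isPrime_of_surjective hf hker

theorem isPrime_nilradical_of_ringEquiv {T S : Type*} [CommRing T] [CommRing S] (e : T ≃+* S)
    (h : (nilradical T).IsPrime) : (nilradical S).IsPrime :=
  (isPrime_nilradical_iff_of_surjective e.toRingHom e.surjective (by
    intro a ha
    have : a = 0 := by
      have h1 : e a = 0 := ha
      exact (map_eq_zero_iff e e.injective).mp h1
    rw [this]
    exact Ideal.zero_mem _)).mpr h

/-- geometric unibranchness passes to the quotient by a nil ideal -/
theorem isGeomUnibranch_quotient_of_le_nilradical (A : Type u) [CommRing A] [IsLocalRing A]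
    (I : Ideal A) (hI : I ≤ nilradical A) [IsLocalRing (A ⧸ I)]
    (hgu : CAlg2.IsGeomUnibranch A) : CAlg2.IsGeomUnibranch (A ⧸ I) := by
  classical
  obtain ⟨T, _, _, _, _, hT⟩ := Groth.Agent.Helper7.SHens.exists_isStrictHenselization A
  obtain ⟨T', _, _, _, _, hT'⟩ := Groth.Agent.Helper7.SHens.exists_isStrictHenselization (A ⧸ I)
  haveI := hT
  haveI := hT'
  rw [Groth.Agent.Helper8.HensGU.isGeomUnibranch_iff_hasUniqueMinimalPrime (A ⧸ I) T',
    Groth.Agent.Helper8.HensUB.hasUniqueMinimalPrime_iff_isPrime_nilradical]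
  rw [Groth.Agent.Helper8.HensGU.isGeomUnibranch_iff_hasUniqueMinimalPrime A T,
    Groth.Agent.Helper8.HensUB.hasUniqueMinimalPrime_iff_isPrime_nilradical] at hgu
  haveI : Module.Finite A (A ⧸ I) := Module.Finite.of_surjective (Ideal.Quotient.mkₐ A I).toLinearMap
    Ideal.Quotient.mk_surjective
  obtain ⟨𝔮, h𝔮max, ⟨e⟩⟩ := Groth.Agent.Helper7.SHensFinite.S5072_main A (A ⧸ I) T T'
  haveI := h𝔮max.isPrime
  let M := (A ⧸ I) ⊗[A] T
  let e0 : (T ⧸ I.map (algebraMap A T)) ≃ₐ[A ⧸ I] (A ⧸ I) ⊗[A] T :=
    Algebra.TensorProduct.quotIdealMapEquivQuotTensor T I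
  have hInil : I.map (algebraMap A T) ≤ nilradical T := by
    rw [Ideal.map_le_iff_le_comap]
    intro a ha
    rw [Ideal.mem_comap, mem_nilradical]
    exact (mem_nilradical.mp (hI ha)).map _
  have hmaple : I.map (algebraMap A T) ≤ maximalIdeal T := by
    refine hInil.trans ?_
    rw [nilradical_eq_sInf]
    exact sInf_le (inferInstance : (maximalIdeal T).IsPrime)
  haveI : Nontrivial (T ⧸ I.map (algebraMap A T)) :=
    Ideal.Quotient.nontrivial_iff.mpr (fun h => (maximalIdeal.isMaximal T).ne_top
      (top_le_iff.mp (h ▸ hmaple)))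
  haveI : IsLocalRing (T ⧸ I.map (algebraMap A T)) :=
    IsLocalRing.of_surjective' (Ideal.Quotient.mk _) Ideal.Quotient.mk_surjective
  haveI : IsLocalRing M := e0.toRingEquiv.isLocalRing
  have h𝔮 : 𝔮 = maximalIdeal M := IsLocalRing.eq_maximalIdeal h𝔮max
  have hunits : ∀ x ∈ 𝔮.primeCompl, IsUnit x := by
    intro x hx
    have hx' : x ∉ 𝔮 := hx
    rw [h𝔮] at hx'
    exact IsLocalRing.notMem_maximalIdeal.mp hx'
  let e1 : M ≃ₐ[M] Localization.AtPrime 𝔮 := IsLocalization.atUnits M 𝔮.primeCompl hunits
  have h1 : (nilradical (T ⧸ I.map (algebraMap A T))).IsPrime :=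
    (isPrime_nilradical_iff_of_surjective (Ideal.Quotient.mk (I.map (algebraMap A T)))
      Ideal.Quotient.mk_surjective (by rw [Ideal.mk_ker]; exact hInil)).mpr hgu
  have h2 : (nilradical M).IsPrime := isPrime_nilradical_of_ringEquiv e0.toRingEquiv h1
  have h3 : (nilradical (Localization.AtPrime 𝔮)).IsPrime :=
    isPrime_nilradical_of_ringEquiv e1.toRingEquiv h2
  exact isPrime_nilradical_of_ringEquiv e.toRingEquiv h3

/-- geometric unibranchness passes along surjections with nil kernel -/
theorem isGeomUnibranch_of_surjective (A B : Type u) [CommRing A] [IsLocalRing A] [CommRing B]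
    [IsLocalRing B] (φ : A →+* B) (hφ : Function.Surjective φ) (hker : RingHom.ker φ ≤ nilradical A)
    (hgu : CAlg2.IsGeomUnibranch A) : CAlg2.IsGeomUnibranch B := by
  let e : A ⧸ RingHom.ker φ ≃+* B := RingHom.quotientKerEquivOfSurjective hφ
  haveI : IsLocalRing (A ⧸ RingHom.ker φ) := e.symm.isLocalRing
  exact Groth.Agent.Lib.Helper4.ChevCrit4.isGeomUnibranch_of_ringEquiv e
    (isGeomUnibranch_quotient_of_le_nilradical A _ hker hgu)

end Groth.Agent.Lib.Helper4.UniComp4
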