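import Mathlib
import Groth.Prelude
import Groth.Agent.Lib.Helper4.UniComp1
import Groth.Agent.Lib.Helper4.UniComp2
import Groth.Agent.Lib.Helper4.UniComp3
import Groth.Agent.Lib.Helper4.ValFlat12
import Groth.Agent.Lib.Helper4.ValFlat16
import Groth.Agent.Lib.Lead.GUnib13

/-!
# EGA IV 15.2.3 over a base whose local ring is an integral geometrically unibranch ring (helper4)
-/

set_option backward.isDefEq.respectTransparency.types false
set_option synthInstance.maxHeartbeats 400000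
set_option autoImplicit false
set_option linter.unusedSectionVars false
set_option linter.style.haveILetI false
set_option linter.unusedSimpArgs false
universe u v w
open CategoryTheory CategoryTheory.Limits AlgebraicGeometry TopologicalSpace Topology

namespace Groth.Agent.Lib.Helper4.UniComp5

open Groth.Agent.Lib.Helper4.UniComp1 Groth.Agent.Lib.Helper4.UniComp2
  Groth.Agent.Lib.Helper4.UniComp3
open Groth.Agent.Lib.Helper4.FibDim1 Groth.Agent.Lib.Helper4.FibDim2 Groth.Agent.Lib.Helper4.Equi1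

/-- a reduced ring with at most one minimal prime is a domain -/
theorem isDomain_of_isReduced_of_encard_minimalPrimes_le_one (R : Type*) [CommRing R] [Nontrivial R]
    [IsReduced R] (h : (minimalPrimes R).encard ≤ 1) : IsDomain R := by
  obtain ⟨𝔭, h𝔭⟩ : (minimalPrimes R).Nonempty := by
    obtain ⟨𝔪, h𝔪⟩ := Ideal.exists_maximal R
    obtain ⟨𝔭, h𝔭, -⟩ := Ideal.exists_minimalPrimes_le (I := (⊥ : Ideal R)) (J := 𝔪) bot_le
    exact ⟨𝔭, h𝔭⟩
  have hall : minimalPrimes R = {𝔭} := by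
    ext 𝔮
    constructor
    · intro h𝔮
      exact Set.encard_le_one_iff.mp h 𝔮 𝔭 h𝔮 h𝔭
    · rintro rfl
      exact h𝔭
  have h1 : nilradical R = 𝔭 := by
    rw [nilradical, ← Ideal.sInf_minimalPrimes]
    change sInf (minimalPrimes R) = 𝔭
    rw [hall, sInf_singleton]
  have h2 : (⊥ : Ideal R).IsPrime := by
    have h3 : nilradical R = ⊥ := nilradical_eq_zero R
    rw [← h3, h1]
    exact h𝔭.1.1
  exact IsDomain.of_bot_isPrime R

theorem thmB {X Y : Scheme.{u}} [IsLocallyNoetherian Y] (f : X ⟶ Y) [LocallyOfFiniteType f] (x : X)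
    (hopen : ∀ z : ↥(f.fiber (f.base x)), f.asFiber x ∈ closure {z} →
      (∀ z' : ↥(f.fiber (f.base x)), z ∈ closure {z'} → z' = z) →
      EGA43.IsUnivOpenAt f ((f.fiberι (f.base x)).base z))
    (hint : FBase.IsGeomPtIntegralAt (f.fiberToSpecResidueField (f.base x)) (f.asFiber x))
    (hY : CAlg2.IsGeomUnibranch (Y.presheaf.stalk (f.base x)))
    (hdom : IsDomain (Y.presheaf.stalk (f.base x))) :
    (∃! Z : Set X, Z ∈ irreducibleComponents (X : Type u) ∧ x ∈ Z) ∧
      IsDomain (X.presheaf.stalk x) ∧ (f.stalkMap x).hom.Flat := by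
  haveI : IsLocallyNoetherian X := LocallyOfFiniteType.isLocallyNoetherian f
  haveI : LocallyOfFinitePresentation f :=
    LocallyOfFinitePresentation.iff_locallyOfFiniteType.mpr inferInstance
  have hred := isGeomReducedAt_of_isGeomPtIntegralAt _ _ hint
  haveI hdomF : IsDomain ((f.fiber (f x)).presheaf.stalk (f.asFiber x)) :=
    isDomain_stalk_of_isGeomPtIntegralAt_self _ _ hint
  obtain ⟨U, hxU, hUflat, hUred⟩ :=
    Groth.Agent.Lib.Helper4.ValFlat12.S3408_main f x hopen hred inferInstance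
  have hflat : ∀ u : X, u ∈ U → (f.stalkMap u).hom.Flat := by
    intro u hu
    haveI := hUflat
    exact (Groth.Agent.Lib.Helper6.EtLoc.flat_stalkMap_comp_iff U.ι f ⟨u, hu⟩).mpr
      (Flat.stalkMap (U.ι ≫ f) ⟨u, hu⟩)
  -- the generic point of the fibre
  obtain ⟨z₀, hz₀le, hz₀max⟩ := exists_isMax_ge (f.fiber (f x)) (f.asFiber x)
  have hz₀sp : z₀ ⤳ f.asFiber x := hz₀le
  have hz₀m : ∀ z' : ↥(f.fiber (f x)), z' ⤳ z₀ → z' = z₀ := by
    intro z' hsp'
    have h1 : z₀ ≤ z' := hsp'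
    have h2 : z₀ ⤳ z' := hz₀max h1
    exact (hsp'.antisymm h2).eq
  obtain ⟨ζ, hζ⟩ : ∃ ζ : X, ζ = f.fiberι (f x) z₀ := ⟨_, rfl⟩
  have hemb := (f.fiberι (f x)).isEmbedding
  have hfζ : f ζ = f x := by rw [hζ]; exact fiberι_mem f (f x) z₀
  have hspζ : ζ ⤳ x := by
    have := hz₀sp.map (f.fiberι (f x)).continuous
    rwa [f.fiberι_asFiber, ← hζ] at this
  have lift : ∀ ζ' : X, f ζ' = f x → ∃ z' : ↥(f.fiber (f x)), f.fiberι (f x) z' = ζ' := by
    intro ζ' h
    have : ζ' ∈ Set.range (f.fiberι (f x)) := by rw [f.range_fiberι]; exact h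
    exact this
  have hζmax : ∀ z' : X, f z' = f ζ → z' ⤳ ζ → z' = ζ := by
    intro z' hz' hsp'
    obtain ⟨w', rfl⟩ := lift z' (hz'.trans hfζ)
    rw [hζ] at hsp' ⊢
    rw [hemb.isInducing.specializes_iff] at hsp'
    rw [hz₀m w' hsp']
  have huniq : ∀ ζ' : X, f ζ' = f x → ζ' ⤳ x →
      (∀ z' : X, f z' = f ζ' → z' ⤳ ζ' → z' = ζ') → ζ' = ζ := by
    intro ζ' hfζ' hsp' hmax'
    obtain ⟨w', rfl⟩ := lift ζ' hfζ'
    have h1 : w' ⤳ f.asFiber x := by
      rw [← hemb.isInducing.specializes_iff, f.fiberι_asFiber]; exact hsp'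
    have h2 : ∀ z' : ↥(f.fiber (f x)), z' ⤳ w' → z' = w' := by
      intro z' hz'
      apply hemb.injective
      exact hmax' _ ((fiberι_mem f (f x) z').trans hfζ'.symm)
        (hz'.map (f.fiberι (f x)).continuous)
    rw [hζ, eq_of_max_of_isDomain_stalk (f.asFiber x) w' z₀ h1 h2 hz₀sp hz₀m]
  have heq : ∀ Z ∈ irreducibleComponents (↥(f.fiber (f x)) : Type u), f.asFiber x ∈ Z →
      topologicalKrullDim (↥Z : Type u) = (tr f ζ : ℕ) := by
    intro Z hZ hxZ
    have hZcl := isClosed_of_mem_irreducibleComponents Z hZ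
    obtain ⟨η, hη⟩ := QuasiSober.sober hZ.1 hZcl
    have hηx : η ⤳ f.asFiber x := hη.specializes hxZ
    have hηmax := Groth.Agent.Helper1.DomGen.genMax_of_mem_irreducibleComponents η
      (by rw [hη.def]; exact hZ)
    have hηz : η = z₀ := eq_of_max_of_isDomain_stalk (f.asFiber x) η z₀ hηx hηmax hz₀sp hz₀m
    have hZe : Z = closure ({z₀} : Set ↥(f.fiber (f x))) := by rw [← hη.def, hηz]
    subst hZe
    rw [hζ]
    exact dim_closure_eq_tr f (f x) z₀
  have hequi := Groth.Agent.Lib.Helper4.ValFlat16.S3409_main f x hopen hred ⟨tr f ζ, heq⟩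
  obtain ⟨e, U', hxU', -, H2⟩ := isEquidimAt_facts f x hequi
  have hζsm : ζ ∈ f.smoothLocus :=
    mem_smoothLocus_of_fibre_generic f x ζ hfζ hspζ hζmax (hflat ζ (hspζ.mem_open U.2 hxU)) hred
  have hYζ : CAlg2.IsGeomUnibranch (Y.presheaf.stalk (f ζ)) := by
    have : ∀ y : Y, y = f x → CAlg2.IsGeomUnibranch (Y.presheaf.stalk y) := by
      rintro _ rfl
      exact hY
    exact this _ hfζ
  have hcount := encard_minimalPrimes_stalk_le_one_of_smooth f ζ hζsm hYζ
  rw [← Groth.Agent.Lead.GUnib.encard_components_eq X ζ] at hcount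
  have huc : ∃! Z : Set X, Z ∈ irreducibleComponents (X : Type u) ∧ x ∈ Z := by
    obtain ⟨Z, hZ, hxZ⟩ :=
      exists_mem_irreducibleComponents_subset_of_isIrreducible ({x} : Set X) isIrreducible_singleton
    refine ⟨Z, ⟨hZ, hxZ rfl⟩, ?_⟩
    rintro Z' ⟨hZ', hxZ'⟩
    have m1 := mem_component_of_fibre_generic f x ζ hfζ hspζ hζmax huniq e U' hxU' H2 Z hZ (hxZ rfl)
    have m2 := mem_component_of_fibre_generic f x ζ hfζ hspζ hζmax huniq e U' hxU' H2 Z' hZ' hxZ'
    exact Set.encard_le_one_iff.mp hcount Z' Z ⟨hZ', m2⟩ ⟨hZ, m1⟩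
  refine ⟨huc, ?_, hflat x hxU⟩
  have hredx : _root_.IsReduced (X.presheaf.stalk x) := by
    haveI := hUred
    haveI : _root_.IsReduced ((U : Scheme.{u}).presheaf.stalk ⟨x, hxU⟩) := inferInstance
    exact isReduced_of_injective (U.ι.stalkMap ⟨x, hxU⟩).hom
      ((ConcreteCategory.bijective_of_isIso (U.ι.stalkMap ⟨x, hxU⟩)).injective)
  have hmin1 : (minimalPrimes (X.presheaf.stalk x)).encard ≤ 1 := by
    rw [← Groth.Agent.Lead.GUnib.encard_components_eq X x, Set.encard_le_one_iff]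
    rintro Z₁ Z₂ ⟨h1, h1'⟩ ⟨h2, h2'⟩
    exact huc.unique ⟨h1, h1'⟩ ⟨h2, h2'⟩
  exact isDomain_of_isReduced_of_encard_minimalPrimes_le_one _ hmin1

end Groth.Agent.Lib.Helper4.UniComp5
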