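import Mathlib
import Groth.Prelude
import Groth.Agent.Lib.Helper4.UniComp1
import Groth.Agent.Lib.Helper4.UniComp4
import Groth.Agent.Lib.Helper4.UniComp5
import Groth.Agent.Lib.Helper4.ValFlat13
import Groth.Agent.Lib.Lead.GUnib12

/-!
# EGA IV 15.2.3: unique irreducible component through a point with geometrically integral fibre over a geometrically unibranch base (S3410) (helper4)
-/

set_option backward.isDefEq.respectTransparency.types false
set_option synthInstance.maxHeartbeats 400000
set_option autoImplicit false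
set_option linter.unusedSectionVars false
set_option linter.style.haveILetI false
set_option linter.unusedSimpArgs false
universe u v w
open CategoryTheory CategoryTheory.Limits AlgebraicGeometry TopologicalSpace Topology

namespace Groth.Agent.Lib.Helper4.UniComp6

open Groth.Agent.Lib.Helper4.UniComp1 Groth.Agent.Lib.Helper4.UniComp4
  Groth.Agent.Lib.Helper4.UniComp5 Groth.Agent.Lib.Helper4.Equi1
  Groth.Agent.Lib.Helper4.ValFlat13

/-- for a surjective closed immersion the kernels of the stalk maps are nil -/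
theorem ker_stalkMap_le_nilradical {Y' Y : Scheme.{u}} (i : Y' ⟶ Y) [IsClosedImmersion i]
    [Surjective i] (y' : Y') :
    RingHom.ker (i.stalkMap y').hom ≤ nilradical (Y.presheaf.stalk (i y')) := by
  rw [nilradical_eq_sInf]
  refine le_sInf ?_
  intro P hP
  have hPp : P.IsPrime := hP
  have hv : Y.fromSpecStalk (i y') ⟨P, hPp⟩ ⤳ i y' := fromSpecStalk_specializes _ _
  obtain ⟨w, hw⟩ := i.surjective (Y.fromSpecStalk (i y') ⟨P, hPp⟩)
  have hwy : w ⤳ y' := by
    rw [← i.isClosedEmbedding.isInducing.specializes_iff, hw]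
    exact hv
  obtain ⟨Q, hQ⟩ : w ∈ Set.range (Y'.fromSpecStalk y') := by
    rw [Scheme.range_fromSpecStalk]
    exact hwy
  have h1 := map_fromSpecStalk i y' Q
  rw [hQ, hw] at h1
  have h2 := (Y.fromSpecStalk (i y')).isEmbedding.injective h1
  have h3 : P = Q.asIdeal.comap (i.stalkMap y').hom := congrArg PrimeSpectrum.asIdeal h2
  rw [h3]
  intro a ha
  rw [Ideal.mem_comap, RingHom.mem_ker.mp ha]
  exact Ideal.zero_mem _

open Groth.Agent.Helper7.GeomConn in
/-- EGA IV 15.2.3 -/
theorem S3410_main {X Y : Scheme.{u}} [IsLocallyNoetherian Y]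
    (f : X ⟶ Y) [LocallyOfFiniteType f] (x : X)
    (hopen : ∀ z : ↥(f.fiber (f.base x)), f.asFiber x ∈ closure {z} →
      (∀ z' : ↥(f.fiber (f.base x)), z ∈ closure {z'} → z' = z) →
      EGA43.IsUnivOpenAt f ((f.fiberι (f.base x)).base z))
    (hint : FBase.IsGeomPtIntegralAt (f.fiberToSpecResidueField (f.base x)) (f.asFiber x))
    (hY : CAlg2.IsGeomUnibranch (Y.presheaf.stalk (f.base x))) :
    (∃! Z : Set X, Z ∈ irreducibleComponents (X : Type u) ∧ x ∈ Z) ∧
      (IsDomain (Y.presheaf.stalk (f.base x)) →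
        IsDomain (X.presheaf.stalk x) ∧ (f.stalkMap x).hom.Flat) := by
  refine ⟨?_, fun hdom => (thmB f x hopen hint hY hdom).2⟩
  let i := Y.nilradical.subschemeι
  haveI hredY' : IsReduced Y.nilradical.subscheme :=
    Groth.Agent.Lib.Helper4.FiberChart.isReduced_nilradical_subscheme Y
  haveI hsurj : Surjective i := by
    constructor
    rw [← Set.range_eq_univ, Scheme.IdealSheafData.range_subschemeι, Scheme.support_nilradical]
    rfl
  haveI : IsLocallyNoetherian Y.nilradical.subscheme :=
    LocallyOfFiniteType.isLocallyNoetherian i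
  let f' := pullback.snd f i
  let g' := pullback.fst f i
  have hc : IsPullback g' f' f i := IsPullback.of_hasPullback f i
  haveI : Surjective g' := inferInstance
  haveI : IsClosedImmersion g' := inferInstance
  obtain ⟨x', rfl⟩ := g'.surjective x
  have hcomm : ∀ p : ↥(pullback f i), f (g' p) = i (f' p) := by
    intro p
    have := congr($(hc.w) p)
    simpa [Scheme.Hom.comp_apply] using this
  have hopen' := hopen_baseChange f f' g' i hc x' hopen
  have htr : ∀ p : ↥(pullback f i),
      f.fiberι (f (g' p)) (f.asFiber (g' p)) =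
        f.fiberι (i (f' p)) (fibreMap f f' g' i hc (f' p) (f'.asFiber p)) := by
    intro p
    rw [f.fiberι_asFiber, ← Scheme.Hom.comp_apply, fibreMap_fiberι, Scheme.Hom.comp_apply,
      f'.fiberι_asFiber]
  have hint' : FBase.IsGeomPtIntegralAt (f'.fiberToSpecResidueField (f' x')) (f'.asFiber x') := by
    apply isGeomPtIntegralAt_fibre_ascend f f' g' i hc (f' x') (f'.asFiber x')
    exact isGeomPtIntegralAt_fiber_congr f _ _ (hcomm x') (f.asFiber (g' x')) _ (htr x') hint
  have hY1 : CAlg2.IsGeomUnibranch (Y.presheaf.stalk (i (f' x'))) := by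
    have : ∀ y : Y, f (g' x') = y → CAlg2.IsGeomUnibranch (Y.presheaf.stalk y) := by
      rintro _ rfl
      exact hY
    exact this _ (hcomm x')
  have hY' : CAlg2.IsGeomUnibranch (Y.nilradical.subscheme.presheaf.stalk (f' x')) :=
    isGeomUnibranch_of_surjective _ _ (i.stalkMap (f' x')).hom (i.stalkMap_surjective _)
      (ker_stalkMap_le_nilradical i _) hY1
  have hdom' : IsDomain (Y.nilradical.subscheme.presheaf.stalk (f' x')) :=
    Groth.Agent.Lead.GUnib.isDomain_of_isReduced_of_isGeomUnibranch _ hY'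
  obtain ⟨huc', -, -⟩ := thmB f' x' hopen' hint' hY' hdom'
  have hg'open : IsOpenMap g' :=
    (g'.isClosedEmbedding.isEmbedding.toHomeomorphOfSurjective g'.surjective).isOpenMap
  have hoe : IsOpenEmbedding g' := ⟨g'.isClosedEmbedding.isEmbedding, hg'open.isOpen_range⟩
  obtain ⟨Z, hZ, hxZ⟩ :=
    exists_mem_irreducibleComponents_subset_of_isIrreducible ({g' x'} : Set X)
      isIrreducible_singleton
  refine ⟨Z, ⟨hZ, hxZ rfl⟩, ?_⟩
  rintro Z' ⟨hZ', hxZ'⟩
  have p1 := preimage_mem_irreducibleComponents hZ hoe ⟨g' x', hxZ rfl, x', rfl⟩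
  have p2 := preimage_mem_irreducibleComponents hZ' hoe ⟨g' x', hxZ', x', rfl⟩
  have h3 : g' ⁻¹' Z' = g' ⁻¹' Z :=
    huc'.unique ⟨p2, hxZ'⟩ ⟨p1, hxZ rfl⟩
  exact (Set.preimage_injective.mpr g'.surjective) h3

end Groth.Agent.Lib.Helper4.UniComp6
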