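import Mathlib
import Groth.Prelude.Def_PicRel2
import Groth.Prelude.Def_Pic
import Groth.Prelude.Def_CohB1
import Groth.Prelude.Def_Pi1
import Groth.Agent.Lib.Helper4.UnitFLF2

/-!
# pullback of invertible modules is injective on classes when O_S = f_*O_X: S5683 (helper4)
-/

set_option backward.isDefEq.respectTransparency.types false
set_option synthInstance.maxHeartbeats 400000
set_option autoImplicit false
set_option linter.unusedSectionVars false
set_option linter.style.haveILetI false
set_option linter.unusedSimpArgs false
universe u v w
open CategoryTheory CategoryTheory.Limits AlgebraicGeometry TopologicalSpace Opposite MonoidalCategory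
open Groth.Agent.Helper1 Groth.Agent.Lib.Helper4.UnitFLF1

namespace Groth.Agent.Lib.Helper4.UnitFLF3
variable {X S : Scheme.{u}} (f : X ⟶ S)

theorem s5683 (hf : ∀ U : S.Opens, Function.Bijective (f.app U)) (L : S.Modules) (hL : PicF.IsInvertible L)
    (htriv : Nonempty ((Scheme.Modules.pullback f).obj L ≅ Coh.structureModule X)) :
    Nonempty (L ≅ Coh.structureModule S) := by
  obtain ⟨e⟩ := htriv
  let adj := Scheme.Modules.pullbackPushforwardAdjunction f
  haveI h1 : IsIso (adj.unit.app L) :=
    isIso_unit_of_isFinLocFree f hf L (InvInv2.isFinLocFree_of_isInvertible hL)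
  haveI h2 : IsIso (adj.unit.app (Coh.structureModule S)) := isIso_unit_structure f hf
  exact ⟨asIso (adj.unit.app L) ≪≫ (Scheme.Modules.pushforward f).mapIso e ≪≫
    (Scheme.Modules.pushforward f).mapIso (PullSec.unitIso f).symm ≪≫
    (asIso (adj.unit.app (Coh.structureModule S))).symm⟩

end Groth.Agent.Lib.Helper4.UnitFLF3
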