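import Mathlib
import Groth.Prelude.Def_CInt
import Groth.Prelude.Def_Flat

/-!
# Universal homeomorphisms from sections with schematically dense locus (helper4)
-/

set_option backward.isDefEq.respectTransparency.types false
set_option synthInstance.maxHeartbeats 400000
set_option autoImplicit false
set_option linter.unusedSectionVars false
set_option linter.style.haveILetI false
set_option linter.unusedSimpArgs false
universe u v w
open CategoryTheory CategoryTheory.Limits AlgebraicGeometry TopologicalSpace IsLocalRing Opposite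

namespace Groth.Agent.Lib.Helper4.UnivHomeoSection1

/-- a surjective closed immersion is a universal homeomorphism -/
theorem isUnivHomeo_of_closedImm_surj {S X : Scheme.{u}} (e : S ⟶ X) [IsClosedImmersion e]
    [Surjective e] : FlatMor.IsUnivHomeo e := by
  intro X' Y' i₁ i₂ f' hpb
  have h1 : IsClosedImmersion f' := MorphismProperty.of_isPullback hpb.flip ‹IsClosedImmersion e›
  have h3 : Surjective f' := MorphismProperty.of_isPullback hpb.flip ‹Surjective e›
  change IsHomeomorph f'
  rw [isHomeomorph_iff_isEmbedding_surjective]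
  exact ⟨f'.isClosedEmbedding.isEmbedding, f'.surjective⟩

/-- if `e ≫ f = 𝟙` and `e` is a universal homeomorphism then so is `f` -/
theorem isUnivHomeo_of_section {X S : Scheme.{u}} (f : X ⟶ S) (e : S ⟶ X) (he : e ≫ f = 𝟙 S)
    (hu : FlatMor.IsUnivHomeo e) : FlatMor.IsUnivHomeo f := by
  intro X' Y' i₁ i₂ f' hpb
  -- hpb : IsPullback f' i₁ i₂ f
  have hleft : IsPullback (pullback.snd e i₁) (pullback.fst e i₁) i₁ e :=
    (IsPullback.of_hasPullback e i₁).flip
  have hs : IsHomeomorph (pullback.snd e i₁) := hu _ _ _ hleft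
  have hpaste := hleft.paste_horiz hpb
  rw [he] at hpaste
  haveI : IsIso (pullback.snd e i₁ ≫ f') := hpaste.isIso_fst_of_isIso
  have hc : IsHomeomorph (pullback.snd e i₁ ≫ f') :=
    (pullback.snd e i₁ ≫ f').homeomorph.isHomeomorph
  change IsHomeomorph f'
  obtain ⟨φ, hφ⟩ := isHomeomorph_iff_exists_homeomorph.mp hs
  obtain ⟨ψ, hψ⟩ := isHomeomorph_iff_exists_homeomorph.mp hc
  rw [isHomeomorph_iff_exists_homeomorph]
  refine ⟨φ.symm.trans ψ, ?_⟩
  funext x
  obtain ⟨t, rfl⟩ := φ.surjective x
  simp only [Homeomorph.trans_apply, Homeomorph.symm_apply_apply]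
  rw [hψ, hφ]
  rfl

theorem main {X S : Scheme.{u}} (f : X ⟶ S)
    [QuasiCompact f] [IsSeparated f] (U : S.Opens)
    (hdense : CInt.IsSchematicallyDense (f ⁻¹ᵁ U)) (hU : IsHomeomorph (f ∣_ U).base)
    (e : S ⟶ X) (he : e ≫ f = 𝟙 S) :
    FlatMor.IsUnivHomeo f ∧ (LocallyOfFiniteType f → IsFinite f) := by
  haveI : IsClosedImmersion (e ≫ f) := by rw [he]; infer_instance
  haveI : IsClosedImmersion e := IsClosedImmersion.of_comp e f
  -- the range of `e` contains `f ⁻¹ U`
  have hsub : ((f ⁻¹ᵁ U : X.Opens) : Set X) ⊆ Set.range e := by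
    intro x hx
    refine ⟨f x, ?_⟩
    have h1 : f (e (f x)) = f x := by
      rw [← Scheme.Hom.comp_apply, he]; rfl
    have hx' : e (f x) ∈ f ⁻¹ᵁ U := by
      change f (e (f x)) ∈ U
      rw [h1]; exact hx
    have hinj := hU.injective
    have h2 : (f ∣_ U) ⟨e (f x), hx'⟩ = (f ∣_ U) ⟨x, hx⟩ := by
      apply Subtype.ext
      rw [morphismRestrict_base_coe, morphismRestrict_base_coe]
      exact h1
    exact congrArg Subtype.val (hinj h2)
  -- `f ⁻¹ U` is dense
  have hd : Dense ((f ⁻¹ᵁ U : X.Opens) : Set X) := by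
    rw [dense_iff_inter_open]
    intro V hV hne
    by_contra hempty
    rw [Set.not_nonempty_iff_eq_empty] at hempty
    let V' : X.Opens := ⟨V, hV⟩
    have hbot : V' ⊓ f ⁻¹ᵁ U = ⊥ := by
      ext x
      simp only [Opens.coe_inf, Opens.coe_bot]
      exact Set.ext_iff.mp hempty x
    have hinj := hdense V'
    have h10 : (1 : Γ(X, V')) = 0 := by
      apply hinj
      haveI : Subsingleton Γ(X, V' ⊓ f ⁻¹ᵁ U) := by
        rw [hbot]; infer_instance
      exact Subsingleton.elim _ _
    have hV0 : V' = ⊥ := by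
      have : X.basicOpen (1 : Γ(X, V')) = V' := by simp
      rw [← this, h10]
      simp
    obtain ⟨x, hx⟩ := hne
    have : x ∈ V' := hx
    rw [hV0] at this
    exact this
  haveI hsurj : Surjective e := by
    refine ⟨fun x => ?_⟩
    have hcl : IsClosed (Set.range e) := e.isClosedEmbedding.isClosed_range
    have : closure ((f ⁻¹ᵁ U : X.Opens) : Set X) ⊆ Set.range e := hcl.closure_subset_iff.mpr hsub
    rw [hd.closure_eq] at this
    exact this (Set.mem_univ x)
  have hmain : FlatMor.IsUnivHomeo f := isUnivHomeo_of_section f e he (isUnivHomeo_of_closedImm_surj e)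
  refine ⟨hmain, fun hlft => ?_⟩
  haveI : UniversallyClosed f := ⟨fun X' Y' i₁ i₂ f' hpb => (hmain i₁ i₂ f' hpb).isClosedMap⟩
  haveI : IsProper f := {}
  have hinj : Function.Injective f := by
    have := hmain (𝟙 X) (𝟙 S) f (IsPullback.of_id_snd)
    exact this.injective
  haveI : LocallyQuasiFinite f := LocallyQuasiFinite.of_injective hinj
  exact IsFinite.of_isProper_of_locallyQuasiFinite f

end Groth.Agent.Lib.Helper4.UnivHomeoSection1
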