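import Mathlib
import Groth.Agent.Lib.Helper4.UnivOpen2

set_option backward.isDefEq.respectTransparency.types false
set_option synthInstance.maxHeartbeats 400000
set_option autoImplicit false
set_option linter.unusedSectionVars false
set_option linter.style.haveILetI false

namespace Groth.Agent.Lib.Helper4.UOp

universe u
open CategoryTheory CategoryTheory.Limits AlgebraicGeometry AffineSpace MvPolynomial EGA43
open Groth.Agent.Lib.Helper4.UC
open scoped Topology
open Topology

section S2558
variable {X Y : Scheme.{u}} (f : X ⟶ Y)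

theorem S2558_main [LocallyOfFinitePresentation f]
    (h : ∀ (Y' : Scheme.{u}) (g : Y' ⟶ Y) [IrreducibleSpace Y'] [LocallyOfFiniteType g] [QuasiCompact g],
      ∀ Z ∈ irreducibleComponents (↥(pullback f g) : Type u), Dense ((pullback.snd f g).base '' Z)) :
    UniversallyOpen f := by
  apply universallyOpen_of_forall_isUnivOpenAt
  intro x
  apply isUnivOpenAt_of_lifting
  intro n z hz t' ht' hne
  set 𝓘 := Scheme.IdealSheafData.vanishingIdeal (X := 𝔸(ULift.{u} (Fin n); Y))
    ⟨closure {t'}, isClosed_closure⟩ with h𝓘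
  set T := 𝓘.subscheme with hT
  set ι : T ⟶ 𝔸(ULift.{u} (Fin n); Y) := 𝓘.subschemeι with hι
  have hrange : Set.range ι.base = closure {t'} := by
    rw [hι, Scheme.IdealSheafData.range_subschemeι, h𝓘,
      Scheme.IdealSheafData.coe_support_vanishingIdeal]
    rfl
  obtain ⟨t₁, ht₁⟩ : t' ∈ Set.range ι.base := by rw [hrange]; exact subset_closure rfl
  obtain ⟨t₀, ht₀⟩ : (map (ULift.{u} (Fin n)) f).base z ∈ Set.range ι.base := by
    rw [hrange]; exact ht'.mem_closure
  have hind : Topology.IsInducing ι.base := ι.isEmbedding.isInducing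
  have hcl : closure ({t₁} : Set T) = Set.univ := by
    rw [hind.closure_eq_preimage_closure_image, Set.image_singleton, ht₁, ← hrange]
    exact Set.preimage_range _
  haveI : IrreducibleSpace T := by
    have hgp : IsGenericPoint t₁ (Set.univ : Set T) := hcl
    have hirr := hgp.isIrreducible
    exact (irreducibleSpace_def T).2 hirr
  obtain ⟨a, ha, hsq⟩ := exists_isPullback_affineSpace f (ULift.{u} (Fin n)) ι
  have hdense := h T (ι ≫ (𝔸(ULift.{u} (Fin n); Y) ↘ Y))
  obtain ⟨z', hz', hz't⟩ := exists_generization_of_components_dense hsq hdense t₁ t₀ hcl z ht₀.symm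
  exact ⟨z', hz', by rw [hz't, ht₁]⟩

end S2558

section S4928
variable {X Y : Scheme.{u}} (f : X ⟶ Y)

theorem isUnivOpenAt_of_fromSpecStalk [LocallyOfFinitePresentation f] (x : X) (y : Y)
    (hy : f.base x = y)
    (x₁ : ↥(pullback f (Y.fromSpecStalk y))) (hx₁ : (pullback.fst f (Y.fromSpecStalk y)).base x₁ = x)
    (h : IsUnivOpenAt (pullback.snd f (Y.fromSpecStalk y)) x₁) : IsUnivOpenAt f x := by
  intro Y' g x' hx'
  set f' := pullback.snd f g with hf'
  set fst' := pullback.fst f g with hfst'
  haveI : LocallyOfFinitePresentation f' := MorphismProperty.pullback_snd _ _ inferInstance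
  apply isOpenAt_of_forall_generization
  intro y'' hy''
  set y' := f'.base x' with hy'
  have hgy' : g.base y' = y := by
    rw [← hy, ← hx', hy', ← TopCat.comp_app, ← Scheme.Hom.comp_base, ← TopCat.comp_app,
      ← Scheme.Hom.comp_base, pullback.condition]
  subst hgy'
  set τ := Y'.fromSpecStalk y' with hτ
  set σ := Spec.map (g.stalkMap y') with hσ
  have hστ : σ ≫ Y.fromSpecStalk (g.base y') = τ ≫ g := Scheme.SpecMap_stalkMap_fromSpecStalk g
  -- the generization as a point of T
  obtain ⟨t'', ht''⟩ : y'' ∈ Set.range τ.base := by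
    rw [hτ, Scheme.range_fromSpecStalk]; exact hy''
  set c := IsLocalRing.closedPoint (Y'.presheaf.stalk y') with hc
  have hτc : τ.base c = y' := Scheme.fromSpecStalk_closedPoint
  -- the pullback Q
  set q₁ := pullback.fst f' τ with hq₁
  set q₂ := pullback.snd f' τ with hq₂
  have hQ : IsPullback q₁ q₂ f' τ := IsPullback.of_hasPullback f' τ
  have hX' : IsPullback fst' f' f g := IsPullback.of_hasPullback f g
  have hbig : IsPullback (q₁ ≫ fst') q₂ f (τ ≫ g) := hQ.paste_horiz hX'
  have hX₁ : IsPullback (pullback.fst f (Y.fromSpecStalk (g.base y')))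
      (pullback.snd f (Y.fromSpecStalk (g.base y'))) f (Y.fromSpecStalk (g.base y')) :=
    IsPullback.of_hasPullback f _
  let m : pullback f' τ ⟶ pullback f (Y.fromSpecStalk (g.base y')) :=
    hX₁.lift (q₁ ≫ fst') (q₂ ≫ σ) (by
      rw [Category.assoc q₂ σ _, hστ]; exact hbig.w)
  have hm1 : m ≫ pullback.fst f (Y.fromSpecStalk (g.base y')) = q₁ ≫ fst' := hX₁.lift_fst _ _ _
  have hm2 : m ≫ pullback.snd f (Y.fromSpecStalk (g.base y')) = q₂ ≫ σ := hX₁.lift_snd _ _ _
  have hsq : IsPullback m q₂ (pullback.snd f (Y.fromSpecStalk (g.base y'))) σ := by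
    refine IsPullback.of_right ?_ hm2 hX₁
    rw [hm1, hστ]
    exact hbig
  obtain ⟨q, hq1, hq2⟩ := Scheme.exists_preimage_of_isPullback hQ x' c hτc.symm
  -- m q = x₁
  haveI : IsPreimmersion (pullback.fst f (Y.fromSpecStalk (g.base y'))) :=
    MorphismProperty.pullback_fst _ _ inferInstance
  have hmq : m.base q = x₁ := by
    apply (pullback.fst f (Y.fromSpecStalk (g.base y'))).isEmbedding.injective
    rw [hx₁, ← TopCat.comp_app, ← Scheme.Hom.comp_base, hm1, Scheme.Hom.comp_base, TopCat.comp_app,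
      hq1, hx']
  have hopen : IsOpenAt q₂.base q := UO.isOpenAt_of_isPullback h hsq q hmq
  have hsp : t'' ⤳ q₂.base q := by
    rw [hq2]
    exact IsLocalRing.specializes_closedPoint t''
  obtain ⟨q'', hq''q, hq''⟩ := exists_generization_of_isOpenAt q₂ q hopen t'' hsp
  refine ⟨q₁.base q'', ?_, ?_⟩
  · rw [← hq1]
    exact Specializes.map hq''q q₁.base.hom.continuous
  · rw [← TopCat.comp_app, ← Scheme.Hom.comp_base, hQ.w, Scheme.Hom.comp_base, TopCat.comp_app,
      hq'', ht'']

theorem S4928_main [LocallyOfFinitePresentation f]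
    (x : X) (x₁ : ↥(pullback f (Y.fromSpecStalk (f.base x))))
    (hx₁ : (pullback.fst f (Y.fromSpecStalk (f.base x))).base x₁ = x) :
    IsUnivOpenAt f x ↔ IsUnivOpenAt (pullback.snd f (Y.fromSpecStalk (f.base x))) x₁ :=
  ⟨fun hf => UO.isUnivOpenAt_of_isPullback hf (IsPullback.of_hasPullback f _) x₁ hx₁,
    isUnivOpenAt_of_fromSpecStalk f x _ rfl x₁ hx₁⟩

end S4928

end Groth.Agent.Lib.Helper4.UOp

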