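import Mathlib

namespace Groth.Agent.Helper4.Unr

open Polynomial

universe u

theorem pi_isSeparable_elem {K : Type*} [Field K] {I : Type*} [Finite I] {Ai : I → Type*}
    [∀ i, Field (Ai i)] [∀ i, Algebra K (Ai i)] (hsep : ∀ i, Algebra.IsSeparable K (Ai i))
    (y : Π i, Ai i) : (minpoly K y).Separable := by
  classical
  have := Fintype.ofFinite I
  let S : Finset K[X] := Finset.univ.image (fun i => minpoly K (y i))
  have hint : ∀ i, IsIntegral K (y i) := fun i => Algebra.IsSeparable.isIntegral K (y i)
  have hP : (∏ q ∈ S, q).Separable := by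
    have := Polynomial.separable_prod' (f := fun q : K[X] => q) (s := S) ?_ ?_
    · simpa using this
    · intro q₁ h₁ q₂ h₂ hne
      obtain ⟨i, _, rfl⟩ := Finset.mem_image.mp h₁
      obtain ⟨j, _, rfl⟩ := Finset.mem_image.mp h₂
      rw [(minpoly.irreducible (hint i)).coprime_iff_not_dvd]
      intro hd
      have ha := (minpoly.irreducible (hint i)).associated_of_dvd (minpoly.irreducible (hint j)) hd
      exact hne (Polynomial.eq_of_monic_of_associated (minpoly.monic (hint i))
        (minpoly.monic (hint j)) ha)
    · intro q hq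
      obtain ⟨i, _, rfl⟩ := Finset.mem_image.mp hq
      exact Algebra.IsSeparable.isSeparable K (y i)
  have hzero : aeval y (∏ q ∈ S, q) = 0 := by
    funext i
    have h1 := Polynomial.aeval_algHom_apply (Pi.evalAlgHom K Ai i) y (∏ q ∈ S, q)
    change aeval (y i) _ = (aeval y (∏ q ∈ S, q)) i at h1
    rw [← h1]
    have hd : minpoly K (y i) ∣ ∏ q ∈ S, q :=
      Finset.dvd_prod_of_mem _ (Finset.mem_image.mpr ⟨i, Finset.mem_univ _, rfl⟩)
    obtain ⟨c, hc⟩ := hd
    rw [hc, map_mul, minpoly.aeval, zero_mul]
    rfl
  exact hP.of_dvd (minpoly.dvd K y hzero)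

theorem isReduced_of_isSeparable {K A : Type*} [Field K] [CommRing A] [Algebra K A]
    [Algebra.IsSeparable K A] : IsReduced A := by
  refine ⟨fun x hx => ?_⟩
  obtain ⟨n, hn⟩ := hx
  by_cases hn0 : n = 0
  · subst hn0
    rw [pow_zero] at hn
    have : Subsingleton A := subsingleton_of_zero_eq_one hn.symm
    exact Subsingleton.elim _ _
  have hsep := Algebra.IsSeparable.isSeparable K x
  have hd : minpoly K x ∣ X ^ n := minpoly.dvd K x (by simp [hn])
  have hd' : minpoly K x ∣ X := (hsep.squarefree.dvd_pow_iff_dvd hn0).mp hd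
  obtain ⟨c, hc⟩ := hd'
  have := congrArg (aeval x) hc
  simpa using this

/-- S4998 -/
theorem formallyUnramified_iff (k A : Type u) [Field k] [CommRing A]
    [Algebra k A] [Algebra.FiniteType k A] :
    Algebra.FormallyUnramified k A ↔ Module.Finite k A ∧ Algebra.IsSeparable k A := by
  constructor
  · intro h
    have hfin : Module.Finite k A := Algebra.FormallyUnramified.finite_of_free k A
    refine ⟨hfin, ?_⟩
    have het : Algebra.FormallyEtale k A := Algebra.FormallyEtale.of_formallyUnramified_of_field k A
    obtain ⟨I, _, Ai, _, _, e, hsep⟩ := (Algebra.FormallyEtale.iff_exists_algEquiv_prod k A).mp het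
    refine ⟨fun x => ?_⟩
    have := pi_isSeparable_elem hsep (e x)
    rwa [minpoly.algEquiv_eq] at this
  · rintro ⟨hfin, hsep⟩
    have : IsArtinianRing A := IsArtinianRing.of_finite k A
    have : IsReduced A := isReduced_of_isSeparable (K := k)
    let _ (m : MaximalSpectrum A) : Field (A ⧸ m.asIdeal) := Ideal.Quotient.field m.asIdeal
    have hq : ∀ m : MaximalSpectrum A, Algebra.FormallyUnramified k (A ⧸ m.asIdeal) := by
      intro m
      have : Algebra.IsSeparable k (A ⧸ m.asIdeal) := by
        refine ⟨fun y => ?_⟩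
        obtain ⟨x, rfl⟩ := Ideal.Quotient.mk_surjective y
        have hx := Algebra.IsSeparable.isSeparable k x
        have hd : minpoly k (Ideal.Quotient.mk m.asIdeal x) ∣ minpoly k x := by
          apply minpoly.dvd
          have := Polynomial.aeval_algHom_apply (Ideal.Quotient.mkₐ k m.asIdeal) x (minpoly k x)
          rw [minpoly.aeval, map_zero] at this
          exact this
        exact hx.of_dvd hd
      exact Algebra.FormallyUnramified.of_isSeparable k _
    have : Algebra.FormallyUnramified k (Π m : MaximalSpectrum A, A ⧸ m.asIdeal) :=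
      (Algebra.FormallyUnramified.pi_iff _).mpr hq
    exact Algebra.FormallyUnramified.of_equiv ((IsArtinianRing.equivPi A).restrictScalars k).symm

end Groth.Agent.Helper4.Unr
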