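import Mathlib
import Groth.Prelude.Def_SchLoc

/-!
# Unramified near a point via the diagonal and sections (helper4)
-/

set_option backward.isDefEq.respectTransparency.types false
set_option synthInstance.maxHeartbeats 400000
set_option autoImplicit false
set_option linter.unusedSectionVars false
set_option linter.style.haveILetI false
set_option linter.unusedSimpArgs false
universe u v w
open CategoryTheory CategoryTheory.Limits AlgebraicGeometry TopologicalSpace IsLocalRing

namespace Groth.Agent.Lib.Helper4.UnramDiag1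

set_option backward.isDefEq.respectTransparency false in
/-- The diagonal of `U.ι ≫ f` followed by the open immersion `U ×_Y U ⟶ X ×_Y X`. -/
theorem diagonal_restrict_eq {X Y : Scheme.{u}} (f : X ⟶ Y) (U : X.Opens) :
    pullback.diagonal (U.ι ≫ f) ≫
      pullback.map (U.ι ≫ f) (U.ι ≫ f) f f U.ι U.ι (𝟙 Y) (by simp) (by simp) =
    U.ι ≫ pullback.diagonal f := by
  apply pullback.hom_ext <;> simp

theorem isOpenImmersion_diagonal_restrict_iff {X Y : Scheme.{u}} (f : X ⟶ Y) (U : X.Opens) :
    IsOpenImmersion (U.ι ≫ pullback.diagonal f) ↔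
      IsOpenImmersion (pullback.diagonal (U.ι ≫ f)) := by
  rw [← diagonal_restrict_eq]
  constructor
  · intro h
    exact IsOpenImmersion.of_comp _
      (pullback.map (U.ι ≫ f) (U.ι ≫ f) f f U.ι U.ι (𝟙 Y) _ _)
  · intro h
    infer_instance

theorem S3845_main {X Y : Scheme.{u}} (f : X ⟶ Y)
    [LocallyOfFinitePresentation f] (x : ↥X) :
    (∃ U : X.Opens, x ∈ U ∧ FormallyUnramified (U.ι ≫ f)) ↔
      SchLoc.IsLocalIsoAt (pullback.diagonal f) x := by
  constructor
  · rintro ⟨U, hxU, hU⟩
    refine ⟨U, hxU, ?_⟩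
    rw [isOpenImmersion_diagonal_restrict_iff]
    infer_instance
  · rintro ⟨U, hxU, hU⟩
    refine ⟨U, hxU, ?_⟩
    rw [isOpenImmersion_diagonal_restrict_iff] at hU
    infer_instance

instance : MorphismProperty.HasOfPostcompProperty @IsOpenImmersion
    (MorphismProperty.diagonal @IsOpenImmersion) :=
  MorphismProperty.hasOfPostcompProperty_iff_le_diagonal.mpr le_rfl

/-- If `g ≫ p` is an open immersion and `p` has open diagonal, then `g` is an open immersion. -/
theorem isOpenImmersion_of_comp_of_diagonal {A B C : Scheme.{u}} (g : A ⟶ B) (p : B ⟶ C)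
    [IsOpenImmersion (pullback.diagonal p)] [IsOpenImmersion (g ≫ p)] : IsOpenImmersion g :=
  MorphismProperty.of_postcomp (W := @IsOpenImmersion)
    (W' := MorphismProperty.diagonal @IsOpenImmersion) g p ‹_› ‹_›


theorem S3846_main {X Y : Scheme.{u}} (f : X ⟶ Y) [LocallyOfFinitePresentation f]
    (x : ↥X) :
    (∃ U : X.Opens, x ∈ U ∧ FormallyUnramified (U.ι ≫ f)) ↔
      ∀ (Y' : Scheme.{u}) (g : Y' ⟶ Y) (s' : Y' ⟶ pullback f g), s' ≫ pullback.snd f g = 𝟙 Y' →
        ∀ y' : ↥Y', pullback.fst f g (s' y') = x → SchLoc.IsLocalIsoAt s' y' := by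
  constructor
  · rintro ⟨U, hxU, hU⟩ Y' g s' hs' y' hy'
    let W : (pullback f g).Opens := (pullback.fst f g) ⁻¹ᵁ U
    have hpb : IsPullback (pullback.fst f g ∣_ U) (W.ι ≫ pullback.snd f g) (U.ι ≫ f) g :=
      (isPullback_morphismRestrict (pullback.fst f g) U).paste_vert (IsPullback.of_hasPullback f g)
    haveI : FormallyUnramified (W.ι ≫ pullback.snd f g) :=
      MorphismProperty.of_isPullback (P := @FormallyUnramified) hpb hU
    haveI : LocallyOfFiniteType (W.ι ≫ pullback.snd f g) :=
      MorphismProperty.of_isPullback (P := @LocallyOfFiniteType) hpb inferInstance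
    haveI : IsOpenImmersion ((s' ∣_ W) ≫ (W.ι ≫ pullback.snd f g)) := by
      rw [← Category.assoc, morphismRestrict_ι, Category.assoc, hs', Category.comp_id]
      infer_instance
    haveI : IsOpenImmersion (s' ∣_ W) :=
      isOpenImmersion_of_comp_of_diagonal (s' ∣_ W) (W.ι ≫ pullback.snd f g)
    refine ⟨s' ⁻¹ᵁ W, ?_, ?_⟩
    · show pullback.fst f g (s' y') ∈ U
      rw [hy']
      exact hxU
    · rw [← morphismRestrict_ι]
      infer_instance
  · intro H
    apply (S3845_main f x).mpr
    apply H X f (pullback.diagonal f) (pullback.diagonal_snd f) x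
    rw [← Scheme.Hom.comp_apply, pullback.diagonal_fst]
    rfl

end Groth.Agent.Lib.Helper4.UnramDiag1
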