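import Mathlib
import Groth.Prelude.Def_FDesc
import Groth.Prelude.Def_EGA43
import Groth.Prelude.Def_MoreMor
import Groth.Agent.S2561
import Groth.Agent.S3458

/-!
# EGA IV 15.6.6 (ii): flatness along the section components (S5926) (helper4)
-/

set_option backward.isDefEq.respectTransparency.types false
set_option synthInstance.maxHeartbeats 400000
set_option autoImplicit false
set_option linter.unusedSectionVars false
set_option linter.style.haveILetI false
set_option linter.unusedSimpArgs false
universe u v w
open CategoryTheory CategoryTheory.Limits AlgebraicGeometry TopologicalSpace Topology TensorProduct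

namespace Groth.Agent.Lib.Helper4.ValFlat17

/-- EGA IV 15.6.6 (ii), locally Noetherian case -/
theorem S5926_main {X Y : Scheme.{u}} [IsLocallyNoetherian Y]
    [IsReduced Y] (f : X ⟶ Y) [LocallyOfFiniteType f] (g : Y ⟶ X) (hg : g ≫ f = 𝟙 Y)
    (hirr : ∀ y : Y, (∀ (K : Type u) [Field K] [Algebra (IsLocalRing.ResidueField (Y.presheaf.stalk y)) K],
        IsIrreducible ((FBase.bcπ (f.fiberToSpecResidueField y) K ≫ f.fiberι y).base ⁻¹' connectedComponentIn (f.base ⁻¹' {y}) (g.base y))))
    (x₀ : X) (hx₀ : x₀ ∈ MoreMor.sectionComponents f g)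
    (hconst : (∃ V ∈ nhds (f.base x₀), ∀ z ∈ V, topologicalKrullDim ↥(connectedComponentIn (f.base ⁻¹' {z}) (g.base z)) = topologicalKrullDim ↥(connectedComponentIn (f.base ⁻¹' {(f.base x₀)}) (g.base (f.base x₀)))))
    (hred : FBase.IsGeomReducedAt (f.fiberToSpecResidueField (f.base x₀)) (f.asFiber x₀)) :
    (f.stalkMap x₀).hom.Flat := by
  have hUO := Groth.Agent.S3458.result f g hg (fun y K _ _ => hirr y K) (f x₀) hconst
  refine Groth.Agent.S2561.result f x₀ ?_ hred inferInstance
  intro z hz _
  apply hUO
  -- the point lies in the connected component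
  have hx₀' : x₀ ∈ connectedComponentIn (f ⁻¹' {f x₀}) (g (f x₀)) := hx₀
  have hfz : f (f.fiberι (f x₀) z) = f x₀ := by
    have : f.fiberι (f x₀) z ∈ f ⁻¹' {f x₀} := by
      rw [← f.range_fiberι]
      exact Set.mem_range_self z
    exact this
  have hsp : f.fiberι (f x₀) z ⤳ x₀ := by
    have h2 : z ⤳ f.asFiber x₀ := specializes_iff_mem_closure.mpr hz
    have h3 := h2.map (f.fiberι (f x₀)).continuous
    rwa [f.fiberι_asFiber] at h3
  rw [connectedComponentIn_eq hx₀']
  -- closure of the point within the fibre is connected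
  have hpre : _root_.IsPreconnected (closure ({f.fiberι (f x₀) z} : Set X) ∩ f ⁻¹' {f x₀}) :=
    Groth.Agent.Lib.Helper4.SecComp1.isPreconnected_closure_inter _ _ hfz
  have hsub := hpre.subset_connectedComponentIn (x := x₀) (F := f ⁻¹' {f x₀})
    ⟨specializes_iff_mem_closure.mp hsp, rfl⟩ Set.inter_subset_right
  exact hsub ⟨subset_closure rfl, hfz⟩

end Groth.Agent.Lib.Helper4.ValFlat17
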