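import Mathlib
import Groth.Agent.Lib.Helper7.ValFP.Main
import Groth.Agent.Lib.Helper4.ValPd1

/-!
# Reflexive f.p. modules over local rings of flat f.p. algebras over a valuation ring with regular fibre: pd ≤ n-1 (S16180) (helper4)
-/

set_option backward.isDefEq.respectTransparency.types false
set_option synthInstance.maxHeartbeats 400000
set_option autoImplicit false
set_option linter.unusedSectionVars false
set_option linter.style.haveILetI false
set_option linter.unusedSimpArgs false
universe u v w
open IsLocalRing CategoryTheory TensorProduct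
open Groth.Agent.Lib.Helper4.ValPd1

namespace Groth.Agent.Lib.Helper4.ValPd2
noncomputable section

section Gen
variable {R : Type u} [CommRing R]

theorem pdLT_of_linearEquiv {M N : Type u} [AddCommGroup M] [AddCommGroup N] [Module R M]
    [Module R N] (e : M ≃ₗ[R] N) (n : ℕ) (h : HasProjectiveDimensionLT (ModuleCat.of R M) n) :
    HasProjectiveDimensionLT (ModuleCat.of R N) n :=
  hasProjectiveDimensionLT_of_iso e.toModuleIso n

theorem fp_of_equiv {M N : Type u} [AddCommGroup M] [AddCommGroup N] [Module R M] [Module R N]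
    (e : M ≃ₗ[R] N) [Module.FinitePresentation R M] : Module.FinitePresentation R N :=
  Module.FinitePresentation.of_equiv e

theorem fg_ker' {M N : Type u} [AddCommGroup M] [AddCommGroup N] [Module R M] [Module R N]
    [Module.Finite R M] [Module.FinitePresentation R N] (l : M →ₗ[R] N)
    (hl : Function.Surjective l) : (LinearMap.ker l).FG :=
  Module.FinitePresentation.fg_ker l hl

/-- dual of a right exact sequence: `Dual N ≃ ker φ*`. -/
theorem exists_dual_equiv_ker {F G N : Type u} [AddCommGroup F] [AddCommGroup G] [AddCommGroup N]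
    [Module R F] [Module R G] [Module R N] (φ : G →ₗ[R] F) (π : F →ₗ[R] N)
    (hπ : Function.Surjective π) (hex : Function.Exact φ π) :
    Nonempty (Module.Dual R N ≃ₗ[R] LinearMap.ker φ.dualMap) := by
  have hmem : ∀ l : Module.Dual R N, π.dualMap l ∈ LinearMap.ker φ.dualMap := by
    intro l
    rw [LinearMap.mem_ker]
    ext g
    show l (π (φ g)) = 0
    rw [hex.apply_apply_eq_zero, map_zero]
  let Φ : Module.Dual R N →ₗ[R] LinearMap.ker φ.dualMap :=
    LinearMap.codRestrict _ π.dualMap hmem
  refine ⟨LinearEquiv.ofBijective Φ ⟨?_, ?_⟩⟩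
  · intro a b hab
    exact LinearMap.dualMap_injective_of_surjective hπ (congrArg Subtype.val hab)
  · rintro ⟨y, hy⟩
    have hy' : ∀ g, y (φ g) = 0 := fun g => LinearMap.congr_fun (LinearMap.mem_ker.mp hy) g
    have hker : LinearMap.ker π ≤ LinearMap.ker y := by
      intro f hf
      obtain ⟨g, rfl⟩ := (hex f).1 hf
      exact hy' g
    let l : Module.Dual R N :=
      ((LinearMap.ker π).liftQ y hker) ∘ₗ (π.quotKerEquivOfSurjective hπ).symm.toLinearMap
    refine ⟨l, Subtype.ext ?_⟩
    ext f
    show l (π f) = y f
    show ((LinearMap.ker π).liftQ y hker) ((π.quotKerEquivOfSurjective hπ).symm (π f)) = y f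
    have : (π.quotKerEquivOfSurjective hπ).symm (π f) = Submodule.Quotient.mk f := by
      rw [LinearEquiv.symm_apply_eq]
      rfl
    rw [this, Submodule.liftQ_apply]

end Gen

section Val
variable (V : Type u) (A : Type u) [CommRing V] [IsDomain V] [ValuationRing V] [CommRing A]
  [IsLocalRing A] [Algebra V A] [Algebra.EssFiniteType V A] [Module.Flat V A]
include V

/-- f.g. submodules of the dual of a finite free module are finitely presented -/
theorem fp_of_fg_submodule_dual (s : ℕ) (Z : Submodule A (Module.Dual A (Fin s → A)))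
    (hZ : Z.FG) : Module.FinitePresentation A Z := by
  let e : Module.Dual A (Fin s → A) ≃ₗ[A] (Fin s → A) := (Module.piEquiv (Fin s) A A).symm
  let Z' : Submodule A (Fin s → A) :=
    Z.map (e : Module.Dual A (Fin s → A) →ₗ[A] (Fin s → A))
  have hZ' : Z'.FG := hZ.map _
  haveI : Module.Finite A Z' := Module.Finite.iff_fg.mpr hZ'
  haveI : Module.Flat V (Fin s → A) :=
    Module.Flat.of_linearEquiv (DirectSum.linearEquivFunOnFintype V (Fin s) (fun _ => A)).symm
  haveI : Module.Flat V Z' := flat_submodule (V := V) Z'
  haveI : Module.FinitePresentation A Z' :=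
    Groth.Agent.Helper7.ValFP.finitePresentation_of_essFiniteType V
  have e' : ↥Z' ≃ₗ[A] ↥Z := (e.submoduleMap Z).symm
  exact fp_of_equiv (M := ↥Z') (N := ↥Z) e'

omit V [IsDomain V] [ValuationRing V] [IsLocalRing A] [Algebra V A] [Algebra.EssFiniteType V A] [Module.Flat V A] in
/-- data of a finite presentation -/
theorem exists_presentation (N : Type u) [AddCommGroup N] [Module A N]
    [Module.FinitePresentation A N] :
    ∃ (r s : ℕ) (φ : (Fin s → A) →ₗ[A] (Fin r → A)) (π : (Fin r → A) →ₗ[A] N),
      Function.Surjective π ∧ Function.Exact φ π := by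
  obtain ⟨r, π, hπ⟩ := Module.Finite.exists_fin' A N
  have hfg : (LinearMap.ker π).FG := Module.FinitePresentation.fg_ker π hπ
  haveI : Module.Finite A (LinearMap.ker π) := Module.Finite.iff_fg.mpr hfg
  obtain ⟨s, ψ, hψ⟩ := Module.Finite.exists_fin' A (LinearMap.ker π)
  refine ⟨r, s, (LinearMap.ker π).subtype ∘ₗ ψ, π, hπ, ?_⟩
  intro y
  constructor
  · intro hy
    obtain ⟨z, hz⟩ := hψ ⟨y, hy⟩
    exact ⟨z, by show ((ψ z : LinearMap.ker π) : Fin r → A) = y; rw [hz]⟩
  · rintro ⟨z, rfl⟩
    exact (ψ z).2

theorem dual_fp (N : Type u) [AddCommGroup N] [Module A N] [Module.FinitePresentation A N] :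
    Module.FinitePresentation A (Module.Dual A N) := by
  obtain ⟨r, s, φ, π, hπ, hex⟩ := exists_presentation A N
  obtain ⟨e⟩ := exists_dual_equiv_ker φ π hπ hex
  have hJ : (LinearMap.range φ.dualMap).FG := by
    rw [LinearMap.range_eq_map]; exact Module.Finite.fg_top.map _
  haveI := fp_of_fg_submodule_dual V A s _ hJ
  have hZ : (LinearMap.ker φ.dualMap).FG := by
    rw [← LinearMap.ker_rangeRestrict]
    have hs : Function.Surjective (LinearMap.rangeRestrict φ.dualMap) :=
      LinearMap.surjective_rangeRestrict _
    exact fg_ker' (M := Module.Dual A (Fin r → A)) (N := ↥(LinearMap.range φ.dualMap)) _ hs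
  haveI := fp_of_fg_submodule_dual V A r _ hZ
  exact fp_of_equiv (M := ↥(LinearMap.ker φ.dualMap)) (N := Module.Dual A N) e.symm

theorem dual_pd (n : ℕ)
    (hall : ∀ (C : Type u) [AddCommGroup C] [Module A C] [Module.FinitePresentation A C],
      HasProjectiveDimensionLT (ModuleCat.of A C) (n + 2))
    (N : Type u) [AddCommGroup N] [Module A N] [Module.FinitePresentation A N] :
    HasProjectiveDimensionLT (ModuleCat.of A (Module.Dual A N)) (n - 1 + 1) := by
  obtain ⟨r, s, φ, π, hπ, hex⟩ := exists_presentation A N
  obtain ⟨e⟩ := exists_dual_equiv_ker φ π hπ hex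
  set J := LinearMap.range φ.dualMap with hJdef
  have hJ : J.FG := by
    rw [hJdef, LinearMap.range_eq_map]; exact Module.Finite.fg_top.map _
  haveI : Module.FinitePresentation A (Module.Dual A (Fin s → A) ⧸ J) :=
    Module.finitePresentation_of_free_of_surjective J.mkQ (Submodule.mkQ_surjective _)
      (by rw [Submodule.ker_mkQ]; exact hJ)
  have h1 : HasProjectiveDimensionLT (ModuleCat.of A J) (n + 1) :=
    pdLT_X₁ J.subtype J.mkQ Subtype.val_injective (Submodule.mkQ_surjective _)
      (LinearMap.exact_subtype_mkQ J) (n + 1) (pdLT_of_projective _ (n + 1) (by omega))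
      (hall _)
  have h2 : HasProjectiveDimensionLT (ModuleCat.of A J) (n - 1 + 1 + 1) :=
    hasProjectiveDimensionLT_of_ge _ (n + 1) _ (by omega)
  have hex2 : Function.Exact (LinearMap.ker φ.dualMap).subtype φ.dualMap.rangeRestrict := by
    intro y
    constructor
    · intro hy
      refine ⟨⟨y, ?_⟩, rfl⟩
      have := congrArg Subtype.val hy
      exact this
    · rintro ⟨z, rfl⟩
      exact Subtype.ext z.2
  have h3 : HasProjectiveDimensionLT (ModuleCat.of A (LinearMap.ker φ.dualMap)) (n - 1 + 1) :=
    pdLT_X₁ _ _ Subtype.val_injective (LinearMap.surjective_rangeRestrict _) hex2 (n - 1 + 1)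
      (pdLT_of_projective _ (n - 1 + 1) (by omega)) h2
  exact pdLT_of_linearEquiv e.symm _ h3

end Val

section Loc
variable (V : Type u) [CommRing V] [IsDomain V] [ValuationRing V]
  (B : Type u) [CommRing B] [Algebra V B] [Module.Flat V B] [Algebra.FinitePresentation V B]
  (q : Ideal B) [q.IsPrime]

theorem main16180 (n : ℕ)
    (hreg : IsRegularLocalRing (Localization.AtPrime q ⧸ Ideal.map (algebraMap V (Localization.AtPrime q)) (Ideal.comap (algebraMap V B) q)))
    (hn : ringKrullDim (Localization.AtPrime q ⧸ Ideal.map (algebraMap V (Localization.AtPrime q)) (Ideal.comap (algebraMap V B) q)) = n)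
    (M : Type u) [AddCommGroup M] [Module (Localization.AtPrime q) M] [Module.FinitePresentation (Localization.AtPrime q) M]
    [Module.IsReflexive (Localization.AtPrime q) M] :
    HasProjectiveDimensionLE (ModuleCat.of (Localization.AtPrime q) M) (n - 1) := by
  haveI := flat_loc V B q
  haveI := dual_fp V (Localization.AtPrime q) M
  have h := dual_pd V (Localization.AtPrime q) n (fun C _ _ _ => main16179 V B q n hreg hn C)
    (Module.Dual (Localization.AtPrime q) M)
  exact pdLT_of_linearEquiv (Module.evalEquiv (Localization.AtPrime q) M).symm _ h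

end Loc

end
end Groth.Agent.Lib.Helper4.ValPd2
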