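import Mathlib
import Groth.Agent.Lib.Helper4.Val1

/-!
# Residual transcendence degrees over Prüfer domains (local divisibility); fibre dimension over a Prüfer domain (helper4) (helper4)
-/

set_option backward.isDefEq.respectTransparency.types false
set_option synthInstance.maxHeartbeats 400000
set_option autoImplicit false
set_option linter.unusedSectionVars false
set_option linter.style.haveILetI false
set_option linter.unusedSimpArgs false
universe u v w
open CategoryTheory CategoryTheory.Limits AlgebraicGeometry TopologicalSpace IsLocalRing Opposite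
open Cardinal MvPolynomial
open Groth.Agent.Lib.Helper4.DimIneq1 Groth.Agent.Lib.Helper4.DimIneq2 Groth.Agent.Lib.Helper4.FibDim1 Groth.Agent.Lib.Helper4.Equi10 Groth.Agent.Lib.Helper4.Val1 Groth.Agent.Lib.Helper4.RadBir3

namespace Groth.Agent.Lib.Helper4.ValPruf1

section LocAlg

theorem exists_dvd_all_loc {R R' ι : Type*} [CommRing R] [CommRing R'] [Nontrivial R']
    [NoZeroDivisors R'] (π : R →+* R')
    (hdiv : ∀ a b : R, ∃ s : R, π s ≠ 0 ∧ (a ∣ s * b ∨ b ∣ s * a))
    (t : Finset ι) (ht : t.Nonempty) (g : ι → R) :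
    ∃ i ∈ t, ∃ s : R, π s ≠ 0 ∧ ∀ j ∈ t, g i ∣ s * g j := by
  classical
  induction ht using Finset.Nonempty.cons_induction with
  | singleton a =>
    refine ⟨a, Finset.mem_singleton_self a, 1, by rw [map_one]; exact one_ne_zero, fun j hj => ?_⟩
    rw [Finset.mem_singleton] at hj
    rw [hj, one_mul]
  | cons a s ha hs ih =>
    obtain ⟨i, hi, u, hu, hall⟩ := ih
    obtain ⟨v, hv, h⟩ := hdiv (g a) (g i)
    have huv : π (v * u) ≠ 0 := by
      rw [map_mul]
      exact mul_ne_zero hv hu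
    rcases h with h | h
    · refine ⟨a, Finset.mem_cons_self a s, v * u, huv, fun j hj => ?_⟩
      rw [Finset.mem_cons] at hj
      rcases hj with rfl | hj
      · exact Dvd.intro_left _ rfl
      · have h1 : v * g i ∣ v * (u * g j) := mul_dvd_mul_left v (hall j hj)
        rw [mul_assoc]
        exact h.trans h1
    · refine ⟨i, Finset.mem_cons.mpr (Or.inr hi), v * u, huv, fun j hj => ?_⟩
      rw [Finset.mem_cons] at hj
      rcases hj with rfl | hj
      · rw [mul_assoc, mul_left_comm]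
        exact Dvd.dvd.mul_left h u
      · rw [mul_assoc]
        exact Dvd.dvd.mul_left (hall j hj) v

theorem exists_eq_C_mul_loc {R R' σ : Type*} [CommRing R] [IsDomain R] [CommRing R'] [Nontrivial R']
    [NoZeroDivisors R'] (π : R →+* R')
    (hdiv : ∀ a b : R, ∃ s : R, π s ≠ 0 ∧ (a ∣ s * b ∨ b ∣ s * a))
    (F : MvPolynomial σ R) (hF : F ≠ 0) :
    ∃ (c s : R) (G : MvPolynomial σ R) (m₀ : σ →₀ ℕ), c ≠ 0 ∧ π s ≠ 0 ∧
      MvPolynomial.C s * F = MvPolynomial.C c * G ∧ MvPolynomial.coeff m₀ G = s := by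
  classical
  have hne : F.support.Nonempty := by
    rw [Finset.nonempty_iff_ne_empty]
    intro h
    exact hF (MvPolynomial.support_eq_empty.mp h)
  obtain ⟨m₀, hm₀, s, hs, hall⟩ := exists_dvd_all_loc π hdiv F.support hne
    (fun m => MvPolynomial.coeff m F)
  have hc : MvPolynomial.coeff m₀ F ≠ 0 := MvPolynomial.mem_support_iff.mp hm₀
  have hq : ∀ m : σ →₀ ℕ, ∃ r : R, m ∈ F.support →
      s * MvPolynomial.coeff m F = MvPolynomial.coeff m₀ F * r := by
    intro m
    by_cases hm : m ∈ F.support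
    · obtain ⟨r, hr⟩ := hall m hm
      exact ⟨r, fun _ => hr⟩
    · exact ⟨0, fun h => absurd h hm⟩
  choose q hq using hq
  have hFG : MvPolynomial.C s * F = MvPolynomial.C (MvPolynomial.coeff m₀ F) *
      ∑ m ∈ F.support, MvPolynomial.monomial m (q m) := by
    rw [Finset.mul_sum]
    conv_lhs => rw [← MvPolynomial.support_sum_monomial_coeff F, Finset.mul_sum]
    apply Finset.sum_congr rfl
    intro m hm
    rw [MvPolynomial.C_mul_monomial, MvPolynomial.C_mul_monomial, ← hq m hm]
  refine ⟨MvPolynomial.coeff m₀ F, s, ∑ m ∈ F.support, MvPolynomial.monomial m (q m), m₀, hc, hs,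
    hFG, ?_⟩
  have h1 := congrArg (MvPolynomial.coeff m₀) hFG
  rw [MvPolynomial.coeff_C_mul, MvPolynomial.coeff_C_mul] at h1
  have h2 : MvPolynomial.coeff m₀ F * s = MvPolynomial.coeff m₀ F *
      MvPolynomial.coeff m₀ (∑ m ∈ F.support, MvPolynomial.monomial m (q m)) := by
    rw [mul_comm]
    exact h1
  exact (mul_left_cancel₀ hc h2).symm

theorem algebraicIndependent_lift_loc {R R' S S' ι : Type*} [CommRing R] [IsDomain R]
    [CommRing R'] [Nontrivial R'] [NoZeroDivisors R'] [CommRing S] [IsDomain S] [CommRing S']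
    [Algebra R S] [Algebra R' S']
    (π : R →+* R') (hdiv : ∀ a b : R, ∃ s : R, π s ≠ 0 ∧ (a ∣ s * b ∨ b ∣ s * a))
    (hinj : Function.Injective (algebraMap R S)) (ρ : S →+* S')
    (hcomm : ∀ r : R, ρ (algebraMap R S r) = algebraMap R' S' (π r))
    (b : ι → S) (hb : AlgebraicIndependent R' (fun i => ρ (b i))) :
    AlgebraicIndependent R b := by
  rw [algebraicIndependent_iff]
  intro F hF0
  by_contra hF
  obtain ⟨c, s, G, m₀, hc, hs, hFG, hG1⟩ := exists_eq_C_mul_loc π hdiv F hF
  have h0 : MvPolynomial.aeval b (MvPolynomial.C s * F) = 0 := by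
    rw [map_mul, hF0, mul_zero]
  rw [hFG, map_mul, MvPolynomial.aeval_C] at h0
  have hc' : algebraMap R S c ≠ 0 := by
    intro h
    exact hc (hinj (by rw [h, map_zero]))
  have hG0 : MvPolynomial.aeval b G = 0 := by
    rcases mul_eq_zero.mp h0 with h | h
    · exact absurd h hc'
    · exact h
  have hhom : ρ.comp (MvPolynomial.aeval b : MvPolynomial ι R →ₐ[R] S).toRingHom =
      ((MvPolynomial.aeval (fun i => ρ (b i)) : MvPolynomial ι R' →ₐ[R'] S').toRingHom).comp
        (MvPolynomial.map π) := by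
    apply MvPolynomial.ringHom_ext
    · intro r
      simp [hcomm]
    · intro i
      simp
  have h3 : MvPolynomial.aeval (fun i => ρ (b i)) (MvPolynomial.map π G) = 0 := by
    have h4 := congrArg (fun φ => φ G) hhom
    simp only [RingHom.comp_apply, AlgHom.toRingHom_eq_coe, RingHom.coe_coe] at h4
    rw [← h4, hG0, map_zero]
  rw [algebraicIndependent_iff] at hb
  have h5 := hb _ h3
  have h6 := congrArg (MvPolynomial.coeff m₀) h5
  rw [MvPolynomial.coeff_map, hG1, MvPolynomial.coeff_zero] at h6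
  exact hs h6

theorem trdeg_le_loc {R R' : Type*} {S S' : Type v} [CommRing R] [IsDomain R]
    [CommRing R'] [Nontrivial R'] [NoZeroDivisors R'] [CommRing S] [IsDomain S] [CommRing S']
    [Algebra R S] [Algebra R' S']
    (π : R →+* R') (hdiv : ∀ a b : R, ∃ s : R, π s ≠ 0 ∧ (a ∣ s * b ∨ b ∣ s * a))
    (hinj : Function.Injective (algebraMap R S)) (ρ : S →+* S') (hρ : Function.Surjective ρ)
    (hcomm : ∀ r : R, ρ (algebraMap R S r) = algebraMap R' S' (π r)) :
    Algebra.trdeg R' S' ≤ Algebra.trdeg R S := by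
  unfold Algebra.trdeg
  refine ciSup_le' fun s => ?_
  have hs : AlgebraicIndependent R' (fun i : s.1 => (i : S')) := s.2
  have hb : AlgebraicIndependent R (fun i : s.1 => (Function.invFun ρ (i : S'))) := by
    apply algebraicIndependent_lift_loc π hdiv hinj ρ hcomm
    have : (fun i : s.1 => ρ (Function.invFun ρ (i : S'))) = fun i : s.1 => (i : S') := by
      funext i
      exact Function.invFun_eq (hρ _)
    rw [this]
    exact hs
  exact hb.cardinalMk_le_trdeg

/-- local divisibility at a prime whose localization is a valuation ring -/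
theorem locDvd_of_valuationRing (R : Type*) [CommRing R] [IsDomain R] (q : Ideal R) [hq : q.IsPrime]
    [ValuationRing (Localization.AtPrime q)] (a b : R) :
    ∃ s : R, s ∉ q ∧ (a ∣ s * b ∨ b ∣ s * a) := by
  have key : ∀ a b : R, algebraMap R (Localization.AtPrime q) a ∣
      algebraMap R (Localization.AtPrime q) b → ∃ s : R, s ∉ q ∧ a ∣ s * b := by
    intro a b ⟨x, hx⟩
    obtain ⟨c, t, rfl⟩ := IsLocalization.exists_mk'_eq q.primeCompl x
    have h1 : algebraMap R (Localization.AtPrime q) b * algebraMap R (Localization.AtPrime q) t =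
        algebraMap R (Localization.AtPrime q) (a * c) := by
      rw [hx, mul_assoc, IsLocalization.mk'_spec, map_mul]
    rw [← map_mul] at h1
    obtain ⟨u, hu⟩ := (IsLocalization.eq_iff_exists q.primeCompl _).mp h1
    refine ⟨u * t, ?_, ⟨u * c, ?_⟩⟩
    · intro h
      rcases hq.mem_or_mem h with h | h
      · exact u.2 h
      · exact t.2 h
    · calc (u : R) * t * b = u * (b * t) := by ring
        _ = u * (a * c) := hu
        _ = a * (u * c) := by ring
  rcases ValuationRing.dvd_total (algebraMap R (Localization.AtPrime q) a)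
    (algebraMap R (Localization.AtPrime q) b) with h | h
  · obtain ⟨s, hs, h1⟩ := key a b h
    exact ⟨s, hs, Or.inl h1⟩
  · obtain ⟨s, hs, h1⟩ := key b a h
    exact ⟨s, hs, Or.inr h1⟩

end LocAlg


section LocSch
variable {X Y : Scheme.{u}} (f : X ⟶ Y) [LocallyOfFiniteType f]

/-- over an affine base with local divisibility at the image point, the residual transcendence
degree does not increase under specialization -/
theorem tr_le_tr_of_locDvd {V : Y.Opens} (hV : IsAffineOpen V)
    (ξ z : X) (hsp : ξ ⤳ z) (hzV : f z ∈ V)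
    (hdiv : ∀ a b : Γ(Y, V), ∃ s : Γ(Y, V), s ∉ (hV.primeIdealOf ⟨f z, hzV⟩).asIdeal ∧
      (a ∣ s * b ∨ b ∣ s * a)) : tr f z ≤ tr f ξ := by
  obtain ⟨U, hU, hzU, hUV⟩ := exists_isAffineOpen_mem_and_subset (U := f ⁻¹ᵁ V) (x := z) hzV
  have hξU : ξ ∈ U := hsp.mem_open U.2 hzU
  letI alg : Algebra Γ(Y, V) Γ(X, U) := (f.appLE V U hUV).hom.toAlgebra
  haveI lo1 := liesOver_chart f hV hU hUV z hzU rfl
  haveI lo2 := liesOver_chart f hV hU hUV ξ hξU rfl
  have h1 := tr_chart f hV hU hUV z hzU rfl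
  have h2 := tr_chart f hV hU hUV ξ hξU rfl
  have hP : (hU.primeIdealOf ⟨ξ, hξU⟩).asIdeal ≤ (hU.primeIdealOf ⟨z, hzU⟩).asIdeal :=
    (specializes_iff_primeIdealOf_le hU ⟨ξ, hξU⟩ ⟨z, hzU⟩).mp hsp
  have hp : (hV.primeIdealOf ⟨f ξ, hUV hξU⟩).asIdeal ≤ (hV.primeIdealOf ⟨f z, hUV hzU⟩).asIdeal :=
    (specializes_iff_primeIdealOf_le hV ⟨f ξ, hUV hξU⟩ ⟨f z, hUV hzU⟩).mp
      (hsp.map f.continuous)
  have hdiv' : ∀ a b : Γ(Y, V) ⧸ (hV.primeIdealOf ⟨f ξ, hUV hξU⟩).asIdeal,
      ∃ s : Γ(Y, V) ⧸ (hV.primeIdealOf ⟨f ξ, hUV hξU⟩).asIdeal,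
        (Ideal.Quotient.factor hp) s ≠ 0 ∧ (a ∣ s * b ∨ b ∣ s * a) := by
    intro a b
    obtain ⟨a, rfl⟩ := Ideal.Quotient.mk_surjective a
    obtain ⟨b, rfl⟩ := Ideal.Quotient.mk_surjective b
    obtain ⟨s, hs, h⟩ := hdiv a b
    refine ⟨Ideal.Quotient.mk _ s, ?_, ?_⟩
    · rw [Ideal.Quotient.factor_mk, Ne, Ideal.Quotient.eq_zero_iff_mem]
      exact hs
    · rcases h with h | h
      · left
        rw [← map_mul]
        exact map_dvd _ h
      · right
        rw [← map_mul]
        exact map_dvd _ h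
  have key := trdeg_le_loc
    (R := Γ(Y, V) ⧸ (hV.primeIdealOf ⟨f ξ, hUV hξU⟩).asIdeal)
    (R' := Γ(Y, V) ⧸ (hV.primeIdealOf ⟨f z, hUV hzU⟩).asIdeal)
    (S := Γ(X, U) ⧸ (hU.primeIdealOf ⟨ξ, hξU⟩).asIdeal)
    (S' := Γ(X, U) ⧸ (hU.primeIdealOf ⟨z, hzU⟩).asIdeal) (Ideal.Quotient.factor hp) hdiv'
    (FaithfulSMul.algebraMap_injective _ _) (Ideal.Quotient.factor hP)
    (Ideal.Quotient.factor_surjective hP) (by
      intro r
      obtain ⟨r, rfl⟩ := Ideal.Quotient.mk_surjective r
      rfl)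
  rw [h1, h2] at key
  exact_mod_cast key

end LocSch

/-- local divisibility in the global sections of `Spec R` for a Prüfer domain `R` -/
theorem locDvd_Γ_Spec (R : Type u) [CommRing R] [IsDomain R]
    (hR : ∀ (p : Ideal R) [p.IsPrime], ValuationRing (Localization.AtPrime p))
    (𝔮 : Ideal Γ(Spec (CommRingCat.of R), ⊤)) [h𝔮 : 𝔮.IsPrime]
    (a b : Γ(Spec (CommRingCat.of R), ⊤)) :
    ∃ s : Γ(Spec (CommRingCat.of R), ⊤), s ∉ 𝔮 ∧ (a ∣ s * b ∨ b ∣ s * a) := by
  let e : Γ(Spec (CommRingCat.of R), ⊤) ≃+* R :=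
    (Scheme.ΓSpecIso (CommRingCat.of R)).commRingCatIsoToRingEquiv
  haveI : (𝔮.comap (e.symm : R →+* Γ(Spec (CommRingCat.of R), ⊤))).IsPrime :=
    Ideal.comap_isPrime _ 𝔮
  haveI := hR (𝔮.comap (e.symm : R →+* Γ(Spec (CommRingCat.of R), ⊤)))
  obtain ⟨s, hs, h⟩ := locDvd_of_valuationRing R
    (𝔮.comap (e.symm : R →+* Γ(Spec (CommRingCat.of R), ⊤))) (e a) (e b)
  refine ⟨e.symm s, fun h' => hs h', ?_⟩
  rcases h with h | h
  · left
    have := map_dvd e.symm h
    simpa using this
  · right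
    have := map_dvd e.symm h
    simpa using this

theorem main (R : Type u) [CommRing R] [IsDomain R]
    (hR : ∀ (p : Ideal R) [p.IsPrime], ValuationRing (Localization.AtPrime p))
    (X : Scheme.{u}) [IrreducibleSpace X] (f : X ⟶ Spec (CommRingCat.of R))
    [LocallyOfFiniteType f] [QuasiCompact f] [IsDominant f] (γ : Spec (CommRingCat.of R))
    (h0 : Nonempty ↥(f.fiber γ)) :
    topologicalKrullDim ↥(f.fiber γ) =
      topologicalKrullDim ↥(f.fiber (genericPoint (Spec (CommRingCat.of R)))) := by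
  have hV : IsAffineOpen (⊤ : (Spec (CommRingCat.of R)).Opens) := isAffineOpen_top _
  have hle : ∀ z : X, tr f z ≤ tr f (genericPoint X) := fun z =>
    tr_le_tr_of_locDvd f hV (genericPoint X) z (genericPoint_specializes z) trivial
      (fun a b => locDvd_Γ_Spec R hR _ a b)
  have hgen : f (genericPoint X) = genericPoint (Spec (CommRingCat.of R)) := by
    have h1 : IsGenericPoint (f (genericPoint X)) (closure (f '' Set.univ)) :=
      (genericPoint_spec X).image f.continuous
    rw [Set.image_univ, f.denseRange.closure_range] at h1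
    exact ((genericPoint_spec _).eq h1).symm
  obtain ⟨w⟩ := h0
  have hz : f (f.fiberι _ w) = γ := fiberι_mem f _ w
  obtain ⟨z', hz', -, -, htr⟩ := exists_max_tr_eq_fibreDimAt f (f.fiberι _ w)
  have h2 := tr_le_fibreDimAt_of_specializes_nn f (f.fiberι _ w) (genericPoint X)
    (genericPoint_specializes _)
  rw [← htr] at h2
  have h3 : tr f (genericPoint X) ≤ tr f z' := by exact_mod_cast h2
  rw [dim_fiber_eq_of_tr f _ (tr f (genericPoint X)) (fun z _ => hle z) z' (hz'.trans hz)
    (le_antisymm (hle z') h3),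
    dim_fiber_eq_of_tr f _ (tr f (genericPoint X)) (fun z _ => hle z) (genericPoint X) hgen rfl]

end Groth.Agent.Lib.Helper4.ValPruf1
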