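import Mathlib
import Groth.Agent.Lib.Helper4.Vasc1
import Groth.Agent.Lib.Helper4.RegSpread1

/-!
# Vasconcelos theorem: finite projective dimension + projective conormal module => regular ideal (S2189) (helper4)
-/

set_option backward.isDefEq.respectTransparency.types false
set_option synthInstance.maxHeartbeats 400000
set_option autoImplicit false
set_option linter.unusedSectionVars false
set_option linter.style.haveILetI false
set_option linter.unusedSimpArgs false
universe u v w
open CategoryTheory CategoryTheory.Limits TensorProduct IsLocalRing RingTheory.Sequence Pointwise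
open Groth.Agent.Lib.Helper4.Vasc1

namespace Groth.Agent.Lib.Helper4.Vasc2


/-- dual basis data for a finitely generated projective conormal module -/
theorem exists_dual_basis {R : Type u} [CommRing R] [IsNoetherianRing R] (I : Ideal R)
    [Module.Projective (R ⧸ I) I.Cotangent] :
    ∃ (k : ℕ) (a : Fin k → I) (ψ : Fin k → (I →ₗ[R] R ⧸ I)),
      ∀ y : I, I.toCotangent y = ∑ j, ψ j y • I.toCotangent (a j) := by
  classical
  obtain ⟨k, a, ha⟩ := Module.Finite.exists_fin (R := R) (M := I)
  obtain ⟨π, hπ⟩ : ∃ π : (Fin k → R ⧸ I) →ₗ[R ⧸ I] I.Cotangent,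
      π = Fintype.linearCombination (R ⧸ I) (fun j => I.toCotangent (a j)) := ⟨_, rfl⟩
  have hπsurj : Function.Surjective π := by
    intro m
    obtain ⟨y, rfl⟩ := I.toCotangent_surjective m
    have hy : y ∈ Submodule.span R (Set.range a) := by rw [ha]; trivial
    rw [Submodule.mem_span_range_iff_exists_fun] at hy
    obtain ⟨c, rfl⟩ := hy
    refine ⟨fun j => Ideal.Quotient.mk I (c j), ?_⟩
    rw [hπ, Fintype.linearCombination_apply, map_sum]
    refine Finset.sum_congr rfl fun j _ => ?_
    rw [mk_smul_toCotangent]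
  obtain ⟨s, hs⟩ := Module.projective_lifting_property π LinearMap.id hπsurj
  refine ⟨k, a, fun j => (((LinearMap.proj j : (Fin k → R ⧸ I) →ₗ[R ⧸ I] R ⧸ I).comp
    s).restrictScalars R).comp I.toCotangent, ?_⟩
  intro y
  have h1 := LinearMap.congr_fun hs (I.toCotangent y)
  rw [LinearMap.comp_apply, LinearMap.id_apply, hπ, Fintype.linearCombination_apply] at h1
  exact h1.symm

/-- the local step: an ideal of finite projective dimension in a Noetherian local ring with dual
basis data for its conormal module is generated by a regular sequence -/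
theorem exists_regular_generators {A : Type u} [CommRing A] [IsNoetherianRing A] [IsLocalRing A]
    (𝔞 : Ideal A) (h𝔞 : 𝔞 ≠ ⊤) (n : ℕ) (hpd : HasProjectiveDimensionLT (ModuleCat.of A 𝔞) n)
    (k : ℕ) (a : Fin k → 𝔞) (ψ : Fin k → (𝔞 →ₗ[A] A ⧸ 𝔞))
    (hdb : ∀ y : 𝔞, 𝔞.toCotangent y = ∑ j, ψ j y • 𝔞.toCotangent (a j)) :
    ∃ (r : ℕ) (z : Fin r → A), IsRegular A (List.ofFn z) ∧ Ideal.span (Set.range z) = 𝔞 := by
  classical
  haveI : Nontrivial (A ⧸ 𝔞) := Ideal.Quotient.nontrivial_iff.mpr h𝔞
  haveI : IsLocalRing (A ⧸ 𝔞) :=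
    IsLocalRing.of_surjective' (Ideal.Quotient.mk _) Ideal.Quotient.mk_surjective
  -- the conormal module is projective
  have hψ0 : ∀ j (x y : 𝔞), ψ j (x * y) = 0 := by
    intro j x y
    have : x * y = (x : A) • y := rfl
    rw [this, map_smul, Algebra.smul_def]
    have : algebraMap A (A ⧸ 𝔞) (x : A) = 0 := Ideal.Quotient.eq_zero_iff_mem.mpr x.2
    rw [this, zero_mul]
  obtain ⟨ι, hι⟩ : ∃ ι : 𝔞.Cotangent →ₗ[A ⧸ 𝔞] (Fin k → A ⧸ 𝔞),
      ι = LinearMap.pi (fun j => (Ideal.Cotangent.lift (ψ j) (hψ0 j)).extendScalarsOfSurjective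
        Ideal.Quotient.mk_surjective) := ⟨_, rfl⟩
  obtain ⟨σ, hσ⟩ : ∃ σ : (Fin k → A ⧸ 𝔞) →ₗ[A ⧸ 𝔞] 𝔞.Cotangent,
      σ = Fintype.linearCombination (A ⧸ 𝔞) (fun j => 𝔞.toCotangent (a j)) := ⟨_, rfl⟩
  have hσι : σ.comp ι = LinearMap.id := by
    apply LinearMap.ext
    intro m
    obtain ⟨y, rfl⟩ := 𝔞.toCotangent_surjective m
    have hιy : ∀ j, ι (𝔞.toCotangent y) j = ψ j y := by
      intro j
      rw [hι, LinearMap.pi_apply, LinearMap.extendScalarsOfSurjective_apply,
        Ideal.Cotangent.lift_toCotangent]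
    rw [LinearMap.comp_apply, LinearMap.id_apply, hσ, Fintype.linearCombination_apply]
    conv_rhs => rw [hdb y]
    refine Finset.sum_congr rfl fun j _ => ?_
    rw [hιy]
  haveI : Module.Projective (A ⧸ 𝔞) 𝔞.Cotangent := Module.Projective.of_split ι σ hσι
  haveI : Module.Finite A 𝔞.Cotangent := Module.Finite.of_surjective _ 𝔞.toCotangent_surjective
  haveI : Module.Finite (A ⧸ 𝔞) 𝔞.Cotangent := Module.Finite.of_restrictScalars_finite A _ _
  haveI : Module.Free (A ⧸ 𝔞) 𝔞.Cotangent := Module.free_of_flat_of_isLocalRing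
  obtain ⟨r, ⟨b⟩⟩ : ∃ r : ℕ, Nonempty (Module.Basis (Fin r) (A ⧸ 𝔞) 𝔞.Cotangent) :=
    ⟨_, ⟨Module.finBasis _ _⟩⟩
  obtain ⟨x, hx, hreg, hspan⟩ := S2188_main 𝔞 h𝔞 n hpd ⊤ ⊥ isCompl_top_bot r
    (Submodule.topEquiv.trans b.equivFun)
  refine ⟨r, x, hreg, ?_⟩
  have hle : Ideal.span (Set.range x) ≤ 𝔞 := by
    rw [Ideal.span_le]
    rintro _ ⟨i, rfl⟩
    exact hx i
  apply le_antisymm hle
  have hcoe := span_toCotangent_eq 𝔞 (fun i => (⟨x i, hx i⟩ : 𝔞))
  rw [hspan] at hcoe
  have hsub : 𝔞 ≤ Ideal.span (Set.range x) ⊔ 𝔞 • 𝔞 := by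
    intro y hy
    have h1 : 𝔞.toCotangent ⟨y, hy⟩ ∈ ((⊤ : Submodule (A ⧸ 𝔞) 𝔞.Cotangent) : Set 𝔞.Cotangent) :=
      trivial
    rw [hcoe] at h1
    obtain ⟨t, ht, hty⟩ := h1
    rw [𝔞.toCotangent_eq] at hty
    have h2 : y = (t : A) - ((t : A) - y) := by ring
    rw [h2, smul_eq_mul, ← pow_two]
    refine Ideal.sub_mem _ ht (Ideal.mem_sup_right hty)
  refine Submodule.le_of_le_smul_of_le_jacobson_bot (IsNoetherian.noetherian 𝔞) ?_ hsub
  rw [IsLocalRing.jacobson_eq_maximalIdeal ⊥ bot_ne_top]
  exact le_maximalIdeal h𝔞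





/-- the canonical map `R/I → A/IA` -/
noncomputable def quotMapLin {R : Type u} [CommRing R] (I : Ideal R) (A : Type u) [CommRing A]
    [Algebra R A] : (R ⧸ I) →ₗ[R] (A ⧸ I.map (algebraMap R A)) :=
  Submodule.liftQ I (Algebra.linearMap R (A ⧸ I.map (algebraMap R A))) (by
    intro a ha
    rw [LinearMap.mem_ker, Algebra.linearMap_apply,
      IsScalarTower.algebraMap_apply R A (A ⧸ I.map (algebraMap R A))]
    exact Ideal.Quotient.eq_zero_iff_mem.mpr (Ideal.mem_map_of_mem _ ha))

theorem quotMapLin_mk {R : Type u} [CommRing R] (I : Ideal R) (A : Type u) [CommRing A]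
    [Algebra R A] (c : R) : quotMapLin I A (Ideal.Quotient.mk I c) =
      Ideal.Quotient.mk (I.map (algebraMap R A)) (algebraMap R A c) := by
  show quotMapLin I A (Submodule.Quotient.mk c) = _
  unfold quotMapLin
  rw [Submodule.liftQ_apply, Algebra.linearMap_apply,
    IsScalarTower.algebraMap_apply R A (A ⧸ I.map (algebraMap R A))]
  rfl

theorem S2189_main {R : Type u} [CommRing R]
    [IsNoetherianRing R] (I : Ideal R) (n : ℕ)
    (hpd : HasProjectiveDimensionLT (ModuleCat.of R I) n)
    [Module.Projective (R ⧸ I) I.Cotangent] (p : Ideal R) [p.IsPrime] (hIp : I ≤ p) :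
    ∃ g : R, g ∉ p ∧ ∃ rs : List (Localization.Away g),
      RingTheory.Sequence.IsRegular (Localization.Away g) rs ∧
        Ideal.ofList rs = I.map (algebraMap R (Localization.Away g)) := by
  classical
  obtain ⟨k, a, ψ, hdb⟩ := exists_dual_basis I
  obtain ⟨ℓ, hℓ⟩ : ∃ ℓ : I →ₗ[R] I.map (algebraMap R (Localization.AtPrime p)),
      ℓ = Algebra.idealMap (Localization.AtPrime p) I := ⟨_, rfl⟩
  haveI hloc : IsLocalizedModule p.primeCompl ℓ := by
    rw [hℓ]; exact Algebra.idealMap_isLocalizedModule _ _ I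
  -- projective dimension of the localized ideal
  have hpd1 := pd_baseChange_flat (R' := Localization.AtPrime p) n I hpd
  have hpd2 : HasProjectiveDimensionLT (ModuleCat.of (Localization.AtPrime p)
      (I.map (algebraMap R (Localization.AtPrime p)))) n :=
    hasProjectiveDimensionLT_of_iso
      ((IsLocalizedModule.isBaseChange p.primeCompl (Localization.AtPrime p) ℓ).equiv.toModuleIso) n
  have h𝔞top : I.map (algebraMap R (Localization.AtPrime p)) ≠ ⊤ := by
    intro h
    have h1 : I.map (algebraMap R (Localization.AtPrime p)) ≤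
        maximalIdeal (Localization.AtPrime p) := by
      rw [← Localization.AtPrime.map_eq_maximalIdeal]
      exact Ideal.map_mono hIp
    rw [h] at h1
    exact (maximalIdeal.isMaximal _).ne_top (top_le_iff.mp h1)
  -- localized functionals
  have hunits : ∀ s : p.primeCompl, IsUnit (algebraMap R (Module.End R
      (Localization.AtPrime p ⧸ I.map (algebraMap R (Localization.AtPrime p)))) s) := by
    intro s
    rw [← (Algebra.lsmul R (A := Localization.AtPrime p) R
      (Localization.AtPrime p ⧸ I.map (algebraMap R (Localization.AtPrime p)))).commutes]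
    exact (IsLocalization.map_units (Localization.AtPrime p) s).map _
  obtain ⟨ψ', hψ'⟩ : ∃ ψ' : Fin k → (I.map (algebraMap R (Localization.AtPrime p)) →ₗ[Localization.AtPrime p]
      (Localization.AtPrime p ⧸ I.map (algebraMap R (Localization.AtPrime p)))),
      ψ' = fun j => (IsLocalizedModule.lift p.primeCompl ℓ
        ((quotMapLin I (Localization.AtPrime p)).comp (ψ j)) hunits).extendScalarsOfIsLocalization
          p.primeCompl (Localization.AtPrime p) := ⟨_, rfl⟩
  have hψ'ℓ : ∀ j y, ψ' j (ℓ y) = quotMapLin I (Localization.AtPrime p) (ψ j y) := by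
    intro j y
    rw [hψ']
    show IsLocalizedModule.lift p.primeCompl ℓ _ hunits (ℓ y) = _
    rw [IsLocalizedModule.lift_apply]
    rfl
  -- the localized dual basis property
  have hdb' : ∀ t : I.map (algebraMap R (Localization.AtPrime p)),
      (I.map (algebraMap R (Localization.AtPrime p))).toCotangent t =
        ∑ j, ψ' j t • (I.map (algebraMap R (Localization.AtPrime p))).toCotangent (ℓ (a j)) := by
    intro t
    obtain ⟨⟨y, s⟩, hys⟩ := IsLocalizedModule.surj p.primeCompl ℓ t
    have hsunit : IsUnit (algebraMap R (Localization.AtPrime p) s) :=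
      IsLocalization.map_units _ s
    -- reduce to t = ℓ y
    have hkey : (I.map (algebraMap R (Localization.AtPrime p))).toCotangent (ℓ y) =
        ∑ j, ψ' j (ℓ y) • (I.map (algebraMap R (Localization.AtPrime p))).toCotangent (ℓ (a j)) := by
      have hc : ∀ j, ∃ c : R, Ideal.Quotient.mk I c = ψ j y :=
        fun j => Ideal.Quotient.mk_surjective _
      choose c hc using hc
      have h1 : I.toCotangent y = I.toCotangent (∑ j, c j • a j) := by
        rw [hdb y, map_sum]
        refine Finset.sum_congr rfl fun j _ => ?_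
        rw [← hc j, mk_smul_toCotangent]
      rw [I.toCotangent_eq] at h1
      have h2 : (I.map (algebraMap R (Localization.AtPrime p))).toCotangent (ℓ y) =
          (I.map (algebraMap R (Localization.AtPrime p))).toCotangent (ℓ (∑ j, c j • a j)) := by
        rw [Ideal.toCotangent_eq]
        have : ((ℓ y : I.map (algebraMap R (Localization.AtPrime p))) : Localization.AtPrime p) -
            ((ℓ (∑ j, c j • a j) : I.map (algebraMap R (Localization.AtPrime p))) :
              Localization.AtPrime p) =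
            algebraMap R (Localization.AtPrime p) ((y : R) - ((∑ j, c j • a j : I) : R)) := by
          rw [hℓ, map_sub]
          rfl
        rw [this, ← Ideal.map_pow]
        exact Ideal.mem_map_of_mem _ h1
      rw [h2, map_sum, map_sum]
      refine Finset.sum_congr rfl fun j _ => ?_
      rw [hψ'ℓ, ← hc j, quotMapLin_mk, mk_smul_toCotangent, algebraMap_smul, ← map_smul]
    have h3 : (s : R) • t = ℓ y := hys
    have h4 : t = (↑hsunit.unit⁻¹ : Localization.AtPrime p) • ℓ y := by
      rw [← h3, ← algebraMap_smul (Localization.AtPrime p) (s : R) t, smul_smul]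
      have : (↑hsunit.unit⁻¹ : Localization.AtPrime p) * algebraMap R (Localization.AtPrime p) s
          = 1 := hsunit.val_inv_mul
      rw [this, one_smul]
    rw [h4, map_smul, hkey, Finset.smul_sum]
    refine Finset.sum_congr rfl fun j _ => ?_
    rw [map_smul, smul_assoc]
  obtain ⟨r, z, hzreg, hzspan⟩ := exists_regular_generators
    (I.map (algebraMap R (Localization.AtPrime p))) h𝔞top n hpd2 k (fun j => ℓ (a j)) ψ' hdb'
  have hofList : I.map (algebraMap R (Localization.AtPrime p)) = Ideal.ofList (List.ofFn z) := by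
    rw [← hzspan, Ideal.ofList]
    congr 1
    ext t
    simp [List.mem_ofFn]
  obtain ⟨g, as, hg, -, hB⟩ := Groth.Agent.Lib.Helper4.RegSpread1.exists_away_regular I p
    (Localization.AtPrime p) (List.ofFn z) hzreg hofList
  obtain ⟨hreg, heq⟩ := hB (Localization.Away g)
  exact ⟨g, hg, as.map (algebraMap R (Localization.Away g)), hreg, heq.symm⟩

end Groth.Agent.Lib.Helper4.Vasc2
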