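import Mathlib

/-!
# Weak directed colimits

A "weak directed colimit datum": a family of modules `G i` with a cocone `g i : G i → A`,
together with sets `T i j` of transition maps compatible with the cocone, such that the cocone is
jointly surjective, any two indices are dominated by a third one, and every element of the kernel
of `g i` is killed by some transition map.  No functoriality of the transition maps is required.
We show that tensoring preserves such data.
-/

namespace Groth.Agent.Helper4.WColim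

open TensorProduct

universe u v w x

section Module

variable {ι : Type u} (k : Type v) [CommRing k] (G : ι → Type w) [∀ i, AddCommGroup (G i)]
  [∀ i, Module k (G i)] (A : Type x) [AddCommGroup A] [Module k A]

/-- Module-level weak directed colimit datum. -/
structure IsWColim (T : ∀ i j, Set (G i →ₗ[k] G j)) (g : ∀ i, G i →ₗ[k] A) : Prop where
  nonempty : Nonempty ι
  id_mem : ∀ i, LinearMap.id ∈ T i i
  comp : ∀ {i j l} {u : G i →ₗ[k] G j} {v : G j →ₗ[k] G l}, u ∈ T i j → v ∈ T j l →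
    v ∘ₗ u ∈ T i l
  compat : ∀ {i j} {u : G i →ₗ[k] G j}, u ∈ T i j → g j ∘ₗ u = g i
  directed : ∀ i j, ∃ l, (T i l).Nonempty ∧ (T j l).Nonempty
  surj : ∀ a : A, ∃ i, ∃ x : G i, g i x = a
  ker : ∀ i (x : G i), g i x = 0 → ∃ j, ∃ u ∈ T i j, u x = 0

variable {k G A}
variable {T : ∀ i j, Set (G i →ₗ[k] G j)} {g : ∀ i, G i →ₗ[k] A}

namespace IsWColim

lemma compat_apply (h : IsWColim k G A T g) {i j} {u : G i →ₗ[k] G j} (hu : u ∈ T i j) (x : G i) :
    g j (u x) = g i x := by
  rw [← h.compat hu]; rfl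

/-- Kill a finite set of kernel elements simultaneously. -/
lemma exists_kill_finset (h : IsWColim k G A T g) (i : ι) (s : Finset (G i))
    (hs : ∀ x ∈ s, g i x = 0) : ∃ j, ∃ u ∈ T i j, ∀ x ∈ s, u x = 0 := by
  classical
  induction s using Finset.induction_on with
  | empty => exact ⟨i, LinearMap.id, h.id_mem i, by simp⟩
  | insert a s ha ih =>
    obtain ⟨j, u, hu, hk⟩ := ih (fun x hx => hs x (Finset.mem_insert_of_mem hx))
    have h0 : g j (u a) = 0 := by
      rw [h.compat_apply hu]; exact hs a (Finset.mem_insert_self a s)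
    obtain ⟨l, v, hv, hva⟩ := h.ker j (u a) h0
    refine ⟨l, v ∘ₗ u, h.comp hu hv, ?_⟩
    intro x hx
    rw [Finset.mem_insert] at hx
    rcases hx with rfl | hx
    · exact hva
    · rw [LinearMap.comp_apply, hk x hx, map_zero]

/-- Kill a finite family of kernel elements simultaneously. -/
lemma exists_kill_family (h : IsWColim k G A T g) (i : ι) {κ : Type*} [Finite κ] (y : κ → G i)
    (hy : ∀ c, g i (y c) = 0) : ∃ j, ∃ u ∈ T i j, ∀ c, u (y c) = 0 := by
  classical
  cases nonempty_fintype κ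
  obtain ⟨j, u, hu, hk⟩ := h.exists_kill_finset i (Finset.univ.image y) (by
    intro x hx
    obtain ⟨c, -, rfl⟩ := Finset.mem_image.1 hx
    exact hy c)
  exact ⟨j, u, hu, fun c => hk _ (Finset.mem_image_of_mem y (Finset.mem_univ c))⟩

/-- Lift a finite set of elements to a common level. -/
lemma exists_lift_finset (h : IsWColim k G A T g) (s : Finset A) :
    ∃ i, ∀ a ∈ s, ∃ x : G i, g i x = a := by
  classical
  induction s using Finset.induction_on with
  | empty => obtain ⟨i⟩ := h.nonempty; exact ⟨i, by simp⟩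
  | insert a s ha ih =>
    obtain ⟨i, hi⟩ := ih
    obtain ⟨j, x, hx⟩ := h.surj a
    obtain ⟨l, ⟨u, hu⟩, ⟨v, hv⟩⟩ := h.directed i j
    refine ⟨l, ?_⟩
    intro b hb
    rw [Finset.mem_insert] at hb
    rcases hb with rfl | hb
    · exact ⟨v x, by rw [h.compat_apply hv, hx]⟩
    · obtain ⟨y, hy⟩ := hi b hb
      exact ⟨u y, by rw [h.compat_apply hu, hy]⟩

/-- Lift a finite family of elements to a common level. -/
lemma exists_lift_family (h : IsWColim k G A T g) {κ : Type*} [Finite κ] (a : κ → A) :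
    ∃ i, ∃ x : κ → G i, ∀ c, g i (x c) = a c := by
  classical
  cases nonempty_fintype κ
  obtain ⟨i, hi⟩ := h.exists_lift_finset (Finset.univ.image a)
  choose x hx using fun c => hi (a c) (Finset.mem_image_of_mem a (Finset.mem_univ c))
  exact ⟨i, x, hx⟩

/-- joint surjectivity is preserved by tensoring. -/
lemma lTensor_surj (h : IsWColim k G A T g) (M : Type*) [AddCommGroup M] [Module k M]
    (z : M ⊗[k] A) : ∃ i, ∃ y : M ⊗[k] G i, LinearMap.lTensor M (g i) y = z := by
  induction z using TensorProduct.induction_on with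
  | zero => obtain ⟨i⟩ := h.nonempty; exact ⟨i, 0, map_zero _⟩
  | tmul m a =>
    obtain ⟨i, x, hx⟩ := h.surj a
    exact ⟨i, m ⊗ₜ x, by rw [LinearMap.lTensor_tmul, hx]⟩
  | add z z' hz hz' =>
    obtain ⟨i, y, hy⟩ := hz
    obtain ⟨j, y', hy'⟩ := hz'
    obtain ⟨l, ⟨u, hu⟩, ⟨v, hv⟩⟩ := h.directed i j
    refine ⟨l, LinearMap.lTensor M u y + LinearMap.lTensor M v y', ?_⟩
    rw [map_add, ← LinearMap.comp_apply, ← LinearMap.comp_apply, ← LinearMap.lTensor_comp,
      ← LinearMap.lTensor_comp, h.compat hu, h.compat hv, hy, hy']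

/-- naturality of `finsuppScalarLeft`. -/
lemma finsuppScalarLeft_lTensor {N N' : Type*} [AddCommGroup N] [Module k N] [AddCommGroup N']
    [Module k N'] (X : Type*) [DecidableEq X] (u : N →ₗ[k] N') (z : (X →₀ k) ⊗[k] N) :
    TensorProduct.finsuppScalarLeft k N' X (LinearMap.lTensor (X →₀ k) u z) =
      Finsupp.mapRange.linearMap u (TensorProduct.finsuppScalarLeft k N X z) := by
  induction z using TensorProduct.induction_on with
  | zero => simp
  | tmul p n =>
    ext x
    simp [TensorProduct.finsuppScalarLeft_apply_tmul_apply]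
  | add z z' hz hz' => simp only [map_add, hz, hz']

/-- the kernel property for tensoring with a free module. -/
lemma lTensor_ker_free (h : IsWColim k G A T g) (X : Type*) (i : ι) (z : (X →₀ k) ⊗[k] G i)
    (hz : LinearMap.lTensor (X →₀ k) (g i) z = 0) :
    ∃ j, ∃ u ∈ T i j, LinearMap.lTensor (X →₀ k) u z = 0 := by
  classical
  set y := TensorProduct.finsuppScalarLeft k (G i) X z with hy
  have h0 : ∀ x, g i (y x) = 0 := by
    intro x
    have := congrArg (fun w => TensorProduct.finsuppScalarLeft k A X w x) hz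
    simp only [finsuppScalarLeft_lTensor, map_zero, Finsupp.coe_zero, Pi.zero_apply] at this
    simpa using this
  obtain ⟨j, u, hu, hk⟩ := h.exists_kill_finset i (y.support.image y) (by
    intro w hw
    obtain ⟨x, -, rfl⟩ := Finset.mem_image.1 hw
    exact h0 x)
  refine ⟨j, u, hu, ?_⟩
  apply (TensorProduct.finsuppScalarLeft k (G j) X).injective
  rw [finsuppScalarLeft_lTensor, map_zero]
  ext x
  by_cases hx : x ∈ y.support
  · simpa using hk _ (Finset.mem_image_of_mem y hx)
  · rw [Finsupp.notMem_support_iff] at hx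
    simp [← hy, hx]

/-- the kernel property is preserved by tensoring. -/
lemma lTensor_ker (h : IsWColim k G A T g) (M : Type*) [AddCommGroup M] [Module k M] (i : ι)
    (z : M ⊗[k] G i) (hz : LinearMap.lTensor M (g i) z = 0) :
    ∃ j, ∃ u ∈ T i j, LinearMap.lTensor M u z = 0 := by
  -- free presentation of `M`
  let F := M →₀ k
  let π : F →ₗ[k] M := Finsupp.linearCombination k id
  have hπ : Function.Surjective π := Finsupp.linearCombination_id_surjective k M
  let K := LinearMap.ker π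
  let incl : K →ₗ[k] F := K.subtype
  have hex : Function.Exact incl π := LinearMap.exact_subtype_ker_map π
  have hπincl : π ∘ₗ incl = 0 := by
    ext x; exact x.2
  -- lift z
  obtain ⟨z', hz'⟩ := LinearMap.rTensor_surjective (G i) hπ z
  have h1 : LinearMap.rTensor A π (LinearMap.lTensor F (g i) z') = 0 := by
    rw [← LinearMap.comp_apply, LinearMap.rTensor_comp_lTensor, ← LinearMap.lTensor_comp_rTensor,
      LinearMap.comp_apply, hz', hz]
  obtain ⟨w, hw⟩ := (rTensor_exact (M := K) (f := incl) A hex hπ _).1 h1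
  obtain ⟨j, wj, hwj⟩ := h.lTensor_surj K w
  obtain ⟨l, ⟨u, hu⟩, ⟨v, hv⟩⟩ := h.directed i j
  set y : F ⊗[k] G l := LinearMap.lTensor F u z' -
    LinearMap.rTensor (G l) incl (LinearMap.lTensor K v wj) with hy
  have hy0 : LinearMap.lTensor F (g l) y = 0 := by
    rw [hy, map_sub, ← LinearMap.comp_apply, ← LinearMap.lTensor_comp, h.compat hu,
      ← LinearMap.comp_apply (LinearMap.lTensor F (g l)), LinearMap.lTensor_comp_rTensor,
      ← LinearMap.rTensor_comp_lTensor, LinearMap.comp_apply, ← LinearMap.comp_apply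
        (LinearMap.lTensor K (g l)), ← LinearMap.lTensor_comp, h.compat hv, hwj, hw, sub_self]
  obtain ⟨l', t, ht, hty⟩ := h.lTensor_ker_free M l y hy0
  refine ⟨l', t ∘ₗ u, h.comp hu ht, ?_⟩
  have h2 : LinearMap.lTensor F t (LinearMap.lTensor F u z') =
      LinearMap.rTensor (G l') incl (LinearMap.lTensor K t (LinearMap.lTensor K v wj)) := by
    have := hty
    rw [hy, map_sub, sub_eq_zero] at this
    rw [this, ← LinearMap.comp_apply, LinearMap.lTensor_comp_rTensor,
      ← LinearMap.rTensor_comp_lTensor, LinearMap.comp_apply]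
  rw [← hz', ← LinearMap.comp_apply, LinearMap.lTensor_comp_rTensor,
    ← LinearMap.rTensor_comp_lTensor, LinearMap.comp_apply, LinearMap.lTensor_comp,
    LinearMap.comp_apply, h2, ← LinearMap.comp_apply, ← LinearMap.rTensor_comp, hπincl,
    LinearMap.rTensor_zero, LinearMap.zero_apply]

/-- Tensoring on the left preserves weak directed colimits. -/
theorem lTensor (h : IsWColim k G A T g) (M : Type*) [AddCommGroup M] [Module k M] :
    IsWColim k (fun i => M ⊗[k] G i) (M ⊗[k] A)
      (fun i j => (LinearMap.lTensor M) '' T i j) (fun i => LinearMap.lTensor M (g i)) where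
  nonempty := h.nonempty
  id_mem i := ⟨LinearMap.id, h.id_mem i, LinearMap.lTensor_id _ _⟩
  comp := by
    rintro i j l _ _ ⟨u, hu, rfl⟩ ⟨v, hv, rfl⟩
    exact ⟨v ∘ₗ u, h.comp hu hv, LinearMap.lTensor_comp _ _ _⟩
  compat := by
    rintro i j _ ⟨u, hu, rfl⟩
    rw [← LinearMap.lTensor_comp, h.compat hu]
  directed i j := by
    obtain ⟨l, ⟨u, hu⟩, ⟨v, hv⟩⟩ := h.directed i j
    exact ⟨l, ⟨_, u, hu, rfl⟩, ⟨_, v, hv, rfl⟩⟩
  surj z := h.lTensor_surj M z
  ker i z hz := by
    obtain ⟨j, u, hu, hk⟩ := h.lTensor_ker M i z hz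
    exact ⟨j, _, ⟨u, hu, rfl⟩, hk⟩

lemma comm_rTensor {N N' : Type*} [AddCommGroup N] [Module k N] [AddCommGroup N']
    [Module k N'] (M : Type*) [AddCommGroup M] [Module k M] (u : N →ₗ[k] N') (z : N ⊗[k] M) :
    TensorProduct.comm k N' M (LinearMap.rTensor M u z) =
      LinearMap.lTensor M u (TensorProduct.comm k N M z) := by
  induction z using TensorProduct.induction_on with
  | zero => simp
  | tmul x m => simp
  | add z z' hz hz' => simp only [map_add, hz, hz']

/-- the kernel property is preserved by tensoring on the right. -/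
lemma rTensor_ker (h : IsWColim k G A T g) (M : Type*) [AddCommGroup M] [Module k M] (i : ι)
    (z : G i ⊗[k] M) (hz : LinearMap.rTensor M (g i) z = 0) :
    ∃ j, ∃ u ∈ T i j, LinearMap.rTensor M u z = 0 := by
  have h1 : LinearMap.lTensor M (g i) (TensorProduct.comm k (G i) M z) = 0 := by
    rw [← comm_rTensor, hz, map_zero]
  obtain ⟨j, u, hu, hk⟩ := h.lTensor_ker M i _ h1
  refine ⟨j, u, hu, ?_⟩
  apply (TensorProduct.comm k (G j) M).injective
  rw [map_zero, ← hk, comm_rTensor]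

/-- joint surjectivity is preserved by tensoring on the right. -/
lemma rTensor_surj (h : IsWColim k G A T g) (M : Type*) [AddCommGroup M] [Module k M]
    (z : A ⊗[k] M) : ∃ i, ∃ y : G i ⊗[k] M, LinearMap.rTensor M (g i) y = z := by
  obtain ⟨i, y, hy⟩ := h.lTensor_surj M (TensorProduct.comm k A M z)
  refine ⟨i, (TensorProduct.comm k (G i) M).symm y, ?_⟩
  apply (TensorProduct.comm k A M).injective
  rw [← hy, comm_rTensor, LinearEquiv.apply_symm_apply]

end IsWColim

end Module

section Alg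

variable {ι : Type u} (k : Type v) [CommRing k] (G : ι → Type w) [∀ i, CommRing (G i)]
  [∀ i, Algebra k (G i)] (A : Type x) [CommRing A] [Algebra k A]

/-- Algebra-level weak directed colimit datum. -/
structure IsWColimAlg (T : ∀ i j, Set (G i →ₐ[k] G j)) (g : ∀ i, G i →ₐ[k] A) : Prop where
  nonempty : Nonempty ι
  id_mem : ∀ i, AlgHom.id k (G i) ∈ T i i
  comp : ∀ {i j l} {u : G i →ₐ[k] G j} {v : G j →ₐ[k] G l}, u ∈ T i j → v ∈ T j l →
    v.comp u ∈ T i l
  compat : ∀ {i j} {u : G i →ₐ[k] G j}, u ∈ T i j → (g j).comp u = g i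
  directed : ∀ i j, ∃ l, (T i l).Nonempty ∧ (T j l).Nonempty
  surj : ∀ a : A, ∃ i, ∃ x : G i, g i x = a
  ker : ∀ i (x : G i), g i x = 0 → ∃ j, ∃ u ∈ T i j, u x = 0

variable {k G A}
variable {T : ∀ i j, Set (G i →ₐ[k] G j)} {g : ∀ i, G i →ₐ[k] A}

namespace IsWColimAlg

lemma compat_apply (h : IsWColimAlg k G A T g) {i j} {u : G i →ₐ[k] G j} (hu : u ∈ T i j)
    (x : G i) : g j (u x) = g i x := by
  rw [← h.compat hu]; rfl

/-- the underlying module-level datum. -/
lemma toLin (h : IsWColimAlg k G A T g) :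
    IsWColim k G A (fun i j => AlgHom.toLinearMap '' T i j) (fun i => (g i).toLinearMap) where
  nonempty := h.nonempty
  id_mem i := ⟨_, h.id_mem i, rfl⟩
  comp := by
    rintro i j l _ _ ⟨u, hu, rfl⟩ ⟨v, hv, rfl⟩
    exact ⟨v.comp u, h.comp hu hv, rfl⟩
  compat := by
    rintro i j _ ⟨u, hu, rfl⟩
    rw [← AlgHom.comp_toLinearMap, h.compat hu]
  directed i j := by
    obtain ⟨l, ⟨u, hu⟩, ⟨v, hv⟩⟩ := h.directed i j
    exact ⟨l, ⟨_, u, hu, rfl⟩, ⟨_, v, hv, rfl⟩⟩
  surj := h.surj
  ker i x hx := by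
    obtain ⟨j, u, hu, hk⟩ := h.ker i x hx
    exact ⟨j, _, ⟨u, hu, rfl⟩, hk⟩

lemma exists_kill_family (h : IsWColimAlg k G A T g) (i : ι) {κ : Type*} [Finite κ]
    (y : κ → G i) (hy : ∀ c, g i (y c) = 0) : ∃ j, ∃ u ∈ T i j, ∀ c, u (y c) = 0 := by
  obtain ⟨j, _, ⟨u, hu, rfl⟩, hk⟩ := h.toLin.exists_kill_family i y hy
  exact ⟨j, u, hu, hk⟩

lemma exists_lift_family (h : IsWColimAlg k G A T g) {κ : Type*} [Finite κ] (a : κ → A) :
    ∃ i, ∃ x : κ → G i, ∀ c, g i (x c) = a c :=
  h.toLin.exists_lift_family a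

/-- A system as in the statements gives a weak colimit datum. -/
lemma ofSystem [Preorder ι] [IsDirected ι (· ≤ ·)] [Nonempty ι]
    (f : ∀ i j, i ≤ j → (G i →ₐ[k] G j)) (g : ∀ i, G i →ₐ[k] A)
    (hg : ∀ i j (h : i ≤ j), (g j).comp (f i j h) = g i)
    (hsurj : ∀ a : A, ∃ i, ∃ x : G i, g i x = a)
    (hker : ∀ i (x : G i), g i x = 0 → ∃ j, ∃ h : i ≤ j, f i j h x = 0) :
    IsWColimAlg k G A (fun i j => {u | (g j).comp u = g i}) g where
  nonempty := inferInstance
  id_mem i := AlgHom.comp_id _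
  comp := by
    intro i j l u v hu hv
    change (g l).comp (v.comp u) = g i
    rw [← AlgHom.comp_assoc, hv, hu]
  compat hu := hu
  directed i j := by
    obtain ⟨l, hil, hjl⟩ := exists_ge_ge i j
    exact ⟨l, ⟨f i l hil, hg i l hil⟩, ⟨f j l hjl, hg j l hjl⟩⟩
  surj := hsurj
  ker i x hx := by
    obtain ⟨j, hij, hk⟩ := hker i x hx
    exact ⟨j, f i j hij, hg i j hij, hk⟩

/-- Base change of a weak colimit datum of algebras. -/
theorem baseChange (h : IsWColimAlg k G A T g) (B₀ : Type*) [CommRing B₀] [Algebra k B₀] :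
    IsWColimAlg B₀ (fun i => B₀ ⊗[k] G i) (B₀ ⊗[k] A)
      (fun i j => (Algebra.TensorProduct.map (AlgHom.id B₀ B₀)) '' T i j)
      (fun i => Algebra.TensorProduct.map (AlgHom.id B₀ B₀) (g i)) where
  nonempty := h.nonempty
  id_mem i := ⟨_, h.id_mem i, Algebra.TensorProduct.map_id⟩
  comp := by
    rintro i j l _ _ ⟨u, hu, rfl⟩ ⟨v, hv, rfl⟩
    refine ⟨v.comp u, h.comp hu hv, ?_⟩
    ext x
    simp
  compat := by
    rintro i j _ ⟨u, hu, rfl⟩
    rw [← h.compat hu]
    ext x
    simp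
  directed i j := by
    obtain ⟨l, ⟨u, hu⟩, ⟨v, hv⟩⟩ := h.directed i j
    exact ⟨l, ⟨_, u, hu, rfl⟩, ⟨_, v, hv, rfl⟩⟩
  surj z := h.toLin.lTensor_surj B₀ z
  ker i z hz := by
    obtain ⟨j, _, ⟨u, hu, rfl⟩, hk⟩ := h.toLin.lTensor_ker B₀ i z hz
    exact ⟨j, _, ⟨u, hu, rfl⟩, hk⟩

/-- Tensoring a weak colimit datum of algebras on the right with an algebra. -/
theorem tensorRight (h : IsWColimAlg k G A T g) (C₀ : Type*) [CommRing C₀] [Algebra k C₀] :
    IsWColimAlg k (fun i => G i ⊗[k] C₀) (A ⊗[k] C₀)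
      (fun i j => (fun u => Algebra.TensorProduct.map u (AlgHom.id k C₀)) '' T i j)
      (fun i => Algebra.TensorProduct.map (g i) (AlgHom.id k C₀)) where
  nonempty := h.nonempty
  id_mem i := ⟨_, h.id_mem i, Algebra.TensorProduct.map_id⟩
  comp := by
    rintro i j l _ _ ⟨u, hu, rfl⟩ ⟨v, hv, rfl⟩
    refine ⟨v.comp u, h.comp hu hv, ?_⟩
    ext x <;> simp
  compat := by
    rintro i j _ ⟨u, hu, rfl⟩
    rw [← h.compat hu]
    ext x <;> simp
  directed i j := by
    obtain ⟨l, ⟨u, hu⟩, ⟨v, hv⟩⟩ := h.directed i j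
    exact ⟨l, ⟨_, u, hu, rfl⟩, ⟨_, v, hv, rfl⟩⟩
  surj z := h.toLin.rTensor_surj C₀ z
  ker i z hz := by
    obtain ⟨j, _, ⟨u, hu, rfl⟩, hk⟩ := h.toLin.rTensor_ker C₀ i z hz
    exact ⟨j, _, ⟨u, hu, rfl⟩, hk⟩

end IsWColimAlg

end Alg

section Descent

variable {ι : Type u} {k : Type v} [CommRing k] {G : ι → Type w} [∀ i, CommRing (G i)]
  [∀ i, Algebra k (G i)] {A : Type x} [CommRing A] [Algebra k A]
  {T : ∀ i j, Set (G i →ₐ[k] G j)} {g : ∀ i, G i →ₐ[k] A}
  (C₀ : Type*) [CommRing C₀] [Algebra k C₀]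

namespace IsWColimAlg

/-- Key step for surjectivity: from some level on, every generator `1 ⊗ c` is in the image of the
structure map. -/
lemma exists_forall_one_tmul_mem_range (h : IsWColimAlg k G A T g)
    (hs : Function.Surjective (algebraMap A (A ⊗[k] C₀))) (s : Finset C₀) :
    ∃ i, ∀ j, ∀ u ∈ T i j, ∀ c ∈ s, ∃ x : G j, x ⊗ₜ[k] (1 : C₀) = (1 : G j) ⊗ₜ[k] c := by
  have hC := h.tensorRight C₀
  choose b hb using fun c : s => hs ((1 : A) ⊗ₜ[k] (c : C₀))
  obtain ⟨i, x, hx⟩ := h.exists_lift_family b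
  have hker : ∀ c : s, Algebra.TensorProduct.map (g i) (AlgHom.id k C₀)
      (x c ⊗ₜ[k] (1 : C₀) - (1 : G i) ⊗ₜ[k] (c : C₀)) = 0 := by
    intro c
    rw [map_sub, Algebra.TensorProduct.map_tmul, Algebra.TensorProduct.map_tmul, hx, map_one,
      map_one, AlgHom.id_apply, ← hb c, Algebra.TensorProduct.algebraMap_apply,
      Algebra.algebraMap_self_apply, sub_self]
  obtain ⟨j, _, ⟨u, hu, rfl⟩, hk⟩ := hC.exists_kill_family i _ hker
  refine ⟨j, fun l v hv c hc => ⟨v (u (x ⟨c, hc⟩)), ?_⟩⟩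
  have := congrArg (Algebra.TensorProduct.map v (AlgHom.id k C₀)) (hk ⟨c, hc⟩)
  simp only [map_sub, Algebra.TensorProduct.map_tmul, map_one, AlgHom.id_apply, map_zero,
    sub_eq_zero] at this
  exact this

/-- Surjectivity from generators. -/
lemma surjective_of_forall_one_tmul_mem_range (R : Type*) [CommRing R] [Algebra k R]
    (s : Set C₀) (hs : Algebra.adjoin k s = ⊤)
    (h : ∀ c ∈ s, ∃ x : R, x ⊗ₜ[k] (1 : C₀) = (1 : R) ⊗ₜ[k] c) :
    Function.Surjective (algebraMap R (R ⊗[k] C₀)) := by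
  rw [Algebra.surjective_algebraMap_iff, eq_bot_iff,
    ← Algebra.TensorProduct.adjoin_one_tmul_image_eq_top s hs, Algebra.adjoin_le_iff]
  rintro _ ⟨c, hc, rfl⟩
  obtain ⟨x, hx⟩ := h c hc
  rw [SetLike.mem_coe, Algebra.mem_bot]
  exact ⟨x, by rw [Algebra.TensorProduct.algebraMap_apply, Algebra.algebraMap_self_apply, hx]⟩

/-- Descent of surjectivity (eventually). -/
theorem exists_forall_surjective (h : IsWColimAlg k G A T g) [Algebra.FiniteType k C₀]
    (hs : Function.Surjective (algebraMap A (A ⊗[k] C₀))) :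
    ∃ i, ∀ j, ∀ u ∈ T i j, Function.Surjective (algebraMap (G j) (G j ⊗[k] C₀)) := by
  obtain ⟨s, hsgen⟩ := (Algebra.FiniteType.out : (⊤ : Subalgebra k C₀).FG)
  obtain ⟨i, hi⟩ := h.exists_forall_one_tmul_mem_range C₀ hs s
  exact ⟨i, fun j u hu => surjective_of_forall_one_tmul_mem_range C₀ (G j) (s : Set C₀) hsgen
    (fun c hc => hi j u hu c hc)⟩

/-- Descent of surjectivity. -/
theorem exists_surjective (h : IsWColimAlg k G A T g) [Algebra.FiniteType k C₀]
    (hs : Function.Surjective (algebraMap A (A ⊗[k] C₀))) :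
    ∃ i, Function.Surjective (algebraMap (G i) (G i ⊗[k] C₀)) := by
  obtain ⟨i, hi⟩ := h.exists_forall_surjective C₀ hs
  exact ⟨i, hi i _ (h.id_mem i)⟩

end IsWColimAlg

end Descent

end Groth.Agent.Helper4.WColim
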