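import Mathlib
import Groth.Agent.Lib.Helper4.WColim

/-!
# Descent of properties along weak directed colimits (continued)
-/

namespace Groth.Agent.Helper4.WColim

open TensorProduct

universe u v w x

variable {ι : Type u} {k : Type v} [CommRing k] {G : ι → Type w} [∀ i, CommRing (G i)]
  [∀ i, Algebra k (G i)] {A : Type x} [CommRing A] [Algebra k A]
  {T : ∀ i j, Set (G i →ₐ[k] G j)} {g : ∀ i, G i →ₐ[k] A}
  (C₀ : Type*) [CommRing C₀] [Algebra k C₀]

namespace IsWColimAlg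

/-- A map from a finitely presented algebra to the colimit factors through a finite level. -/
theorem exists_factor (h : IsWColimAlg k G A T g) [Algebra.FinitePresentation k C₀]
    (r : C₀ →ₐ[k] A) : ∃ i, ∃ r' : C₀ →ₐ[k] G i, (g i).comp r' = r := by
  obtain ⟨n, φ, hφ, hfg⟩ := (Algebra.FinitePresentation.out : ∃ (n : ℕ)
    (f : MvPolynomial (Fin n) k →ₐ[k] C₀), Function.Surjective f ∧ (RingHom.ker f.toRingHom).FG)
  obtain ⟨S, hS⟩ := hfg
  obtain ⟨i, x, hx⟩ := h.exists_lift_family (fun v : Fin n => r (φ (MvPolynomial.X v)))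
  set ψ : MvPolynomial (Fin n) k →ₐ[k] G i := MvPolynomial.aeval x with hψdef
  have hψ : (g i).comp ψ = r.comp φ := by
    apply MvPolynomial.algHom_ext
    intro v
    simp [hψdef, hx]
  have hker : ∀ p : S, g i (ψ (p : MvPolynomial (Fin n) k)) = 0 := by
    intro p
    have h1 : (g i) (ψ p) = r (φ p) := AlgHom.congr_fun hψ p
    have h2 : (p : MvPolynomial (Fin n) k) ∈ RingHom.ker φ.toRingHom := by
      rw [← hS]; exact Ideal.subset_span p.2
    have h3 : φ (p : MvPolynomial (Fin n) k) = 0 := h2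
    rw [h1, h3, map_zero]
  obtain ⟨j, u, hu, hk⟩ := h.exists_kill_family i _ hker
  have H : RingHom.ker φ.toRingHom ≤ RingHom.ker (u.comp ψ).toRingHom := by
    rw [← hS, Ideal.span_le]
    intro p hp
    exact hk ⟨p, hp⟩
  refine ⟨j, AlgHom.liftOfSurjective φ hφ (u.comp ψ) H, ?_⟩
  ext c
  obtain ⟨p, rfl⟩ := hφ c
  rw [AlgHom.comp_apply, AlgHom.liftOfSurjective_apply, AlgHom.comp_apply, h.compat_apply hu]
  exact AlgHom.congr_fun hψ p

/-- Any algebra map `C₀ → R` gives a retraction of `R → R ⊗ C₀`. -/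
lemma injective_algebraMap_of_algHom (R : Type*) [CommRing R] [Algebra k R] (r : C₀ →ₐ[k] R) :
    Function.Injective (algebraMap R (R ⊗[k] C₀)) := by
  let ρ : R ⊗[k] C₀ →ₐ[R] R :=
    Algebra.TensorProduct.lift (AlgHom.id R R) r (fun _ _ => Commute.all _ _)
  have : Function.LeftInverse ρ (algebraMap R (R ⊗[k] C₀)) := by
    intro x
    rw [Algebra.TensorProduct.algebraMap_apply, Algebra.algebraMap_self_apply]
    simp [ρ]
  exact this.injective

/-- Descent of bijectivity. -/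
theorem exists_bijective (h : IsWColimAlg k G A T g) [Algebra.FinitePresentation k C₀]
    (hb : Function.Bijective (algebraMap A (A ⊗[k] C₀))) :
    ∃ i, Function.Bijective (algebraMap (G i) (G i ⊗[k] C₀)) := by
  haveI : Algebra.FiniteType k C₀ := inferInstance
  obtain ⟨i₁, h₁⟩ := h.exists_forall_surjective C₀ hb.2
  let e : A ≃ₐ[A] A ⊗[k] C₀ := AlgEquiv.ofBijective (Algebra.ofId A (A ⊗[k] C₀)) hb
  let r : C₀ →ₐ[k] A := (e.symm.toAlgHom.restrictScalars k).comp
    Algebra.TensorProduct.includeRight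
  obtain ⟨i₂, r₂, -⟩ := h.exists_factor C₀ r
  obtain ⟨l, ⟨u₁, hu₁⟩, ⟨u₂, hu₂⟩⟩ := h.directed i₁ i₂
  exact ⟨l, injective_algebraMap_of_algHom C₀ (G l) (u₂.comp r₂), h₁ l u₁ hu₁⟩

/-- compatibility of the structure maps with base change maps. -/
lemma map_comp_algebraMap {R R' : Type*} [CommRing R] [Algebra k R] [CommRing R'] [Algebra k R']
    (u : R →ₐ[k] R') :
    ((Algebra.TensorProduct.map u (AlgHom.id k C₀) : R ⊗[k] C₀ →ₐ[k] R' ⊗[k] C₀) :
        R ⊗[k] C₀ →+* R' ⊗[k] C₀).comp (algebraMap R (R ⊗[k] C₀)) =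
      (algebraMap R' (R' ⊗[k] C₀)).comp (u : R →+* R') := by
  ext x
  simp [Algebra.TensorProduct.algebraMap_apply]

/-- `eval₂` of a polynomial is compatible with the base change maps. -/
lemma map_eval₂ {R R' : Type*} [CommRing R] [Algebra k R] [CommRing R'] [Algebra k R']
    (u : R →ₐ[k] R') (P : Polynomial R) (c : C₀) :
    Algebra.TensorProduct.map u (AlgHom.id k C₀)
        (Polynomial.eval₂ (algebraMap R (R ⊗[k] C₀)) ((1 : R) ⊗ₜ[k] c) P) =
      Polynomial.eval₂ (algebraMap R' (R' ⊗[k] C₀)) ((1 : R') ⊗ₜ[k] c)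
        (P.map (u : R →+* R')) := by
  have h1 := Polynomial.hom_eval₂ P (algebraMap R (R ⊗[k] C₀))
    ((Algebra.TensorProduct.map u (AlgHom.id k C₀) : R ⊗[k] C₀ →ₐ[k] R' ⊗[k] C₀) :
        R ⊗[k] C₀ →+* R' ⊗[k] C₀) ((1 : R) ⊗ₜ[k] c)
  rw [map_comp_algebraMap] at h1
  rw [Polynomial.eval₂_map]
  refine h1.trans ?_
  congr 1
  simp

/-- Lift a finite family of monic polynomials to a finite level. -/
lemma exists_lift_monic (h : IsWColimAlg k G A T g) {κ : Type*} [Finite κ]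
    (P : κ → Polynomial A) (hP : ∀ c, (P c).Monic) :
    ∃ i, ∃ P' : κ → Polynomial (G i), (∀ c, (P' c).Monic) ∧
      ∀ c, (P' c).map (g i : G i →+* A) = P c := by
  classical
  cases nonempty_fintype κ
  obtain ⟨i, x, hx⟩ := h.exists_lift_family
    (fun q : (Σ c : κ, Fin (P c).natDegree) => (P q.1).coeff q.2)
  refine ⟨i, fun c => Polynomial.X ^ (P c).natDegree +
    ∑ m : Fin (P c).natDegree, Polynomial.C (x ⟨c, m⟩) * Polynomial.X ^ (m : ℕ), ?_, ?_⟩
  · intro c
    exact Polynomial.monic_X_pow_add (Polynomial.degree_sum_fin_lt _)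
  · intro c
    conv_rhs => rw [(hP c).as_sum]
    rw [Polynomial.map_add, Polynomial.map_pow, Polynomial.map_X, Polynomial.map_sum,
      ← Fin.sum_univ_eq_sum_range (fun m => Polynomial.C ((P c).coeff m) * Polynomial.X ^ m)]
    congr 1
    refine Finset.sum_congr rfl (fun m _ => ?_)
    rw [Polynomial.map_mul, Polynomial.map_C, Polynomial.map_pow, Polynomial.map_X]
    congr 2
    exact hx ⟨c, m⟩

/-- Descent of finiteness. -/
theorem exists_finite (h : IsWColimAlg k G A T g) [Algebra.FiniteType k C₀]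
    (hf : Module.Finite A (A ⊗[k] C₀)) : ∃ i, Module.Finite (G i) (G i ⊗[k] C₀) := by
  have hC := h.tensorRight C₀
  obtain ⟨s, hsgen⟩ := (Algebra.FiniteType.out : (⊤ : Subalgebra k C₀).FG)
  have hint : ∀ c : s, IsIntegral A ((1 : A) ⊗ₜ[k] (c : C₀)) :=
    fun c => Algebra.IsIntegral.isIntegral _
  choose P hPm hP0 using hint
  obtain ⟨i, P', hP'm, hP'⟩ := h.exists_lift_monic P hPm
  have hker : ∀ c : s, Algebra.TensorProduct.map (g i) (AlgHom.id k C₀)
      (Polynomial.eval₂ (algebraMap (G i) (G i ⊗[k] C₀)) ((1 : G i) ⊗ₜ[k] (c : C₀)) (P' c)) = 0 := by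
    intro c
    rw [map_eval₂, hP' c]
    exact hP0 c
  obtain ⟨j, _, ⟨u, hu, rfl⟩, hk⟩ := hC.exists_kill_family i _ hker
  refine ⟨j, ?_⟩
  have hint' : ∀ c ∈ s, IsIntegral (G j) ((1 : G j) ⊗ₜ[k] c) := by
    intro c hc
    refine ⟨(P' ⟨c, hc⟩).map (u : G i →+* G j), (hP'm _).map _, ?_⟩
    rw [← map_eval₂]
    exact hk ⟨c, hc⟩
  have hall : Algebra.IsIntegral (G j) (G j ⊗[k] C₀) := by
    refine ⟨fun z => ?_⟩
    have hz : z ∈ Algebra.adjoin (G j) (((1 : G j) ⊗ₜ[k] ·) '' (s : Set C₀)) := by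
      rw [Algebra.TensorProduct.adjoin_one_tmul_image_eq_top (s : Set C₀) hsgen]
      exact Algebra.mem_top
    have hle : Algebra.adjoin (G j) (((1 : G j) ⊗ₜ[k] ·) '' (s : Set C₀)) ≤
        integralClosure (G j) (G j ⊗[k] C₀) := by
      rw [Algebra.adjoin_le_iff]
      rintro _ ⟨c, hc, rfl⟩
      exact hint' c hc
    exact hle hz
  exact Algebra.IsIntegral.finite

end IsWColimAlg

/-- Tensoring on the right preserves weak directed colimits. -/
theorem IsWColim.rTensor {ι : Type u} {k : Type v} [CommRing k] {G : ι → Type w}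
    [∀ i, AddCommGroup (G i)] [∀ i, Module k (G i)] {A : Type x} [AddCommGroup A] [Module k A]
    {T : ∀ i j, Set (G i →ₗ[k] G j)} {g : ∀ i, G i →ₗ[k] A}
    (h : IsWColim k G A T g) (M : Type*) [AddCommGroup M] [Module k M] :
    IsWColim k (fun i => G i ⊗[k] M) (A ⊗[k] M)
      (fun i j => (LinearMap.rTensor M) '' T i j) (fun i => LinearMap.rTensor M (g i)) where
  nonempty := h.nonempty
  id_mem i := ⟨LinearMap.id, h.id_mem i, LinearMap.rTensor_id _ _⟩
  comp := by
    rintro i j l _ _ ⟨u, hu, rfl⟩ ⟨v, hv, rfl⟩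
    exact ⟨v ∘ₗ u, h.comp hu hv, LinearMap.rTensor_comp _ _ _⟩
  compat := by
    rintro i j _ ⟨u, hu, rfl⟩
    rw [← LinearMap.rTensor_comp, h.compat hu]
  directed i j := by
    obtain ⟨l, ⟨u, hu⟩, ⟨v, hv⟩⟩ := h.directed i j
    exact ⟨l, ⟨_, u, hu, rfl⟩, ⟨_, v, hv, rfl⟩⟩
  surj z := h.rTensor_surj M z
  ker i z hz := by
    obtain ⟨j, u, hu, hk⟩ := h.rTensor_ker M i z hz
    exact ⟨j, _, ⟨u, hu, rfl⟩, hk⟩

section Kaehler

open KaehlerDifferential

/-- Differentials of algebra generators span the module of differentials. -/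
lemma span_D_eq_top (s : Set C₀) (hs : Algebra.adjoin k s = ⊤) :
    Submodule.span C₀ ((D k C₀) '' s) = ⊤ := by
  rw [eq_top_iff, ← KaehlerDifferential.span_range_derivation, Submodule.span_le]
  rintro _ ⟨c, rfl⟩
  have hc : c ∈ Algebra.adjoin k s := hs ▸ Algebra.mem_top
  induction hc using Algebra.adjoin_induction with
  | mem x hx => exact Submodule.subset_span ⟨x, hx, rfl⟩
  | algebraMap r => rw [Derivation.map_algebraMap]; exact zero_mem _
  | add x y _ _ hx hy => rw [map_add]; exact add_mem hx hy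
  | mul x y _ _ hx hy =>
    rw [Derivation.leibniz]
    exact add_mem (Submodule.smul_mem _ _ hy) (Submodule.smul_mem _ _ hx)

/-- If `1 ⊗ dc = 0` for generators `c`, then `R ⊗ Ω = 0`. -/
lemma subsingleton_tensor_kaehler (R : Type*) [CommRing R] [Algebra k R] (s : Set C₀)
    (hs : Algebra.adjoin k s = ⊤) (h0 : ∀ c ∈ s, (1 : R) ⊗ₜ[k] (D k C₀ c) = 0) :
    Subsingleton (R ⊗[k] Ω[C₀⁄k]) := by
  have key : ∀ ω : Ω[C₀⁄k], ∀ x : R, x ⊗ₜ[k] ω = 0 := by
    intro ω
    have hω : ω ∈ Submodule.span C₀ ((D k C₀) '' s) := by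
      rw [span_D_eq_top C₀ s hs]; trivial
    induction hω using Submodule.span_induction with
    | mem y hy =>
      obtain ⟨c, hc, rfl⟩ := hy
      intro x
      have := congrArg (LinearMap.rTensor Ω[C₀⁄k] (LinearMap.mulLeft k x)) (h0 c hc)
      simpa using this
    | zero => intro x; exact TensorProduct.tmul_zero _ _
    | add y z _ _ hy hz => intro x; rw [TensorProduct.tmul_add, hy, hz, add_zero]
    | smul c' y _ hy =>
      intro x
      have := congrArg (LinearMap.lTensor R ((LinearMap.lsmul C₀ Ω[C₀⁄k] c').restrictScalars k))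
        (hy x)
      simpa using this
  refine ⟨fun a b => ?_⟩
  have h0' : ∀ z : R ⊗[k] Ω[C₀⁄k], z = 0 := by
    intro z
    induction z using TensorProduct.induction_on with
    | zero => rfl
    | tmul x ω => exact key ω x
    | add z z' hz hz' => rw [hz, hz', add_zero]
  rw [h0' a, h0' b]

attribute [local instance] Algebra.TensorProduct.rightAlgebra in
lemma subsingleton_kaehler_iff (R : Type*) [CommRing R] [Algebra k R] :
    Subsingleton Ω[(R ⊗[k] C₀)⁄R] ↔ Subsingleton (R ⊗[k] Ω[C₀⁄k]) :=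
  (KaehlerDifferential.tensorKaehlerEquivBase k R C₀ (R ⊗[k] C₀)).toEquiv.subsingleton_congr.symm

namespace IsWColimAlg

/-- Descent of unramifiedness. -/
theorem exists_unramified (h : IsWColimAlg k G A T g) [Algebra.FiniteType k C₀]
    (hu : Algebra.Unramified A (A ⊗[k] C₀)) : ∃ i, Algebra.Unramified (G i) (G i ⊗[k] C₀) := by
  obtain ⟨s, hsgen⟩ := (Algebra.FiniteType.out : (⊤ : Subalgebra k C₀).FG)
  have hΩ : Subsingleton (A ⊗[k] Ω[C₀⁄k]) :=
    (subsingleton_kaehler_iff C₀ A).1 inferInstance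
  have hM := h.toLin.rTensor Ω[C₀⁄k]
  obtain ⟨i₀⟩ := h.nonempty
  obtain ⟨j, _, ⟨_, ⟨u, hu, rfl⟩, rfl⟩, hk⟩ := hM.exists_kill_family i₀
    (fun c : s => (1 : G i₀) ⊗ₜ[k] (D k C₀ (c : C₀))) (fun c => Subsingleton.elim _ _)
  refine ⟨j, ?_⟩
  have h0 : ∀ c ∈ (s : Set C₀), (1 : G j) ⊗ₜ[k] (D k C₀ c) = 0 := by
    intro c hc
    have := hk ⟨c, hc⟩
    simpa using this
  have hsub : Subsingleton Ω[(G j ⊗[k] C₀)⁄(G j)] :=
    (subsingleton_kaehler_iff C₀ (G j)).2 (subsingleton_tensor_kaehler C₀ (G j) s hsgen h0)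
  haveI : Algebra.FormallyUnramified (G j) (G j ⊗[k] C₀) := ⟨hsub⟩
  exact {}

end IsWColimAlg

end Kaehler

end Groth.Agent.Helper4.WColim
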