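import Mathlib
import Groth.Agent.Lib.Helper4.WColim2

/-!
# Descent of smoothness along weak directed colimits
-/

namespace Groth.Agent.Helper4.WColim

open TensorProduct

universe u

section Smooth

variable {k : Type u} [CommRing k] {C₀ : Type u} [CommRing C₀] [Algebra k C₀]
  {P₀ : Type u} [CommRing P₀] [Algebra k P₀] (φ : P₀ →ₐ[k] C₀)

/-- `D₀ = P₀ / (ker φ)²`. -/
abbrev DD : Type u := P₀ ⧸ RingHom.ker φ.toRingHom ^ 2

/-- `q : D₀ → C₀`. -/
noncomputable abbrev qq : DD φ →ₐ[k] C₀ := φ.kerSquareLift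

variable (R : Type u) [CommRing R] [Algebra k R]

/-- `R ⊗ q : R ⊗ D₀ → R ⊗ C₀`, as an `R`-algebra map. -/
noncomputable abbrev qR : R ⊗[k] DD φ →ₐ[R] R ⊗[k] C₀ :=
  Algebra.TensorProduct.map (AlgHom.id R R) (qq φ)

variable {φ}

lemma qR_surjective (hφ : Function.Surjective φ) : Function.Surjective (qR φ R) := by
  have hq : Function.Surjective (qq φ) := by
    intro c
    obtain ⟨p, rfl⟩ := hφ c
    exact ⟨Ideal.Quotient.mk _ p, rfl⟩
  exact Algebra.TensorProduct.map_surjective _ _ (fun x => ⟨x, rfl⟩) hq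

lemma ker_qR_sq (hφ : Function.Surjective φ) : RingHom.ker (qR φ R : R ⊗[k] DD φ →+* R ⊗[k] C₀) ^ 2 = ⊥ := by
  have hq : Function.Surjective (qq φ) := by
    intro c
    obtain ⟨p, rfl⟩ := hφ c
    exact ⟨Ideal.Quotient.mk _ p, rfl⟩
  have h1 : RingHom.ker (qR φ R : R ⊗[k] DD φ →+* R ⊗[k] C₀) =
      (RingHom.ker (qq φ)).map (Algebra.TensorProduct.includeRight : DD φ →ₐ[k] R ⊗[k] DD φ) :=
    Algebra.TensorProduct.lTensor_ker (A := R) (qq φ) hq
  rw [h1, ← Ideal.map_pow]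
  have h2 : RingHom.ker (qq φ) ^ 2 = ⊥ := by
    have := AlgHom.ker_kerSquareLift φ
    rw [show RingHom.ker (qq φ) = (RingHom.ker φ.toRingHom).cotangentIdeal from this,
      Ideal.cotangentIdeal_square]
  rw [h2, Ideal.map_bot]

/-- SM1: formal smoothness gives a section datum. -/
lemma exists_tau_of_formallySmooth (hφ : Function.Surjective φ)
    [Algebra.FormallySmooth R (R ⊗[k] C₀)] :
    ∃ τ : C₀ →ₐ[k] R ⊗[k] DD φ, ∀ c, qR φ R (τ c) = (1 : R) ⊗ₜ[k] c := by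
  let σ : R ⊗[k] C₀ →ₐ[R] R ⊗[k] DD φ :=
    Algebra.FormallySmooth.liftOfSurjective (AlgHom.id R (R ⊗[k] C₀)) (qR φ R)
      (qR_surjective R hφ) ⟨2, ker_qR_sq R hφ⟩
  refine ⟨(σ.restrictScalars k).comp Algebra.TensorProduct.includeRight, fun c => ?_⟩
  have := Algebra.FormallySmooth.liftOfSurjective_apply (AlgHom.id R (R ⊗[k] C₀)) (qR φ R)
      (qR_surjective R hφ) ⟨2, ker_qR_sq R hφ⟩ ((1 : R) ⊗ₜ[k] c)
  exact this

/-- the base-changed presentation `R ⊗ P₀ → R ⊗ C₀`. -/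
noncomputable abbrev fR (φ : P₀ →ₐ[k] C₀) : R ⊗[k] P₀ →ₐ[R] R ⊗[k] C₀ :=
  Algebra.TensorProduct.map (AlgHom.id R R) φ

lemma zeta_aux (φ : P₀ →ₐ[k] C₀) : ∀ a ∈ RingHom.ker φ.toRingHom ^ 2,
    ((Ideal.Quotient.mkₐ k (RingHom.ker (fR R φ).toRingHom ^ 2)).comp
      (Algebra.TensorProduct.includeRight : P₀ →ₐ[k] R ⊗[k] P₀)) a = 0 := by
  intro a ha
  have h1 : RingHom.ker φ.toRingHom ≤ (RingHom.ker (fR R φ).toRingHom).comap
      (Algebra.TensorProduct.includeRight : P₀ →ₐ[k] R ⊗[k] P₀).toRingHom := by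
    intro p hp
    rw [Ideal.mem_comap, RingHom.mem_ker]
    have hp' : φ p = 0 := hp
    change fR R φ ((1 : R) ⊗ₜ[k] p) = 0
    rw [Algebra.TensorProduct.map_tmul, hp', TensorProduct.tmul_zero]
  have h2 := (Ideal.pow_right_mono h1 2).trans (Ideal.le_comap_pow _ 2)
  have h3 := h2 ha
  rw [Ideal.mem_comap] at h3
  rw [AlgHom.comp_apply, Ideal.Quotient.mkₐ_eq_mk, Ideal.Quotient.eq_zero_iff_mem]
  exact h3

/-- `ζ₀ : D₀ → (R ⊗ P₀) / (ker)²`. -/
noncomputable def zeta0 (φ : P₀ →ₐ[k] C₀) :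
    DD φ →ₐ[k] (R ⊗[k] P₀) ⧸ RingHom.ker (fR R φ).toRingHom ^ 2 :=
  Ideal.Quotient.liftₐ _ ((Ideal.Quotient.mkₐ k (RingHom.ker (fR R φ).toRingHom ^ 2)).comp
      (Algebra.TensorProduct.includeRight : P₀ →ₐ[k] R ⊗[k] P₀)) (zeta_aux R φ)

lemma zeta0_mk (φ : P₀ →ₐ[k] C₀) (p : P₀) :
    zeta0 R φ (Ideal.Quotient.mk _ p) = Ideal.Quotient.mk _ ((1 : R) ⊗ₜ[k] p) := rfl

/-- `ζ : R ⊗ D₀ → (R ⊗ P₀) / (ker)²`. -/
noncomputable def zeta (φ : P₀ →ₐ[k] C₀) :
    R ⊗[k] DD φ →ₐ[R] (R ⊗[k] P₀) ⧸ RingHom.ker (fR R φ).toRingHom ^ 2 :=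
  Algebra.TensorProduct.lift (Algebra.ofId R _) (zeta0 R φ) (fun _ _ => Commute.all _ _)

lemma kerSquareLift_zeta (φ : P₀ →ₐ[k] C₀) (z : R ⊗[k] DD φ) :
    (fR R φ).kerSquareLift (zeta R φ z) = qR φ R z := by
  induction z using TensorProduct.induction_on with
  | zero => rw [map_zero, map_zero, map_zero]
  | tmul r d =>
    obtain ⟨p, rfl⟩ := Ideal.Quotient.mk_surjective d
    rw [zeta, Algebra.TensorProduct.lift_tmul, map_mul, zeta0_mk, AlgHom.kerSquareLift_mk,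
      Algebra.ofId_apply, AlgHom.commutes, Algebra.TensorProduct.map_tmul,
      Algebra.TensorProduct.map_tmul, Algebra.TensorProduct.algebraMap_apply,
      Algebra.algebraMap_self_apply, Algebra.TensorProduct.tmul_mul_tmul]
    simp only [AlgHom.id_apply, mul_one, one_mul]
    rfl
  | add z z' hz hz' => simp only [map_add, hz, hz']

/-- SM2: a section datum gives formal smoothness. -/
lemma formallySmooth_of_tau (φ : P₀ →ₐ[k] C₀) [Algebra.FormallySmooth k P₀]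
    (τ : C₀ →ₐ[k] R ⊗[k] DD φ) (hτ : ∀ c, qR φ R (τ c) = (1 : R) ⊗ₜ[k] c) :
    Algebra.FormallySmooth R (R ⊗[k] C₀) := by
  let τR : R ⊗[k] C₀ →ₐ[R] R ⊗[k] DD φ :=
    Algebra.TensorProduct.lift (Algebra.ofId R _) τ (fun _ _ => Commute.all _ _)
  refine Algebra.FormallySmooth.of_split (fR R φ) ((zeta R φ).comp τR) ?_
  apply Algebra.TensorProduct.ext'
  intro r c
  rw [AlgHom.comp_apply, AlgHom.comp_apply, kerSquareLift_zeta, AlgHom.id_apply]
  simp only [τR, Algebra.TensorProduct.lift_tmul, map_mul, hτ, Algebra.ofId_apply,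
    Algebra.TensorProduct.algebraMap_apply, Algebra.algebraMap_self_apply,
    Algebra.TensorProduct.map_tmul, AlgHom.id_apply, map_one,
    Algebra.TensorProduct.tmul_mul_tmul, mul_one, one_mul]

/-- naturality of `qR`. -/
lemma map_qR (φ : P₀ →ₐ[k] C₀) {R R' : Type u} [CommRing R] [Algebra k R] [CommRing R']
    [Algebra k R'] (w : R →ₐ[k] R') (z : R ⊗[k] DD φ) :
    Algebra.TensorProduct.map w (AlgHom.id k C₀) (qR φ R z) =
      qR φ R' (Algebra.TensorProduct.map w (AlgHom.id k (DD φ)) z) := by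
  induction z using TensorProduct.induction_on with
  | zero => rw [map_zero, map_zero, map_zero, map_zero]
  | tmul r d => simp only [Algebra.TensorProduct.map_tmul, AlgHom.id_apply]
  | add z z' hz hz' => simp only [map_add, hz, hz']

end Smooth

section Descent

variable {ι : Type u} {k : Type u} [CommRing k] {G : ι → Type u} [∀ i, CommRing (G i)]
  [∀ i, Algebra k (G i)] {A : Type u} [CommRing A] [Algebra k A]
  {T : ∀ i j, Set (G i →ₐ[k] G j)} {g : ∀ i, G i →ₐ[k] A}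
  (C₀ : Type u) [CommRing C₀] [Algebra k C₀]

namespace IsWColimAlg

/-- Two maps from a finitely generated algebra to a finite level which agree in the colimit agree
at a later level. -/
lemma exists_comp_eq (h : IsWColimAlg k G A T g) [Algebra.FiniteType k C₀] (i : ι)
    (r₁ r₂ : C₀ →ₐ[k] G i) (hr : (g i).comp r₁ = (g i).comp r₂) :
    ∃ j, ∃ u ∈ T i j, u.comp r₁ = u.comp r₂ := by
  obtain ⟨s, hs⟩ := (Algebra.FiniteType.out : (⊤ : Subalgebra k C₀).FG)
  obtain ⟨j, u, hu, hk⟩ := h.exists_kill_family i (fun c : s => r₁ (c : C₀) - r₂ (c : C₀)) (by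
    intro c
    rw [map_sub, sub_eq_zero]
    exact AlgHom.congr_fun hr c)
  refine ⟨j, u, hu, AlgHom.ext_of_adjoin_eq_top hs (fun c hc => ?_)⟩
  have := hk ⟨c, hc⟩
  rw [map_sub, sub_eq_zero] at this
  exact this

/-- Descent of formal smoothness (eventually). -/
theorem exists_forall_formallySmooth (h : IsWColimAlg k G A T g)
    [Algebra.FinitePresentation k C₀] (hs : Algebra.FormallySmooth A (A ⊗[k] C₀)) :
    ∃ i, ∀ j, ∀ u ∈ T i j, Algebra.FormallySmooth (G j) (G j ⊗[k] C₀) := by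
  obtain ⟨n, φ, hφ, -⟩ := (Algebra.FinitePresentation.out : ∃ (n : ℕ)
    (f : MvPolynomial (Fin n) k →ₐ[k] C₀), Function.Surjective f ∧ (RingHom.ker f.toRingHom).FG)
  obtain ⟨τA, hτA⟩ := exists_tau_of_formallySmooth A hφ
  have hD := h.tensorRight (DD φ)
  have hC := h.tensorRight C₀
  obtain ⟨i, τi, hτi⟩ := hD.exists_factor C₀ τA
  let r₁ : C₀ →ₐ[k] G i ⊗[k] C₀ := ((qR φ (G i)).restrictScalars k).comp τi
  let r₂ : C₀ →ₐ[k] G i ⊗[k] C₀ := Algebra.TensorProduct.includeRight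
  have hr : (Algebra.TensorProduct.map (g i) (AlgHom.id k C₀)).comp r₁ =
      (Algebra.TensorProduct.map (g i) (AlgHom.id k C₀)).comp r₂ := by
    ext c
    have e1 : (Algebra.TensorProduct.map (g i) (AlgHom.id k C₀)) (r₁ c) =
        qR φ A (Algebra.TensorProduct.map (g i) (AlgHom.id k (DD φ)) (τi c)) :=
      map_qR φ (g i) (τi c)
    have e2 : Algebra.TensorProduct.map (g i) (AlgHom.id k (DD φ)) (τi c) = τA c :=
      AlgHom.congr_fun hτi c
    have e0 : ((Algebra.TensorProduct.map (g i) (AlgHom.id k C₀)).comp r₂) c = (1 : A) ⊗ₜ[k] c := by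
      simp [r₂]
    rw [e0]
    change (Algebra.TensorProduct.map (g i) (AlgHom.id k C₀)) (r₁ c) = _
    rw [e1, e2, hτA]
  obtain ⟨j, _, ⟨u, hu, rfl⟩, hU⟩ := hC.exists_comp_eq C₀ i r₁ r₂ hr
  refine ⟨j, fun l v hv => ?_⟩
  refine formallySmooth_of_tau (G l) φ
    ((Algebra.TensorProduct.map (v.comp u) (AlgHom.id k (DD φ))).comp τi) (fun c => ?_)
  rw [AlgHom.comp_apply, ← map_qR φ (v.comp u) (τi c)]
  have e3 : Algebra.TensorProduct.map u (AlgHom.id k C₀) (r₁ c) =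
      Algebra.TensorProduct.map u (AlgHom.id k C₀) (r₂ c) := AlgHom.congr_fun hU c
  have e4 : ∀ z : G i ⊗[k] C₀, Algebra.TensorProduct.map (v.comp u) (AlgHom.id k C₀) z =
      Algebra.TensorProduct.map v (AlgHom.id k C₀)
        (Algebra.TensorProduct.map u (AlgHom.id k C₀) z) := by
    intro z
    induction z using TensorProduct.induction_on with
    | zero => rw [map_zero, map_zero, map_zero]
    | tmul a b => simp only [Algebra.TensorProduct.map_tmul, AlgHom.id_apply, AlgHom.comp_apply]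
    | add z z' hz hz' => simp only [map_add, hz, hz']
  have e5 : qR φ (G i) (τi c) = r₁ c := rfl
  rw [e5, e4, e3]
  simp [r₂]

open KaehlerDifferential in
/-- Descent of formal unramifiedness (eventually). -/
theorem exists_forall_formallyUnramified (h : IsWColimAlg k G A T g) [Algebra.FiniteType k C₀]
    (hu : Algebra.FormallyUnramified A (A ⊗[k] C₀)) :
    ∃ i, ∀ j, ∀ u ∈ T i j, Algebra.FormallyUnramified (G j) (G j ⊗[k] C₀) := by
  obtain ⟨s, hsgen⟩ := (Algebra.FiniteType.out : (⊤ : Subalgebra k C₀).FG)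
  have hΩ : Subsingleton (A ⊗[k] Ω[C₀⁄k]) :=
    (subsingleton_kaehler_iff C₀ A).1 inferInstance
  have hM := h.toLin.rTensor Ω[C₀⁄k]
  obtain ⟨i₀⟩ := h.nonempty
  obtain ⟨j, _, ⟨_, ⟨u, hu, rfl⟩, rfl⟩, hk⟩ := hM.exists_kill_family i₀
    (fun c : s => (1 : G i₀) ⊗ₜ[k] (D k C₀ (c : C₀))) (fun c => Subsingleton.elim _ _)
  refine ⟨j, fun l v hv => ?_⟩
  have h0 : ∀ c ∈ (s : Set C₀), (1 : G l) ⊗ₜ[k] (D k C₀ c) = 0 := by
    intro c hc
    have := congrArg (LinearMap.rTensor Ω[C₀⁄k] v.toLinearMap) (hk ⟨c, hc⟩)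
    simpa using this
  exact ⟨(subsingleton_kaehler_iff C₀ (G l)).2
    (subsingleton_tensor_kaehler C₀ (G l) s hsgen h0)⟩

/-- Descent of smoothness. -/
theorem exists_smooth (h : IsWColimAlg k G A T g) [Algebra.FinitePresentation k C₀]
    (hs : Algebra.Smooth A (A ⊗[k] C₀)) : ∃ i, Algebra.Smooth (G i) (G i ⊗[k] C₀) := by
  obtain ⟨i, hi⟩ := h.exists_forall_formallySmooth C₀ hs.formallySmooth
  haveI := hi i _ (h.id_mem i)
  exact ⟨i, {}⟩

/-- Descent of étaleness. -/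
theorem exists_etale (h : IsWColimAlg k G A T g) [Algebra.FinitePresentation k C₀]
    (hs : Algebra.Etale A (A ⊗[k] C₀)) : ∃ i, Algebra.Etale (G i) (G i ⊗[k] C₀) := by
  obtain ⟨hu, hsm⟩ := Algebra.Etale.iff_formallyUnramified_and_smooth.1 hs
  obtain ⟨i₁, h₁⟩ := h.exists_forall_formallySmooth C₀ hsm.formallySmooth
  obtain ⟨i₂, h₂⟩ := h.exists_forall_formallyUnramified C₀ hu
  obtain ⟨l, ⟨u₁, hu₁⟩, ⟨u₂, hu₂⟩⟩ := h.directed i₁ i₂
  haveI := h₁ l u₁ hu₁
  haveI := h₂ l u₂ hu₂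
  refine ⟨l, Algebra.Etale.iff_formallyUnramified_and_smooth.2 ⟨inferInstance, {}⟩⟩

end IsWColimAlg

end Descent

end Groth.Agent.Helper4.WColim
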