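import Mathlib
import Groth.Agent.Lib.Helper8.ABS13
import Groth.Agent.Lib.Helper8.FlatReg9

/-!
# Regularity of the invariant ring away from the closed point when inertia is trivial (Chase–Harrison–Rosenberg elements, approximate retractions and flat descent) (helper4)
-/

set_option backward.isDefEq.respectTransparency.types false
set_option synthInstance.maxHeartbeats 400000
set_option autoImplicit false
set_option linter.unusedSectionVars false
set_option linter.style.haveILetI false
set_option linter.unusedSimpArgs false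
universe u v w
open TensorProduct
open scoped Pointwise

namespace Groth.Agent.Lib.Helper4.WildReg1

/-- A module which, after localization, is a retract of a localized flat module is flat. -/
theorem flat_of_approx_retract {R : Type u} [CommRing R] (S : Submonoid R)
    {M : Type v} [AddCommGroup M] [Module R M] {F : Type v} [AddCommGroup F] [Module R F]
    [Module.Flat R F] (α : M →ₗ[R] F) (β : F →ₗ[R] M) (s : R) (hs : s ∈ S)
    (hβα : β ∘ₗ α = s • LinearMap.id)
    {M' : Type v} [AddCommGroup M'] [Module R M'] (f : M →ₗ[R] M') [IsLocalizedModule S f] :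
    Module.Flat R M' := by
  haveI : Module.Flat R (LocalizedModule S F) :=
    Module.Flat.trans R (Localization S) (LocalizedModule S F)
  set i : M' →ₗ[R] LocalizedModule S F :=
    IsLocalizedModule.map S f (LocalizedModule.mkLinearMap S F) α with hi
  set r₀ : LocalizedModule S F →ₗ[R] M' :=
    IsLocalizedModule.map S (LocalizedModule.mkLinearMap S F) f β with hr₀
  have h1 : r₀ ∘ₗ i = s • LinearMap.id := by
    rw [hi, hr₀, ← IsLocalizedModule.map_comp' S f (LocalizedModule.mkLinearMap S F) f, hβα,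
      map_smul, IsLocalizedModule.map_id]
  have hunit := IsLocalizedModule.map_units f ⟨s, hs⟩
  obtain ⟨u, hu⟩ := hunit
  have hu' : ∀ x : M', (u : Module.End R M') x = s • x := fun x => by
    rw [hu]; rfl
  refine Module.Flat.of_retract i ((↑u⁻¹ : Module.End R M') ∘ₗ r₀) ?_
  ext x
  have h2 : r₀ (i x) = s • x := by
    have := congrArg (fun g => g x) h1
    simpa using this
  rw [LinearMap.comp_apply, LinearMap.comp_apply, h2, ← hu', LinearMap.id_apply]
  exact congrArg (fun g : Module.End R M' => g x) (Units.inv_mul u)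

section CHR
variable {A : Type u} [CommRing A] {G : Type w} [Group G] [MulSemiringAction G A]

/-- The ring map `A ⊗[ℤ] A → A`, `x ⊗ y ↦ x * τ • y`. -/
noncomputable def mu (τ : G) : A ⊗[ℤ] A →ₐ[ℤ] A :=
  Algebra.TensorProduct.productMap (AlgHom.id ℤ A) (MulSemiringAction.toRingHom G A τ).toIntAlgHom

@[simp] lemma mu_tmul (τ : G) (x y : A) : mu τ (x ⊗ₜ[ℤ] y) = x * τ • y := by
  simp [mu]

lemma chr_gen (σ : G) (z : A) (hz : z ∈ Ideal.span (Set.range fun a : A => σ • a - a)) :
    ∃ e : A ⊗[ℤ] A, mu (1 : G) e = z ∧ mu σ e = 0 := by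
  induction hz using Submodule.span_induction with
  | mem z hz =>
    obtain ⟨a, rfl⟩ := hz
    refine ⟨(σ • a) ⊗ₜ 1 - 1 ⊗ₜ a, ?_, ?_⟩ <;> simp
  | zero => exact ⟨0, by simp, by simp⟩
  | add x y _ _ hx hy =>
    obtain ⟨e₁, h1, h1'⟩ := hx
    obtain ⟨e₂, h2, h2'⟩ := hy
    exact ⟨e₁ + e₂, by simp [h1, h2], by simp [h1', h2']⟩
  | smul r x _ hx =>
    obtain ⟨e, h1, h2⟩ := hx
    exact ⟨(r ⊗ₜ 1) * e, by simp [h1], by simp [h2]⟩

lemma chr_exists [Fintype G] (Q : Ideal A) [Q.IsPrime] (hin : ∀ τ : G, (τ • Q).inertia G = ⊥) :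
    ∃ (e : A ⊗[ℤ] A) (s : A), (∀ g : G, g • s = s) ∧ s ∉ Q ∧ mu (1 : G) e = s ∧
      ∀ τ : G, τ ≠ 1 → mu τ e = 0 := by
  classical
  have key : ∀ σ : G, ∃ (e : A ⊗[ℤ] A) (s : A), (∀ g : G, g • s = s) ∧ s ∉ Q ∧
      mu (1 : G) e = s ∧ (σ ≠ 1 → mu σ e = 0) := by
    intro σ
    by_cases hσ : σ = 1
    · exact ⟨1, 1, fun g => smul_one g, Ideal.IsPrime.one_notMem ‹_›, map_one _,
        fun h => (h hσ).elim⟩
    · set I : Ideal A := Ideal.span (Set.range fun a : A => σ • a - a) with hI
      have hnot : ¬ ((I : Set A) ⊆ ⋃ τ ∈ ((Finset.univ : Finset G) : Set G),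
          ((τ • Q : Ideal A) : Set A)) := by
        rw [Ideal.subset_union_prime 1 1 (fun τ _ _ _ => Ideal.IsPrime.smul τ)]
        rintro ⟨τ, -, hτ⟩
        apply hσ
        have : σ ∈ (τ • Q).inertia G := fun a => hτ (Ideal.subset_span ⟨a, rfl⟩)
        rw [hin τ] at this
        exact Subgroup.mem_bot.1 this
      rw [Set.not_subset] at hnot
      obtain ⟨c, hcI, hc⟩ := hnot
      have hc' : ∀ τ : G, c ∉ τ • Q := by
        intro τ h
        exact hc (Set.mem_biUnion (Finset.mem_coe.2 (Finset.mem_univ τ)) h)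
      have hs : (∏ τ : G, τ • c) ∈ I := by
        rw [← Finset.mul_prod_erase _ _ (Finset.mem_univ (1 : G)), one_smul]
        exact I.mul_mem_right _ hcI
      obtain ⟨e, h1, h2⟩ := chr_gen σ _ hs
      refine ⟨e, _, Finset.smul_prod_perm c, ?_, h1, fun _ => h2⟩
      rw [Ideal.IsPrime.prod_mem_iff]
      rintro ⟨τ, -, hτ⟩
      exact hc' τ⁻¹ (Ideal.mem_inv_pointwise_smul_iff.2 hτ)
  choose e s h1 h2 h3 h4 using key
  refine ⟨∏ σ ∈ Finset.univ.erase (1 : G), e σ, ∏ σ ∈ Finset.univ.erase (1 : G), s σ,
    ?_, ?_, ?_, ?_⟩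
  · intro g
    rw [Finset.smul_prod']
    exact Finset.prod_congr rfl fun σ _ => h1 σ g
  · rw [Ideal.IsPrime.prod_mem_iff]
    rintro ⟨σ, -, hσ⟩
    exact h2 σ hσ
  · rw [map_prod]
    exact Finset.prod_congr rfl fun σ _ => h3 σ
  · intro τ hτ
    rw [map_prod]
    exact Finset.prod_eq_zero (Finset.mem_erase.2 ⟨hτ, Finset.mem_univ τ⟩) (h4 τ hτ)

end CHR

section Trace
variable (A : Type u) [CommRing A] (G : Type w) [Group G] [MulSemiringAction G A] [Fintype G]

lemma smul_sum_smul (g : G) (a : A) : g • (∑ τ : G, τ • a) = ∑ τ : G, τ • a := by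
  rw [Finset.smul_sum]
  simp only [smul_smul]
  exact Fintype.sum_bijective (g * ·) (Group.mulLeft_bijective g)
    (fun τ => (g * τ) • a) (fun τ => τ • a) (fun _ => rfl)

/-- The trace `A → A^G` as an `A^G`-linear map. -/
noncomputable def tr : A →ₗ[FixedPoints.subring A G] FixedPoints.subring A G where
  toFun a := ⟨∑ τ : G, τ • a, fun g => smul_sum_smul A G g a⟩
  map_add' a b := by
    ext
    simp [smul_add, Finset.sum_add_distrib]
  map_smul' r a := by
    ext
    simp only [Subring.smul_def, smul_eq_mul, smul_mul', RingHom.id_apply, Subring.coe_mul,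
      Finset.mul_sum]
    refine Finset.sum_congr rfl fun τ _ => ?_
    rw [r.2 τ]

variable {A G}

@[simp] lemma coe_tr (a : A) : ((tr A G a : FixedPoints.subring A G) : A) = ∑ τ : G, τ • a := rfl

/-- The key identity: if `e = ∑ xᵢ ⊗ yᵢ`, then `∑ᵢ tr(yᵢ a) xᵢ = ∑_τ μ_τ(e) τ(a)`. -/
lemma sum_tr_eq (T : Finset (A × A)) (a : A) :
    ∑ i ∈ T, (∑ τ : G, τ • (i.2 * a)) * i.1 =
      ∑ τ : G, mu τ (∑ i ∈ T, i.1 ⊗ₜ[ℤ] i.2) * τ • a := by
  simp only [map_sum, mu_tmul, Finset.sum_mul, smul_mul']
  rw [Finset.sum_comm]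
  refine Finset.sum_congr rfl fun τ _ => Finset.sum_congr rfl fun i _ => ?_
  ring

/-- The approximate retraction `A → (A^G)^T → A`. -/
lemma exists_retract (e : A ⊗[ℤ] A) (s : A) (hs : ∀ g : G, g • s = s)
    (h1 : mu (1 : G) e = s) (h2 : ∀ τ : G, τ ≠ 1 → mu τ e = 0) :
    ∃ (T : Finset (A × A)) (α : A →ₗ[FixedPoints.subring A G] (↥T → FixedPoints.subring A G))
      (β : (↥T → FixedPoints.subring A G) →ₗ[FixedPoints.subring A G] A),
      β ∘ₗ α = (⟨s, hs⟩ : FixedPoints.subring A G) • LinearMap.id := by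
  classical
  obtain ⟨T, hT⟩ := TensorProduct.exists_finset e
  refine ⟨T, LinearMap.pi fun i => tr A G ∘ₗ LinearMap.mulLeft _ i.1.2,
    Fintype.linearCombination _ (fun i : ↥T => i.1.1), ?_⟩
  ext a
  simp only [LinearMap.comp_apply, Fintype.linearCombination_apply, LinearMap.pi_apply,
    LinearMap.mulLeft_apply, LinearMap.smul_apply, LinearMap.id_apply, Subring.smul_def, coe_tr,
    smul_eq_mul]
  rw [Finset.sum_coe_sort T (fun i => (∑ τ : G, τ • (i.2 * a)) * i.1), sum_tr_eq, ← hT,
    Finset.sum_eq_single (1 : G) (fun τ _ hτ => by rw [h2 τ hτ, zero_mul])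
      (fun h => (h (Finset.mem_univ _)).elim), h1, one_smul]

end Trace


section Main

open IsLocalRing

theorem main (A : Type u) [CommRing A] [IsRegularLocalRing A]
    (G : Type w) [Group G] [Finite G] [MulSemiringAction G A]
    (hram : ∀ P : Ideal A, P.IsPrime → P ≠ maximalIdeal A → P.inertia G = ⊥)
    (P : Ideal (FixedPoints.subring A G)) [P.IsPrime] (hP : ¬ P.IsMaximal) :
    IsRegularLocalRing (Localization.AtPrime P) := by
  classical
  cases nonempty_fintype G
  haveI : Algebra.IsInvariant (FixedPoints.subring A G) A G := ⟨fun b hb => ⟨⟨b, hb⟩, rfl⟩⟩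
  haveI : Algebra.IsIntegral (FixedPoints.subring A G) A :=
    Algebra.IsInvariant.isIntegral (FixedPoints.subring A G) A G
  have hinj : Function.Injective (algebraMap (FixedPoints.subring A G) A) :=
    Subtype.val_injective
  obtain ⟨Q, -, hQprime, hQP⟩ := Ideal.exists_ideal_over_prime_of_isIntegral P (⊥ : Ideal A)
    (by rw [Ideal.comap_bot_of_injective _ hinj]; exact bot_le)
  haveI := hQprime
  haveI hlo : Q.LiesOver P := ⟨hQP.symm⟩
  -- all conjugates of `Q` have trivial inertia
  have hin : ∀ τ : G, (τ • Q).inertia G = ⊥ := by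
    intro τ
    refine hram _ (Ideal.IsPrime.smul τ) ?_
    intro h
    apply hP
    have h1 : (τ • Q).under (FixedPoints.subring A G) = P := by
      rw [Ideal.under_smul]; exact hQP
    rw [← h1, h]
    exact Ideal.isMaximal_comap_of_isIntegral_of_isMaximal _
  obtain ⟨e, s, hsfix, hsQ, h1, h2⟩ := chr_exists Q hin
  obtain ⟨T, α, β, hβα⟩ := exists_retract e s hsfix h1 h2
  have hsP : (⟨s, hsfix⟩ : FixedPoints.subring A G) ∈ P.primeCompl := by
    intro h
    rw [← hQP] at h
    exact hsQ h
  -- the localization of `A` at the image of `P.primeCompl`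
  set M := Algebra.algebraMapSubmonoid A P.primeCompl with hM
  haveI : IsLocalizedModule P.primeCompl
      (IsScalarTower.toAlgHom (FixedPoints.subring A G) A (Localization M)).toLinearMap :=
    isLocalizedModule_iff_isLocalization.2 inferInstance
  haveI hflat1 : Module.Flat (FixedPoints.subring A G) (Localization M) :=
    flat_of_approx_retract P.primeCompl α β _ hsP hβα
      (IsScalarTower.toAlgHom (FixedPoints.subring A G) A (Localization M)).toLinearMap
  -- `A_Q` as an `A_M`-algebra
  have hMQ : M ≤ Q.primeCompl := by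
    rintro _ ⟨r, hr, rfl⟩ h
    exact hr (by rw [← hQP]; exact h)
  letI : Algebra (Localization M) (Localization.AtPrime Q) :=
    IsLocalization.localizationAlgebraOfSubmonoidLe _ _ M Q.primeCompl hMQ
  haveI : IsScalarTower A (Localization M) (Localization.AtPrime Q) :=
    IsLocalization.localization_isScalarTower_of_submonoid_le _ _ M Q.primeCompl hMQ
  haveI : IsLocalization (Q.primeCompl.map (algebraMap A (Localization M)))
      (Localization.AtPrime Q) :=
    IsLocalization.isLocalization_of_submonoid_le _ _ M Q.primeCompl hMQ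
  haveI : Module.Flat (Localization M) (Localization.AtPrime Q) :=
    IsLocalization.flat _ (Q.primeCompl.map (algebraMap A (Localization M)))
  haveI : IsScalarTower (FixedPoints.subring A G) (Localization M) (Localization.AtPrime Q) := by
    refine IsScalarTower.of_algebraMap_eq fun r => ?_
    rw [IsScalarTower.algebraMap_apply (FixedPoints.subring A G) A (Localization.AtPrime Q),
      IsScalarTower.algebraMap_apply (FixedPoints.subring A G) A (Localization M),
      ← IsScalarTower.algebraMap_apply A (Localization M) (Localization.AtPrime Q)]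
  haveI hflat2 : Module.Flat (FixedPoints.subring A G) (Localization.AtPrime Q) :=
    Module.Flat.trans (FixedPoints.subring A G) (Localization M) (Localization.AtPrime Q)
  -- the local homomorphism `R_P → A_Q`
  letI := Localization.AtPrime.algebraOfLiesOver P Q
  haveI : Module.Flat (Localization.AtPrime P) (Localization.AtPrime Q) :=
    (Module.flat_iff_of_isLocalization (Localization.AtPrime P) P.primeCompl _).2 hflat2
  haveI : IsLocalHom (algebraMap (Localization.AtPrime P) (Localization.AtPrime Q)) := by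
    rw [RingHom.algebraMap_toAlgebra]
    exact Localization.isLocalHom_localRingHom P Q (algebraMap _ A) Ideal.LiesOver.over
  haveI : Module.FaithfullyFlat (Localization.AtPrime P) (Localization.AtPrime Q) :=
    Module.FaithfullyFlat.of_flat_of_isLocalHom
  haveI : IsRegularLocalRing (Localization.AtPrime Q) :=
    Groth.Agent.Helper8.ABS.isRegularLocalRing_localization A Q
  haveI : IsNoetherianRing (Localization.AtPrime P) :=
    Groth.Agent.Helper8.FlatReg.isNoetherianRing_of_faithfullyFlat _ (Localization.AtPrime Q)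
  exact Groth.Agent.Helper8.ABS.isRegularLocalRing_of_flat _ (Localization.AtPrime Q)

end Main

end Groth.Agent.Lib.Helper4.WildReg1
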