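import Mathlib
import Groth.Agent.Lib.Helper4.WildReg1

/-!
# Inertia groups of invariant rings under commutative group actions: inertia of the quotient action, generalised CHR elements for A^N (helper4)
-/

set_option backward.isDefEq.respectTransparency.types false
set_option synthInstance.maxHeartbeats 400000
set_option autoImplicit false
set_option linter.unusedSectionVars false
set_option linter.style.haveILetI false
set_option linter.unusedSimpArgs false
universe u v w
open TensorProduct
open scoped Pointwise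
open Groth.Agent.Lib.Helper4.WildReg1

namespace Groth.Agent.Lib.Helper4.WildGen1

section Inertia
variable {A : Type u} [CommRing A] {H : Type w} [CommGroup H] [MulSemiringAction H A]

lemma mem_inertia {P : Ideal A} {σ : H} : σ ∈ P.inertia H ↔ ∀ a : A, σ • a - a ∈ P := Iff.rfl

lemma inertia_smul (τ : H) (P : Ideal A) : (τ • P).inertia H = P.inertia H := by
  ext σ
  rw [mem_inertia, mem_inertia]
  constructor
  · intro h a
    have := h (τ • a)
    rw [Ideal.mem_pointwise_smul_iff_inv_smul_mem, smul_sub, inv_smul_smul, smul_smul,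
      smul_smul] at this
    have h2 : τ⁻¹ * σ * τ = σ := by rw [mul_comm τ⁻¹ σ, inv_mul_cancel_right]
    rwa [h2] at this
  · intro h a
    rw [Ideal.mem_pointwise_smul_iff_inv_smul_mem, smul_sub, smul_smul, mul_comm, ← smul_smul]
    exact h (τ⁻¹ • a)

instance smulCommClass_fixed (N : Subgroup H) : SMulCommClass N (FixedPoints.subring A N) A where
  smul_comm ν b a := by
    rw [Subring.smul_def, Subring.smul_def, smul_eq_mul, smul_eq_mul, smul_mul', b.2 ν]

instance isInvariant_fixed (N : Subgroup H) : Algebra.IsInvariant (FixedPoints.subring A N) A N where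
  isInvariant a ha := ⟨⟨a, ha⟩, rfl⟩

/-- Inertia of the quotient action: if the inertia group of `P` is contained in `N` and `σ` acts
trivially on `A^N` modulo `P`, then `σ ∈ N`. -/
theorem mem_of_forall_fixed_sub_mem [Finite H] (P : Ideal A) [P.IsPrime] (N : Subgroup H)
    (hI : P.inertia H ≤ N) (σ : H)
    (hσ : ∀ b : A, (∀ ν ∈ N, ν • b = b) → σ • b - b ∈ P) : σ ∈ N := by
  -- step 1: `σ • P` and `P` have the same contraction to `A^N`
  have hb : ∀ b : FixedPoints.subring A N, ∀ ν ∈ N, ν • (b : A) = b := fun b ν hν => b.2 ⟨ν, hν⟩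
  have hfix : ∀ (b : FixedPoints.subring A N) (ρ : H), (∀ ν ∈ N, ν • (ρ • (b : A)) = ρ • (b : A)) := by
    intro b ρ ν hν
    rw [smul_smul, mul_comm, ← smul_smul, hb b ν hν]
  have hunder : P.under (FixedPoints.subring A N) = (σ • P).under (FixedPoints.subring A N) := by
    ext b
    rw [Ideal.under_def, Ideal.under_def, Ideal.mem_comap, Ideal.mem_comap,
      Ideal.mem_pointwise_smul_iff_inv_smul_mem]
    change (b : A) ∈ P ↔ σ⁻¹ • (b : A) ∈ P
    have h1 := hσ (σ⁻¹ • (b : A)) (hfix b σ⁻¹)
    rw [smul_inv_smul] at h1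
    constructor
    · intro h
      have := P.sub_mem h h1
      rwa [sub_sub_cancel] at this
    · intro h
      have := P.add_mem h1 h
      rwa [sub_add_cancel] at this
  haveI : (σ • P).IsPrime := Ideal.IsPrime.smul σ
  obtain ⟨ν, hν⟩ := Algebra.IsInvariant.exists_smul_of_under_eq (FixedPoints.subring A N) A N P
    (σ • P) hunder
  -- step 2: `σ' = ν⁻¹ σ` stabilises `P` and still acts trivially on `A^N` mod `P`
  set σ' : H := (ν : H)⁻¹ * σ with hσ'
  have hσ'P : σ' • P = P := by
    rw [hσ', mul_smul, hν]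
    exact inv_smul_smul (ν : H) P
  have hσ'b : ∀ b : FixedPoints.subring A N, σ' • (b : A) - b ∈ P := by
    intro b
    have : σ' • (b : A) = σ • (b : A) := by
      rw [hσ', mul_comm, mul_smul, hb b _ (N.inv_mem ν.2)]
    rw [this]
    exact hσ b (hb b)
  -- step 3: the induced automorphism of `A ⧸ P`
  have hmap : P = P.map (MulSemiringAction.toRingEquiv H A σ' : A →+* A) := by
    conv_lhs => rw [← hσ'P]
    rfl
  let φ₀ : (A ⧸ P) ≃+* (A ⧸ P) := Ideal.quotientEquiv P P (MulSemiringAction.toRingEquiv H A σ') hmap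
  have hφ₀ : ∀ a : A, φ₀ (Ideal.Quotient.mk P a) = Ideal.Quotient.mk P (σ' • a) := fun a => rfl
  let φ : (A ⧸ P) ≃ₐ[FixedPoints.subring A N ⧸ P.under (FixedPoints.subring A N)] (A ⧸ P) :=
    AlgEquiv.ofRingEquiv (f := φ₀) (by
      intro x
      obtain ⟨b, rfl⟩ := Ideal.Quotient.mk_surjective x
      rw [Ideal.Quotient.algebraMap_mk_of_liesOver, hφ₀, Ideal.Quotient.eq]
      exact hσ'b b)
  obtain ⟨⟨ν', hν'P⟩, hν'⟩ := Ideal.Quotient.stabilizerHom_surjective N
    (P.under (FixedPoints.subring A N)) P φ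
  -- step 4: `ν'⁻¹ σ'` lies in the inertia group
  have hin : (ν' : H)⁻¹ * σ' ∈ P.inertia H := by
    rw [mem_inertia]
    intro a
    have h1 := congrArg (fun f => f (Ideal.Quotient.mk P a)) hν'
    simp only [Ideal.Quotient.stabilizerHom_apply] at h1
    have h2 : Ideal.Quotient.mk P ((ν' : H) • a) = Ideal.Quotient.mk P (σ' • a) := h1
    rw [Ideal.Quotient.eq] at h2
    have h3 : (ν' : H)⁻¹ • (σ' • a - (ν' : H) • a) ∈ P := by
      have hst : (ν' : H)⁻¹ • P = P := by
        have : (ν' : H) • P = P := hν'P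
        rw [inv_smul_eq_iff, this]
      rw [← hst]
      refine Ideal.smul_mem_pointwise_smul_iff.2 ?_
      have := P.neg_mem h2
      rwa [neg_sub] at this
    rwa [smul_sub, inv_smul_smul, ← mul_smul] at h3
  have h4 := N.mul_mem ν'.2 (hI hin)
  rw [mul_inv_cancel_left, hσ'] at h4
  have h5 := N.mul_mem ν.2 h4
  rwa [mul_inv_cancel_left] at h5

instance isInvariantSubring_fixed (N : Subgroup H) :
    IsInvariantSubring H (FixedPoints.subring A N) where
  smul_mem ρ {x} hx := fun ν => by
    change (ν : H) • ρ • x = ρ • x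
    rw [smul_smul, mul_comm, ← smul_smul]
    congr 1
    exact hx ν

lemma coe_smul_fixed (N : Subgroup H) (ρ : H) (b : FixedPoints.subring A N) :
    ((ρ • b : FixedPoints.subring A N) : A) = ρ • (b : A) := rfl

lemma mu_eq_of_mem (N : Subgroup H) (τ : H) (hτ : τ ∈ N)
    (e : (FixedPoints.subring A N) ⊗[ℤ] (FixedPoints.subring A N)) :
    mu τ e = mu (1 : H) e := by
  induction e using TensorProduct.induction_on with
  | zero => simp
  | tmul x y =>
    rw [mu_tmul, mu_tmul, one_smul]
    congr 1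
    exact Subtype.ext (y.2 ⟨τ, hτ⟩)
  | add x y hx hy => rw [map_add, map_add, hx, hy]

open scoped Classical in
/-- Generalised CHR elements for the invariant ring `A^N`. -/
theorem gchr [Fintype H] (P : Ideal A) [P.IsPrime] (N : Subgroup H) (hI : P.inertia H ≤ N) :
    ∃ (e : (FixedPoints.subring A N) ⊗[ℤ] (FixedPoints.subring A N)) (s : A),
      (∀ g : H, g • s = s) ∧ s ∉ P ∧
      ∀ σ : H, ((mu σ e : FixedPoints.subring A N) : A) = if σ ∈ N then s else 0 := by
  classical
  have key : ∀ σ : H, ∃ (e : (FixedPoints.subring A N) ⊗[ℤ] (FixedPoints.subring A N))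
      (s : FixedPoints.subring A N), (∀ g : H, g • s = s) ∧ (s : A) ∉ P ∧
      mu (1 : H) e = s ∧ (σ ∉ N → mu σ e = 0) := by
    intro σ
    by_cases hσ : σ ∈ N
    · exact ⟨1, 1, fun g => smul_one g, by
        rw [OneMemClass.coe_one]; exact Ideal.IsPrime.one_notMem ‹_›, map_one _,
        fun h => (h hσ).elim⟩
    · set I : Ideal (FixedPoints.subring A N) :=
        Ideal.span (Set.range fun b : FixedPoints.subring A N => σ • b - b) with hIdef
      have hnot : ¬ ((I : Set (FixedPoints.subring A N)) ⊆ ⋃ τ ∈ ((Finset.univ : Finset H) : Set H),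
          (((τ • P).comap (algebraMap (FixedPoints.subring A N) A) :
            Ideal (FixedPoints.subring A N)) : Set (FixedPoints.subring A N))) := by
        rw [Ideal.subset_union_prime 1 1 (fun τ _ _ _ =>
          Ideal.IsPrime.comap (hK := Ideal.IsPrime.smul τ) _)]
        rintro ⟨τ, -, hτ⟩
        apply hσ
        haveI : (τ • P).IsPrime := Ideal.IsPrime.smul τ
        refine mem_of_forall_fixed_sub_mem (τ • P) N (by rw [inertia_smul]; exact hI) σ ?_
        intro b hb
        have h1 : σ • (⟨b, fun ν => hb ν ν.2⟩ : FixedPoints.subring A N) - ⟨b, fun ν => hb ν ν.2⟩ ∈ I :=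
          Ideal.subset_span ⟨_, rfl⟩
        exact hτ h1
      rw [Set.not_subset] at hnot
      obtain ⟨c, hcI, hc⟩ := hnot
      have hc' : ∀ τ : H, (c : A) ∉ τ • P := by
        intro τ h
        exact hc (Set.mem_biUnion (Finset.mem_coe.2 (Finset.mem_univ τ)) h)
      have hs : (∏ τ : H, τ • c) ∈ I := by
        rw [← Finset.mul_prod_erase _ _ (Finset.mem_univ (1 : H)), one_smul]
        exact I.mul_mem_right _ hcI
      obtain ⟨e, h1, h2⟩ := chr_gen σ _ hs
      refine ⟨e, _, Finset.smul_prod_perm c, ?_, h1, fun _ => h2⟩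
      rw [SubmonoidClass.coe_finset_prod, Ideal.IsPrime.prod_mem_iff]
      rintro ⟨τ, -, hτ⟩
      exact hc' τ⁻¹ (Ideal.mem_inv_pointwise_smul_iff.2 hτ)
  choose e s h1 h2 h3 h4 using key
  refine ⟨∏ σ : H, e σ, ((∏ σ : H, s σ : FixedPoints.subring A N) : A), ?_, ?_, ?_⟩
  · intro g
    rw [← coe_smul_fixed, Finset.smul_prod']
    congr 1
    exact Finset.prod_congr rfl fun σ _ => h1 σ g
  · rw [SubmonoidClass.coe_finset_prod, Ideal.IsPrime.prod_mem_iff]
    rintro ⟨σ, -, hσ⟩
    exact h2 σ hσ
  · intro τ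
    by_cases hτ : τ ∈ N
    · rw [if_pos hτ, mu_eq_of_mem N τ hτ, map_prod]
      congr 1
      exact Finset.prod_congr rfl fun σ _ => h3 σ
    · rw [if_neg hτ, map_prod, Finset.prod_eq_zero (Finset.mem_univ τ) (h4 τ hτ)]
      rfl

end Inertia

end Groth.Agent.Lib.Helper4.WildGen1
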