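import Mathlib
import Groth.Agent.Lib.Helper4.WildGen1

/-!
# Local generation of a ring by invariant subrings at a prime with small inertia (products of generalised CHR elements, partial traces) (helper4)
-/

set_option backward.isDefEq.respectTransparency.types false
set_option synthInstance.maxHeartbeats 400000
set_option autoImplicit false
set_option linter.unusedSectionVars false
set_option linter.style.haveILetI false
set_option linter.unusedSimpArgs false
universe u v w
open TensorProduct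
open scoped Pointwise
open Groth.Agent.Lib.Helper4.WildReg1 Groth.Agent.Lib.Helper4.WildGen1

namespace Groth.Agent.Lib.Helper4.WildGen2

section Local
variable {A : Type u} [CommRing A] {H : Type w} [CommGroup H] [MulSemiringAction H A]

/-- The map `A^N ⊗ A^N → A ⊗ A`. -/
noncomputable def inc (N : Subgroup H) :
    (FixedPoints.subring A N) ⊗[ℤ] (FixedPoints.subring A N) →ₐ[ℤ] A ⊗[ℤ] A :=
  Algebra.TensorProduct.map (FixedPoints.subring A N).subtype.toIntAlgHom
    (FixedPoints.subring A N).subtype.toIntAlgHom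

@[simp] lemma inc_tmul (N : Subgroup H) (x y : FixedPoints.subring A N) :
    inc N (x ⊗ₜ[ℤ] y) = (x : A) ⊗ₜ[ℤ] (y : A) := by
  simp [inc]

lemma mu_inc (N : Subgroup H) (σ : H)
    (e : (FixedPoints.subring A N) ⊗[ℤ] (FixedPoints.subring A N)) :
    mu σ (inc N e) = ((mu σ e : FixedPoints.subring A N) : A) := by
  induction e using TensorProduct.induction_on with
  | zero => simp
  | tmul x y => simp [coe_smul_fixed]
  | add x y hx hy => rw [map_add, map_add, map_add, hx, hy]; rfl

/-- Tensors whose first components lie in the subring `C`. -/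
noncomputable def Good (C : Subring A) : Subalgebra ℤ (A ⊗[ℤ] A) :=
  (Algebra.TensorProduct.map C.subtype.toIntAlgHom (AlgHom.id ℤ A)).range

lemma inc_mem_good (N : Subgroup H) (C : Subring A) (hC : FixedPoints.subring A N ≤ C)
    (e : (FixedPoints.subring A N) ⊗[ℤ] (FixedPoints.subring A N)) : inc N e ∈ Good C := by
  induction e using TensorProduct.induction_on with
  | zero => rw [map_zero]; exact zero_mem _
  | tmul x y =>
    refine ⟨(⟨x, hC x.2⟩ : C) ⊗ₜ[ℤ] (y : A), ?_⟩
    simp
  | add x y hx hy => rw [map_add]; exact add_mem hx hy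

variable [Fintype H]

open scoped Classical in
/-- The elements of a subgroup, as a finset. -/
noncomputable def Ms (M : Subgroup H) : Finset H := Finset.univ.filter (· ∈ M)

@[simp] lemma mem_Ms (M : Subgroup H) (σ : H) : σ ∈ Ms M ↔ σ ∈ M := by
  classical
  simp [Ms]

lemma smul_sum_Ms (M : Subgroup H) (ν : H) (hν : ν ∈ M) (z : A) :
    ν • ∑ σ ∈ Ms M, σ • z = ∑ σ ∈ Ms M, σ • z := by
  rw [Finset.smul_sum]
  refine Finset.sum_equiv (Equiv.mulLeft ν) (fun σ => ?_) (fun σ _ => ?_)
  · rw [mem_Ms, mem_Ms, Equiv.coe_mulLeft]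
    exact ⟨fun h => M.mul_mem hν h, fun h => by simpa using M.mul_mem (M.inv_mem hν) h⟩
  · rw [smul_smul]; rfl

/-- `e ↦ ∑_{σ ∈ M} σ • a * μ_σ e`; on pure tensors `x ⊗ y ↦ x * ∑_{σ ∈ M} σ • (y * a)`. -/
noncomputable def Lam (M : Subgroup H) (a : A) (e : A ⊗[ℤ] A) : A :=
  ∑ σ ∈ Ms M, σ • a * mu σ e

lemma Lam_zero (M : Subgroup H) (a : A) : Lam M a 0 = 0 := by simp [Lam]

lemma Lam_add (M : Subgroup H) (a : A) (e e' : A ⊗[ℤ] A) :
    Lam M a (e + e') = Lam M a e + Lam M a e' := by
  simp only [Lam, map_add, mul_add, Finset.sum_add_distrib]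

lemma Lam_tmul (M : Subgroup H) (a x y : A) :
    Lam M a (x ⊗ₜ[ℤ] y) = x * ∑ σ ∈ Ms M, σ • (y * a) := by
  rw [Lam, Finset.mul_sum]
  refine Finset.sum_congr rfl fun σ _ => ?_
  rw [mu_tmul, smul_mul']
  ring

lemma Lam_mem (M : Subgroup H) (a : A) (C : Subring A)
    (hM : ∀ x : A, (∀ ν ∈ M, ν • x = x) → x ∈ C) (e : A ⊗[ℤ] A) (he : e ∈ Good C) :
    Lam M a e ∈ C := by
  obtain ⟨e', rfl⟩ := he
  change Lam M a ((Algebra.TensorProduct.map C.subtype.toIntAlgHom (AlgHom.id ℤ A)) e') ∈ C
  induction e' using TensorProduct.induction_on with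
  | zero => rw [map_zero, Lam_zero]; exact zero_mem _
  | tmul x y =>
    have : (Algebra.TensorProduct.map C.subtype.toIntAlgHom (AlgHom.id ℤ A)) (x ⊗ₜ[ℤ] y) =
        (x : A) ⊗ₜ[ℤ] y := by simp
    rw [this, Lam_tmul]
    exact C.mul_mem x.2 (hM _ fun ν hν => smul_sum_Ms M ν hν _)
  | add x y hx hy =>
    rw [map_add, Lam_add]
    exact C.add_mem hx hy

/-- Local generation: if the inertia group of `P` is contained in `N j` for all `j ≠ i0`, then
every element of `A` becomes, after multiplication by an invariant element outside `P`, an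
element of any subring containing all `A^{N j}`. -/
theorem local_gen {ι : Type*} [Fintype ι] [DecidableEq ι] (N : ι → Subgroup H)
    (hN : ⨅ i, N i = ⊥) (C : Subring A) (hC : ∀ i, FixedPoints.subring A (N i) ≤ C)
    (P : Ideal A) [P.IsPrime] (i0 : ι) (hP : ∀ j, j ≠ i0 → P.inertia H ≤ N j) (a : A) :
    ∃ s : A, (∀ g : H, g • s = s) ∧ s ∉ P ∧ s * a ∈ C := by
  classical
  have key : ∀ j : ι, ∃ (E : A ⊗[ℤ] A) (s : A), (∀ g : H, g • s = s) ∧ s ∉ P ∧ E ∈ Good C ∧
      (j ≠ i0 → ∀ σ : H, mu σ E = if σ ∈ N j then s else 0) := by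
    intro j
    by_cases hj : j = i0
    · exact ⟨1, 1, fun g => smul_one g, Ideal.IsPrime.one_notMem ‹_›, one_mem _, fun h => (h hj).elim⟩
    · obtain ⟨e, s, h1, h2, h3⟩ := gchr P (N j) (hP j hj)
      refine ⟨inc (N j) e, s, h1, h2, inc_mem_good (N j) C (hC j) e, fun _ σ => ?_⟩
      rw [mu_inc, h3 σ]
  choose E s h1 h2 h3 h4 using key
  refine ⟨∏ j ∈ Finset.univ.erase i0, s j, ?_, ?_, ?_⟩
  · intro g
    rw [Finset.smul_prod']
    exact Finset.prod_congr rfl fun j _ => h1 j g
  · rw [Ideal.IsPrime.prod_mem_iff]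
    rintro ⟨j, -, hj⟩
    exact h2 j hj
  · have hgood : (∏ j ∈ Finset.univ.erase i0, E j) ∈ Good C := prod_mem fun j _ => h3 j
    have hmem := Lam_mem (N i0) a C (fun x hx => hC i0 (fun ν => hx ν ν.2)) _ hgood
    have hval : Lam (N i0) a (∏ j ∈ Finset.univ.erase i0, E j) =
        (∏ j ∈ Finset.univ.erase i0, s j) * a := by
      rw [Lam, Finset.sum_eq_single (1 : H)]
      · rw [one_smul, map_prod, mul_comm]
        congr 1
        refine Finset.prod_congr rfl fun j hj => ?_
        rw [h4 j (Finset.ne_of_mem_erase hj), if_pos (one_mem _)]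
      · intro σ hσ hσ1
        rw [mem_Ms] at hσ
        have : ∃ j, σ ∉ N j := by
          by_contra hcon
          push Not at hcon
          have : σ ∈ ⨅ i, N i := Subgroup.mem_iInf.2 hcon
          rw [hN, Subgroup.mem_bot] at this
          exact hσ1 this
        obtain ⟨j, hj⟩ := this
        have hji : j ≠ i0 := fun h => hj (h ▸ hσ)
        rw [map_prod, Finset.prod_eq_zero (Finset.mem_erase.2 ⟨hji, Finset.mem_univ j⟩), mul_zero]
        rw [h4 j hji, if_neg hj]
      · intro h
        exact (h ((mem_Ms _ _).2 (one_mem _))).elim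
    rwa [hval] at hmem

end Local

end Groth.Agent.Lib.Helper4.WildGen2
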