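import Mathlib
import Groth.Agent.Lib.Helper4.WildGen2
import Groth.Agent.Lib.Helper4.DimFT1

/-!
# Generation of a normal ring by invariant subrings: dual matrices of bases, linear independence and span of products of bases, gluing over a UFD along height-one primes (helper4)
-/

set_option backward.isDefEq.respectTransparency.types false
set_option synthInstance.maxHeartbeats 400000
set_option autoImplicit false
set_option linter.unusedSectionVars false
set_option linter.style.haveILetI false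
set_option linter.unusedSimpArgs false
universe u v w
open TensorProduct
open scoped Pointwise
open Groth.Agent.Lib.Helper4.WildReg1 Groth.Agent.Lib.Helper4.WildGen1 Groth.Agent.Lib.Helper4.WildGen2

namespace Groth.Agent.Lib.Helper4.WildGen3

section Indep
variable {R : Type u} [CommRing R] {A : Type v} [CommRing A] [IsDomain A] [Algebra R A]
  {H : Type w} [CommGroup H] [MulSemiringAction H A] [SMulCommClass H R A] [Fintype H]
  [FaithfulSMul H A]

lemma inertia_bot : (⊥ : Ideal A).inertia H = ⊥ := by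
  rw [eq_bot_iff]
  intro σ hσ
  rw [Subgroup.mem_bot]
  refine FaithfulSMul.eq_of_smul_eq_smul (α := A) fun a => ?_
  have := (mem_inertia.1 hσ) a
  rw [Ideal.mem_bot, sub_eq_zero] at this
  rw [this, one_smul]

lemma coe_mu_sum (N : Subgroup H) (σ : H)
    (T : Finset ((FixedPoints.subring A N) × (FixedPoints.subring A N))) :
    ((mu σ (∑ l ∈ T, l.1 ⊗ₜ[ℤ] l.2) : FixedPoints.subring A N) : A) =
      ∑ l ∈ T, (l.1 : A) * σ • (l.2 : A) := by
  rw [map_sum, AddSubmonoidClass.coe_finsetSum]
  refine Finset.sum_congr rfl fun l _ => ?_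
  rw [mu_tmul]
  rfl

/-- The "dual matrix" of a basis of `A^N` with respect to a complement `G` of `N`. -/
theorem exists_dual_matrix (hfix : ∀ a : A, (∀ h : H, h • a = a) → a ∈ Set.range (algebraMap R A))
    (G N : Subgroup H) (hGN : G ⊓ N = ⊥) (hsup : G ⊔ N = ⊤)
    {κ : Type*} [Fintype κ] [DecidableEq κ] (b : κ → A) (hbN : ∀ k, ∀ ν ∈ N, ν • b k = b k)
    (hli : LinearIndependent R b)
    (hspan : ∀ x : A, (∀ ν ∈ N, ν • x = x) → x ∈ Submodule.span R (Set.range b)) :
    ∃ (W : κ → H → A) (s : A), s ≠ 0 ∧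
      ∀ k k' : κ, ∑ g ∈ Ms G, W k' g * g • b k = if k = k' then s else 0 := by
  classical
  haveI : (⊥ : Ideal A).IsPrime := Ideal.isPrime_bot
  have hI : (⊥ : Ideal A).inertia H ≤ N := by rw [inertia_bot]; exact bot_le
  obtain ⟨e, s, hs, hs0, he⟩ := gchr (⊥ : Ideal A) N hI
  obtain ⟨T, rfl⟩ := TensorProduct.exists_finset e
  simp only [coe_mu_sum] at he
  have hs0' : s ≠ 0 := fun h => hs0 (by rw [h]; exact zero_mem _)
  obtain ⟨s', hs'⟩ := hfix s hs
  -- key identity
  have KI : ∀ x : A, ∑ l ∈ T, (l.1 : A) * ∑ g ∈ Ms G, g • ((l.2 : A) * x) = s * x := by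
    intro x
    have h1 : ∑ l ∈ T, (l.1 : A) * ∑ g ∈ Ms G, g • ((l.2 : A) * x) =
        ∑ g ∈ Ms G, g • x * ∑ l ∈ T, (l.1 : A) * g • (l.2 : A) := by
      simp only [Finset.mul_sum]
      rw [Finset.sum_comm]
      refine Finset.sum_congr rfl fun g _ => Finset.sum_congr rfl fun l _ => ?_
      rw [smul_mul']
      ring
    rw [h1, Finset.sum_eq_single (1 : H)]
    · rw [one_smul, he, if_pos (one_mem _), mul_comm]
    · intro g hg hg1
      rw [mem_Ms] at hg
      have : g ∉ N := fun h => hg1 (by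
        have : g ∈ G ⊓ N := ⟨hg, h⟩
        rwa [hGN, Subgroup.mem_bot] at this)
      rw [he, if_neg this, mul_zero]
    · intro h
      exact (h ((mem_Ms _ _).2 (one_mem _))).elim
  -- expansions
  have hρ : ∀ y : FixedPoints.subring A N, ∃ ρ : κ → R, (y : A) = ∑ k, ρ k • b k := by
    intro y
    have := hspan (y : A) (fun ν hν => y.2 ⟨ν, hν⟩)
    obtain ⟨ρ, hρ⟩ := (Submodule.mem_span_range_iff_exists_fun R).1 this
    exact ⟨ρ, hρ.symm⟩
  choose ρ hρ using hρ
  have ht : ∀ (y : FixedPoints.subring A N) (k : κ), ∃ t : R,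
      algebraMap R A t = ∑ g ∈ Ms G, g • ((y : A) * b k) := by
    intro y k
    refine hfix _ fun h => ?_
    have hmem : h ∈ G ⊔ N := by rw [hsup]; trivial
    have hstab : G ⊔ N ≤ MulAction.stabilizer H (∑ g ∈ Ms G, g • ((y : A) * b k)) := by
      refine sup_le (fun g hg => ?_) (fun ν hν => ?_)
      · exact MulAction.mem_stabilizer_iff.2 (smul_sum_Ms G g hg _)
      · refine MulAction.mem_stabilizer_iff.2 ?_
        rw [Finset.smul_sum]
        refine Finset.sum_congr rfl fun g _ => ?_
        rw [smul_smul, mul_comm, ← smul_smul, smul_mul', hbN k ν hν]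
        congr 2
        exact y.2 ⟨ν, hν⟩
    exact MulAction.mem_stabilizer_iff.1 (hstab hmem)
  choose t ht using ht
  have hcoef : ∀ k k'' : κ, ∑ l ∈ T, ρ l.1 k'' * t l.2 k = if k'' = k then s' else 0 := by
    intro k
    have h1 := KI (b k)
    have h2 : ∑ l ∈ T, (l.1 : A) * ∑ g ∈ Ms G, g • ((l.2 : A) * b k) =
        ∑ k'' : κ, (∑ l ∈ T, ρ l.1 k'' * t l.2 k) • b k'' := by
      simp only [Finset.sum_smul]
      rw [Finset.sum_comm]
      refine Finset.sum_congr rfl fun l _ => ?_
      rw [← ht l.2 k]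
      conv_lhs => rw [hρ l.1]
      rw [Finset.sum_mul]
      refine Finset.sum_congr rfl fun k'' _ => ?_
      rw [mul_smul, Algebra.smul_def (t l.2 k), smul_mul_assoc, mul_comm]
    have h3 : s * b k = ∑ k'' : κ, (if k'' = k then s' else 0) • b k'' := by
      rw [Finset.sum_eq_single k (fun k'' _ h => by rw [if_neg h, zero_smul])
        (fun h => (h (Finset.mem_univ k)).elim), if_pos rfl, Algebra.smul_def, hs']
    rw [h2, h3] at h1
    have h4 : ∑ k'' : κ, ((∑ l ∈ T, ρ l.1 k'' * t l.2 k) - (if k'' = k then s' else 0)) • b k'' = 0 := by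
      simp only [sub_smul, Finset.sum_sub_distrib, h1, sub_self]
    intro k''
    have := (Fintype.linearIndependent_iff.1 hli) _ h4 k''
    exact sub_eq_zero.1 this
  refine ⟨fun k'' g => ∑ l ∈ T, algebraMap R A (ρ l.1 k'') * g • (l.2 : A), s, hs0', fun k k' => ?_⟩
  have h5 : ∑ g ∈ Ms G, (∑ l ∈ T, algebraMap R A (ρ l.1 k') * g • (l.2 : A)) * g • b k =
      ∑ l ∈ T, algebraMap R A (ρ l.1 k' * t l.2 k) := by
    simp only [Finset.sum_mul]
    rw [Finset.sum_comm]
    refine Finset.sum_congr rfl fun l _ => ?_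
    rw [map_mul, ht l.2 k, Finset.mul_sum]
    refine Finset.sum_congr rfl fun g _ => ?_
    rw [smul_mul', mul_assoc]
  rw [h5, ← map_sum, hcoef k k']
  by_cases h : k = k'
  · rw [if_pos h, if_pos h.symm, hs']
  · rw [if_neg h, if_neg (Ne.symm h), map_zero]

lemma prod_smul_eq {ι : Type*} [Fintype ι] [DecidableEq ι] (G N : ι → Subgroup H)
    (hle : ∀ i j, i ≠ j → G j ≤ N i) (g : ι → H) (hg : ∀ i, g i ∈ G i) (i : ι) (x : A)
    (hx : ∀ ν ∈ N i, ν • x = x) : (∏ j, g j) • x = g i • x := by
  rw [← Finset.mul_prod_erase _ _ (Finset.mem_univ i), mul_smul]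
  congr 1
  refine hx _ (Subgroup.prod_mem _ fun j hj => hle i j (Finset.ne_of_mem_erase hj).symm (hg j))

/-- Products of bases of the `A^{N i}` are linearly independent. -/
theorem linearIndependent_prod
    (hfix : ∀ a : A, (∀ h : H, h • a = a) → a ∈ Set.range (algebraMap R A))
    (hinj : Function.Injective (algebraMap R A))
    {ι : Type*} [Fintype ι] [DecidableEq ι] (G N : ι → Subgroup H)
    (hGN : ∀ i, G i ⊓ N i = ⊥) (hsup : ∀ i, G i ⊔ N i = ⊤) (hle : ∀ i j, i ≠ j → G j ≤ N i)
    {κ : ι → Type*} [∀ i, Fintype (κ i)] [∀ i, DecidableEq (κ i)] (b : ∀ i, κ i → A)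
    (hbN : ∀ i k, ∀ ν ∈ N i, ν • b i k = b i k)
    (hli : ∀ i, LinearIndependent R (b i))
    (hspan : ∀ i, ∀ x : A, (∀ ν ∈ N i, ν • x = x) → x ∈ Submodule.span R (Set.range (b i))) :
    LinearIndependent R (fun c : ∀ i, κ i => ∏ i, b i (c i)) := by
  classical
  rw [Fintype.linearIndependent_iff]
  intro r hr c'
  have hW := fun i => exists_dual_matrix (R := R) hfix (G i) (N i) (hGN i) (hsup i) (b i) (hbN i)
    (hli i) (hspan i)
  choose W s hs0 hW using hW
  have hrel : ∀ g ∈ Fintype.piFinset (fun i => Ms (G i)),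
      ∑ c : ∀ i, κ i, r c • ∏ i, (g i • b i (c i)) = 0 := by
    intro g hg
    rw [Fintype.mem_piFinset] at hg
    have hg' : ∀ i, g i ∈ G i := fun i => (mem_Ms _ _).1 (hg i)
    have := congrArg (fun x => (∏ j, g j) • x) hr
    simp only [Finset.smul_sum, smul_zero] at this
    rw [← this]
    refine Finset.sum_congr rfl fun c _ => ?_
    rw [smul_comm, Finset.smul_prod']
    congr 1
    refine Finset.prod_congr rfl fun i _ => ?_
    rw [prod_smul_eq G N hle g hg' i _ (hbN i (c i))]
  have hsum : ∑ g ∈ Fintype.piFinset (fun i => Ms (G i)), (∏ i, W i (c' i) (g i)) *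
      ∑ c : ∀ i, κ i, r c • ∏ i, (g i • b i (c i)) = 0 :=
    Finset.sum_eq_zero fun g hg => by rw [hrel g hg, mul_zero]
  have h1 : ∑ g ∈ Fintype.piFinset (fun i => Ms (G i)), (∏ i, W i (c' i) (g i)) *
      ∑ c : ∀ i, κ i, r c • ∏ i, (g i • b i (c i)) =
      ∑ c : ∀ i, κ i, r c • ∏ i, ∑ h ∈ Ms (G i), W i (c' i) h * h • b i (c i) := by
    simp only [Finset.mul_sum, mul_smul_comm]
    rw [Finset.sum_comm]
    refine Finset.sum_congr rfl fun c _ => ?_
    rw [← Finset.smul_sum]
    congr 1
    rw [Finset.prod_univ_sum]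
    refine Finset.sum_congr rfl fun g _ => ?_
    rw [Finset.prod_mul_distrib]
  rw [h1] at hsum
  have h2 : ∀ c : ∀ i, κ i, ∏ i, ∑ h ∈ Ms (G i), W i (c' i) h * h • b i (c i) =
      if c = c' then ∏ i, s i else 0 := by
    intro c
    by_cases hc : c = c'
    · subst hc
      rw [if_pos rfl]
      refine Finset.prod_congr rfl fun i _ => ?_
      rw [hW i (c i) (c i), if_pos rfl]
    · rw [if_neg hc]
      obtain ⟨i, hi⟩ := Function.ne_iff.1 hc
      refine Finset.prod_eq_zero (Finset.mem_univ i) ?_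
      rw [hW i (c i) (c' i), if_neg hi]
  simp only [h2] at hsum
  rw [Finset.sum_eq_single c' (fun c _ hc => by rw [if_neg hc, smul_zero])
    (fun h => (h (Finset.mem_univ c')).elim), if_pos rfl, Algebra.smul_def] at hsum
  have h3 : (∏ i, s i) ≠ 0 := Finset.prod_ne_zero_iff.2 fun i _ => hs0 i
  have h4 := (mul_eq_zero.1 hsum).resolve_right h3
  exact hinj (h4.trans (map_zero _).symm)

/-- Products of elements of the `A^{N i}` lie in the span of the products of basis elements. -/
theorem prod_mem_span {ι : Type*} [Fintype ι] [DecidableEq ι] (N : ι → Subgroup H)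
    {κ : ι → Type*} [∀ i, Fintype (κ i)] (b : ∀ i, κ i → A)
    (hspan : ∀ i, ∀ x : A, (∀ ν ∈ N i, ν • x = x) → x ∈ Submodule.span R (Set.range (b i)))
    (c : ι → A) (hc : ∀ i, ∀ ν ∈ N i, ν • c i = c i) :
    ∏ i, c i ∈ Submodule.span R (Set.range fun k : ∀ i, κ i => ∏ i, b i (k i)) := by
  have hρ : ∀ i, ∃ ρ : κ i → R, c i = ∑ k, ρ k • b i k := by
    intro i
    obtain ⟨ρ, hρ⟩ := (Submodule.mem_span_range_iff_exists_fun R).1 (hspan i (c i) (hc i))
    exact ⟨ρ, hρ.symm⟩
  choose ρ hρ using hρ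
  have h1 : ∏ i, c i = ∑ k : ∀ i, κ i, (∏ i, ρ i (k i)) • ∏ i, b i (k i) := by
    rw [Finset.prod_congr rfl fun i _ => hρ i, Finset.prod_univ_sum, Fintype.piFinset_univ]
    refine Finset.sum_congr rfl fun k _ => ?_
    rw [Finset.prod_smul]
  rw [h1]
  exact Submodule.sum_mem _ fun k _ => Submodule.smul_mem _ _ (Submodule.subset_span ⟨k, rfl⟩)

/-- The span of the products of basis elements is a subalgebra. -/
theorem exists_subalgebra {ι : Type*} [Fintype ι] [DecidableEq ι] (N : ι → Subgroup H)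
    {κ : ι → Type*} [∀ i, Fintype (κ i)] (b : ∀ i, κ i → A)
    (hbN : ∀ i k, ∀ ν ∈ N i, ν • b i k = b i k)
    (hspan : ∀ i, ∀ x : A, (∀ ν ∈ N i, ν • x = x) → x ∈ Submodule.span R (Set.range (b i))) :
    ∃ Cs : Subalgebra R A, Subalgebra.toSubmodule Cs =
      Submodule.span R (Set.range fun k : ∀ i, κ i => ∏ i, b i (k i)) := by
  have h_one : (1 : A) ∈ Submodule.span R (Set.range fun k : ∀ i, κ i => ∏ i, b i (k i)) := by
    have := prod_mem_span (R := R) N b hspan (fun _ => 1) (fun i ν _ => smul_one ν)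
    simpa using this
  have h_mul : ∀ x y : A, x ∈ Submodule.span R (Set.range fun k : ∀ i, κ i => ∏ i, b i (k i)) →
      y ∈ Submodule.span R (Set.range fun k : ∀ i, κ i => ∏ i, b i (k i)) →
      x * y ∈ Submodule.span R (Set.range fun k : ∀ i, κ i => ∏ i, b i (k i)) := by
    intro x y hx hy
    induction hx using Submodule.span_induction with
    | mem x hx =>
      obtain ⟨k, rfl⟩ := hx
      induction hy using Submodule.span_induction with
      | mem y hy =>
        obtain ⟨k', rfl⟩ := hy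
        rw [← Finset.prod_mul_distrib]
        refine prod_mem_span (R := R) N b hspan _ fun i ν hν => ?_
        rw [smul_mul', hbN i _ ν hν, hbN i _ ν hν]
      | zero => rw [mul_zero]; exact zero_mem _
      | add y z _ _ hy hz => rw [mul_add]; exact add_mem hy hz
      | smul r y _ hy => rw [mul_smul_comm]; exact Submodule.smul_mem _ _ hy
    | zero => rw [zero_mul]; exact zero_mem _
    | add x z _ _ hx hz => rw [add_mul]; exact add_mem hx hz
    | smul r x _ hx => rw [smul_mul_assoc]; exact Submodule.smul_mem _ _ hx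
  exact ⟨Submodule.toSubalgebra _ h_one h_mul, by simp⟩

/-- For an integral extension, `height P ≤ height (P ∩ R)`. -/
lemma height_le_height_under [Algebra.IsIntegral R A] (P : Ideal A) [P.IsPrime] :
    P.height ≤ (P.under R).height := by
  have h1 := PrimeSpectrum.height_eq_orderHeight (⟨P, inferInstance⟩ : PrimeSpectrum A)
  have h2 := PrimeSpectrum.height_eq_orderHeight
    (PrimeSpectrum.comap (algebraMap R A) (⟨P, inferInstance⟩ : PrimeSpectrum A))
  change P.height = _ at h1
  change (P.under R).height = _ at h2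
  rw [h1, h2]
  exact Order.height_le_height_apply_of_strictMono _
    (Groth.Agent.Lib.Helper4.DimFT1.strictMono_comap_of_isIntegral R A) _

/-- Generation of `A` by the invariant rings `A^{N i}` (abstract form). -/
theorem generate
    (hfix : ∀ a : A, (∀ h : H, h • a = a) → a ∈ Set.range (algebraMap R A))
    (hinj : Function.Injective (algebraMap R A))
    [IsDomain R] [IsNoetherianRing R] [UniqueFactorizationMonoid R] [Algebra.IsIntegral R A]
    {ι : Type*} [Fintype ι] [DecidableEq ι] [Nonempty ι] (G N : ι → Subgroup H)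
    (hGN : ∀ i, G i ⊓ N i = ⊥) (hsup : ∀ i, G i ⊔ N i = ⊤) (hle : ∀ i j, i ≠ j → G j ≤ N i)
    (hN : ⨅ i, N i = ⊥)
    {κ : ι → Type*} [∀ i, Fintype (κ i)] [∀ i, DecidableEq (κ i)] (b : ∀ i, κ i → A)
    (hbN : ∀ i k, ∀ ν ∈ N i, ν • b i k = b i k)
    (hli : ∀ i, LinearIndependent R (b i))
    (hspan : ∀ i, ∀ x : A, (∀ ν ∈ N i, ν • x = x) → x ∈ Submodule.span R (Set.range (b i)))
    (hloc : ∀ P : Ideal A, P.IsPrime → P.height = 1 →
      ∃ i0, ∀ j, j ≠ i0 → P.inertia H ≤ N j) (a : A) :
    a ∈ Submodule.span R (Set.range fun k : ∀ i, κ i => ∏ i, b i (k i)) := by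
  classical
  obtain ⟨Cs, hCs⟩ := exists_subalgebra (R := R) N b hbN hspan
  have hmemCs : ∀ x : A, x ∈ Cs.toSubring ↔
      x ∈ Submodule.span R (Set.range fun k : ∀ i, κ i => ∏ i, b i (k i)) := by
    intro x
    rw [← hCs]
    rfl
  have hC : ∀ i, FixedPoints.subring A (N i) ≤ Cs.toSubring := by
    intro i x hx
    rw [hmemCs]
    have := prod_mem_span (R := R) N b hspan (fun j => if j = i then x else 1) (fun j ν hν => by
      by_cases hj : j = i
      · subst hj
        rw [if_pos rfl]
        exact hx ⟨ν, hν⟩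
      · rw [if_neg hj, smul_one])
    rwa [Finset.prod_ite_eq' Finset.univ i (fun _ => x), if_pos (Finset.mem_univ i)] at this
  have hindep := linearIndependent_prod (R := R) hfix hinj G N hGN hsup hle b hbN hli hspan
  -- Step B
  have stepB : ∀ π : R, Prime π → ∀ a : A,
      algebraMap R A π * a ∈ Submodule.span R (Set.range fun k : ∀ i, κ i => ∏ i, b i (k i)) →
      a ∈ Submodule.span R (Set.range fun k : ∀ i, κ i => ∏ i, b i (k i)) := by
    intro π hπ a ha
    haveI h𝔭 : (Ideal.span {π}).IsPrime := (Ideal.span_singleton_prime hπ.ne_zero).2 hπ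
    obtain ⟨P, hP, hPover⟩ := Ideal.exists_ideal_over_prime_of_isIntegral_of_isDomain
      (S := A) (Ideal.span {π}) (by
        rw [(RingHom.injective_iff_ker_eq_bot _).1 hinj]; exact bot_le)
    haveI := hP
    have hπP : algebraMap R A π ∈ P := by
      have : π ∈ P.comap (algebraMap R A) := by rw [hPover]; exact Ideal.mem_span_singleton_self π
      exact this
    have hht : P.height = 1 := by
      apply le_antisymm
      · refine (height_le_height_under (R := R) P).trans ?_
        rw [Ideal.under_def, hPover]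
        refine Ideal.height_le_one_of_isPrincipal_of_mem_minimalPrimes (Ideal.span {π})
          (Ideal.span {π}) ?_
        rw [Ideal.minimalPrimes_eq_subsingleton_self]
        rfl
      · rw [Order.one_le_iff_ne_zero, Ne, Ideal.height_eq_zero_iff_eq_bot]
        intro h
        rw [h, Ideal.mem_bot] at hπP
        exact hπ.ne_zero (hinj (hπP.trans (map_zero _).symm))
    obtain ⟨i0, hi0⟩ := hloc P hP hht
    obtain ⟨s, hs, hsP, hsa⟩ := local_gen N hN Cs.toSubring hC P i0 hi0 a
    obtain ⟨s₁, rfl⟩ := hfix s hs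
    have hπs : ¬ π ∣ s₁ := by
      rintro ⟨c, rfl⟩
      rw [map_mul] at hsP
      exact hsP (P.mul_mem_right _ hπP)
    rw [hmemCs] at hsa
    obtain ⟨r, hr⟩ := (Submodule.mem_span_range_iff_exists_fun R).1 ha
    obtain ⟨r', hr'⟩ := (Submodule.mem_span_range_iff_exists_fun R).1 hsa
    have heq : ∑ k : ∀ i, κ i, (s₁ * r k - π * r' k) • ∏ i, b i (k i) = 0 := by
      simp only [sub_smul, mul_smul, Finset.sum_sub_distrib, ← Finset.smul_sum, hr, hr']
      rw [Algebra.smul_def, Algebra.smul_def]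
      ring
    have hcoef := Fintype.linearIndependent_iff.1 hindep _ heq
    have hdvd : ∀ k, π ∣ r k := by
      intro k
      have : π ∣ s₁ * r k := ⟨r' k, sub_eq_zero.1 (hcoef k)⟩
      exact (hπ.dvd_or_dvd this).resolve_left hπs
    choose r'' hr'' using hdvd
    have hfinal : algebraMap R A π * a = algebraMap R A π * ∑ k : ∀ i, κ i, r'' k • ∏ i, b i (k i) := by
      rw [← hr, Finset.mul_sum]
      refine Finset.sum_congr rfl fun k _ => ?_
      rw [hr'' k, mul_smul, Algebra.smul_def π]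
    have hπ0 : algebraMap R A π ≠ 0 := fun h => hπ.ne_zero (hinj (h.trans (map_zero _).symm))
    rw [mul_left_cancel₀ hπ0 hfinal]
    exact Submodule.sum_mem _ fun k _ => Submodule.smul_mem _ _ (Submodule.subset_span ⟨k, rfl⟩)
  -- Step C
  have stepC : ∀ s₀ : R, s₀ ≠ 0 → ∀ a : A,
      algebraMap R A s₀ * a ∈ Submodule.span R (Set.range fun k : ∀ i, κ i => ∏ i, b i (k i)) →
      a ∈ Submodule.span R (Set.range fun k : ∀ i, κ i => ∏ i, b i (k i)) := by
    intro s₀
    induction s₀ using UniqueFactorizationMonoid.induction_on_prime with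
    | h₁ => intro h; exact (h rfl).elim
    | h₂ x hx =>
      intro _ a ha
      obtain ⟨u, rfl⟩ := hx
      have := Submodule.smul_mem _ (↑u⁻¹ : R) ha
      rwa [Algebra.smul_def, ← mul_assoc, ← map_mul, Units.inv_mul, map_one, one_mul] at this
    | h₃ x p hx hp ih =>
      intro _ a ha
      rw [map_mul, mul_assoc] at ha
      exact ih hx a (stepB p hp _ ha)
  -- Step A
  haveI : (⊥ : Ideal A).IsPrime := Ideal.isPrime_bot
  obtain ⟨s, hs, hs0, hsa⟩ := local_gen N hN Cs.toSubring hC (⊥ : Ideal A) (Classical.arbitrary ι)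
    (fun j _ => by rw [inertia_bot]; exact bot_le) a
  obtain ⟨s₀, rfl⟩ := hfix s hs
  rw [hmemCs] at hsa
  refine stepC s₀ (fun h => hs0 ?_) a hsa
  rw [h, map_zero]
  exact zero_mem _

end Indep

end Groth.Agent.Lib.Helper4.WildGen3
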