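import Mathlib
import Groth.Agent.Lib.Helper4.WildGen3
import Groth.Agent.Lib.Helper9.RegUFD.Main

/-!
# Generation of A by the invariant rings of complementary subgroups (group theory of internal direct products, main theorem) (helper4)
-/

set_option backward.isDefEq.respectTransparency.types false
set_option synthInstance.maxHeartbeats 400000
set_option autoImplicit false
set_option linter.unusedSectionVars false
set_option linter.style.haveILetI false
set_option linter.unusedSimpArgs false
universe u v w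
open TensorProduct
open scoped Pointwise
open Groth.Agent.Lib.Helper4.WildGen1 Groth.Agent.Lib.Helper4.WildGen2 Groth.Agent.Lib.Helper4.WildGen3

namespace Groth.Agent.Lib.Helper4.WildGen4

section GroupTheory
variable {H : Type w} [CommGroup H] {ι : Type*} [Fintype ι] [DecidableEq ι]

/-- The product map `∏ G i → H`. -/
def prodHom (G : ι → Subgroup H) : (∀ i, G i) →* H where
  toFun g := ∏ i, (g i : H)
  map_one' := by simp
  map_mul' g g' := by simp [Finset.prod_mul_distrib]

lemma prodHom_mulSingle (G : ι → Subgroup H) (j : ι) (x : G j) :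
    prodHom G (Pi.mulSingle j x) = x := by
  change ∏ i, ((Pi.mulSingle j x : ∀ i, G i) i : H) = x
  rw [Finset.prod_eq_single j]
  · rw [Pi.mulSingle_eq_same]
  · intro i _ hi
    rw [Pi.mulSingle_eq_of_ne hi]
    rfl
  · intro h
    exact (h (Finset.mem_univ j)).elim

/-- `N i = ⨆_{j ≠ i} G j`. -/
def compl (G : ι → Subgroup H) (i : ι) : Subgroup H := ⨆ j ∈ (Finset.univ.erase i : Finset ι), G j

lemma le_compl (G : ι → Subgroup H) (i j : ι) (hij : i ≠ j) : G j ≤ compl G i :=
  le_iSup₂_of_le j (Finset.mem_erase.2 ⟨hij.symm, Finset.mem_univ j⟩) le_rfl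

lemma compl_le_map (G : ι → Subgroup H) (i : ι) :
    compl G i ≤ (Pi.evalMonoidHom (fun i => G i) i).ker.map (prodHom G) := by
  refine iSup₂_le fun j hj x hx => ?_
  refine ⟨Pi.mulSingle j ⟨x, hx⟩, ?_, prodHom_mulSingle G j ⟨x, hx⟩⟩
  rw [SetLike.mem_coe, MonoidHom.mem_ker, Pi.evalMonoidHom_apply,
    Pi.mulSingle_eq_of_ne (Finset.ne_of_mem_erase hj).symm]

variable [Finite H]

lemma prodHom_bijective (G : ι → Subgroup H) (hsup : (⨆ i, G i) = ⊤)
    (hcard : Nat.card H = ∏ i, Nat.card (G i)) : Function.Bijective (prodHom G) := by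
  rw [Nat.bijective_iff_surjective_and_card]
  refine ⟨?_, by rw [Nat.card_pi, hcard]⟩
  rw [← MonoidHom.range_eq_top, eq_top_iff, ← hsup]
  refine iSup_le fun i x hx => ⟨Pi.mulSingle i ⟨x, hx⟩, prodHom_mulSingle G i ⟨x, hx⟩⟩

lemma inf_compl_eq_bot (G : ι → Subgroup H) (hsup : (⨆ i, G i) = ⊤)
    (hcard : Nat.card H = ∏ i, Nat.card (G i)) (i : ι) : G i ⊓ compl G i = ⊥ := by
  rw [eq_bot_iff]
  rintro x ⟨hx1, hx2⟩
  obtain ⟨g, hg, hgx⟩ := compl_le_map G i hx2
  have := (prodHom_bijective G hsup hcard).1 (hgx.trans (prodHom_mulSingle G i ⟨x, hx1⟩).symm)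
  rw [SetLike.mem_coe, MonoidHom.mem_ker, Pi.evalMonoidHom_apply, this,
    Pi.mulSingle_eq_same] at hg
  rw [Subgroup.mem_bot]
  exact congrArg Subtype.val hg

lemma sup_compl_eq_top (G : ι → Subgroup H) (hsup : (⨆ i, G i) = ⊤) (i : ι) :
    G i ⊔ compl G i = ⊤ := by
  rw [eq_top_iff, ← hsup]
  refine iSup_le fun j => ?_
  by_cases hij : i = j
  · subst hij; exact le_sup_left
  · exact (le_compl G i j hij).trans le_sup_right

lemma iInf_compl_eq_bot (G : ι → Subgroup H) (hsup : (⨆ i, G i) = ⊤)
    (hcard : Nat.card H = ∏ i, Nat.card (G i)) : ⨅ i, compl G i = ⊥ := by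
  rw [eq_bot_iff]
  intro x hx
  rw [Subgroup.mem_iInf] at hx
  obtain ⟨g, rfl⟩ := (prodHom_bijective G hsup hcard).2 x
  have hg : g = 1 := by
    funext i
    obtain ⟨g', hg', hgx⟩ := compl_le_map G i (hx i)
    have := (prodHom_bijective G hsup hcard).1 hgx
    rw [SetLike.mem_coe, MonoidHom.mem_ker, Pi.evalMonoidHom_apply, this] at hg'
    exact hg'
  rw [hg, map_one]
  exact one_mem _

end GroupTheory


section Main

theorem main
    (p : ℕ) [Fact p.Prime] (R : Type u) [CommRing R] [IsRegularLocalRing R]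
    (A : Type v) [CommRing A] [IsDomain A] [IsIntegrallyClosed A] [IsLocalRing A]
    [Algebra R A] [Module.Finite R A] (hinj : Function.Injective (algebraMap R A))
    (hres : Function.Surjective (IsLocalRing.residue A ∘ algebraMap R A))
    (H : Type w) [Group H] [Finite H] [MulSemiringAction H A] [SMulCommClass H R A] [FaithfulSMul H A]
    (hfix : ∀ a : A, (∀ h : H, h • a = a) → a ∈ Set.range (algebraMap R A))
    (hcomm : ∀ g h : H, g * h = h * g)
    (n : ℕ) (hcard : Nat.card H = p ^ n) (Gi : Fin n → Subgroup H)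
    (hGi : ∀ i, Nat.card (Gi i) = p) (hsup : (⨆ i, Gi i) = ⊤)
    (hinert : ∀ i, ∃ P : Ideal A, P.IsPrime ∧ P.height = 1 ∧ P.inertia H = Gi i)
    (hMR3 : ∀ P : Ideal A, P.IsPrime → P.height = 1 → P.inertia H ≠ ⊥ → ∃ i, P.inertia H = Gi i)
    (hMR4 : ∀ i, Module.Free R
      (FixedPoints.subalgebra R A ↥(⨆ j ∈ (Finset.univ.erase i : Finset (Fin n)), Gi j : Subgroup H))) :
    (⨆ i, FixedPoints.subalgebra R A ↥(⨆ j ∈ (Finset.univ.erase i : Finset (Fin n)), Gi j : Subgroup H)) = ⊤ := by
  classical
  cases nonempty_fintype H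
  rcases Nat.eq_zero_or_pos n with hn | hn
  · subst hn
    rw [eq_top_iff]
    intro a _
    have h1 : ∀ h : H, h = 1 := by
      rw [pow_zero] at hcard
      haveI : Subsingleton H := (Nat.card_eq_one_iff_unique.1 hcard).1
      exact fun h => Subsingleton.elim _ _
    obtain ⟨r, rfl⟩ := hfix a (fun h => by rw [h1 h, one_smul])
    exact Subalgebra.algebraMap_mem _ r
  · haveI : Nonempty (Fin n) := ⟨⟨0, hn⟩⟩
    letI : CommGroup H := { ‹Group H› with mul_comm := hcomm }
    haveI : IsDomain R := Function.Injective.isDomain (algebraMap R A) hinj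
    haveI : UniqueFactorizationMonoid R := Groth.Agent.Helper9.RegUFD.ufd R
    haveI : Algebra.IsIntegral R A := Algebra.IsIntegral.of_finite R A
    have hcard' : Nat.card H = ∏ i, Nat.card (Gi i) := by
      rw [hcard, Finset.prod_congr rfl fun i _ => hGi i, Finset.prod_const, Finset.card_univ,
        Fintype.card_fin]
    haveI : ∀ i, Module.Finite R (FixedPoints.subalgebra R A ↥(compl Gi i)) := fun i =>
      Module.Finite.of_injective (FixedPoints.subalgebra R A ↥(compl Gi i)).val.toLinearMap
        Subtype.val_injective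
    haveI : ∀ i, Module.Free R (FixedPoints.subalgebra R A ↥(compl Gi i)) := hMR4
    let bb := fun i => Module.Free.chooseBasis R (FixedPoints.subalgebra R A ↥(compl Gi i))
    let b : ∀ i, Module.Free.ChooseBasisIndex R (FixedPoints.subalgebra R A ↥(compl Gi i)) → A :=
      fun i k => ((bb i k : FixedPoints.subalgebra R A ↥(compl Gi i)) : A)
    have hbN : ∀ i k, ∀ ν ∈ compl Gi i, ν • b i k = b i k := fun i k ν hν => (bb i k).2 ⟨ν, hν⟩
    have hli : ∀ i, LinearIndependent R (b i) := by
      intro i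
      have := (bb i).linearIndependent.map' (FixedPoints.subalgebra R A ↥(compl Gi i)).val.toLinearMap
        (LinearMap.ker_eq_bot.2 Subtype.val_injective)
      exact this
    have hspan : ∀ i, ∀ x : A, (∀ ν ∈ compl Gi i, ν • x = x) →
        x ∈ Submodule.span R (Set.range (b i)) := by
      intro i x hx
      have h1 := (bb i).sum_repr (⟨x, fun ν => hx ν ν.2⟩ : FixedPoints.subalgebra R A ↥(compl Gi i))
      have h2 := congrArg (FixedPoints.subalgebra R A ↥(compl Gi i)).val h1
      rw [map_sum] at h2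
      change _ = x at h2
      rw [← h2]
      refine Submodule.sum_mem _ fun k _ => ?_
      rw [map_smul]
      exact Submodule.smul_mem _ _ (Submodule.subset_span ⟨k, rfl⟩)
    have hloc : ∀ P : Ideal A, P.IsPrime → P.height = 1 →
        ∃ i0, ∀ j, j ≠ i0 → P.inertia H ≤ compl Gi j := by
      intro P hP hht
      by_cases hI : P.inertia H = ⊥
      · exact ⟨Classical.arbitrary _, fun j _ => by rw [hI]; exact bot_le⟩
      · obtain ⟨i, hi⟩ := hMR3 P hP hht hI
        exact ⟨i, fun j hj => by rw [hi]; exact le_compl Gi j i hj⟩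
    have key := generate (R := R) hfix hinj Gi (compl Gi)
      (inf_compl_eq_bot Gi hsup hcard') (sup_compl_eq_top Gi hsup) (le_compl Gi)
      (iInf_compl_eq_bot Gi hsup hcard') b hbN hli hspan hloc
    rw [eq_top_iff]
    intro a _
    have hle : Submodule.span R (Set.range fun k : ∀ i, Module.Free.ChooseBasisIndex R
        (FixedPoints.subalgebra R A ↥(compl Gi i)) => ∏ i, b i (k i)) ≤
        Subalgebra.toSubmodule (⨆ i, FixedPoints.subalgebra R A ↥(compl Gi i)) := by
      rw [Submodule.span_le]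
      rintro _ ⟨k, rfl⟩
      refine Subalgebra.prod_mem _ fun i _ => ?_
      exact (le_iSup (fun i => FixedPoints.subalgebra R A ↥(compl Gi i)) i) (bb i (k i)).2
    exact hle (key a)

end Main

end Groth.Agent.Lib.Helper4.WildGen4
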