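import Mathlib
import Groth.Agent.Lib.Helper4.WildReg1
import Groth.Agent.Lib.Helper8.RegularLocal

/-!
# Non-flatness of a regular local ring over its invariants when the action is free exactly off the closed point (Galois map A ⊗ A → ∏ A, CHR elements, regular sequence of parameter powers) (helper4)
-/

set_option backward.isDefEq.respectTransparency.types false
set_option synthInstance.maxHeartbeats 400000
set_option autoImplicit false
set_option linter.unusedSectionVars false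
set_option linter.style.haveILetI false
set_option linter.unusedSimpArgs false
universe u v w
open TensorProduct IsLocalRing
open scoped Pointwise
open Groth.Agent.Lib.Helper4.WildReg1

namespace Groth.Agent.Lib.Helper4.WildReg2

section Gam
variable {A : Type u} [CommRing A] {G : Type w} [Group G] [MulSemiringAction G A]

/-- `γ_τ : A ⊗[A^G] A → A`, `x ⊗ y ↦ x * τ • y`, `A`-linear on the left. -/
noncomputable def gam (τ : G) : A ⊗[FixedPoints.subring A G] A →ₐ[A] A :=
  Algebra.TensorProduct.productLeftAlgHom (AlgHom.id A A)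
    (MulSemiringAction.toAlgHom (FixedPoints.subring A G) A τ)

@[simp] lemma gam_tmul (τ : G) (x y : A) :
    gam τ (x ⊗ₜ[FixedPoints.subring A G] y) = x * τ • y := by
  simp [gam]

lemma gam_sum_tmul (τ : G) (T : Finset (A × A)) :
    gam τ (∑ i ∈ T, i.1 ⊗ₜ[FixedPoints.subring A G] i.2) = mu τ (∑ i ∈ T, i.1 ⊗ₜ[ℤ] i.2) := by
  simp only [map_sum, gam_tmul, mu_tmul]

lemma chr_finset [Fintype G] (Q : Ideal A) [Q.IsPrime] (hin : ∀ τ : G, (τ • Q).inertia G = ⊥) :
    ∃ (T : Finset (A × A)) (s : A), (∀ g : G, g • s = s) ∧ s ∉ Q ∧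
      mu (1 : G) (∑ i ∈ T, i.1 ⊗ₜ[ℤ] i.2) = s ∧
      ∀ τ : G, τ ≠ 1 → mu τ (∑ i ∈ T, i.1 ⊗ₜ[ℤ] i.2) = 0 := by
  obtain ⟨e, s, h1, h2, h3, h4⟩ := chr_exists Q hin
  obtain ⟨T, rfl⟩ := TensorProduct.exists_finset e
  exact ⟨T, s, h1, h2, h3, h4⟩

lemma smul_eq_sum [Fintype G] (T : Finset (A × A)) (s : A) (hs : ∀ g : G, g • s = s)
    (hμ1 : mu (1 : G) (∑ i ∈ T, i.1 ⊗ₜ[ℤ] i.2) = s)
    (hμ : ∀ τ : G, τ ≠ 1 → mu τ (∑ i ∈ T, i.1 ⊗ₜ[ℤ] i.2) = 0)
    (z : A ⊗[FixedPoints.subring A G] A) :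
    s • z = ∑ i ∈ T, (∑ τ : G, gam τ z * τ • i.2) •
      ((1 : A) ⊗ₜ[FixedPoints.subring A G] i.1) := by
  induction z using TensorProduct.induction_on with
  | zero => simp
  | add x y hx hy =>
    rw [smul_add, hx, hy, ← Finset.sum_add_distrib]
    refine Finset.sum_congr rfl fun i _ => ?_
    rw [← add_smul, ← Finset.sum_add_distrib]
    congr 1
    refine Finset.sum_congr rfl fun τ _ => ?_
    rw [map_add, add_mul]
  | tmul a b =>
    have key : ∑ i ∈ T, (∑ τ : G, τ • (i.2 * b)) * i.1 = s * b := by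
      rw [sum_tr_eq, Finset.sum_eq_single (1 : G)
        (fun τ _ hτ => by rw [hμ τ hτ, zero_mul])
        (fun h => (h (Finset.mem_univ _)).elim), hμ1, one_smul]
    have h1 : ∀ i ∈ T, (∑ τ : G, gam τ (a ⊗ₜ b) * τ • i.2) •
        ((1 : A) ⊗ₜ[FixedPoints.subring A G] i.1) =
        a ⊗ₜ[FixedPoints.subring A G] ((∑ τ : G, τ • (i.2 * b)) * i.1) := by
      intro i _
      rw [TensorProduct.smul_tmul', smul_eq_mul, mul_one]
      have : (∑ τ : G, gam τ (a ⊗ₜ b) * τ • i.2) = (tr A G (i.2 * b)) • a := by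
        rw [Subring.smul_def, coe_tr, smul_eq_mul, Finset.sum_mul]
        refine Finset.sum_congr rfl fun τ _ => ?_
        rw [gam_tmul, smul_mul']; ring
      rw [this, TensorProduct.smul_tmul, Subring.smul_def, coe_tr, smul_eq_mul]
    rw [Finset.sum_congr rfl h1, ← TensorProduct.tmul_sum, key, TensorProduct.smul_tmul',
      smul_eq_mul]
    have h2 : (s * a) ⊗ₜ[FixedPoints.subring A G] b =
        ((⟨s, hs⟩ : FixedPoints.subring A G) • a) ⊗ₜ[FixedPoints.subring A G] b := rfl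
    rw [h2, TensorProduct.smul_tmul]
    rfl

lemma eq_zero_of_gam_eq_zero [Fintype G] [IsDomain A] [Module.Flat (FixedPoints.subring A G) A]
    (T : Finset (A × A)) (s : A) (hs : ∀ g : G, g • s = s)
    (hμ1 : mu (1 : G) (∑ i ∈ T, i.1 ⊗ₜ[ℤ] i.2) = s)
    (hμ : ∀ τ : G, τ ≠ 1 → mu τ (∑ i ∈ T, i.1 ⊗ₜ[ℤ] i.2) = 0) (hs0 : s ≠ 0)
    (z : A ⊗[FixedPoints.subring A G] A) (hz : ∀ τ : G, gam τ z = 0) : z = 0 := by
  have h := smul_eq_sum T s hs hμ1 hμ z
  simp only [hz, zero_mul, Finset.sum_const_zero, zero_smul] at h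
  haveI : Module.Flat A (A ⊗[FixedPoints.subring A G] A) := inferInstance
  have hreg : IsSMulRegular (A ⊗[FixedPoints.subring A G] A) s :=
    Module.Flat.isSMulRegular_of_nonZeroDivisors (mem_nonZeroDivisors_of_ne_zero hs0)
  exact hreg (h.trans (smul_zero s).symm)

variable (A G) in
/-- The ideal of those `a` such that `a • δ₁` lies in the image of `γ`. -/
def J : Ideal A where
  carrier := {a | ∃ z : A ⊗[FixedPoints.subring A G] A, gam (1 : G) z = a ∧
    ∀ τ : G, τ ≠ 1 → gam τ z = 0}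
  add_mem' := by
    rintro a b ⟨z, hz1, hz⟩ ⟨w, hw1, hw⟩
    exact ⟨z + w, by rw [map_add, hz1, hw1], fun τ hτ => by rw [map_add, hz τ hτ, hw τ hτ, add_zero]⟩
  zero_mem' := ⟨0, by simp, fun τ _ => by simp⟩
  smul_mem' := by
    rintro c a ⟨z, hz1, hz⟩
    exact ⟨c • z, by rw [map_smul, hz1], fun τ hτ => by rw [map_smul, hz τ hτ, smul_zero]⟩

end Gam

lemma exists_eq_smul_of_flat {A B : Type*} [CommRing A] [IsDomain A] [AddCommGroup B] [Module A B]
    [Module.Flat A B] {x₁ x₂ : A} (hp : Prime x₁) (hnd : ¬ x₁ ∣ x₂) (N₁ N₂ : ℕ) (z w : B)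
    (h : x₂ ^ N₂ • z = x₁ ^ N₁ • w) : ∃ z' : B, z = x₁ ^ N₁ • z' := by
  have hrel : ∑ i : Fin 2, ![x₂ ^ N₂, -(x₁ ^ N₁)] i • ![z, w] i = 0 := by
    simp [Fin.sum_univ_two, h]
  obtain ⟨k, a, y, hxy, hfa⟩ := Module.Flat.isTrivialRelation_of_sum_smul_eq_zero hrel
  have hdvd : ∀ j, x₁ ^ N₁ ∣ a 0 j := fun j => by
    have := hfa j
    simp only [Fin.sum_univ_two, Matrix.cons_val_zero, Matrix.cons_val_one] at this
    have h' : x₂ ^ N₂ * a 0 j = x₁ ^ N₁ * a 1 j := by linear_combination this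
    exact hp.pow_dvd_of_dvd_mul_left N₁ (fun hd => hnd (hp.dvd_of_dvd_pow hd)) ⟨a 1 j, h'⟩
  choose d hd using hdvd
  refine ⟨∑ j, d j • y j, ?_⟩
  have := hxy 0
  simp only [Matrix.cons_val_zero] at this
  rw [this, Finset.smul_sum]
  refine Finset.sum_congr rfl fun j _ => ?_
  rw [hd j, mul_smul]

lemma exists_prime_not_dvd (A : Type u) [CommRing A] [IsRegularLocalRing A]
    (hdim : 2 ≤ ringKrullDim A) :
    ∃ x₁ x₂ : A, x₁ ∈ maximalIdeal A ∧ x₂ ∈ maximalIdeal A ∧ Prime x₁ ∧ ¬ x₁ ∣ x₂ := by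
  haveI := Groth.Agent.Helper8.RLR.isDomain A
  have hne : ¬ (maximalIdeal A ≤ maximalIdeal A ^ 2) := by
    intro h
    have hbot : maximalIdeal A = ⊥ := by
      refine Submodule.eq_bot_of_le_smul_of_le_jacobson_bot (maximalIdeal A) (maximalIdeal A)
        (IsNoetherian.noetherian _) ?_ (IsLocalRing.maximalIdeal_le_jacobson _)
      rwa [smul_eq_mul, ← pow_two]
    have hf : IsField A := IsLocalRing.isField_iff_maximalIdeal_eq.2 hbot
    have h0 : ringKrullDim A = 0 := by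
      letI := hf.toField
      exact ringKrullDim_eq_zero_of_field A
    rw [h0] at hdim
    norm_num at hdim
  obtain ⟨x₁, hx₁m, hx₁2⟩ := SetLike.not_le_iff_exists.1 hne
  obtain ⟨hreg, hd⟩ := Groth.Agent.Helper8.RLR.quotient_singleton hx₁m hx₁2
  haveI := hreg
  haveI hdom : IsDomain (A ⧸ Ideal.span ({x₁} : Set A)) := Groth.Agent.Helper8.RLR.isDomain _
  have hprime : (Ideal.span ({x₁} : Set A)).IsPrime := (Ideal.Quotient.isDomain_iff_prime _).1 hdom
  have hx₁0 : x₁ ≠ 0 := fun h => hx₁2 (h ▸ zero_mem _)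
  have hp : Prime x₁ := (Ideal.span_singleton_prime hx₁0).1 hprime
  have hlt : Ideal.span ({x₁} : Set A) ≠ maximalIdeal A := by
    intro h
    have hf : IsField (A ⧸ Ideal.span ({x₁} : Set A)) := by
      rw [h]
      exact (Ideal.Quotient.maximal_ideal_iff_isField_quotient _).1 inferInstance
    have h0 : ringKrullDim (A ⧸ Ideal.span ({x₁} : Set A)) = 0 := by
      letI := hf.toField
      exact ringKrullDim_eq_zero_of_field _
    rw [h0, zero_add] at hd
    rw [← hd] at hdim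
    norm_num at hdim
  have hle : Ideal.span ({x₁} : Set A) ≤ maximalIdeal A :=
    (Ideal.span_singleton_le_iff_mem _).2 hx₁m
  obtain ⟨x₂, hx₂m, hx₂⟩ := SetLike.exists_of_lt (lt_of_le_of_ne hle hlt)
  exact ⟨x₁, x₂, hx₁m, hx₂m, hp, fun h => hx₂ (Ideal.mem_span_singleton.2 h)⟩

lemma smul_maximalIdeal {A : Type u} [CommRing A] [IsLocalRing A] {G : Type w} [Group G]
    [MulSemiringAction G A] (τ : G) : τ • maximalIdeal A = maximalIdeal A := by
  refine le_antisymm (IsLocalRing.le_maximalIdeal (Ideal.IsPrime.smul τ).ne_top) ?_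
  rw [Ideal.subset_pointwise_smul_iff]
  exact IsLocalRing.le_maximalIdeal (Ideal.IsPrime.smul τ⁻¹).ne_top

theorem main (A : Type u) [CommRing A] [IsRegularLocalRing A] (hdim : 2 ≤ ringKrullDim A)
    (G : Type w) [Group G] [Finite G] [MulSemiringAction G A] [Nontrivial G]
    (hm : ∀ (σ : G) (a : A), σ • a - a ∈ maximalIdeal A)
    (hram : ∀ P : Ideal A, P.IsPrime → P ≠ maximalIdeal A → P.inertia G = ⊥) :
    ¬ Module.Flat (FixedPoints.subring A G) A := by
  intro hflat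
  cases nonempty_fintype G
  haveI := Groth.Agent.Helper8.RLR.isDomain A
  obtain ⟨x₁, x₂, hx₁m, hx₂m, hp, hnd⟩ := exists_prime_not_dvd A hdim
  have hin : ∀ Q : Ideal A, Q.IsPrime → Q ≠ maximalIdeal A →
      ∀ τ : G, (τ • Q).inertia G = ⊥ := by
    intro Q hQ hQm τ
    refine hram _ (Ideal.IsPrime.smul τ) ?_
    intro h
    apply hQm
    have : Q = τ⁻¹ • maximalIdeal A := by rw [← h, inv_smul_smul]
    rw [this, smul_maximalIdeal]
  have hbot : (⊥ : Ideal A) ≠ maximalIdeal A := by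
    intro h
    exact hp.ne_zero (by rw [← Ideal.mem_bot, h]; exact hx₁m)
  haveI : (⊥ : Ideal A).IsPrime := Ideal.isPrime_bot
  obtain ⟨T₀, s₀, hs₀, hs₀Q, hμ₀1, hμ₀⟩ :=
    chr_finset (G := G) (⊥ : Ideal A) (hin ⊥ inferInstance hbot)
  have hs₀0 : s₀ ≠ 0 := fun h => hs₀Q (by rw [h]; exact zero_mem _)
  have hinj : ∀ z : A ⊗[FixedPoints.subring A G] A, (∀ τ : G, gam τ z = 0) → z = 0 :=
    eq_zero_of_gam_eq_zero T₀ s₀ hs₀ hμ₀1 hμ₀ hs₀0
  by_cases hJ : J A G = ⊤
  · have h1 : (1 : A) ∈ J A G := by rw [hJ]; trivial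
    obtain ⟨z, hz1, hz⟩ := h1
    obtain ⟨σ, hσ⟩ := exists_ne (1 : G)
    have hdiff : ∀ z : A ⊗[FixedPoints.subring A G] A,
        gam (1 : G) z - gam σ z ∈ maximalIdeal A := by
      intro z
      induction z using TensorProduct.induction_on with
      | zero => simp
      | tmul a b =>
        rw [gam_tmul, gam_tmul, one_smul, ← mul_sub]
        apply Ideal.mul_mem_left
        rw [← neg_sub]
        exact neg_mem (hm σ b)
      | add x y hx hy =>
        rw [map_add, map_add]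
        convert add_mem hx hy using 1
        ring
    have := hdiff z
    rw [hz1, hz σ hσ, sub_zero] at this
    exact (Ideal.ne_top_iff_one _).1 (IsLocalRing.maximalIdeal.isMaximal A).ne_top this
  · have hrad : maximalIdeal A ≤ (J A G).radical := by
      rw [Ideal.radical_eq_sInf]
      refine le_sInf ?_
      rintro Q ⟨hJQ, hQ⟩
      by_contra hne
      have hQm : Q ≠ maximalIdeal A := fun h => hne (h ▸ le_rfl)
      haveI := hQ
      obtain ⟨T, s, hs, hsQ, hμ1, hμ⟩ := chr_finset (G := G) Q (hin Q hQ hQm)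
      apply hsQ
      apply hJQ
      exact ⟨∑ i ∈ T, i.1 ⊗ₜ i.2, by rw [gam_sum_tmul, hμ1],
        fun τ hτ => by rw [gam_sum_tmul, hμ τ hτ]⟩
    obtain ⟨N₁, zf, hzf1, hzf⟩ := hrad hx₁m
    obtain ⟨N₂, zg, hzg1, hzg⟩ := hrad hx₂m
    have hrel : x₂ ^ N₂ • zf = x₁ ^ N₁ • zg := by
      rw [← sub_eq_zero]
      apply hinj
      intro τ
      rw [map_sub, map_smul, map_smul]
      by_cases hτ : τ = 1
      · subst hτ
        rw [hzf1, hzg1, smul_eq_mul, smul_eq_mul, mul_comm, sub_self]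
      · rw [hzf τ hτ, hzg τ hτ, smul_zero, smul_zero, sub_zero]
    obtain ⟨z', hz'⟩ := exists_eq_smul_of_flat hp hnd N₁ N₂ zf zg hrel
    apply hJ
    rw [Ideal.eq_top_iff_one]
    refine ⟨z', ?_, ?_⟩
    · have := hzf1
      rw [hz', map_smul, smul_eq_mul] at this
      exact mul_left_cancel₀ (pow_ne_zero _ hp.ne_zero) (this.trans (mul_one _).symm)
    · intro τ hτ
      have := hzf τ hτ
      rw [hz', map_smul, smul_eq_mul] at this
      exact (mul_eq_zero.1 this).resolve_left (pow_ne_zero _ hp.ne_zero)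

theorem main' (p : ℕ) [Fact p.Prime] (A : Type u) [CommRing A] [IsRegularLocalRing A]
    (hdim : 2 ≤ ringKrullDim A)
    (k : Type v) [Field k] [Algebra k A]
    (hk : Function.Surjective (IsLocalRing.residue A ∘ algebraMap k A))
    (G : Type w) [Group G] [Finite G] [MulSemiringAction G A] (hcard : Nat.card G = p)
    (hGk : ∀ (σ : G) (c : k), σ • algebraMap k A c = algebraMap k A c)
    (hram : ∀ P : Ideal A, P.IsPrime → P ≠ IsLocalRing.maximalIdeal A → P.inertia G = ⊥) :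
    ¬ Module.Flat (FixedPoints.subring A G) A := by
  haveI : Nontrivial G := by
    rw [← Finite.one_lt_card_iff_nontrivial, hcard]
    exact (Fact.out : p.Prime).one_lt
  refine main A hdim G ?_ hram
  intro σ a
  obtain ⟨c, hc⟩ := hk (IsLocalRing.residue A a)
  have hy : a - algebraMap k A c ∈ maximalIdeal A := by
    rw [← Ideal.Quotient.eq]
    exact hc.symm
  have hσy : σ • (a - algebraMap k A c) ∈ maximalIdeal A := by
    rw [← smul_maximalIdeal σ]
    exact Ideal.smul_mem_pointwise_smul_iff.2 hy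
  have : σ • a - a = σ • (a - algebraMap k A c) - (a - algebraMap k A c) := by
    rw [smul_sub, hGk]; ring
  rw [this]
  exact sub_mem hσy hy

end Groth.Agent.Lib.Helper4.WildReg2
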