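import Mathlib
import Groth.Agent.Lib.Helper4.WildReg2
import Groth.Agent.Lib.Helper4.CoprodReg1
import Groth.Agent.Lib.Helper8.FlatReg14
import Groth.Agent.Lib.Helper8.Depth7
import Groth.Agent.Lib.Helper8.FlatReg5

/-!
# Purity in dimension two for invariant rings (Galois map A ⊗ A → ∏ A, CHR elements, determinant and Krull's Hauptidealsatz) and elementary abelian Galois groups of order p^2 (helper4) (helper4)
-/

set_option backward.isDefEq.respectTransparency.types false
set_option synthInstance.maxHeartbeats 400000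
set_option autoImplicit false
set_option linter.unusedSectionVars false
set_option linter.style.haveILetI false
set_option linter.unusedSimpArgs false
universe u v w
open TensorProduct IsLocalRing
open scoped Pointwise
open Groth.Agent.Lib.Helper4.WildReg1 Groth.Agent.Lib.Helper4.WildReg2

namespace Groth.Agent.Lib.Helper4.WildPur1

section Core
variable {A : Type u} [CommRing A] {G : Type w} [Group G] [MulSemiringAction G A] [Fintype G]

/-- `Φ : A ⊗[A^G] A → (G → A)`, `z ↦ (γ_τ z)_τ`. -/
noncomputable def Phi : A ⊗[FixedPoints.subring A G] A →ₗ[A] (G → A) :=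
  LinearMap.pi fun τ => (gam τ).toLinearMap

lemma Phi_apply (z : A ⊗[FixedPoints.subring A G] A) (τ : G) : Phi z τ = gam τ z := rfl

/-- `Ψ_T : (G → A) → A ⊗[A^G] A` attached to a finite family of pairs. -/
noncomputable def Psi (T : Finset (A × A)) : (G → A) →ₗ[A] A ⊗[FixedPoints.subring A G] A where
  toFun f := ∑ i ∈ T, (∑ τ : G, f τ * τ • i.2) • ((1 : A) ⊗ₜ[FixedPoints.subring A G] i.1)
  map_add' f g := by
    rw [← Finset.sum_add_distrib]
    refine Finset.sum_congr rfl fun i _ => ?_
    rw [← add_smul, ← Finset.sum_add_distrib]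
    congr 1
    refine Finset.sum_congr rfl fun τ _ => ?_
    rw [Pi.add_apply, add_mul]
  map_smul' c f := by
    rw [RingHom.id_apply, Finset.smul_sum]
    refine Finset.sum_congr rfl fun i _ => ?_
    rw [smul_smul, Finset.mul_sum]
    congr 1
    refine Finset.sum_congr rfl fun τ _ => ?_
    rw [Pi.smul_apply, smul_eq_mul, mul_assoc]

lemma mu_sum (τ : G) (T : Finset (A × A)) :
    mu τ (∑ i ∈ T, i.1 ⊗ₜ[ℤ] i.2) = ∑ i ∈ T, i.1 * τ • i.2 := by
  simp only [map_sum, mu_tmul]

lemma Psi_Phi (T : Finset (A × A)) (s : A) (hs : ∀ g : G, g • s = s)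
    (hμ1 : mu (1 : G) (∑ i ∈ T, i.1 ⊗ₜ[ℤ] i.2) = s)
    (hμ : ∀ τ : G, τ ≠ 1 → mu τ (∑ i ∈ T, i.1 ⊗ₜ[ℤ] i.2) = 0)
    (z : A ⊗[FixedPoints.subring A G] A) : Psi T (Phi z) = s • z :=
  (smul_eq_sum T s hs hμ1 hμ z).symm

lemma Phi_Psi (T : Finset (A × A)) (s : A) (hs : ∀ g : G, g • s = s)
    (hμ1 : mu (1 : G) (∑ i ∈ T, i.1 ⊗ₜ[ℤ] i.2) = s)
    (hμ : ∀ τ : G, τ ≠ 1 → mu τ (∑ i ∈ T, i.1 ⊗ₜ[ℤ] i.2) = 0)
    (f : G → A) : Phi (Psi T f) = s • f := by
  classical
  have hkey : ∀ σ τ : G, ∑ i ∈ T, (σ • i.1) * (τ • i.2) = if τ = σ then s else 0 := by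
    intro σ τ
    have h1 : ∑ i ∈ T, (σ • i.1) * (τ • i.2) = σ • ∑ i ∈ T, i.1 * (σ⁻¹ * τ) • i.2 := by
      rw [Finset.smul_sum]
      refine Finset.sum_congr rfl fun i _ => ?_
      rw [smul_mul', smul_smul, mul_inv_cancel_left]
    rw [h1, ← mu_sum]
    by_cases h : τ = σ
    · subst h
      rw [inv_mul_cancel, hμ1, hs, if_pos rfl]
    · rw [if_neg h, hμ _ (fun h' => h (by rw [← mul_one σ, ← h', mul_inv_cancel_left])), smul_zero]
  funext σ
  rw [Phi_apply, Pi.smul_apply, smul_eq_mul]
  change gam σ (∑ i ∈ T, (∑ τ : G, f τ * τ • i.2) • ((1 : A) ⊗ₜ[FixedPoints.subring A G] i.1)) = _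
  simp only [map_sum, map_smul, gam_tmul, smul_eq_mul, one_mul, Finset.sum_mul]
  rw [Finset.sum_comm]
  have h2 : ∀ τ : G, ∑ i ∈ T, f τ * τ • i.2 * σ • i.1 = f τ * if τ = σ then s else 0 := by
    intro τ
    rw [← hkey σ τ, Finset.mul_sum]
    refine Finset.sum_congr rfl fun i _ => ?_
    ring
  rw [Finset.sum_congr rfl fun τ _ => h2 τ]
  simp [mul_comm]

end Core


section Core2
variable {A : Type u} [CommRing A] [IsDomain A] [IsLocalRing A] [IsNoetherianRing A]
  {G : Type w} [Group G] [MulSemiringAction G A] [Fintype G]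
  [Module.Free (FixedPoints.subring A G) A] [Module.Finite (FixedPoints.subring A G) A]

theorem core (hht : ¬ (maximalIdeal A).height ≤ 1)
    (hin : ∀ Q : Ideal A, Q.IsPrime → Q ≠ maximalIdeal A → Q.inertia G = ⊥)
    (hres : ∀ a : A, ∃ r : FixedPoints.subring A G, a - (r : A) ∈ maximalIdeal A) (g : G) :
    g = 1 := by
  classical
  by_contra hg
  have hchr : ∀ Q : Ideal A, Q.IsPrime → Q ≠ maximalIdeal A →
      ∃ (T : Finset (A × A)) (s : A), (∀ g : G, g • s = s) ∧ s ∉ Q ∧
        mu (1 : G) (∑ i ∈ T, i.1 ⊗ₜ[ℤ] i.2) = s ∧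
        ∀ τ : G, τ ≠ 1 → mu τ (∑ i ∈ T, i.1 ⊗ₜ[ℤ] i.2) = 0 := by
    intro Q hQ hQm
    haveI := hQ
    refine chr_finset Q fun τ => hin _ (Ideal.IsPrime.smul τ) ?_
    intro h
    apply hQm
    have : τ⁻¹ • (τ • Q) = τ⁻¹ • maximalIdeal A := by rw [h]
    rwa [inv_smul_smul, smul_maximalIdeal] at this
  have hbot : (⊥ : Ideal A) ≠ maximalIdeal A := by
    intro h
    apply hht
    rw [← h]
    simp
  obtain ⟨T₀, s₀, hs₀, hs₀', h1₀, h2₀⟩ := hchr ⊥ Ideal.isPrime_bot hbot
  have hs₀ne : s₀ ≠ 0 := fun h => hs₀' (by rw [h]; exact zero_mem _)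
  have hregM : IsSMulRegular (A ⊗[FixedPoints.subring A G] A) s₀ :=
    Module.Flat.isSMulRegular_of_nonZeroDivisors (mem_nonZeroDivisors_of_ne_zero hs₀ne)
  have hregP : IsSMulRegular (G → A) s₀ :=
    Module.Flat.isSMulRegular_of_nonZeroDivisors (mem_nonZeroDivisors_of_ne_zero hs₀ne)
  have hΦinj : Function.Injective (Phi : A ⊗[FixedPoints.subring A G] A →ₗ[A] (G → A)) := by
    rw [injective_iff_map_eq_zero]
    intro z hz
    have := Psi_Phi T₀ s₀ hs₀ h1₀ h2₀ z
    rw [hz, map_zero] at this
    exact hregM (this.symm.trans (smul_zero s₀).symm)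
  have hΨinj : Function.Injective (Psi T₀ : (G → A) →ₗ[A] A ⊗[FixedPoints.subring A G] A) := by
    rw [injective_iff_map_eq_zero]
    intro f hf
    have := Phi_Psi T₀ s₀ hs₀ h1₀ h2₀ f
    rw [hf, map_zero] at this
    exact hregP (this.symm.trans (smul_zero s₀).symm)
  have hrank : Module.finrank A (G → A) = Module.finrank A (A ⊗[FixedPoints.subring A G] A) :=
    le_antisymm (LinearMap.finrank_le_finrank_of_injective hΨinj)
      (LinearMap.finrank_le_finrank_of_injective hΦinj)
  let L : (G → A) ≃ₗ[A] A ⊗[FixedPoints.subring A G] A := LinearEquiv.ofFinrankEq _ _ hrank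
  set F : (G → A) →ₗ[A] (G → A) := Phi ∘ₗ L.toLinearMap with hF
  set d := LinearMap.det F with hd
  have hdvd : ∀ (T : Finset (A × A)) (s : A), (∀ g : G, g • s = s) →
      mu (1 : G) (∑ i ∈ T, i.1 ⊗ₜ[ℤ] i.2) = s →
      (∀ τ : G, τ ≠ 1 → mu τ (∑ i ∈ T, i.1 ⊗ₜ[ℤ] i.2) = 0) →
      d ∣ s ^ Module.finrank A (G → A) := by
    intro T s hs h1 h2
    have hcomp : F ∘ₗ (L.symm.toLinearMap ∘ₗ Psi T) = s • LinearMap.id := by
      refine LinearMap.ext fun f => ?_
      simp only [hF, LinearMap.comp_apply, LinearEquiv.coe_coe, LinearEquiv.apply_symm_apply,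
        LinearMap.smul_apply, LinearMap.id_apply]
      exact Phi_Psi T s hs h1 h2 f
    have := congrArg LinearMap.det hcomp
    rw [LinearMap.det_comp, LinearMap.det_smul, LinearMap.det_id, mul_one] at this
    exact ⟨_, this.symm⟩
  have hd0 : d ≠ 0 := by
    intro h
    have := hdvd T₀ s₀ hs₀ h1₀ h2₀
    rw [h, zero_dvd_iff] at this
    exact pow_ne_zero _ hs₀ne this
  have hdu : IsUnit d := by
    by_contra hnu
    have hne : Ideal.span {d} ≠ ⊤ := by rwa [Ne, Ideal.span_singleton_eq_top]
    obtain ⟨Q, hQ⟩ := Ideal.nonempty_minimalPrimes hne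
    have hQp : Q.IsPrime := hQ.1.1
    have hht1 : Q.height ≤ 1 := Ideal.height_le_one_of_isPrincipal_of_mem_minimalPrimes _ Q hQ
    have hQm : Q ≠ maximalIdeal A := fun h => hht (h ▸ hht1)
    obtain ⟨T, s, hs, hsQ, h1, h2⟩ := hchr Q hQp hQm
    have hdQ : d ∈ Q := hQ.1.2 (Ideal.mem_span_singleton_self d)
    obtain ⟨c, hc⟩ := hdvd T s hs h1 h2
    have : s ^ Module.finrank A (G → A) ∈ Q := by rw [hc]; exact Q.mul_mem_right _ hdQ
    exact hsQ (hQp.mem_of_pow_mem _ this)
  have hFbij : Function.Bijective F := by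
    have : IsUnit F := (LinearMap.isUnit_iff_isUnit_det F).2 hdu
    exact (Module.End.isUnit_iff F).1 this
  obtain ⟨f, hf⟩ := hFbij.2 (Pi.single 1 1)
  have hz : Phi (L f) = Pi.single 1 1 := hf
  have hmem : ∀ z : A ⊗[FixedPoints.subring A G] A, gam (1 : G) z - gam g z ∈ maximalIdeal A := by
    intro z
    induction z using TensorProduct.induction_on with
    | zero => simp
    | tmul a b =>
      rw [gam_tmul, gam_tmul, one_smul, ← mul_sub]
      refine Ideal.mul_mem_left _ _ ?_
      obtain ⟨r, hr⟩ := hres b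
      have : b - g • b = (b - r) - g • (b - r) := by rw [smul_sub, r.2 g]; ring
      rw [this]
      refine sub_mem hr ?_
      rw [← smul_maximalIdeal g]
      exact Ideal.smul_mem_pointwise_smul_iff.2 hr
    | add x y hx hy =>
      rw [map_add, map_add]
      have := add_mem hx hy
      convert this using 1
      ring
  have h1 := hmem (L f)
  rw [← Phi_apply, ← Phi_apply, hz, Pi.single_eq_same, Pi.single_eq_of_ne hg, sub_zero] at h1
  exact (maximalIdeal.isMaximal A).ne_top ((Ideal.eq_top_iff_one _).2 h1)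

end Core2


section Wrap
open LocCoh

theorem cm_of_normal_dim_two (A : Type u) [CommRing A] [IsDomain A] [IsIntegrallyClosed A]
    [IsLocalRing A] [IsNoetherianRing A] (hdim : ringKrullDim A = 2) :
    IsCohenMacaulayLocalRing A := by
  have hSk := Groth.Agent.Helper8.FlatReg.skLocal_of_hasSk 2
    (Groth.Agent.Helper8.FlatReg.hasSk_two_of_normal_domain A)
  unfold Groth.Agent.Helper8.FlatReg.SkLocal at hSk
  have hht : (maximalIdeal A).height = 2 := by
    have := IsLocalRing.maximalIdeal_height_eq_ringKrullDim (R := A)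
    rw [hdim] at this
    have h2 : ((2 : ℕ∞) : WithBot ℕ∞) = 2 := rfl
    rw [← h2] at this
    exact WithBot.coe_injective this
  rw [hht] at hSk
  refine ⟨?_⟩
  rw [Module.supportDim_self_eq_ringKrullDim]
  apply le_antisymm
  · rw [hdim]
    have : (2 : ℕ∞) ≤ depth A A := by simpa using hSk
    have h2 : ((2 : ℕ∞) : WithBot ℕ∞) = 2 := rfl
    rw [← h2]
    exact WithBot.coe_le_coe.mpr this
  · rw [← Module.supportDim_self_eq_ringKrullDim]
    exact Groth.Agent.Helper8.Depth.depth_le_supportDim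

/-- Purity in dimension two for invariant rings: if the ring of invariants is regular, the action
is free outside the closed point, and residue fields agree, then the group is trivial. -/
theorem purity_two (A : Type u) [CommRing A] [IsDomain A] [IsIntegrallyClosed A]
    [IsLocalRing A] [IsNoetherianRing A] (hdim : ringKrullDim A = 2)
    (G : Type w) [Group G] [MulSemiringAction G A] [Fintype G]
    [IsRegularLocalRing (FixedPoints.subring A G)] [Module.Finite (FixedPoints.subring A G) A]
    (hin : ∀ Q : Ideal A, Q.IsPrime → Q ≠ maximalIdeal A → Q.inertia G = ⊥)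
    (hres : ∀ a : A, ∃ r : FixedPoints.subring A G, a - (r : A) ∈ maximalIdeal A) (g : G) :
    g = 1 := by
  haveI := cm_of_normal_dim_two A hdim
  haveI : FaithfulSMul (FixedPoints.subring A G) A :=
    (faithfulSMul_iff_algebraMap_injective _ A).2 Subtype.val_injective
  haveI : Algebra.IsIntegral (FixedPoints.subring A G) A := Algebra.IsIntegral.of_finite _ A
  haveI : IsLocalHom (algebraMap (FixedPoints.subring A G) A) := inferInstance
  haveI : Module.Free (FixedPoints.subring A G) A :=
    (Groth.Agent.Helper8.FlatReg.free_iff_isCohenMacaulay_and_injective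
      (FixedPoints.subring A G) A).2 ⟨inferInstance, Subtype.val_injective⟩
  refine core ?_ hin hres g
  have hht : (maximalIdeal A).height = 2 := by
    have := IsLocalRing.maximalIdeal_height_eq_ringKrullDim (R := A)
    rw [hdim] at this
    have h2 : ((2 : ℕ∞) : WithBot ℕ∞) = 2 := rfl
    rw [← h2] at this
    exact WithBot.coe_injective this
  rw [hht]
  norm_num

end Wrap


section Main

/-- In a cyclic group of order `p ^ 2`, every nontrivial subgroup meets a subgroup of order `p`
nontrivially. -/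
lemma inf_ne_bot_of_isCyclic (p : ℕ) [hp : Fact p.Prime] (H : Type w) [Group H] [Finite H] [IsCyclic H]
    (hcard : Nat.card H = p ^ 2) (Γ : Subgroup H) (hΓ : Nat.card Γ = p) (K : Subgroup H)
    (hK : K ≠ ⊥) : K ⊓ Γ ≠ ⊥ := by
  classical
  cases nonempty_fintype H
  have hZ : ∀ z : H, z ^ p = 1 → z ∈ Γ := by
    intro z hz
    have h1 : (Finset.univ.filter fun a : H => a ^ p = 1).card ≤ p :=
      IsCyclic.card_pow_eq_one_le hp.out.pos
    have h2 : (Finset.univ.filter fun a : H => a ∈ Γ) ⊆ Finset.univ.filter fun a : H => a ^ p = 1 := by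
      intro a ha
      rw [Finset.mem_filter] at ha ⊢
      refine ⟨ha.1, ?_⟩
      have := pow_card_eq_one' (G := Γ) (x := ⟨a, ha.2⟩)
      rw [hΓ] at this
      exact congrArg Subtype.val this
    have h3 : (Finset.univ.filter fun a : H => a ∈ Γ).card = p := by
      rw [← hΓ, Nat.card_eq_fintype_card, Fintype.card_subtype]
    have h4 := Finset.eq_of_subset_of_card_le h2 (h1.trans h3.ge)
    have : z ∈ Finset.univ.filter fun a : H => a ^ p = 1 := by simp [hz]
    rw [← h4] at this
    exact (Finset.mem_filter.1 this).2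
  obtain ⟨⟨x, hxK⟩, hx1'⟩ := (Subgroup.ne_bot_iff_exists_ne_one).1 hK
  have hx1 : x ≠ 1 := fun h => hx1' (Subtype.ext h)
  intro hbot
  by_cases hxp : x ^ p = 1
  · have : x ∈ K ⊓ Γ := ⟨hxK, hZ x hxp⟩
    rw [hbot] at this
    exact hx1 (Subgroup.mem_bot.1 this)
  · have h5 : (x ^ p) ^ p = 1 := by
      rw [← pow_mul, ← sq, ← hcard]
      exact pow_card_eq_one'
    have : x ^ p ∈ K ⊓ Γ := ⟨K.pow_mem hxK p, hZ _ h5⟩
    rw [hbot] at this
    exact hxp (Subgroup.mem_bot.1 this)

theorem main
    (p : ℕ) [Fact p.Prime] (R : Type u) [CommRing R] [IsRegularLocalRing R]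
    (A : Type v) [CommRing A] [IsDomain A] [IsIntegrallyClosed A] [IsLocalRing A]
    [Algebra R A] [Module.Finite R A] (hinj : Function.Injective (algebraMap R A))
    (hres : Function.Surjective (IsLocalRing.residue A ∘ algebraMap R A))
    (H : Type w) [Group H] [Finite H] [MulSemiringAction H A] [SMulCommClass H R A] [FaithfulSMul H A]
    (hfix : ∀ a : A, (∀ h : H, h • a = a) → a ∈ Set.range (algebraMap R A))
    (hdim : ringKrullDim A = 2) (hcard : Nat.card H = p ^ 2)
    (Γ : Subgroup H) (hΓ : Nat.card Γ = p)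
    (hram : ∀ P : Ideal A, P.IsPrime → P ≠ IsLocalRing.maximalIdeal A → P.inertia H ⊓ Γ = ⊥) :
    (∀ P : Ideal A, P.IsPrime → P.height = 1 → P.inertia H ≠ ⊥ → Nat.card (P.inertia H) = p) ∧
      (∀ g h : H, g * h = h * g) ∧ ∀ h : H, h ^ p = 1 := by
  classical
  cases nonempty_fintype H
  have hp : p.Prime := Fact.out
  haveI : IsNoetherianRing A := IsNoetherianRing.of_finite R A
  have hhtm : (maximalIdeal A).height = 2 := by
    have := IsLocalRing.maximalIdeal_height_eq_ringKrullDim (R := A)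
    rw [hdim] at this
    have h2 : ((2 : ℕ∞) : WithBot ℕ∞) = 2 := rfl
    rw [← h2] at this
    exact WithBot.coe_injective this
  refine ⟨?_, ?_, ?_⟩
  · intro P hP hht hI
    have hPm : P ≠ maximalIdeal A := by
      intro h
      rw [h, hhtm] at hht
      norm_num at hht
    have h1 := hram P hP hPm
    obtain ⟨k, hk, hk'⟩ := (Nat.dvd_prime_pow hp).1 (hcard ▸ Subgroup.card_subgroup_dvd_card (P.inertia H))
    interval_cases k
    · rw [pow_zero] at hk'
      exact (hI (Subgroup.card_eq_one.1 hk')).elim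
    · rw [hk', pow_one]
    · rw [← hcard] at hk'
      rw [(Subgroup.card_eq_iff_eq_top _).1 hk', top_inf_eq] at h1
      rw [h1, Subgroup.card_bot] at hΓ
      exact (hp.one_lt.ne hΓ).elim
  · exact (IsPGroup.isMulCommutative_of_card_eq_prime_sq hcard).is_comm.comm
  · have hnc : ¬ IsCyclic H := by
      intro hcyc
      -- the ring of invariants
      let φ : R →+* FixedPoints.subring A H := (algebraMap R A).codRestrict _ (fun r h => by
        rw [Algebra.algebraMap_eq_smul_one, smul_comm, smul_one])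
      have hφinj : Function.Injective φ := fun x y h => hinj (congrArg Subtype.val h)
      have hφsurj : Function.Surjective φ := by
        intro s
        obtain ⟨r, hr⟩ := hfix s.1 s.2
        exact ⟨r, Subtype.ext hr⟩
      let e : R ≃+* FixedPoints.subring A H := RingEquiv.ofBijective φ ⟨hφinj, hφsurj⟩
      haveI : IsRegularLocalRing (FixedPoints.subring A H) := IsRegularLocalRing.of_ringEquiv e
      letI : Algebra R (FixedPoints.subring A H) := φ.toAlgebra
      haveI : IsScalarTower R (FixedPoints.subring A H) A :=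
        IsScalarTower.of_algebraMap_eq fun r => rfl
      haveI : Module.Finite (FixedPoints.subring A H) A :=
        Module.Finite.of_restrictScalars_finite R (FixedPoints.subring A H) A
      have hres' : ∀ a : A, ∃ r : FixedPoints.subring A H, a - (r : A) ∈ maximalIdeal A := by
        intro a
        obtain ⟨r, hr⟩ := hres (IsLocalRing.residue A a)
        refine ⟨φ r, ?_⟩
        have : IsLocalRing.residue A (a - algebraMap R A r) = 0 := by
          rw [map_sub, ← hr]; simp
        exact (IsLocalRing.residue_eq_zero_iff _).1 this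
      have hin : ∀ Q : Ideal A, Q.IsPrime → Q ≠ maximalIdeal A → Q.inertia H = ⊥ := by
        intro Q hQ hQm
        by_contra hne
        exact inf_ne_bot_of_isCyclic p H hcard Γ hΓ _ hne (hram Q hQ hQm)
      have htriv : ∀ g : H, g = 1 := purity_two A hdim H hin hres'
      have : Nat.card H = 1 := by
        haveI : Subsingleton H := ⟨fun a b => (htriv a).trans (htriv b).symm⟩
        exact Nat.card_unique
      rw [hcard] at this
      exact (one_lt_pow₀ hp.one_lt two_ne_zero).ne' this
    have hexp := (not_isCyclic_iff_exponent_eq_prime hp hcard).1 hnc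
    intro h
    rw [← hexp]
    exact Monoid.pow_exponent_eq_one h

end Main

end Groth.Agent.Lib.Helper4.WildPur1
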