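import Mathlib
import Groth.Agent.Lib.Helper4.WildReg2
import Groth.Agent.Lib.Helper4.CoprodReg1
import Groth.Agent.Lib.Helper4.DimFT1
import Groth.Agent.Lib.Helper7.CAlg.PowerSeriesEval
import Groth.Agent.Lib.Helper7.ComplFin.Main
import Groth.Agent.Lib.Helper8.MvPSLocal
import Groth.Agent.Lib.Helper8.Serre3
import Groth.Agent.Lib.Lead.EakinNagata

/-!
# Invariant ring of a finite group acting on a complete local ring with fixed coefficient field: finiteness, Noetherianity, normality, completeness, non-regularity (helper4)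
-/

set_option backward.isDefEq.respectTransparency.types false
set_option synthInstance.maxHeartbeats 400000
set_option autoImplicit false
set_option linter.unusedSectionVars false
set_option linter.style.haveILetI false
set_option linter.unusedSimpArgs false
universe u v w
open TensorProduct IsLocalRing
open scoped Pointwise

namespace Groth.Agent.Lib.Helper4.WildReg3

/-- Quotients of a Noetherian local ring by an `m`-primary ideal are finite over a coefficient
field. -/
theorem finite_quot (A : Type u) [CommRing A] [IsLocalRing A] [IsNoetherianRing A]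
    (k' : Type*) [Field k'] [Algebra k' A]
    (hk' : Function.Surjective (residue A ∘ algebraMap k' A))
    (J : Ideal A) (M : ℕ) (hJ : maximalIdeal A ^ M ≤ J) : Module.Finite k' (A ⧸ J) := by
  have hsurj : Function.Surjective (Ideal.Quotient.mk J) := Ideal.Quotient.mk_surjective
  -- all primes of the quotient are maximal
  haveI : Ring.KrullDimLE 0 (A ⧸ J) := by
    refine Ring.KrullDimLE.mk₀ fun I hI => ?_
    have hP : (I.comap (Ideal.Quotient.mk J)).IsPrime := Ideal.IsPrime.comap _
    have hle : maximalIdeal A ≤ I.comap (Ideal.Quotient.mk J) := by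
      refine hP.le_of_pow_le (n := M) (hJ.trans ?_)
      intro x hx
      rw [Ideal.mem_comap, Ideal.Quotient.eq_zero_iff_mem.2 hx]
      exact zero_mem _
    have hmax : (I.comap (Ideal.Quotient.mk J)).IsMaximal := by
      rw [← (maximalIdeal.isMaximal A).eq_of_le hP.ne_top hle]
      exact maximalIdeal.isMaximal A
    have := Ideal.map_eq_top_or_isMaximal_of_surjective _ hsurj hmax
    rw [Ideal.map_comap_of_surjective _ hsurj] at this
    exact this.resolve_left hI.ne_top
  haveI : IsArtinianRing (A ⧸ J) := IsNoetherianRing.isArtinianRing_of_krullDimLE_zero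
  haveI : Module.Finite k' ((A ⧸ J) ⧸ Ring.jacobson (A ⧸ J)) := by
    refine Module.Finite.of_surjective
      (Algebra.linearMap k' ((A ⧸ J) ⧸ Ring.jacobson (A ⧸ J))) ?_
    intro q
    obtain ⟨q', rfl⟩ := Ideal.Quotient.mk_surjective q
    obtain ⟨a, rfl⟩ := Ideal.Quotient.mk_surjective q'
    obtain ⟨c, hc⟩ := hk' (residue A a)
    refine ⟨c, ?_⟩
    have hmem : a - algebraMap k' A c ∈ maximalIdeal A := by
      rw [← Ideal.Quotient.eq]
      exact hc.symm
    have hjac : Ideal.Quotient.mk J (a - algebraMap k' A c) ∈ Ring.jacobson (A ⧸ J) := by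
      rw [Ring.jacobson_eq_sInf_isMaximal, Ideal.mem_sInf]
      intro I hI
      have hmax : (I.comap (Ideal.Quotient.mk J)).IsMaximal :=
        Ideal.comap_isMaximal_of_surjective _ hsurj (K := I) (H := hI)
      have := IsLocalRing.eq_maximalIdeal hmax
      have h2 : a - algebraMap k' A c ∈ I.comap (Ideal.Quotient.mk J) := by rw [this]; exact hmem
      exact h2
    rw [Algebra.linearMap_apply]
    symm
    rw [IsScalarTower.algebraMap_apply k' (A ⧸ J) ((A ⧸ J) ⧸ Ring.jacobson (A ⧸ J)),
      IsScalarTower.algebraMap_apply k' A (A ⧸ J), Ideal.Quotient.algebraMap_eq,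
      Ideal.Quotient.algebraMap_eq, Ideal.Quotient.eq, ← map_sub]
    exact hjac
  exact IsSemiprimaryRing.finite_of_isNoetherian k' (A ⧸ J) (A ⧸ J)

section Charpoly
open Polynomial Groth.Agent.Lib.Helper4.WildReg2
variable {A : Type u} [CommRing A] [IsLocalRing A] {G : Type w} [Group G] [Fintype G]
  [MulSemiringAction G A]

lemma smul_mem_maximalIdeal (g : G) {x : A} (hx : x ∈ maximalIdeal A) :
    g • x ∈ maximalIdeal A := by
  rw [← smul_maximalIdeal g]
  exact Ideal.smul_mem_pointwise_smul_iff.2 hx

lemma smul_mem_maximalIdeal_pow (g : G) (j : ℕ) {x : A} (hx : x ∈ maximalIdeal A ^ j) :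
    g • x ∈ maximalIdeal A ^ j := by
  have h1 : maximalIdeal A ≤ (maximalIdeal A).comap (MulSemiringAction.toRingHom G A g) :=
    fun y hy => smul_mem_maximalIdeal g hy
  have h2 : maximalIdeal A ^ j ≤ (maximalIdeal A ^ j).comap (MulSemiringAction.toRingHom G A g) :=
    (Ideal.pow_right_mono h1 j).trans (Ideal.le_comap_pow _ _)
  exact h2 hx

lemma natDegree_charpoly (u : A) :
    (MulSemiringAction.charpoly G u).natDegree = Fintype.card G := by
  rw [MulSemiringAction.charpoly_eq, natDegree_prod_of_monic _ _ (fun g _ => monic_X_sub_C _)]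
  simp

lemma coeff_charpoly_mem (u : A) (hu : u ∈ maximalIdeal A) (j : ℕ) (hj : j < Fintype.card G) :
    (MulSemiringAction.charpoly G u).coeff j ∈ maximalIdeal A := by
  have hmap : (MulSemiringAction.charpoly G u).map (residue A) = X ^ Fintype.card G := by
    rw [MulSemiringAction.charpoly_eq, Polynomial.map_prod]
    have : ∀ g : G, residue A (g • u) = 0 := fun g =>
      (residue_eq_zero_iff _).2 (smul_mem_maximalIdeal g hu)
    simp [this, Finset.prod_const, Finset.card_univ]
  have := congrArg (fun q => q.coeff j) hmap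
  simp only [Polynomial.coeff_map, Polynomial.coeff_X_pow, if_neg hj.ne] at this
  exact (residue_eq_zero_iff _).1 this

lemma pow_card_mem_span (u : A) :
    u ^ Fintype.card G ∈ Ideal.span (Set.range fun j : Fin (Fintype.card G) =>
      (MulSemiringAction.charpoly G u).coeff j) := by
  have h0 := MulSemiringAction.eval_charpoly G u
  rw [Polynomial.eval_eq_sum_range, natDegree_charpoly, Finset.sum_range_succ] at h0
  have hlead : (MulSemiringAction.charpoly G u).coeff (Fintype.card G) = 1 := by
    have := (MulSemiringAction.monic_charpoly G u).coeff_natDegree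
    rwa [natDegree_charpoly] at this
  rw [hlead, one_mul] at h0
  have h1 : u ^ Fintype.card G =
      -∑ x ∈ Finset.range (Fintype.card G), (MulSemiringAction.charpoly G u).coeff x * u ^ x := by
    linear_combination h0
  rw [h1]
  refine neg_mem (Ideal.sum_mem _ fun j hj => ?_)
  exact Ideal.mul_mem_right _ _ (Ideal.subset_span ⟨⟨j, Finset.mem_range.1 hj⟩, rfl⟩)

end Charpoly

section Finite
open Groth.Agent.Lib.Helper4.WildReg2

theorem exists_pow_le (A : Type u) [CommRing A] [IsLocalRing A] [IsNoetherianRing A]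
    (G : Type w) [Group G] [Fintype G] [MulSemiringAction G A] :
    ∃ (N : ℕ) (b : Fin N → A), (∀ l, b l ∈ maximalIdeal A) ∧ (∀ l (σ : G), σ • b l = b l) ∧
      ∃ M : ℕ, maximalIdeal A ^ M ≤ Ideal.span (Set.range b) := by
  obtain ⟨d, u, hu⟩ := Submodule.fg_iff_exists_fin_generating_family.1
    (IsNoetherian.noetherian (maximalIdeal A))
  have hum : ∀ i, u i ∈ maximalIdeal A := fun i => by
    rw [← hu]; exact Submodule.subset_span ⟨i, rfl⟩
  let e : Fin d × Fin (Fintype.card G) ≃ Fin (d * Fintype.card G) := finProdFinEquiv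
  refine ⟨d * Fintype.card G,
    fun l => (MulSemiringAction.charpoly G (u (e.symm l).1)).coeff (e.symm l).2, ?_, ?_, ?_⟩
  · intro l
    exact coeff_charpoly_mem _ (hum _) _ (e.symm l).2.is_lt
  · intro l σ
    exact MulSemiringAction.smul_coeff_charpoly _ _ σ
  · apply Ideal.exists_pow_le_of_le_radical_of_fg _ (IsNoetherian.noetherian (maximalIdeal A))
    have : maximalIdeal A = Ideal.span (Set.range u) := hu.symm
    rw [this, Ideal.span_le]
    rintro _ ⟨i, rfl⟩
    refine ⟨Fintype.card G, ?_⟩
    refine Ideal.span_mono ?_ (pow_card_mem_span (G := G) (u i))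
    rintro _ ⟨j, rfl⟩
    exact ⟨e (i, j), by simp⟩

theorem finite_aux (A : Type u) [CommRing A] [IsLocalRing A] [IsNoetherianRing A]
    [IsAdicComplete (maximalIdeal A) A] (k' : Type u) [Field k'] [Algebra k' A]
    (hk' : Function.Surjective (residue A ∘ algebraMap k' A))
    (G : Type w) [Group G] [Fintype G] [MulSemiringAction G A]
    (hGk' : ∀ (σ : G) (c : k'), σ • algebraMap k' A c = algebraMap k' A c) :
    Module.Finite (FixedPoints.subring A G) A := by
  classical
  obtain ⟨N, b, hbm, hbfix, M, hM⟩ := exists_pow_le A G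
  obtain ⟨ψ, hψ⟩ := Groth.Agent.Helper7.PowerSeriesEval.exists_algHom k' A N b hbm
  letI : Algebra (MvPowerSeries (Fin N) k') A := ψ.toRingHom.toAlgebra
  have halg : ∀ f : MvPowerSeries (Fin N) k', algebraMap (MvPowerSeries (Fin N) k') A f = ψ f :=
    fun f => rfl
  have hsmul : ∀ (f : MvPowerSeries (Fin N) k') (a : A), f • a = ψ f * a := fun f a => rfl
  haveI : IsScalarTower k' (MvPowerSeries (Fin N) k') A :=
    IsScalarTower.of_algebraMap_eq fun c => (ψ.commutes c).symm
  have hmP : maximalIdeal (MvPowerSeries (Fin N) k') =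
      Ideal.span (Set.range fun l : Fin N => (MvPowerSeries.X l : MvPowerSeries (Fin N) k')) :=
    Groth.Agent.Helper8.mvPowerSeries_maximalIdeal_eq (Fin N) k'
  have hXm : ∀ l : Fin N, (MvPowerSeries.X l : MvPowerSeries (Fin N) k') ∈
      maximalIdeal (MvPowerSeries (Fin N) k') := fun l => by
    rw [hmP]; exact Ideal.subset_span ⟨l, rfl⟩
  -- `ψ` maps powers of the maximal ideal into powers of the maximal ideal
  have hpow : ∀ (j : ℕ) (f : MvPowerSeries (Fin N) k'),
      f ∈ maximalIdeal (MvPowerSeries (Fin N) k') ^ j → ψ f ∈ maximalIdeal A ^ j := by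
    intro j f hf
    have h1 : maximalIdeal (MvPowerSeries (Fin N) k') ≤ (maximalIdeal A).comap ψ.toRingHom := by
      rw [hmP, Ideal.span_le]
      rintro _ ⟨l, rfl⟩
      change ψ (MvPowerSeries.X l) ∈ maximalIdeal A
      rw [hψ]; exact hbm l
    exact ((Ideal.pow_right_mono h1 j).trans (Ideal.le_comap_pow _ _)) hf
  -- (a) `A` is separated for the `m_P`-adic topology
  haveI : IsHausdorff (maximalIdeal (MvPowerSeries (Fin N) k')) A := by
    refine ⟨fun x hx => ?_⟩
    apply IsHausdorff.haus' (I := maximalIdeal A)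
    intro n
    have h := hx n
    rw [SModEq.zero] at h ⊢
    have hle : (maximalIdeal (MvPowerSeries (Fin N) k') ^ n • ⊤ :
        Submodule (MvPowerSeries (Fin N) k') A) ≤
        ((maximalIdeal A ^ n • ⊤ : Submodule A A)).restrictScalars (MvPowerSeries (Fin N) k') := by
      rw [Submodule.smul_le]
      intro f hf a _
      rw [Submodule.restrictScalars_mem, hsmul, smul_eq_mul, Ideal.mul_top]
      exact Ideal.mul_mem_right _ _ (hpow n f hf)
    exact hle h
  -- (b) a finite family spanning modulo `m_P`
  haveI hfinQ : Module.Finite k' (A ⧸ Ideal.span (Set.range b)) :=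
    finite_quot A k' hk' _ M hM
  obtain ⟨r, q, hq⟩ := Module.Finite.exists_fin (R := k') (M := A ⧸ Ideal.span (Set.range b))
  choose x hx using fun i => Ideal.Quotient.mk_surjective (q i)
  have hJle : ∀ y ∈ Ideal.span (Set.range b), y ∈
      (maximalIdeal (MvPowerSeries (Fin N) k') • ⊤ : Submodule (MvPowerSeries (Fin N) k') A) := by
    intro y hy
    obtain ⟨c, rfl⟩ := (Ideal.mem_span_range_iff_exists_fun).1 hy
    refine Submodule.sum_mem _ fun l _ => ?_
    have : c l * b l = (MvPowerSeries.X l : MvPowerSeries (Fin N) k') • c l := by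
      rw [hsmul, hψ, mul_comm]
    rw [this]
    exact Submodule.smul_mem_smul (hXm l) Submodule.mem_top
  have hsup : Submodule.span (MvPowerSeries (Fin N) k') (Set.range x) ⊔
      maximalIdeal (MvPowerSeries (Fin N) k') • ⊤ = ⊤ := by
    rw [eq_top_iff]
    intro a _
    have h1 : Ideal.Quotient.mk (Ideal.span (Set.range b)) a ∈ Submodule.span k' (Set.range q) := by
      rw [hq]; trivial
    obtain ⟨c, hc⟩ := (Submodule.mem_span_range_iff_exists_fun k').1 h1
    have h2 : a - ∑ i, c i • x i ∈ Ideal.span (Set.range b) := by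
      rw [← Ideal.Quotient.eq, ← hc, map_sum]
      refine Finset.sum_congr rfl fun i _ => ?_
      rw [Algebra.smul_def, Algebra.smul_def (c i) (x i), map_mul, hx]
      rfl
    have h3 : a = ∑ i, c i • x i + (a - ∑ i, c i • x i) := by abel
    rw [h3]
    refine Submodule.add_mem_sup (Submodule.sum_mem _ fun i _ => ?_) (hJle _ h2)
    rw [← algebraMap_smul (MvPowerSeries (Fin N) k') (c i) (x i)]
    exact Submodule.smul_mem _ _ (Submodule.subset_span ⟨i, rfl⟩)
  -- (c) complete Nakayama
  have hspan : Submodule.span (MvPowerSeries (Fin N) k') (Set.range x) = ⊤ :=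
    Groth.Agent.Helper2.CompleteFinite.span_eq_top_of_sup_smul_eq_top
      (maximalIdeal (MvPowerSeries (Fin N) k')) A x hsup
  -- (d) the image of `ψ` consists of invariants
  have hT : ∀ (j : ℕ) (f : MvPowerSeries (Fin N) k'), ∃ s : MvPowerSeries (Fin N) k',
      (∀ σ : G, σ • ψ s = ψ s) ∧ f - s ∈ maximalIdeal (MvPowerSeries (Fin N) k') ^ j := by
    intro j
    induction j with
    | zero =>
      intro f
      exact ⟨0, fun σ => by rw [map_zero, smul_zero], by rw [pow_zero, Ideal.one_eq_top]; trivial⟩
    | succ j ih =>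
      intro f
      have h1 : f - MvPowerSeries.C (MvPowerSeries.constantCoeff f) ∈
          maximalIdeal (MvPowerSeries (Fin N) k') :=
        Groth.Agent.Helper8.mvPowerSeries_sub_C_mem_maximalIdeal (Fin N) k' f
      rw [hmP] at h1
      obtain ⟨g, hg⟩ := (Ideal.mem_span_range_iff_exists_fun).1 h1
      choose s hs1 hs2 using fun l => ih (g l)
      refine ⟨MvPowerSeries.C (MvPowerSeries.constantCoeff f) + ∑ l, s l * MvPowerSeries.X l,
        ?_, ?_⟩
      · intro σ
        rw [map_add, map_sum, smul_add, Finset.smul_sum]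
        congr 1
        · have : ψ (MvPowerSeries.C (MvPowerSeries.constantCoeff f)) =
              algebraMap k' A (MvPowerSeries.constantCoeff f) := ψ.commutes _
          rw [this, hGk']
        · refine Finset.sum_congr rfl fun l _ => ?_
          rw [map_mul, smul_mul', hs1, hψ, hbfix]
      · have : f - (MvPowerSeries.C (MvPowerSeries.constantCoeff f) + ∑ l, s l * MvPowerSeries.X l) =
            ∑ l, (g l - s l) * MvPowerSeries.X l := by
          simp only [sub_mul, Finset.sum_sub_distrib, hg]
          ring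
        rw [this, pow_succ]
        exact Ideal.sum_mem _ fun l _ => Ideal.mul_mem_mul (hs2 l) (hXm l)
  have hinv : ∀ (f : MvPowerSeries (Fin N) k') (σ : G), σ • ψ f = ψ f := by
    intro f σ
    rw [← sub_eq_zero]
    apply IsHausdorff.haus' (I := maximalIdeal A)
    intro n
    rw [SModEq.zero, smul_eq_mul, Ideal.mul_top]
    obtain ⟨s, hs1, hs2⟩ := hT n f
    have h1 : ψ f = ψ s + ψ (f - s) := by rw [map_sub]; ring
    have h2 := hpow n _ hs2
    have h3 : σ • ψ f - ψ f = σ • ψ (f - s) - ψ (f - s) := by
      rw [h1, smul_add, hs1]; ring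
    rw [h3]
    exact sub_mem (smul_mem_maximalIdeal_pow σ n h2) h2
  -- (e) conclusion
  refine Module.finite_def.2 (Submodule.fg_iff_exists_fin_generating_family.2 ⟨r, x, ?_⟩)
  rw [eq_top_iff]
  intro a _
  have ha : a ∈ Submodule.span (MvPowerSeries (Fin N) k') (Set.range x) := by rw [hspan]; trivial
  obtain ⟨c, rfl⟩ := (Submodule.mem_span_range_iff_exists_fun _).1 ha
  refine Submodule.sum_mem _ fun i _ => ?_
  have : c i • x i = (⟨ψ (c i), fun σ => hinv (c i) σ⟩ : FixedPoints.subring A G) • x i := rfl
  rw [this]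
  exact Submodule.smul_mem _ _ (Submodule.subset_span ⟨i, rfl⟩)

end Finite

section Normal

theorem isIntegrallyClosed_fixedPoints (A : Type u) [CommRing A] [IsDomain A]
    [IsIntegrallyClosed A] (G : Type w) [Group G] [MulSemiringAction G A] :
    IsIntegrallyClosed (FixedPoints.subring A G) := by
  rw [isIntegrallyClosed_iff (FractionRing (FixedPoints.subring A G))]
  intro x hx
  let ψ : FixedPoints.subring A G →+* FractionRing A :=
    (algebraMap A (FractionRing A)).comp (FixedPoints.subring A G).subtype
  have hψ : Function.Injective ψ := by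
    intro a b hab
    exact Subtype.ext (IsFractionRing.injective A (FractionRing A) hab)
  let φ : FractionRing (FixedPoints.subring A G) →+* FractionRing A := IsFractionRing.lift hψ
  have hφ : ∀ s : FixedPoints.subring A G,
      φ (algebraMap _ (FractionRing (FixedPoints.subring A G)) s) =
        algebraMap A (FractionRing A) (s : A) := fun s => IsFractionRing.lift_algebraMap hψ s
  have hxA : IsIntegral A (φ x) := by
    obtain ⟨q, hq, hqx⟩ := hx
    refine ⟨q.map (FixedPoints.subring A G).subtype, hq.map _, ?_⟩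
    rw [Polynomial.eval₂_map]
    have e : (algebraMap A (FractionRing A)).comp (FixedPoints.subring A G).subtype =
        φ.comp (algebraMap _ (FractionRing (FixedPoints.subring A G))) := by
      ext s; exact (hφ s).symm
    rw [e, ← Polynomial.hom_eval₂, hqx, map_zero]
  obtain ⟨a, ha⟩ := IsIntegrallyClosed.algebraMap_eq_of_integral hxA
  obtain ⟨s, t, ht, hst⟩ := IsFractionRing.div_surjective (A := FixedPoints.subring A G) x
  have ht0 : (t : A) ≠ 0 := fun h0 => (nonZeroDivisors.ne_zero ht) (Subtype.ext h0)
  have hne : algebraMap _ (FractionRing (FixedPoints.subring A G)) t ≠ 0 := by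
    intro h0
    exact (nonZeroDivisors.ne_zero ht)
      ((IsFractionRing.injective _ (FractionRing (FixedPoints.subring A G))) (by rw [h0, map_zero]))
  have hx' : x * algebraMap _ (FractionRing (FixedPoints.subring A G)) t =
      algebraMap _ (FractionRing (FixedPoints.subring A G)) s := by
    rw [← hst]; exact div_mul_cancel₀ _ hne
  have hat : a * (t : A) = (s : A) := by
    apply IsFractionRing.injective A (FractionRing A)
    rw [map_mul, ha, ← hφ t, ← hφ s, ← map_mul, hx']
  have hmem : ∀ g : G, g • a = a := by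
    intro g
    have h1 : g • a * (t : A) = a * (t : A) := by
      have := congrArg (fun z => g • z) hat
      simp only [smul_mul'] at this
      rw [t.2 g, s.2 g] at this
      rw [this, hat]
    exact mul_right_cancel₀ ht0 h1
  refine ⟨⟨a, hmem⟩, ?_⟩
  have h2 : (⟨a, hmem⟩ : FixedPoints.subring A G) * t = s := Subtype.ext hat
  rw [← hst, eq_div_iff hne, ← map_mul, h2]

end Normal

section Complete

theorem isAdicComplete_fixedPoints (A : Type u) [CommRing A] [IsLocalRing A] [IsNoetherianRing A]
    [IsAdicComplete (maximalIdeal A) A] (G : Type w) [Group G] [Fintype G] [MulSemiringAction G A]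
    [IsNoetherianRing (FixedPoints.subring A G)] [Module.Finite (FixedPoints.subring A G) A] :
    IsAdicComplete (Ideal.comap (FixedPoints.subring A G).subtype (maximalIdeal A))
      (FixedPoints.subring A G) := by
  obtain ⟨N, b, hbm, hbfix, M, hM⟩ := exists_pow_le A G
  set 𝔫 : Ideal (FixedPoints.subring A G) :=
    Ideal.comap (FixedPoints.subring A G).subtype (maximalIdeal A) with h𝔫
  have hcoe : ∀ (n : ℕ) (y : FixedPoints.subring A G), y ∈ 𝔫 ^ n → (y : A) ∈ maximalIdeal A ^ n := by
    intro n y hy
    exact (Ideal.le_comap_pow (FixedPoints.subring A G).subtype n) hy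
  -- powers of `m` are contained in extended powers of `𝔫`
  have hmn : ∀ s : ℕ, ∀ y ∈ maximalIdeal A ^ (M * s),
      y ∈ (𝔫 ^ s • ⊤ : Submodule (FixedPoints.subring A G) A) := by
    intro s y hy
    rw [Ideal.smul_top_eq_map, Submodule.restrictScalars_mem, Ideal.map_pow]
    have h1 : Ideal.span (Set.range b) ≤ 𝔫.map (algebraMap (FixedPoints.subring A G) A) := by
      rw [Ideal.span_le]
      rintro _ ⟨l, rfl⟩
      exact Ideal.mem_map_of_mem _ (x := (⟨b l, hbfix l⟩ : FixedPoints.subring A G)) (hbm l)
    rw [pow_mul] at hy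
    exact Ideal.pow_right_mono (hM.trans h1) s hy
  -- Artin–Rees
  obtain ⟨c, hc⟩ := Ideal.exists_pow_inf_eq_pow_smul 𝔫
    (LinearMap.range (Algebra.linearMap (FixedPoints.subring A G) A))
  have hAR : ∀ (n : ℕ) (y : FixedPoints.subring A G),
      (y : A) ∈ (𝔫 ^ (n + c) • ⊤ : Submodule (FixedPoints.subring A G) A) → y ∈ 𝔫 ^ n := by
    intro n y hy
    have h1 : (y : A) ∈ (𝔫 ^ (n + c) • ⊤ : Submodule (FixedPoints.subring A G) A) ⊓
        LinearMap.range (Algebra.linearMap (FixedPoints.subring A G) A) := ⟨hy, ⟨y, rfl⟩⟩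
    rw [hc (n + c) (Nat.le_add_left c n), Nat.add_sub_cancel] at h1
    have h2 : ∀ w ∈ (𝔫 ^ n • ((𝔫 ^ c • ⊤ : Submodule (FixedPoints.subring A G) A) ⊓
        LinearMap.range (Algebra.linearMap (FixedPoints.subring A G) A))),
        ∃ y' ∈ 𝔫 ^ n, ((y' : FixedPoints.subring A G) : A) = w := by
      intro w hw
      refine Submodule.smul_induction_on hw ?_ ?_
      · intro r hr z hz
        obtain ⟨z', rfl⟩ := hz.2
        exact ⟨r * z', Ideal.mul_mem_right _ _ hr, rfl⟩
      · rintro x y ⟨x', hx', rfl⟩ ⟨y', hy', rfl⟩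
        exact ⟨x' + y', add_mem hx' hy', rfl⟩
    obtain ⟨y', hy', hyy⟩ := h2 _ h1
    have : y' = y := Subtype.ext hyy
    rwa [← this]
  refine { toIsHausdorff := ⟨fun x hx => ?_⟩, toIsPrecomplete := ⟨fun f hf => ?_⟩ }
  · apply Subtype.ext
    apply IsHausdorff.haus' (I := maximalIdeal A)
    intro n
    have h := hx n
    rw [SModEq.zero, smul_eq_mul, Ideal.mul_top] at h ⊢
    exact hcoe n x h
  · have hfA : ∀ {m n : ℕ}, m ≤ n →
        ((f m : FixedPoints.subring A G) : A) ≡ (f n : A) [SMOD (maximalIdeal A ^ m • ⊤ : Submodule A A)] := by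
      intro m n hmn'
      have h := hf hmn'
      rw [SModEq.sub_mem, smul_eq_mul, Ideal.mul_top] at h ⊢
      exact hcoe m _ h
    obtain ⟨L, hL⟩ := IsPrecomplete.prec' (I := maximalIdeal A) (fun n => (f n : A)) hfA
    have hL' : ∀ n, (f n : A) - L ∈ maximalIdeal A ^ n := by
      intro n
      have := hL n
      rwa [SModEq.sub_mem, smul_eq_mul, Ideal.mul_top] at this
    have hLfix : ∀ g : G, g • L = L := by
      intro g
      rw [← sub_eq_zero]
      apply IsHausdorff.haus' (I := maximalIdeal A)
      intro n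
      rw [SModEq.zero, smul_eq_mul, Ideal.mul_top]
      have h3 : g • L - L = -(g • ((f n : A) - L) - ((f n : A) - L)) := by
        rw [smul_sub, (f n).2 g]; ring
      rw [h3]
      exact neg_mem (sub_mem (smul_mem_maximalIdeal_pow g n (hL' n)) (hL' n))
    refine ⟨⟨L, hLfix⟩, fun n => ?_⟩
    rw [SModEq.sub_mem, smul_eq_mul, Ideal.mul_top]
    have h1 : f n - f (M * (n + c) + n) ∈ 𝔫 ^ n := by
      have := hf (Nat.le_add_left n (M * (n + c)))
      rwa [SModEq.sub_mem, smul_eq_mul, Ideal.mul_top] at this
    have h2 : f (M * (n + c) + n) - ⟨L, hLfix⟩ ∈ 𝔫 ^ n := by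
      apply hAR
      apply hmn
      exact Ideal.pow_le_pow_right (Nat.le_add_right _ _) (hL' _)
    have h3 : f n - ⟨L, hLfix⟩ =
        (f n - f (M * (n + c) + n)) + (f (M * (n + c) + n) - ⟨L, hLfix⟩) := by ring
    rw [h3]
    exact add_mem h1 h2

end Complete

section Main

theorem main (p : ℕ) [Fact p.Prime] (A : Type u) [CommRing A] [IsRegularLocalRing A]
    [IsAdicComplete (maximalIdeal A) A] (hdim : 2 ≤ ringKrullDim A)
    (k : Type v) [Field k] [Algebra k A]
    (hk : Function.Surjective (residue A ∘ algebraMap k A))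
    (G : Type w) [Group G] [Finite G] [MulSemiringAction G A] (hcard : Nat.card G = p)
    (hGk : ∀ (σ : G) (c : k), σ • algebraMap k A c = algebraMap k A c)
    (hram : ∀ P : Ideal A, P.IsPrime → P ≠ maximalIdeal A → P.inertia G = ⊥) :
    IsNoetherianRing (FixedPoints.subring A G) ∧ Module.Finite (FixedPoints.subring A G) A ∧
      IsIntegrallyClosed (FixedPoints.subring A G) ∧
      ringKrullDim (FixedPoints.subring A G) = ringKrullDim A ∧
      IsAdicComplete (Ideal.comap (FixedPoints.subring A G).subtype (maximalIdeal A))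
        (FixedPoints.subring A G) ∧
      ¬ IsRegularLocalRing (FixedPoints.subring A G) := by
  cases nonempty_fintype G
  -- the residue field as a coefficient field
  let e : k ≃+* ResidueField A :=
    RingEquiv.ofBijective ((residue A).comp (algebraMap k A)) ⟨RingHom.injective _, hk⟩
  letI : Algebra (ResidueField A) A := ((algebraMap k A).comp e.symm.toRingHom).toAlgebra
  have halg : ∀ x : ResidueField A, algebraMap (ResidueField A) A x = algebraMap k A (e.symm x) :=
    fun x => rfl
  have hk' : Function.Surjective (residue A ∘ algebraMap (ResidueField A) A) := by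
    intro x
    refine ⟨x, ?_⟩
    rw [Function.comp_apply, halg]
    exact e.apply_symm_apply x
  have hGk' : ∀ (σ : G) (c : ResidueField A),
      σ • algebraMap (ResidueField A) A c = algebraMap (ResidueField A) A c := by
    intro σ c
    rw [halg, hGk]
  haveI hfin : Module.Finite (FixedPoints.subring A G) A :=
    finite_aux A (ResidueField A) hk' G hGk'
  haveI hnoeth : IsNoetherianRing (FixedPoints.subring A G) :=
    Groth.Agent.Lib.Lead.EakinNagata.isNoetherianRing_of_finite (B := FixedPoints.subring A G)
      (A := A) Subtype.val_injective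
  haveI := Groth.Agent.Helper8.RLR.isDomain A
  haveI := Groth.Agent.Helper8.Serre.isIntegrallyClosed_of_isRegularLocalRing A
  haveI : Algebra.IsIntegral (FixedPoints.subring A G) A := Algebra.IsIntegral.of_finite _ _
  refine ⟨hnoeth, hfin, isIntegrallyClosed_fixedPoints A G, ?_, isAdicComplete_fixedPoints A G, ?_⟩
  · exact (Groth.Agent.Lib.Helper4.DimFT1.ringKrullDim_eq_of_isIntegral_of_injective
      (FixedPoints.subring A G) A Subtype.val_injective).symm
  · intro hreg
    haveI := hreg
    haveI : Module.Free (FixedPoints.subring A G) A :=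
      Groth.Agent.Lib.Helper4.CoprodReg1.free_of_finite_regular Subtype.val_injective
    exact Groth.Agent.Lib.Helper4.WildReg2.main' p A hdim k hk G hcard hGk hram inferInstance

end Main

end Groth.Agent.Lib.Helper4.WildReg3
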