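import Mathlib

namespace Groth.Agent.Helper4.Witt

open WittVector Finset

variable {p : ℕ} [hp : Fact p.Prime] {R : Type*} [CommRing R]

/-- `V a * V b = p * V (a * b)`. -/
theorem verschiebung_mul_verschiebung (a b : WittVector p R) :
    verschiebung a * verschiebung b = (p : WittVector p R) * verschiebung (a * b) := by
  rw [← verschiebung_mul_frobenius, frobenius_verschiebung]
  have : a * (b * (p : WittVector p R)) = p • (a * b) := by
    rw [nsmul_eq_mul]; ring
  rw [this, map_nsmul, nsmul_eq_mul]

theorem eq_verschiebung_of_coeff_zero (x : WittVector p R) (h : x.coeff 0 = 0) :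
    ∃ y, x = verschiebung y := by
  refine ⟨x.shift 1, ?_⟩
  have := eq_iterate_verschiebung (x := x) (n := 1) (fun i hi => by
    have : i = 0 := by omega
    subst this; exact h)
  simpa using this

theorem natCast_coeff_zero (n : ℕ) : ((n : WittVector p R)).coeff 0 = n := by
  have := map_natCast (constantCoeff : WittVector p R →+* R) n
  exact this

theorem teichmuller_prime_pow_dvd :
    (p : WittVector p R) ∣ teichmuller p ((p : R) ^ p) := by
  obtain ⟨z, hz⟩ := eq_verschiebung_of_coeff_zero (teichmuller p (p : R) - (p : WittVector p R)) (by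
    have h1 : (teichmuller p (p : R) - (p : WittVector p R)).coeff 0 =
        constantCoeff (teichmuller p (p : R) - (p : WittVector p R)) := rfl
    rw [h1, RingHom.map_sub]
    have e1 : constantCoeff (teichmuller p (p : R)) = (p : R) := teichmuller_coeff_zero p _
    have e2 : constantCoeff (p : WittVector p R) = (p : R) := natCast_coeff_zero p
    rw [e1, e2, sub_self])
  have h2 : teichmuller p (p : R) = (p : WittVector p R) + verschiebung z := by
    rw [← hz]; ring
  rw [map_pow, h2]
  have h3 : (p : WittVector p R) ∣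
      ((p : WittVector p R) + verschiebung z) ^ p - (verschiebung z) ^ p := by
    have := sub_dvd_pow_sub_pow ((p : WittVector p R) + verschiebung z) (verschiebung z) p
    simpa using this
  have h4 : (p : WittVector p R) ∣ (verschiebung z) ^ p := by
    have h2p : 2 ≤ p := hp.out.two_le
    obtain ⟨k, rfl⟩ : ∃ k, p = 2 + k := ⟨p - 2, by omega⟩
    rw [pow_add, pow_two, verschiebung_mul_verschiebung, mul_assoc]
    exact Dvd.intro _ rfl
  have := dvd_add h3 h4
  simpa using this


theorem ghostComponent_eq_sum (n : ℕ) (x : WittVector p R) :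
    ghostComponent n x = ∑ i ∈ range (n + 1), (p : R) ^ i * x.coeff i ^ p ^ (n - i) := by
  rw [ghostComponent_apply, wittPolynomial_eq_sum_C_mul_X_pow, map_sum]
  refine Finset.sum_congr rfl fun i _ => ?_
  simp [MvPolynomial.aeval_X]

omit hp in
theorem le_mul_pow_aux (hp2 : 2 ≤ p) (s k : ℕ) (hs : 1 ≤ s) : s + k ≤ s * p ^ k := by
  have h1 : k + 1 ≤ p ^ k := by
    calc k + 1 ≤ 2 ^ k := Nat.lt_two_pow_self
      _ ≤ p ^ k := Nat.pow_le_pow_left hp2 k
  calc s + k ≤ s * (k + 1) := by nlinarith
    _ ≤ s * p ^ k := Nat.mul_le_mul_left s h1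

theorem pow_dvd_coeff_iff (hS : ∀ y : R, (p : R) * y = 0 → y = 0) (x : WittVector p R)
    (m s : ℕ) (hs : 1 ≤ s) :
    (∀ i ≤ m, (p : R) ^ s ∣ x.coeff i) ↔
      (∀ n ≤ m, (p : R) ^ (n + s) ∣ ghostComponent n x) := by
  have key : ∀ n i, i ≤ n → (p : R) ^ s ∣ x.coeff i →
      (p : R) ^ (n + s) ∣ (p : R) ^ i * x.coeff i ^ p ^ (n - i) := by
    intro n i hin hd
    have h1 : (p : R) ^ (s * p ^ (n - i)) ∣ x.coeff i ^ p ^ (n - i) := by
      rw [pow_mul]; exact pow_dvd_pow_of_dvd hd _
    have h2 : (p : R) ^ (s + (n - i)) ∣ x.coeff i ^ p ^ (n - i) :=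
      (pow_dvd_pow _ (le_mul_pow_aux hp.out.two_le s (n - i) hs)).trans h1
    have h3 : n + s = i + (s + (n - i)) := by omega
    rw [h3, pow_add]
    exact mul_dvd_mul_left _ h2
  have hcancel : ∀ (n : ℕ) (y z : R), (p : R) ^ n * y = (p : R) ^ n * z → y = z := by
    intro n
    induction n with
    | zero => intro y z h; simpa using h
    | succ k ih =>
      intro y z h
      apply ih
      rw [← sub_eq_zero, ← mul_sub]
      apply hS
      rw [← sub_eq_zero, ← mul_sub] at h
      rw [← mul_assoc, ← pow_succ']
      exact h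
  constructor
  · intro h n hn
    rw [ghostComponent_eq_sum]
    refine Finset.dvd_sum fun i hi => ?_
    have hin : i ≤ n := by simpa [Nat.lt_succ_iff] using hi
    exact key n i hin (h i (hin.trans hn))
  · intro h i
    induction i using Nat.strong_induction_on with
    | _ n ih =>
      intro hn
      have hw := h n hn
      rw [ghostComponent_eq_sum, Finset.sum_range_succ] at hw
      have hsum : (p : R) ^ (n + s) ∣ ∑ i ∈ range n, (p : R) ^ i * x.coeff i ^ p ^ (n - i) := by
        refine Finset.dvd_sum fun i hi => ?_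
        have hin : i < n := by simpa using hi
        exact key n i hin.le (ih i hin (hin.le.trans hn))
      have hlast := (dvd_add_right hsum).mp hw
      rw [Nat.sub_self, pow_zero, pow_one, pow_add] at hlast
      obtain ⟨c, hc⟩ := hlast
      rw [mul_assoc] at hc
      exact ⟨c, hcancel n _ _ hc⟩


end Groth.Agent.Helper4.Witt
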