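import Mathlib
import Groth.Agent.Lib.Helper4.Witt1

namespace Groth.Agent.Helper4.Witt

open WittVector Finset Function

variable {p : ℕ} [hp : Fact p.Prime] {R : Type*} [CommRing R]

theorem mem_ker_constantCoeff_iff (x : WittVector p R) :
    x ∈ RingHom.ker (constantCoeff : WittVector p R →+* R) ↔ ∃ y, x = verschiebung y := by
  constructor
  · intro h
    exact eq_verschiebung_of_coeff_zero x h
  · rintro ⟨y, rfl⟩
    exact verschiebung_coeff_zero y

theorem ker_mul_ker_le :
    RingHom.ker (constantCoeff : WittVector p R →+* R) *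
      RingHom.ker (constantCoeff : WittVector p R →+* R) ≤
    Ideal.span {(p : WittVector p R)} * RingHom.ker (constantCoeff : WittVector p R →+* R) := by
  rw [Ideal.mul_le]
  intro a ha b hb
  obtain ⟨a', rfl⟩ := (mem_ker_constantCoeff_iff a).mp ha
  obtain ⟨b', rfl⟩ := (mem_ker_constantCoeff_iff b).mp hb
  rw [verschiebung_mul_verschiebung]
  exact Ideal.mul_mem_mul (Ideal.mem_span_singleton_self _)
    ((mem_ker_constantCoeff_iff _).mpr ⟨_, rfl⟩)

theorem ker_pow_succ_le (n : ℕ) :
    RingHom.ker (constantCoeff : WittVector p R →+* R) ^ (n + 1) ≤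
    Ideal.span {(p : WittVector p R)} ^ n * RingHom.ker (constantCoeff : WittVector p R →+* R) := by
  induction n with
  | zero => simp
  | succ n ih =>
    rw [pow_succ]
    calc _ ≤ (Ideal.span {(p : WittVector p R)} ^ n *
          RingHom.ker (constantCoeff : WittVector p R →+* R)) *
          RingHom.ker (constantCoeff : WittVector p R →+* R) := Ideal.mul_mono_left ih
      _ = Ideal.span {(p : WittVector p R)} ^ n *
          (RingHom.ker (constantCoeff : WittVector p R →+* R) *
          RingHom.ker (constantCoeff : WittVector p R →+* R)) := mul_assoc _ _ _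
      _ ≤ Ideal.span {(p : WittVector p R)} ^ n *
          (Ideal.span {(p : WittVector p R)} *
            RingHom.ker (constantCoeff : WittVector p R →+* R)) := Ideal.mul_mono_right ker_mul_ker_le
      _ = _ := by rw [← mul_assoc, ← pow_succ]

theorem frobenius_iterate_natCast (n k : ℕ) :
    (frobenius^[n]) ((k : WittVector p R)) = (k : WittVector p R) := by
  induction n with
  | zero => rfl
  | succ n ih => rw [iterate_succ_apply', ih, map_natCast]

theorem natCast_pow_mul_mem_ker_truncate {N : ℕ} (hN : (p : R) ^ N = 0) (n : ℕ)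
    (x : WittVector p R) (hx : x ∈ RingHom.ker (truncate (p := p) (R := R) n)) :
    x * (p : WittVector p R) ^ N ∈ RingHom.ker (truncate (p := p) (R := R) (n + 1)) := by
  rw [mem_ker_truncate] at hx ⊢
  have hx' := eq_iterate_verschiebung hx
  obtain ⟨z, hz⟩ := eq_verschiebung_of_coeff_zero ((p : WittVector p R) ^ N) (by
    have h1 : ((p : WittVector p R) ^ N).coeff 0 = constantCoeff ((p : WittVector p R) ^ N) := rfl
    rw [h1, map_pow, map_natCast, hN])
  have h2 : x * (p : WittVector p R) ^ N = verschiebung^[n + 1] (frobenius (x.shift n) * z) := by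
    conv_lhs => rw [hx']
    rw [iterate_verschiebung_mul_left]
    have : (frobenius^[n]) ((p : WittVector p R) ^ N) = (p : WittVector p R) ^ N := by
      rw [← Nat.cast_pow, frobenius_iterate_natCast]
    rw [this, hz, mul_comm (x.shift n), ← verschiebung_mul_frobenius, iterate_succ_apply,
      mul_comm]
  intro i hi
  rw [h2]
  exact iterate_verschiebung_coeff_eq_zero _ hi

theorem span_pow_le_ker_truncate {N : ℕ} (hN : (p : R) ^ N = 0) (n : ℕ) :
    Ideal.span {(p : WittVector p R)} ^ (N * n) ≤ RingHom.ker (truncate (p := p) (R := R) n) := by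
  induction n with
  | zero =>
    intro x _
    rw [mem_ker_truncate]
    intro i hi; omega
  | succ n ih =>
    rw [Nat.mul_succ, pow_add, Ideal.mul_le]
    intro a ha b hb
    rw [Ideal.span_singleton_pow, Ideal.mem_span_singleton] at hb
    obtain ⟨c, rfl⟩ := hb
    have := natCast_pow_mul_mem_ker_truncate hN n a (ih ha)
    have h3 : a * ((p : WittVector p R) ^ N * c) = c * (a * (p : WittVector p R) ^ N) := by ring
    rw [h3]
    exact Ideal.mul_mem_left _ _ this

theorem topologies_of_isNilpotent (hp' : IsNilpotent (p : R)) :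
    (∀ n : ℕ, ∃ m : ℕ, (RingHom.ker (constantCoeff : WittVector p R →+* R)) ^ m ≤
        Ideal.span {(p : WittVector p R)} ^ n) ∧
      (∀ n : ℕ, ∃ m : ℕ, Ideal.span {(p : WittVector p R)} ^ m ≤
        (RingHom.ker (constantCoeff : WittVector p R →+* R)) ^ n) ∧
        ∀ n : ℕ, ∃ m : ℕ, Ideal.span {(p : WittVector p R)} ^ m ≤
          RingHom.ker (truncate (p := p) (R := R) n) := by
  obtain ⟨N, hN⟩ := hp'
  refine ⟨fun n => ⟨n + 1, (ker_pow_succ_le n).trans Ideal.mul_le_left⟩, fun n => ⟨N * n, ?_⟩,
    fun n => ⟨N * n, span_pow_le_ker_truncate hN n⟩⟩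
  rw [pow_mul]
  refine Ideal.pow_right_mono ?_ n
  rw [Ideal.span_singleton_pow, Ideal.span_singleton_le_iff_mem, RingHom.mem_ker, map_pow,
    map_natCast, hN]

end Groth.Agent.Helper4.Witt
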