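import Mathlib
import Groth.Prelude.Def_W4c3truncdispsmoothDesc
import Groth.Agent.Lib.Helper4.ModDesc1

/-!
# descent data for modules over G(R) (G a functor on rings, e.g. truncated Witt vectors): morphisms of canonical descent data satisfy the equalizer condition (helper4)
-/

set_option backward.isDefEq.respectTransparency.types false
set_option synthInstance.maxHeartbeats 400000
set_option autoImplicit false
set_option linter.unusedSectionVars false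
set_option linter.style.haveILetI false
set_option linter.unusedSimpArgs false
universe u v w
open CategoryTheory CategoryTheory.Limits Opposite Bicategory
open ChangeOfRings
open Groth.Agent.Lib.Helper4.ModDesc1 (tm smul_tm tm_eq_smul tm_add add_tm tm_smul tm_induction map_tm comp3_apply)

namespace Groth.Agent.Lib.Helper4.WittDesc1
noncomputable section

lemma opeq {A B T : CommRingCat.{u}} {a : A ⟶ B} {α : B ⟶ T} {q : A ⟶ T} (h : a ≫ α = q) :
    α.op ≫ a.op = q.op := by rw [← h]; rfl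

lemma loceq {A B T : CommRingCat.{u}} {a : A ⟶ B} {α : B ⟶ T} {q : A ⟶ T} (h : a ≫ α = q) :
    a.op.op.toLoc ≫ α.op.op.toLoc = q.op.op.toLoc := by rw [← h]; rfl

variable (G : CommRingCat.{u} ⥤ CommRingCat.{u})

/-- the pseudofunctor `R ↦ Mod (G R)` -/
def FW : Pseudofunctor (LocallyDiscrete (CommRingCat.{u}ᵒᵖ)ᵒᵖ) Cat.{u, u + 1} :=
  ((unopUnop CommRingCat.{u}) ⋙ G).toPseudofunctor.comp
    CommRingCat.moduleCatExtendScalarsPseudofunctor.{u}

abbrev Wm {A B : CommRingCat.{u}} (φ : A ⟶ B) : G.obj A ⟶ G.obj B := G.map φ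

abbrev Wo (A : CommRingCat.{u}) : CommRingCat.{u} := G.obj A

example {A B : CommRingCat.{u}} (φ : A ⟶ B) :
    ((FW G).map φ.op.op.toLoc).toFunctor = ModuleCat.extendScalars (Wm G φ).hom := rfl

/-- the composition isomorphism, typed in `ModuleCat` -/
def mcIso {A B C : CommRingCat.{u}} (φ : A ⟶ B) (ψ : B ⟶ C) (χ : A ⟶ C)
    (h : φ ≫ ψ = χ) (N : ModuleCat.{u} (Wo G A)) :
    (ModuleCat.extendScalars (Wm G χ).hom).obj N ≅
      (ModuleCat.extendScalars (Wm G ψ).hom).obj ((ModuleCat.extendScalars (Wm G φ).hom).obj N) :=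
  (Cat.Hom.toNatIso ((FW G).mapComp' φ.op.op.toLoc ψ.op.op.toLoc χ.op.op.toLoc
    (loceq h))).app N

/-- the composition isomorphism, typed in `ModuleCat` -/
def mcHom {A B C : CommRingCat.{u}} (φ : A ⟶ B) (ψ : B ⟶ C) (χ : A ⟶ C)
    (h : φ ≫ ψ = χ) (N : ModuleCat.{u} (Wo G A)) :
    (ModuleCat.extendScalars (Wm G χ).hom).obj N ⟶
      (ModuleCat.extendScalars (Wm G ψ).hom).obj ((ModuleCat.extendScalars (Wm G φ).hom).obj N) :=
  (mcIso G φ ψ χ h N).hom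

/-- transport of pure tensors along an equality of ring maps -/
lemma eqToHom_tm {A B : CommRingCat.{u}} (f g : A ⟶ B) (h : f = g) (N : ModuleCat.{u} A) (b : B)
    (x : N) (h' : (ModuleCat.extendScalars f.hom).obj N = (ModuleCat.extendScalars g.hom).obj N) :
    (eqToHom h').hom (tm f N b x) = tm g N b x := by
  subst h
  rfl

lemma mcHom_one_tm {A B C : CommRingCat.{u}} (φ : A ⟶ B) (ψ : B ⟶ C) (χ : A ⟶ C)
    (h : φ ≫ ψ = χ) (N : ModuleCat.{u} (Wo G A)) (x : N) :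
    (mcHom G φ ψ χ h N).hom (tm (Wm G χ) N 1 x) =
      tm (Wm G ψ) ((ModuleCat.extendScalars (Wm G φ).hom).obj N) 1 (tm (Wm G φ) N 1 x) := by
  subst h
  have h1 : (FW G).mapComp' φ.op.op.toLoc ψ.op.op.toLoc (φ ≫ ψ).op.op.toLoc rfl =
      (FW G).mapComp φ.op.op.toLoc ψ.op.op.toLoc :=
    Pseudofunctor.mapComp'_eq_mapComp (FW G) φ.op.op.toLoc ψ.op.op.toLoc
  unfold mcHom mcIso
  rw [h1]
  show ModuleCat.Hom.hom (((FW G).mapComp φ.op.op.toLoc ψ.op.op.toLoc).hom.toNatTrans.app N) _ = _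
  have e : (unopUnop CommRingCat.{u} ⋙ G).toPseudofunctor.map
        (φ.op.op.toLoc ≫ ψ.op.op.toLoc) =
      (unopUnop CommRingCat.{u} ⋙ G).toPseudofunctor.map
        φ.op.op.toLoc ≫
      (unopUnop CommRingCat.{u} ⋙ G).toPseudofunctor.map
        ψ.op.op.toLoc := by
    show ((G).map (φ ≫ ψ)).toLoc =
      ((G).map φ).toLoc ≫
        ((G).map ψ).toLoc
    rw [Functor.map_comp]
    rfl
  have h2 : ((FW G).mapComp φ.op.op.toLoc ψ.op.op.toLoc).hom =
      CommRingCat.moduleCatExtendScalarsPseudofunctor.{u}.map₂ (eqToHom e) ≫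
        (CommRingCat.moduleCatExtendScalarsPseudofunctor.{u}.mapComp
          (Wm G φ).toLoc (Wm G ψ).toLoc).hom := rfl
  rw [h2, PrelaxFunctor.map₂_eqToHom]
  rw [Cat.Hom₂.comp_app, Cat.eqToHom_app]
  refine (ModuleCat.comp_apply _ _ _).trans ?_
  have h3 := eqToHom_tm (Wm G (φ ≫ ψ)) (Wm G φ ≫ Wm G ψ)
    ((G).map_comp φ ψ) N 1 x
  erw [h3]
  exact ModuleCat.extendScalarsComp_hom_app_one_tmul (Wm G φ).hom (Wm G ψ).hom N x


/-- the inverse composition isomorphism, typed in `ModuleCat` -/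
def mcInv {A B C : CommRingCat.{u}} (φ : A ⟶ B) (ψ : B ⟶ C) (χ : A ⟶ C)
    (h : φ ≫ ψ = χ) (N : ModuleCat.{u} (Wo G A)) :
    (ModuleCat.extendScalars (Wm G ψ).hom).obj ((ModuleCat.extendScalars (Wm G φ).hom).obj N) ⟶
      (ModuleCat.extendScalars (Wm G χ).hom).obj N :=
  (mcIso G φ ψ χ h N).inv

lemma mcHom_mcInv {A B C : CommRingCat.{u}} (φ : A ⟶ B) (ψ : B ⟶ C) (χ : A ⟶ C)
    (h : φ ≫ ψ = χ) (N : ModuleCat.{u} (Wo G A)) :
    mcHom G φ ψ χ h N ≫ mcInv G φ ψ χ h N = 𝟙 _ :=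
  (mcIso G φ ψ χ h N).hom_inv_id

lemma mcInv_mcHom {A B C : CommRingCat.{u}} (φ : A ⟶ B) (ψ : B ⟶ C) (χ : A ⟶ C)
    (h : φ ≫ ψ = χ) (N : ModuleCat.{u} (Wo G A)) :
    mcInv G φ ψ χ h N ≫ mcHom G φ ψ χ h N = 𝟙 _ :=
  (mcIso G φ ψ χ h N).inv_hom_id

lemma Wm_comp {A B C : CommRingCat.{u}} (φ : A ⟶ B) (ψ : B ⟶ C) (χ : A ⟶ C)
    (h : φ ≫ ψ = χ) (w : Wo G A) :
    (Wm G ψ).hom ((Wm G φ).hom w) = (Wm G χ).hom w := by
  subst h
  rw [Wm, Wm, Wm, Functor.map_comp]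
  rfl

lemma mcHom_tm {A B C : CommRingCat.{u}} (φ : A ⟶ B) (ψ : B ⟶ C) (χ : A ⟶ C)
    (h : φ ≫ ψ = χ) (N : ModuleCat.{u} (Wo G A)) (b : Wo G B) (x : N) :
    (mcHom G φ ψ χ h N).hom (tm (Wm G χ) N ((Wm G ψ).hom b) x) =
      tm (Wm G ψ) ((ModuleCat.extendScalars (Wm G φ).hom).obj N) 1 (tm (Wm G φ) N b x) := by
  rw [tm_eq_smul (Wm G χ), map_smul, mcHom_one_tm G φ ψ χ h N x, smul_tm, mul_one,
    tm_eq_smul (Wm G φ) N b x, tm_smul, one_mul]

lemma mcInv_tm {A B C : CommRingCat.{u}} (φ : A ⟶ B) (ψ : B ⟶ C) (χ : A ⟶ C)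
    (h : φ ≫ ψ = χ) (N : ModuleCat.{u} (Wo G A)) (b : Wo G B) (x : N) :
    (mcInv G φ ψ χ h N).hom
        (tm (Wm G ψ) ((ModuleCat.extendScalars (Wm G φ).hom).obj N) 1 (tm (Wm G φ) N b x)) =
      tm (Wm G χ) N ((Wm G ψ).hom b) x := by
  rw [← mcHom_tm G φ ψ χ h N b x]
  exact congrArg (fun ξ => ModuleCat.Hom.hom ξ (tm (Wm G χ) N ((Wm G ψ).hom b) x))
    (mcHom_mcInv G φ ψ χ h N)

/-- pushing an element of `W(T) ⊗ N` forward along `γ : T ⟶ T'` -/
def push {A : CommRingCat.{u}} {T T' : CommRingCat.{u}} (β : A ⟶ T) (γ : T ⟶ T') (β' : A ⟶ T')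
    (h : β ≫ γ = β') (N : ModuleCat.{u} (Wo G A))
    (x : (ModuleCat.extendScalars (Wm G β).hom).obj N) :
    (ModuleCat.extendScalars (Wm G β').hom).obj N :=
  (mcInv G β γ β' h N).hom (tm (Wm G γ) ((ModuleCat.extendScalars (Wm G β).hom).obj N) 1 x)

lemma push_tm {A : CommRingCat.{u}} {T T' : CommRingCat.{u}} (β : A ⟶ T) (γ : T ⟶ T')
    (β' : A ⟶ T') (h : β ≫ γ = β') (N : ModuleCat.{u} (Wo G A)) (t : Wo G T) (x : N) :
    push G β γ β' h N (tm (Wm G β) N t x) = tm (Wm G β') N ((Wm G γ).hom t) x :=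
  mcInv_tm G β γ β' h N t x

lemma push_add {A : CommRingCat.{u}} {T T' : CommRingCat.{u}} (β : A ⟶ T) (γ : T ⟶ T')
    (β' : A ⟶ T') (h : β ≫ γ = β') (N : ModuleCat.{u} (Wo G A))
    (x y : (ModuleCat.extendScalars (Wm G β).hom).obj N) :
    push G β γ β' h N (x + y) = push G β γ β' h N x + push G β γ β' h N y := by
  unfold push
  rw [tm_add, map_add]

lemma push_zero {A : CommRingCat.{u}} {T T' : CommRingCat.{u}} (β : A ⟶ T) (γ : T ⟶ T')
    (β' : A ⟶ T') (h : β ≫ γ = β') (N : ModuleCat.{u} (Wo G A)) :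
    push G β γ β' h N 0 = 0 := by
  unfold push
  have : tm (Wm G γ) ((ModuleCat.extendScalars (Wm G β).hom).obj N) 1 0 = 0 :=
    TensorProduct.tmul_zero _ _
  rw [this, map_zero]



section GenF

variable (F : Pseudofunctor (LocallyDiscrete (CommRingCat.{u}ᵒᵖ)ᵒᵖ) Cat.{u, u + 1})
  {A B : CommRingCat.{u}} (a : A ⟶ B)

lemma gen_can (M : F.obj ⟨op (op A)⟩) {T : CommRingCat.{u}} (q : A ⟶ T) (α β : B ⟶ T)
    (hα : a ≫ α = q) (hβ : a ≫ β = q) :
    ((F.toDescentData (fun _ : PUnit.{u + 1} => a.op)).obj M).hom q.op (i₁ := PUnit.unit)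
        (i₂ := PUnit.unit) α.op β.op (opeq hα) (opeq hβ) =
      (F.mapComp' a.op.op.toLoc α.op.op.toLoc q.op.op.toLoc
        (loceq hα)).inv.toNatTrans.app M ≫
      (F.mapComp' a.op.op.toLoc β.op.op.toLoc q.op.op.toLoc
        (loceq hβ)).hom.toNatTrans.app M :=
  Pseudofunctor.DescentData.ofObj_hom (F := F) (f := fun _ : PUnit.{u + 1} => a.op) M
    (op T) q.op PUnit.unit PUnit.unit α.op β.op _ _

lemma gen_comm {D D' : F.DescentData (fun _ : PUnit.{u + 1} => a.op)} (ψ : D ⟶ D')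
    {T : CommRingCat.{u}} (q : A ⟶ T) (α β : B ⟶ T) (hα : a ≫ α = q) (hβ : a ≫ β = q) :
    (F.map α.op.op.toLoc).toFunctor.map (ψ.hom PUnit.unit) ≫
        D'.hom q.op α.op β.op (opeq hα) (opeq hβ) =
      D.hom q.op α.op β.op (opeq hα) (opeq hβ) ≫
        (F.map β.op.op.toLoc).toFunctor.map (ψ.hom PUnit.unit) :=
  ψ.comm q.op α.op β.op (opeq hα) (opeq hβ)

/-- the underlying morphism, generic version -/
def genHom0 {M N : F.obj ⟨op (op A)⟩}
    (ψ : (F.toDescentData (fun _ : PUnit.{u + 1} => a.op)).obj M ⟶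
      (F.toDescentData (fun _ : PUnit.{u + 1} => a.op)).obj N) :
    (F.map a.op.op.toLoc).toFunctor.obj M ⟶ (F.map a.op.op.toLoc).toFunctor.obj N :=
  ψ.hom PUnit.unit

/-- the composition isomorphism, generic version -/
def genIso {T : CommRingCat.{u}} (q : A ⟶ T) (α : B ⟶ T) (hα : a ≫ α = q)
    (M : F.obj ⟨op (op A)⟩) :
    (F.map q.op.op.toLoc).toFunctor.obj M ≅
      (F.map α.op.op.toLoc).toFunctor.obj ((F.map a.op.op.toLoc).toFunctor.obj M) :=
  (Cat.Hom.toNatIso (F.mapComp' a.op.op.toLoc α.op.op.toLoc q.op.op.toLoc (loceq hα))).app M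

lemma gen_comm' {M N : F.obj ⟨op (op A)⟩}
    (ψ : (F.toDescentData (fun _ : PUnit.{u + 1} => a.op)).obj M ⟶
      (F.toDescentData (fun _ : PUnit.{u + 1} => a.op)).obj N)
    {T : CommRingCat.{u}} (q : A ⟶ T) (α β : B ⟶ T) (hα : a ≫ α = q) (hβ : a ≫ β = q) :
    (F.map α.op.op.toLoc).toFunctor.map (genHom0 F a ψ) ≫
        ((genIso F a q α hα N).inv ≫ (genIso F a q β hβ N).hom) =
      ((genIso F a q α hα M).inv ≫ (genIso F a q β hβ M).hom) ≫
        (F.map β.op.op.toLoc).toFunctor.map (genHom0 F a ψ) :=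
  ψ.comm q.op α.op β.op (opeq hα) (opeq hβ)

lemma gen_key {M N : F.obj ⟨op (op A)⟩}
    (ψ : (F.toDescentData (fun _ : PUnit.{u + 1} => a.op)).obj M ⟶
      (F.toDescentData (fun _ : PUnit.{u + 1} => a.op)).obj N)
    {T : CommRingCat.{u}} (q : A ⟶ T) (α β : B ⟶ T) (hα : a ≫ α = q) (hβ : a ≫ β = q) :
    (genIso F a q α hα M).hom ≫ (F.map α.op.op.toLoc).toFunctor.map (genHom0 F a ψ) ≫
        (genIso F a q α hα N).inv =
      (genIso F a q β hβ M).hom ≫ (F.map β.op.op.toLoc).toFunctor.map (genHom0 F a ψ) ≫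
        (genIso F a q β hβ N).inv := by
  have h := gen_comm' F a ψ q α β hα hβ
  rw [← Category.assoc, ← Category.assoc, Iso.eq_comp_inv, Category.assoc, Category.assoc,
    h, Category.assoc, Iso.hom_inv_id_assoc]

lemma gen_equalizer {M N : F.obj ⟨op (op A)⟩}
    (ψ : (F.toDescentData (fun _ : PUnit.{u + 1} => a.op)).obj M ⟶
      (F.toDescentData (fun _ : PUnit.{u + 1} => a.op)).obj N)
    {T : CommRingCat.{u}} (q : A ⟶ T) (α β : B ⟶ T) (hα : a ≫ α = q) (hβ : a ≫ β = q)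
    (UA : F.obj ⟨op (op A)⟩ ⥤ Type u) (UB : F.obj ⟨op (op B)⟩ ⥤ Type u)
    (UT : F.obj ⟨op (op T)⟩ ⥤ Type u)
    (ηa : ∀ P : F.obj ⟨op (op A)⟩, UA.obj P → UB.obj ((F.map a.op.op.toLoc).toFunctor.obj P))
    (ηq : ∀ P : F.obj ⟨op (op A)⟩, UA.obj P → UT.obj ((F.map q.op.op.toLoc).toFunctor.obj P))
    (ηα : ∀ P : F.obj ⟨op (op B)⟩, UB.obj P → UT.obj ((F.map α.op.op.toLoc).toFunctor.obj P))
    (ηβ : ∀ P : F.obj ⟨op (op B)⟩, UB.obj P → UT.obj ((F.map β.op.op.toLoc).toFunctor.obj P))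
    (natα : ∀ {P P' : F.obj ⟨op (op B)⟩} (g : P ⟶ P') (y : UB.obj P),
      UT.map ((F.map α.op.op.toLoc).toFunctor.map g) (ηα P y) = ηα P' (UB.map g y))
    (natβ : ∀ {P P' : F.obj ⟨op (op B)⟩} (g : P ⟶ P') (y : UB.obj P),
      UT.map ((F.map β.op.op.toLoc).toFunctor.map g) (ηβ P y) = ηβ P' (UB.map g y))
    (compα : ∀ (P : F.obj ⟨op (op A)⟩) (m : UA.obj P),
      UT.map (genIso F a q α hα P).hom (ηq P m) = ηα _ (ηa P m))
    (compβ : ∀ (P : F.obj ⟨op (op A)⟩) (m : UA.obj P),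
      UT.map (genIso F a q β hβ P).hom (ηq P m) = ηβ _ (ηa P m))
    (m : UA.obj M) :
    UT.map (genIso F a q α hα N).inv (ηα _ (UB.map (genHom0 F a ψ) (ηa M m))) =
      UT.map (genIso F a q β hβ N).inv (ηβ _ (UB.map (genHom0 F a ψ) (ηa M m))) := by
  have h := congrArg (fun ξ => UT.map ξ (ηq M m)) (gen_key F a ψ q α β hα hβ)
  simp only [Functor.map_comp, types_comp_apply] at h
  rw [compα, compβ, natα, natβ] at h
  exact h

end GenF

section DD

variable {A B : CommRingCat.{u}} (a : A ⟶ B)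

abbrev DDG := (FW G).DescentData (fun _ : PUnit.{u + 1} => a.op)

variable {G a}

abbrev NN (D : DDG G a) : ModuleCat.{u} (Wo G B) := D.obj PUnit.unit

/-- the comparison morphism for a pair of ring maps -/
def θ (D : DDG G a) {T : CommRingCat.{u}} (q : A ⟶ T) (α β : B ⟶ T)
    (hα : a ≫ α = q) (hβ : a ≫ β = q) :
    (ModuleCat.extendScalars (Wm G α).hom).obj (NN D) ⟶
      (ModuleCat.extendScalars (Wm G β).hom).obj (NN D) :=
  D.hom q.op α.op β.op (opeq hα) (opeq hβ)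

variable (G a) in
/-- the functor to descent data -/
abbrev GG := (FW G).toDescentData (fun _ : PUnit.{u + 1} => a.op)

lemma GG_map_hom {M M' : ModuleCat.{u} (Wo G A)} (φ : M ⟶ M') :
    ((GG G a).map φ).hom PUnit.unit = (ModuleCat.extendScalars (Wm G a).hom).map φ := rfl

variable (G a) in
/-- the canonical descent datum -/
abbrev canD (M : ModuleCat.{u} (Wo G A)) : DDG G a := (GG G a).obj M

variable (G a) in
/-- extension of scalars -/
abbrev NM (M : ModuleCat.{u} (Wo G A)) : ModuleCat.{u} (Wo G B) :=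
  (ModuleCat.extendScalars (Wm G a).hom).obj M

/-- the underlying morphism of modules of a morphism of descent data -/
def hom0 {D D' : DDG G a} (ψ : D ⟶ D') : NN D ⟶ NN D' := ψ.hom PUnit.unit

lemma theta_comm {D D' : DDG G a} (ψ : D ⟶ D') {T : CommRingCat.{u}} (q : A ⟶ T)
    (α β : B ⟶ T) (hα : a ≫ α = q) (hβ : a ≫ β = q) :
    (ModuleCat.extendScalars (Wm G α).hom).map (hom0 ψ) ≫ θ D' q α β hα hβ =
      θ D q α β hα hβ ≫ (ModuleCat.extendScalars (Wm G β).hom).map (hom0 ψ) :=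
  gen_comm (FW G) a ψ q α β hα hβ

lemma theta_comm_apply {D D' : DDG G a} (ψ : D ⟶ D') {T : CommRingCat.{u}}
    (q : A ⟶ T) (α β : B ⟶ T) (hα : a ≫ α = q) (hβ : a ≫ β = q) (x : NN D) :
    (θ D' q α β hα hβ).hom (tm (Wm G α) (NN D') 1 ((hom0 ψ).hom x)) =
      ((ModuleCat.extendScalars (Wm G β).hom).map (hom0 ψ)).hom
        ((θ D q α β hα hβ).hom (tm (Wm G α) (NN D) 1 x)) :=
  congrArg (fun ξ => ModuleCat.Hom.hom ξ (tm (Wm G α) (NN D) 1 x)) (theta_comm ψ q α β hα hβ)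

/-- the underlying morphism of a morphism between canonical descent data -/
def hom0' {M N : ModuleCat.{u} (Wo G A)} (ψ : canD G a M ⟶ canD G a N) :
    NM G a M ⟶ NM G a N := ψ.hom PUnit.unit

/-- typed unit map -/
def ηW {A' B' : CommRingCat.{u}} (φ : A' ⟶ B') (P : (FW G).obj ⟨op (op A')⟩)
    (x : (forget (ModuleCat.{u} (Wo G A'))).obj P) :
    (forget (ModuleCat.{u} (Wo G B'))).obj (((FW G).map φ.op.op.toLoc).toFunctor.obj P) :=
  tm (Wm G φ) P 1 x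

lemma hcompW {T : CommRingCat.{u}} (q : A ⟶ T) (α : B ⟶ T) (hα : a ≫ α = q) :
    ∀ (P : (FW G).obj ⟨op (op A)⟩) (m : (forget (ModuleCat.{u} (Wo G A))).obj P),
      (forget (ModuleCat.{u} (Wo G T))).map (genIso (FW G) a q α hα P).hom (ηW (G := G) q P m) =
        ηW (G := G) α _ (ηW (G := G) a P m) :=
  fun P x => mcHom_one_tm G a α q hα P x

lemma hnatW {T : CommRingCat.{u}} (α : B ⟶ T) :
    ∀ {P P' : (FW G).obj ⟨op (op B)⟩} (g : P ⟶ P') (y : (forget (ModuleCat.{u} (Wo G B))).obj P),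
      (forget (ModuleCat.{u} (Wo G T))).map (((FW G).map α.op.op.toLoc).toFunctor.map g)
        (ηW (G := G) α P y) = ηW (G := G) α P' ((forget (ModuleCat.{u} (Wo G B))).map g y) :=
  fun g y => map_tm (Wm G α) g 1 y

lemma pe5 {M N : (FW G).obj ⟨op (op A)⟩}
    (ψ : ((FW G).toDescentData (fun _ : PUnit.{u + 1} => a.op)).obj M ⟶
      ((FW G).toDescentData (fun _ : PUnit.{u + 1} => a.op)).obj N)
    {T : CommRingCat.{u}} (q : A ⟶ T) (α β : B ⟶ T) (hα : a ≫ α = q) (hβ : a ≫ β = q)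
    (m : (forget (ModuleCat.{u} (Wo G A))).obj M) :
    (forget (ModuleCat.{u} (Wo G T))).map (genIso (FW G) a q α hα N).inv
        (ηW (G := G) α _ ((forget (ModuleCat.{u} (Wo G B))).map (genHom0 (FW G) a ψ)
          (ηW (G := G) a M m))) =
      (forget (ModuleCat.{u} (Wo G T))).map (genIso (FW G) a q β hβ N).inv
        (ηW (G := G) β _ ((forget (ModuleCat.{u} (Wo G B))).map (genHom0 (FW G) a ψ)
          (ηW (G := G) a M m))) :=
  gen_equalizer (FW G) a ψ q α β hα hβ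
    (forget (ModuleCat.{u} (Wo G A))) (forget (ModuleCat.{u} (Wo G B)))
    (forget (ModuleCat.{u} (Wo G T)))
    (ηW (G := G) a) (ηW (G := G) q) (ηW (G := G) α) (ηW (G := G) β)
    (hnatW α) (hnatW β) (hcompW q α hα) (hcompW q β hβ) m

lemma c1 {M N : ModuleCat.{u} (Wo G A)} (ψ : canD G a M ⟶ canD G a N) (m : M) :
    (forget (ModuleCat.{u} (Wo G B))).map (genHom0 (FW G) a ψ) (ηW (G := G) a M m) =
      (hom0' ψ).hom (tm (Wm G a) M 1 m) := rfl

lemma c2 {N : ModuleCat.{u} (Wo G A)} {T : CommRingCat.{u}} (q : A ⟶ T) (α : B ⟶ T)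
    (hα : a ≫ α = q) (z : (ModuleCat.extendScalars (Wm G α).hom).obj (NM G a N)) :
    (forget (ModuleCat.{u} (Wo G T))).map (genIso (FW G) a q α hα N).inv z =
      (mcInv G a α q hα N).hom z := rfl

lemma c3 {N : ModuleCat.{u} (Wo G A)} {T : CommRingCat.{u}} (α : B ⟶ T) (y : NM G a N) :
    ηW (G := G) α (NM G a N) y = tm (Wm G α) (NM G a N) 1 y := rfl

lemma push_c {N : ModuleCat.{u} (Wo G A)} {T : CommRingCat.{u}} (q : A ⟶ T) (α : B ⟶ T)
    (hα : a ≫ α = q) (y : NM G a N) :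
    push G a α q hα N y =
      (forget (ModuleCat.{u} (Wo G T))).map (genIso (FW G) a q α hα N).inv
        (ηW (G := G) α (NM G a N) y) := rfl

lemma push_eq {M N : ModuleCat.{u} (Wo G A)} (ψ : canD G a M ⟶ canD G a N)
    {T : CommRingCat.{u}} (q : A ⟶ T) (α β : B ⟶ T) (hα : a ≫ α = q) (hβ : a ≫ β = q) (m : M) :
    push G a α q hα N ((hom0' ψ).hom (tm (Wm G a) M 1 m)) =
      push G a β q hβ N ((hom0' ψ).hom (tm (Wm G a) M 1 m)) := by
  rw [push_c, push_c, ← c1]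
  exact pe5 ψ q α β hα hβ m

end DD


end
end Groth.Agent.Lib.Helper4.WittDesc1
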