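import Mathlib
import Groth.Prelude.Def_W4c3truncdispsmoothDesc
import Groth.Agent.Lib.Helper4.WittDesc1
import Groth.Agent.S16225

/-!
# fully faithfulness of W_n-module descent along a faithfully flat ring map (S16223) (helper4)
-/

set_option backward.isDefEq.respectTransparency.types false
set_option synthInstance.maxHeartbeats 400000
set_option autoImplicit false
set_option linter.unusedSectionVars false
set_option linter.style.haveILetI false
set_option linter.unusedSimpArgs false
universe u v w
open CategoryTheory CategoryTheory.Limits Opposite Bicategory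
open ChangeOfRings TensorProduct
open Groth.Agent.Lib.Helper4.ModDesc1 (tm smul_tm tm_eq_smul tm_add add_tm tm_smul tm_induction map_tm)
open Groth.Agent.Lib.Helper4.WittDesc1

namespace Groth.Agent.Lib.Helper4.WittDesc2
noncomputable section

section gen
variable {A B : CommRingCat.{u}} (f : A ⟶ B) (N : ModuleCat.{u} A)

/-- the plain tensor product `N ⊗ B` for the algebra structure given by `f` -/
abbrev NB : Type u := @TensorProduct A _ N B _ _ _ (f.hom.toAlgebra).toModule

/-- `b ⊗ x ↦ x ⊗ b` -/
def κ : (ModuleCat.extendScalars f.hom).obj N →+ NB f N :=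
  letI := f.hom.toAlgebra
  TensorProduct.liftAddHom (R := A)
    (M := (ModuleCat.restrictScalars f.hom).obj (ModuleCat.of B B)) (N := N)
    (AddMonoidHom.mk' (fun b => AddMonoidHom.mk' (fun x => x ⊗ₜ[A] (show B from b))
      (fun x x' => TensorProduct.add_tmul x x' _))
      (fun b b' => by
        ext x
        exact TensorProduct.tmul_add x (show B from b) (show B from b')))
    (fun r b x => by
      change x ⊗ₜ[A] (f.hom r * (show B from b)) = (r • x) ⊗ₜ[A] (show B from b)
      rw [TensorProduct.smul_tmul]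
      rfl)

lemma κ_tm (b : B) (x : N) :
    κ f N (tm f N b x) = (letI := f.hom.toAlgebra; x ⊗ₜ[A] b) := rfl

/-- `x ⊗ b ↦ b ⊗ x` -/
def lam : NB f N →+ (ModuleCat.extendScalars f.hom).obj N :=
  letI := f.hom.toAlgebra
  TensorProduct.liftAddHom
    (AddMonoidHom.mk' (fun x => AddMonoidHom.mk' (fun b => tm f N b x)
      (fun b b' => add_tm f N b b' x))
      (fun x x' => by
        ext b
        exact tm_add f N b x x'))
    (fun r x b => by
      change tm f N b (r • x) = tm f N (r • b) x
      rw [tm_smul, Algebra.smul_def, mul_comm]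
      rfl)

lemma lam_tmul (b : B) (x : N) :
    lam f N (letI := f.hom.toAlgebra; x ⊗ₜ[A] b) = tm f N b x := rfl

lemma lam_κ (y : (ModuleCat.extendScalars f.hom).obj N) : lam f N (κ f N y) = y := by
  induction y using tm_induction with
  | h0 => rw [map_zero, map_zero]
  | h1 b x => rw [κ_tm, lam_tmul]
  | h2 y y' hy hy' => rw [map_add, map_add, hy, hy']

end gen

section genG
variable (G : CommRingCat.{u} ⥤ CommRingCat.{u}) {A B : CommRingCat.{u}} (a : A ⟶ B)
  (M N : ModuleCat.{u} (Wo G A))

lemma GG_map_injective (hinj : Function.Injective (fun x : N => tm (Wm G a) N 1 x)) :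
    Function.Injective (fun φ : M ⟶ N => (GG G a).map φ) := by
  intro φ φ' h
  have h1 : (ModuleCat.extendScalars (Wm G a).hom).map φ =
      (ModuleCat.extendScalars (Wm G a).hom).map φ' :=
    congrArg (fun ψ => Pseudofunctor.DescentData.Hom.hom ψ PUnit.unit) h
  apply ModuleCat.hom_ext
  apply LinearMap.ext
  intro m
  apply hinj
  have h2 := congrArg (fun ξ => ModuleCat.Hom.hom ξ (tm (Wm G a) M 1 m)) h1
  exact h2

lemma GG_map_surjective (hinj : Function.Injective (fun x : N => tm (Wm G a) N 1 x))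
    (ψ : canD G a M ⟶ canD G a N)
    (hex : ∀ m : M, ∃ x : N, tm (Wm G a) N 1 x = (hom0' ψ).hom (tm (Wm G a) M 1 m)) :
    ∃ φ : M ⟶ N, (GG G a).map φ = ψ := by
  choose φf hφ using hex
  let φl : M →ₗ[Wo G A] N :=
    { toFun := φf
      map_add' := fun m m' => by
        apply hinj
        show tm (Wm G a) N 1 (φf (m + m')) = tm (Wm G a) N 1 (φf m + φf m')
        rw [hφ, tm_add, tm_add, map_add, hφ, hφ]
      map_smul' := fun r m => by
        apply hinj
        show tm (Wm G a) N 1 (φf (r • m)) = tm (Wm G a) N 1 (r • φf m)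
        rw [hφ, tm_smul, tm_smul, tm_eq_smul, map_smul, ← hφ, smul_tm, mul_one] }
  refine ⟨ModuleCat.ofHom φl, ?_⟩
  apply Pseudofunctor.DescentData.hom_ext
  intro i
  cases i
  show (ModuleCat.extendScalars (Wm G a).hom).map (ModuleCat.ofHom φl) = hom0' ψ
  apply ModuleCat.hom_ext
  apply LinearMap.ext
  intro y
  induction y using tm_induction with
  | h0 => rw [map_zero, map_zero]
  | h1 w m =>
    rw [map_tm]
    show tm (Wm G a) N w (φf m) = _
    rw [tm_eq_smul, hφ, ← map_smul, smul_tm, mul_one]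
  | h2 y y' hy hy' => rw [map_add, map_add, hy, hy']

end genG

variable (p : ℕ) [Fact p.Prime] (n : ℕ)

abbrev Gw : CommRingCat.{u} ⥤ CommRingCat.{u} := W4c3truncdispsmooth.wittTrunc.{u} p n


section conc
open Groth.Agent.Lib.Helper4.ModDesc1 (aRS T₂ i₁ i₂ q₂ hi₁ hi₂)
variable (R R' : Type u) [CommRing R] [CommRing R'] [Algebra R R']

abbrev WR : Type u := TruncatedWittVector p n R
abbrev WR' : Type u := TruncatedWittVector p n R'
abbrev WT : Type u := TruncatedWittVector p n (R' ⊗[R] R')

/-- `W_n(R) → W_n(R')` -/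
abbrev alg1 : Algebra (WR p n R) (WR' p n R') := ((Gw p n).map (aRS R R')).hom.toAlgebra

/-- `W_n(R) → W_n(R' ⊗ R')` -/
abbrev alg2 : Algebra (WR p n R) (WT p n R R') := ((Gw p n).map (q₂ R R')).hom.toAlgebra

lemma h₁ : @algebraMap (WR p n R) (WR' p n R') _ _ (alg1 p n R R') =
    WittGrp.truncMap p n (algebraMap R R') := rfl

lemma h₂ : @algebraMap (WR p n R) (WT p n R R') _ _ (alg2 p n R R') =
    WittGrp.truncMap p n (algebraMap R (R' ⊗[R] R')) := rfl

/-- first inclusion -/
def ψ₁ : @AlgHom (WR p n R) (WR' p n R') (WT p n R R') _ _ _ (alg1 p n R R') (alg2 p n R R') :=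
  letI := alg1 p n R R'
  letI := alg2 p n R R'
  { ((Gw p n).map (i₁ R R')).hom with
    commutes' := fun r => Wm_comp (Gw p n) (aRS R R') (i₁ R R') (q₂ R R') hi₁ r }

/-- second inclusion -/
def ψ₂ : @AlgHom (WR p n R) (WR' p n R') (WT p n R R') _ _ _ (alg1 p n R R') (alg2 p n R R') :=
  letI := alg1 p n R R'
  letI := alg2 p n R R'
  { ((Gw p n).map (i₂ R R')).hom with
    commutes' := fun r => Wm_comp (Gw p n) (aRS R R') (i₂ R R') (q₂ R R') hi₂ r }


variable {R R'}
variable (N : ModuleCat.{u} (WR p n R))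

/-- the map `N ⊗ W(R') → N ⊗ W(R' ⊗ R')` induced by `ψ` -/
abbrev lt (ψ : @AlgHom (WR p n R) (WR' p n R') (WT p n R R') _ _ _ (alg1 p n R R') (alg2 p n R R')) :
    NB ((Gw p n).map (aRS R R')) N → NB ((Gw p n).map (q₂ R R')) N :=
  letI := alg1 p n R R'
  letI := alg2 p n R R'
  fun t => LinearMap.lTensor N ψ.toLinearMap t

lemma lt_κ₁ (y : (ModuleCat.extendScalars ((Gw p n).map (aRS R R')).hom).obj N) :
    lt p n N (ψ₁ p n R R') (κ ((Gw p n).map (aRS R R')) N y) =
      κ ((Gw p n).map (q₂ R R')) N (push (Gw p n) (aRS R R') (i₁ R R') (q₂ R R') hi₁ N y) := by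
  letI := alg1 p n R R'
  letI := alg2 p n R R'
  induction y using tm_induction with
  | h0 =>
    rw [push_zero, map_zero, map_zero]
    exact map_zero (LinearMap.lTensor N (ψ₁ p n R R').toLinearMap)
  | h1 b x =>
    rw [push_tm, κ_tm, κ_tm]
    exact LinearMap.lTensor_tmul _ _ _ _
  | h2 y y' hy hy' =>
    rw [push_add, map_add, map_add, ← hy, ← hy']
    exact map_add (LinearMap.lTensor N (ψ₁ p n R R').toLinearMap) _ _

lemma lt_κ₂ (y : (ModuleCat.extendScalars ((Gw p n).map (aRS R R')).hom).obj N) :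
    lt p n N (ψ₂ p n R R') (κ ((Gw p n).map (aRS R R')) N y) =
      κ ((Gw p n).map (q₂ R R')) N (push (Gw p n) (aRS R R') (i₂ R R') (q₂ R R') hi₂ N y) := by
  letI := alg1 p n R R'
  letI := alg2 p n R R'
  induction y using tm_induction with
  | h0 =>
    rw [push_zero, map_zero, map_zero]
    exact map_zero (LinearMap.lTensor N (ψ₂ p n R R').toLinearMap)
  | h1 b x =>
    rw [push_tm, κ_tm, κ_tm]
    exact LinearMap.lTensor_tmul _ _ _ _
  | h2 y y' hy hy' =>
    rw [push_add, map_add, map_add, ← hy, ← hy']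
    exact map_add (LinearMap.lTensor N (ψ₂ p n R R').toLinearMap) _ _


section main
variable [Module.FaithfullyFlat R R'] (hp : IsNilpotent (p : R))
variable (M : ModuleCat.{u} (WR p n R))
variable [Module.Flat (WR p n R) N]

include hp

/-- helper6's exactness statement, specialised -/
lemma exact16225 :
    Function.Injective (fun x : N => (letI := alg1 p n R R'; x ⊗ₜ[WR p n R] (1 : WR' p n R'))) ∧
      ∀ t : NB ((Gw p n).map (aRS R R')) N,
        lt p n N (ψ₁ p n R R') t = lt p n N (ψ₂ p n R R') t →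
          t ∈ Set.range (fun x : N => (letI := alg1 p n R R'; x ⊗ₜ[WR p n R] (1 : WR' p n R'))) :=
  @Groth.Agent.S16225.result p _ n R R' _ _ _ _ hp (alg1 p n R R') (h₁ p n R R')
    (alg2 p n R R') (h₂ p n R R') (ψ₁ p n R R') (ψ₂ p n R R') rfl rfl N _ _ _

lemma tm_one_injective :
    Function.Injective (fun x : N => tm ((Gw p n).map (aRS R R')) N 1 x) := by
  intro x x' h
  have h1 := congrArg (κ ((Gw p n).map (aRS R R')) N) h
  rw [κ_tm, κ_tm] at h1
  exact (exact16225 p n N hp).1 h1

lemma exists_of_push_eq (y : (ModuleCat.extendScalars ((Gw p n).map (aRS R R')).hom).obj N)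
    (hy : push (Gw p n) (aRS R R') (i₁ R R') (q₂ R R') hi₁ N y =
      push (Gw p n) (aRS R R') (i₂ R R') (q₂ R R') hi₂ N y) :
    ∃ x : N, tm ((Gw p n).map (aRS R R')) N 1 x = y := by
  have h1 : lt p n N (ψ₁ p n R R') (κ ((Gw p n).map (aRS R R')) N y) =
      lt p n N (ψ₂ p n R R') (κ ((Gw p n).map (aRS R R')) N y) := by
    rw [lt_κ₁, lt_κ₂, hy]
  obtain ⟨x, hx⟩ := (exact16225 p n N hp).2 _ h1
  refine ⟨x, ?_⟩
  have h2 := congrArg (lam ((Gw p n).map (aRS R R')) N) hx
  rw [lam_κ] at h2
  rw [← h2]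
  rfl


theorem ff : Function.Bijective
    (fun φ : M ⟶ N => (GG (Gw p n) (aRS R R')).map φ) := by
  have hinj := tm_one_injective (R' := R') p n N hp
  constructor
  · exact GG_map_injective (Gw p n) (aRS R R') M N hinj
  · intro ψ
    exact GG_map_surjective (Gw p n) (aRS R R') M N hinj ψ (fun m =>
      exists_of_push_eq (R' := R') p n N hp _
        (push_eq (G := Gw p n) (a := aRS R R') (M := M) (N := N) ψ (q₂ R R') (i₁ R R') (i₂ R R')
          hi₁ hi₂ m))

end main


lemma pf_eq : W4c3truncdispsmooth.wittModPF.{u} p n = FW (Gw p n) := rfl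

lemma dd_eq (R R' : Type u) [CommRing R] [CommRing R'] [Algebra R R'] :
    (W4c3truncdispsmooth.wittModPF.{u} p n).DescentData (fun _ : PUnit.{u + 1} => (CommRingCat.ofHom (algebraMap R R')).op) =
    DDG (Gw p n) (aRS R R') := rfl

lemma td_eq (R R' : Type u) [CommRing R] [CommRing R'] [Algebra R R'] :
    ((W4c3truncdispsmooth.wittModPF.{u} p n).toDescentData (fun _ : PUnit.{u + 1} => (CommRingCat.ofHom (algebraMap R R')).op) :
      (FW (Gw p n)).obj ⟨op (op (CommRingCat.of R))⟩ ⥤ DDG (Gw p n) (aRS R R')) =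
    GG (Gw p n) (aRS R R') := rfl

theorem main0 (R R' : Type u) [CommRing R] [CommRing R'] [Algebra R R'] [Module.FaithfullyFlat R R']
    (hp : IsNilpotent (p : R))
    (M N : ModuleCat.{u} (TruncatedWittVector p n R))
    [Module.Finite (TruncatedWittVector p n R) M] [Module.Projective (TruncatedWittVector p n R) M]
    [Module.Finite (TruncatedWittVector p n R) N] [Module.Projective (TruncatedWittVector p n R) N] :
    Function.Bijective (fun φ : M ⟶ N => (GG (Gw p n) (aRS R R')).map φ) :=
  ff p n N hp M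

theorem main0' (R R' : Type u) [CommRing R] [CommRing R'] [Algebra R R'] [Module.FaithfullyFlat R R']
    (hp : IsNilpotent (p : R))
    (M N : ModuleCat.{u} (TruncatedWittVector p n R))
    [Module.Finite (TruncatedWittVector p n R) M] [Module.Projective (TruncatedWittVector p n R) M]
    [Module.Finite (TruncatedWittVector p n R) N] [Module.Projective (TruncatedWittVector p n R) N]
    (Φ : (FW (Gw p n)).obj ⟨op (op (CommRingCat.of R))⟩ ⥤ DDG (Gw p n) (aRS R R'))
    (hΦ : Φ = GG (Gw p n) (aRS R R')) :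
    Function.Bijective (fun φ : M ⟶ N => Φ.map φ) := by
  subst hΦ
  exact main0 p n R R' hp M N

theorem main (R R' : Type u) [CommRing R] [CommRing R'] [Algebra R R'] [Module.FaithfullyFlat R R']
    (hp : IsNilpotent (p : R))
    (M N : ModuleCat.{u} (TruncatedWittVector p n R))
    [Module.Finite (TruncatedWittVector p n R) M] [Module.Projective (TruncatedWittVector p n R) M]
    [Module.Finite (TruncatedWittVector p n R) N] [Module.Projective (TruncatedWittVector p n R) N] :
    Function.Bijective (fun φ : M ⟶ N =>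
      ((W4c3truncdispsmooth.wittModPF.{u} p n).toDescentData (fun _ : PUnit.{u + 1} => (CommRingCat.ofHom (algebraMap R R')).op)).map φ) :=
  main0' p n R R' hp M N _ (td_eq p n R R')

end conc


end
end Groth.Agent.Lib.Helper4.WittDesc2
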