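import Mathlib

set_option autoImplicit false
set_option linter.unusedSectionVars false

namespace Groth.Agent.Lib.Helper4.Wronsk2
open Polynomial

variable {k : Type*} [Field k] [CharZero k] {m : ℕ} (r : Fin m → k) (a : Fin m → ℕ)

noncomputable def TT (i : Fin m) : k[X] := X - C (r i)
noncomputable def RR : k[X] := ∏ j, (X - C (r j))
noncomputable def EE : k[X] := ∏ j, (X - C (r j)) ^ (a j)
noncomputable def SS : k[X] := ∑ j, C (a j : k) * ∏ l ∈ Finset.univ.erase j, (X - C (r l))
noncomputable def DD : k[X] := ∏ j, (X - C (r j)) ^ (a j + 1)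
noncomputable def Di (i : Fin m) : k[X] := ∏ j ∈ Finset.univ.erase i, (X - C (r j)) ^ (a j + 1)
noncomputable def Ei (i : Fin m) : k[X] := ∏ j ∈ Finset.univ.erase i, (X - C (r j)) ^ (a j)
noncomputable def Ri (i : Fin m) : k[X] := ∏ j ∈ Finset.univ.erase i, (X - C (r j))

theorem DD_eq : DD r a = RR r * EE r a := by
  unfold DD RR EE
  rw [← Finset.prod_mul_distrib]
  refine Finset.prod_congr rfl (fun j _ => ?_)
  rw [pow_succ']

theorem Di_eq (i : Fin m) : Di r a i = Ri r i * Ei r a i := by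
  unfold Di Ri Ei
  rw [← Finset.prod_mul_distrib]
  refine Finset.prod_congr rfl (fun j _ => ?_)
  rw [pow_succ']

theorem RR_eq (i : Fin m) : RR r = (X - C (r i)) * Ri r i := by
  unfold RR Ri
  rw [Finset.mul_prod_erase _ (fun j => (X - C (r j))) (Finset.mem_univ i)]

theorem EE_eq (i : Fin m) : EE r a = (X - C (r i)) ^ (a i) * Ei r a i := by
  unfold EE Ei
  rw [Finset.mul_prod_erase _ (fun j => (X - C (r j)) ^ (a j)) (Finset.mem_univ i)]

theorem DD_eq' (i : Fin m) : DD r a = (X - C (r i)) ^ (a i + 1) * Di r a i := by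
  unfold DD Di
  rw [Finset.mul_prod_erase _ (fun j => (X - C (r j)) ^ (a j + 1)) (Finset.mem_univ i)]

theorem SS_eq : SS r a = ∑ j, C (a j : k) * Ri r j := rfl

/-- the key identity `R E' = S E` -/
theorem RR_mul_derivative_EE : RR r * derivative (EE r a) = SS r a * EE r a := by
  classical
  unfold EE
  rw [derivative_prod_finset, Finset.mul_sum, SS_eq, Finset.sum_mul]
  refine Finset.sum_congr rfl (fun j _ => ?_)
  rw [derivative_X_sub_C_pow]
  have h1 : ∏ b ∈ Finset.univ.erase j, (X - C (r b)) ^ a b = Ei r a j := rfl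
  have h2 : ∏ j, (X - C (r j)) ^ a j = EE r a := rfl
  rw [h1, h2, RR_eq r j, EE_eq r a j]
  rcases Nat.eq_zero_or_pos (a j) with h0 | hpos
  · rw [h0]; simp
  · obtain ⟨t, ht⟩ : ∃ t, a j = t + 1 := ⟨a j - 1, by omega⟩
    rw [ht, Nat.add_sub_cancel, pow_succ]
    ring

/-- the differential operator `G ↦ R G' - S G` -/
noncomputable def Phi : k[X] →ₗ[k] k[X] :=
  (LinearMap.mulLeft k (RR r)).comp derivative - LinearMap.mulLeft k (SS r a)

theorem Phi_apply (G : k[X]) : Phi r a G = RR r * derivative G - SS r a * G := rfl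

theorem Phi_EE : Phi r a (EE r a) = 0 := by
  rw [Phi_apply, RR_mul_derivative_EE, sub_self]

theorem Phi_EE_mul (P : k[X]) : Phi r a (EE r a * P) = DD r a * derivative P := by
  rw [Phi_apply, derivative_mul, mul_add, ← mul_assoc, RR_mul_derivative_EE, DD_eq]
  ring

theorem Phi_sub_smul_EE (G : k[X]) (c : k) : Phi r a (G - c • EE r a) = Phi r a G := by
  rw [map_sub, map_smul, Phi_EE, smul_zero, sub_zero]

/-- `R E_i' - S E_i = - a_i R_i E_i` -/
theorem RR_mul_derivative_Ei (i : Fin m) :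
    RR r * derivative (Ei r a i) = SS r a * Ei r a i - C (a i : k) * Ri r i * Ei r a i := by
  have h := RR_mul_derivative_EE r a
  rw [EE_eq r a i, derivative_mul, derivative_X_sub_C_pow] at h
  have hT : ((X : k[X]) - C (r i)) ^ (a i) ≠ 0 := pow_ne_zero _ (X_sub_C_ne_zero _)
  apply mul_left_cancel₀ hT
  rcases Nat.eq_zero_or_pos (a i) with h0 | hpos
  · rw [h0] at h ⊢
    simp only [pow_zero, one_mul, Nat.cast_zero, map_zero, zero_mul, sub_zero] at h ⊢
    simpa using h
  · obtain ⟨t, ht⟩ : ∃ t, a i = t + 1 := ⟨a i - 1, by omega⟩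
    rw [ht, Nat.add_sub_cancel] at h
    rw [ht]
    have hR := RR_eq r i
    have e1 : RR r * (C ((t + 1 : ℕ) : k) * (X - C (r i)) ^ t * Ei r a i) =
        (X - C (r i)) ^ (t + 1) * (C ((t + 1 : ℕ) : k) * Ri r i * Ei r a i) := by
      rw [hR, pow_succ]; ring
    rw [mul_add, e1] at h
    linear_combination h

theorem Phi_Ei_mul (i : Fin m) (P : k[X]) :
    Phi r a (Ei r a i * P) = Di r a i * ((X - C (r i)) * derivative P - C (a i : k) * P) := by
  rw [Phi_apply, derivative_mul, mul_add, ← mul_assoc, RR_mul_derivative_Ei, Di_eq]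
  rw [RR_eq r i]
  ring

end Groth.Agent.Lib.Helper4.Wronsk2

namespace Groth.Agent.Lib.Helper4.Wronsk2
open Polynomial

variable {k : Type*} [Field k] [CharZero k] {m : ℕ} (r : Fin m → k) (a : Fin m → ℕ)

/-- abstract local operator -/
noncomputable def Psi (q : k) (R₁ Sl G : k[X]) : k[X] := (X - C q) * R₁ * derivative G - Sl * G

theorem Psi_sub_smul (q : k) (R₁ Sl G E : k[X]) (c : k) (hker : Psi q R₁ Sl E = 0) :
    Psi q R₁ Sl (G - c • E) = Psi q R₁ Sl G := by
  unfold Psi at *
  rw [derivative_sub, derivative_smul]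
  have : (X - C q) * R₁ * (derivative G - c • derivative E) - Sl * (G - c • E) =
      ((X - C q) * R₁ * derivative G - Sl * G) - c • ((X - C q) * R₁ * derivative E - Sl * E) := by
    simp only [smul_eq_C_mul]; ring
  rw [this, hker, smul_zero, sub_zero]

theorem Psi_pow_mul (q : k) (R₁ Sl G₁ : k[X]) (n : ℕ) :
    Psi q R₁ Sl ((X - C q) ^ n * G₁) =
      (X - C q) ^ n * ((C (n : k) * R₁ - Sl) * G₁ + (X - C q) * R₁ * derivative G₁) := by
  unfold Psi
  rw [derivative_mul, derivative_X_sub_C_pow]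
  rcases Nat.eq_zero_or_pos n with h0 | hpos
  · rw [h0]; simp; ring
  · obtain ⟨t, ht⟩ : ∃ t, n = t + 1 := ⟨n - 1, by omega⟩
    rw [ht, Nat.add_sub_cancel, pow_succ]
    ring

theorem dvd_Psi_of_dvd (q : k) (R₁ Sl G : k[X]) (n : ℕ) (h : (X - C q) ^ n ∣ G) :
    (X - C q) ^ n ∣ Psi q R₁ Sl G := by
  obtain ⟨G₁, rfl⟩ := h
  rw [Psi_pow_mul]
  exact dvd_mul_right _ _

theorem local_lemma (q : k) (R₁ Sl E E₁ : k[X]) (e : ℕ)
    (hE : E = (X - C q) ^ e * E₁) (hE₁ : E₁.eval q ≠ 0) (hR₁ : R₁.eval q ≠ 0)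
    (hS : Sl.eval q = (e : k) * R₁.eval q) (hker : Psi q R₁ Sl E = 0) :
    ∀ (n : ℕ) (G : k[X]), (X - C q) ^ n ∣ Psi q R₁ Sl G → ∃ c : k, (X - C q) ^ n ∣ G - c • E := by
  intro n
  induction n with
  | zero => intro G _; exact ⟨0, by simp⟩
  | succ n ih =>
    intro G hG
    obtain ⟨c, G₁, hG₁⟩ := ih G (dvd_trans (pow_dvd_pow _ (Nat.le_succ n)) hG)
    rw [← Psi_sub_smul q R₁ Sl G E c hker, hG₁, Psi_pow_mul, pow_succ] at hG
    have hT : ((X : k[X]) - C q) ^ n ≠ 0 := pow_ne_zero _ (X_sub_C_ne_zero _)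
    have h2 := (mul_dvd_mul_iff_left hT).1 hG
    have h3 : (X - C q) ∣ (C (n : k) * R₁ - Sl) * G₁ := by
      have := dvd_sub h2 (dvd_mul_right (X - C q) (R₁ * derivative G₁))
      rw [mul_assoc] at this
      simpa using this
    rw [dvd_iff_isRoot, IsRoot.def, eval_mul, eval_sub, eval_mul, eval_C, hS] at h3
    have h4 : ((n : k) - (e : k)) * (R₁.eval q * G₁.eval q) = 0 := by
      rw [← h3]; ring
    rcases mul_eq_zero.1 h4 with h5 | h5
    · -- n = e
      have hne : n = e := by
        have : (n : k) = (e : k) := sub_eq_zero.1 h5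
        exact_mod_cast this
      subst hne
      refine ⟨c + G₁.eval q / E₁.eval q, ?_⟩
      have h6 : G - (c + G₁.eval q / E₁.eval q) • E =
          (X - C q) ^ n * (G₁ - (G₁.eval q / E₁.eval q) • E₁) := by
        rw [add_smul, ← sub_sub, hG₁]
        conv_lhs => rw [hE]
        simp only [smul_eq_C_mul]; ring
      rw [h6, pow_succ]
      apply mul_dvd_mul_left
      rw [dvd_iff_isRoot, IsRoot.def, eval_sub, eval_smul, smul_eq_mul, div_mul_cancel₀ _ hE₁,
        sub_self]
    · rcases mul_eq_zero.1 h5 with h6 | h6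
      · exact absurd h6 hR₁
      · refine ⟨c, ?_⟩
        rw [hG₁, pow_succ]
        apply mul_dvd_mul_left
        rwa [dvd_iff_isRoot]

variable (hr : Function.Injective r)
include hr

theorem eval_Ri_ne_zero (i : Fin m) : (Ri r i).eval (r i) ≠ 0 := by
  unfold Ri
  rw [eval_prod, Finset.prod_ne_zero_iff]
  intro j hj
  rw [eval_sub, eval_X, eval_C, sub_ne_zero]
  intro h
  exact (Finset.ne_of_mem_erase hj) (hr h).symm

theorem eval_Ei_ne_zero (i : Fin m) : (Ei r a i).eval (r i) ≠ 0 := by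
  unfold Ei
  rw [eval_prod, Finset.prod_ne_zero_iff]
  intro j hj
  rw [eval_pow, eval_sub, eval_X, eval_C]
  apply pow_ne_zero
  rw [sub_ne_zero]
  intro h
  exact (Finset.ne_of_mem_erase hj) (hr h).symm

omit hr in
theorem eval_Ri_of_ne (i j : Fin m) (hij : j ≠ i) : (Ri r j).eval (r i) = 0 := by
  unfold Ri
  rw [eval_prod]
  apply Finset.prod_eq_zero (Finset.mem_erase.2 ⟨hij.symm, Finset.mem_univ i⟩)
  simp

omit hr in
theorem eval_SS (i : Fin m) : (SS r a).eval (r i) = (a i : k) * (Ri r i).eval (r i) := by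
  rw [SS_eq, eval_finsetSum, Finset.sum_eq_single i]
  · rw [eval_mul, eval_C]
  · intro j _ hj
    rw [eval_mul, eval_Ri_of_ne r i j hj, mul_zero]
  · intro h; exact absurd (Finset.mem_univ i) h

omit hr in
theorem Phi_eq_Psi (i : Fin m) (G : k[X]) :
    Phi r a G = Psi (r i) (Ri r i) (SS r a) G := by
  rw [Phi_apply, Psi, ← RR_eq]

/-- local lemma at a marked point -/
theorem marked_lemma (i : Fin m) (n : ℕ) (G : k[X]) (h : (X - C (r i)) ^ n ∣ Phi r a G) :
    ∃ c : k, (X - C (r i)) ^ n ∣ G - c • EE r a := by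
  rw [Phi_eq_Psi r a i] at h
  refine local_lemma (r i) (Ri r i) (SS r a) (EE r a) (Ei r a i) (a i) (EE_eq r a i)
    (eval_Ei_ne_zero r a hr i) (eval_Ri_ne_zero r hr i) (eval_SS r a i) ?_ n G h
  rw [← Phi_eq_Psi, Phi_EE]

omit hr in
theorem dvd_Phi_of_dvd (i : Fin m) (n : ℕ) (G : k[X]) (h : (X - C (r i)) ^ n ∣ G) :
    (X - C (r i)) ^ n ∣ Phi r a G := by
  rw [Phi_eq_Psi r a i]
  exact dvd_Psi_of_dvd _ _ _ _ _ h

omit hr in
theorem eval_RR_ne_zero (q : k) (hq : ∀ j, q ≠ r j) : (RR r).eval q ≠ 0 := by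
  unfold RR
  rw [eval_prod, Finset.prod_ne_zero_iff]
  intro j _
  rw [eval_sub, eval_X, eval_C, sub_ne_zero]
  exact hq j

omit hr in
theorem eval_EE_ne_zero (q : k) (hq : ∀ j, q ≠ r j) : (EE r a).eval q ≠ 0 := by
  unfold EE
  rw [eval_prod, Finset.prod_ne_zero_iff]
  intro j _
  rw [eval_pow, eval_sub, eval_X, eval_C]
  apply pow_ne_zero
  rw [sub_ne_zero]
  exact hq j

omit hr in
theorem mul_Phi_eq_Psi (q : k) (G : k[X]) :
    (X - C q) * Phi r a G = Psi q (RR r) ((X - C q) * SS r a) G := by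
  rw [Phi_apply, Psi]; ring

omit hr in
/-- local lemma at an unmarked point -/
theorem unmarked_lemma (q : k) (hq : ∀ j, q ≠ r j) (n : ℕ) (G : k[X])
    (h : (X - C q) ^ n ∣ Phi r a G) : ∃ c : k, (X - C q) ^ (n + 1) ∣ G - c • EE r a := by
  have h' : (X - C q) ^ (n + 1) ∣ Psi q (RR r) ((X - C q) * SS r a) G := by
    rw [← mul_Phi_eq_Psi, pow_succ']
    exact mul_dvd_mul_left _ h
  refine local_lemma q (RR r) ((X - C q) * SS r a) (EE r a) (EE r a) 0 (by simp)
    (eval_EE_ne_zero r a q hq) (eval_RR_ne_zero r q hq) (by simp) ?_ (n + 1) G h'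
  rw [← mul_Phi_eq_Psi, Phi_EE, mul_zero]

omit hr in
theorem dvd_Phi_of_dvd_unmarked (q : k) (n : ℕ) (G : k[X]) (h : (X - C q) ^ (n + 1) ∣ G) :
    (X - C q) ^ n ∣ Phi r a G := by
  have h1 := dvd_Psi_of_dvd q (RR r) ((X - C q) * SS r a) G (n + 1) h
  rw [← mul_Phi_eq_Psi, pow_succ'] at h1
  exact (mul_dvd_mul_iff_left (X_sub_C_ne_zero q)).1 h1

end Groth.Agent.Lib.Helper4.Wronsk2

namespace Groth.Agent.Lib.Helper4.Wronsk2
open Polynomial

variable {k : Type*} [Field k] [CharZero k] {m : ℕ} (r : Fin m → k) (a : Fin m → ℕ)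

theorem mem_degLT_of_natDegree_lt {f : k[X]} {n : ℕ} (h : f.natDegree < n) : f ∈ degreeLT k n := by
  rw [mem_degreeLT]
  exact lt_of_le_of_lt degree_le_natDegree (by exact_mod_cast h)

theorem natDegree_lt_of_mem_degLT {f : k[X]} {n : ℕ} (h : f ∈ degreeLT k n) (hf : f ≠ 0) :
    f.natDegree < n := by
  rw [mem_degreeLT] at h
  exact (natDegree_lt_iff_degree_lt hf).2 h

theorem monic_RR : (RR r).Monic := monic_prod_of_monic _ _ (fun _ _ => monic_X_sub_C _)
theorem monic_Ri (i : Fin m) : (Ri r i).Monic := monic_prod_of_monic _ _ (fun _ _ => monic_X_sub_C _)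
theorem monic_EE : (EE r a).Monic :=
  monic_prod_of_monic _ _ (fun _ _ => (monic_X_sub_C _).pow _)
theorem monic_Ei (i : Fin m) : (Ei r a i).Monic :=
  monic_prod_of_monic _ _ (fun _ _ => (monic_X_sub_C _).pow _)

theorem natDegree_RR : (RR r).natDegree = m := by
  unfold RR
  rw [natDegree_prod_of_monic _ _ (fun _ _ => monic_X_sub_C _)]
  simp

theorem natDegree_EE : (EE r a).natDegree = ∑ j, a j := by
  unfold EE
  rw [natDegree_prod_of_monic _ _ (fun _ _ => (monic_X_sub_C _).pow _)]
  refine Finset.sum_congr rfl (fun j _ => ?_)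
  rw [(monic_X_sub_C _).natDegree_pow, natDegree_X_sub_C, mul_one]

theorem natDegree_Ei (i : Fin m) : (Ei r a i).natDegree + a i = ∑ j, a j := by
  have h := natDegree_EE r a
  rw [EE_eq r a i, ((monic_X_sub_C _).pow _).natDegree_mul (monic_Ei r a i),
    (monic_X_sub_C _).natDegree_pow, natDegree_X_sub_C, mul_one] at h
  omega

theorem natDegree_Ri (i : Fin m) : (Ri r i).natDegree + 1 = m := by
  have h := natDegree_RR r
  rw [RR_eq r i, (monic_X_sub_C _).natDegree_mul (monic_Ri r i), natDegree_X_sub_C] at h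
  omega

theorem EE_ne_zero : EE r a ≠ 0 := (monic_EE r a).ne_zero

/-- `X * S` has degree at most `m` and its `m`-th coefficient is `∑ a_j` -/
theorem natDegree_X_mul_SS_le : (X * SS r a).natDegree ≤ m := by
  rw [SS_eq, Finset.mul_sum]
  apply natDegree_sum_le_of_forall_le
  intro j _
  have h1 : (X * (C (a j : k) * Ri r j)) = C (a j : k) * (X * Ri r j) := by ring
  rw [h1]
  refine le_trans (natDegree_C_mul_le _ _) ?_
  rw [monic_X.natDegree_mul (monic_Ri r j), natDegree_X]
  have := natDegree_Ri r j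
  omega

theorem coeff_X_mul_SS : (X * SS r a).coeff m = ((∑ j, a j : ℕ) : k) := by
  rw [SS_eq, Finset.mul_sum, finsetSum_coeff]
  push_cast
  refine Finset.sum_congr rfl (fun j _ => ?_)
  have h1 : (X * (C (a j : k) * Ri r j)) = C (a j : k) * (X * Ri r j) := by ring
  rw [h1, coeff_C_mul]
  have hm : (X * Ri r j).Monic := monic_X.mul (monic_Ri r j)
  have hd : (X * Ri r j).natDegree = m := by
    rw [monic_X.natDegree_mul (monic_Ri r j), natDegree_X]
    have := natDegree_Ri r j
    omega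
  have : (X * Ri r j).coeff m = 1 := by
    have h2 := hm.coeff_natDegree
    rwa [hd] at h2
  rw [this, mul_one]

theorem natDegree_X_mul_derivative_le (G : k[X]) : (X * derivative G).natDegree ≤ G.natDegree := by
  by_cases h : G.natDegree = 0
  · rw [eq_C_of_natDegree_eq_zero h]; simp
  · refine le_trans natDegree_mul_le ?_
    rw [natDegree_X]
    have := natDegree_derivative_lt h
    omega

theorem coeff_X_mul_derivative (G : k[X]) (n : ℕ) :
    (X * derivative G).coeff n = (n : k) * G.coeff n := by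
  cases n with
  | zero => simp
  | succ n =>
    rw [coeff_X_mul, coeff_derivative]
    push_cast; ring

/-- top coefficient of `X * Φ G` -/
theorem coeff_X_mul_Phi (G : k[X]) :
    (X * Phi r a G).coeff (m + G.natDegree) =
      ((G.natDegree : k) - ((∑ j, a j : ℕ) : k)) * G.leadingCoeff := by
  have e : X * Phi r a G = RR r * (X * derivative G) - (X * SS r a) * G := by
    rw [Phi_apply]; ring
  rw [e, coeff_sub,
    coeff_mul_add_eq_of_natDegree_le (natDegree_RR r).le (natDegree_X_mul_derivative_le G),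
    coeff_mul_add_eq_of_natDegree_le (natDegree_X_mul_SS_le r a) le_rfl,
    coeff_X_mul_derivative, coeff_X_mul_SS]
  have : (RR r).coeff m = 1 := by
    have := (monic_RR r).coeff_natDegree
    rwa [natDegree_RR] at this
  rw [this]
  simp only [coeff_natDegree]
  ring

theorem natDegree_X_mul_Phi_le (G : k[X]) : (X * Phi r a G).natDegree ≤ m + G.natDegree := by
  have e : X * Phi r a G = RR r * (X * derivative G) - (X * SS r a) * G := by
    rw [Phi_apply]; ring
  rw [e]
  refine le_trans (natDegree_sub_le _ _) (max_le ?_ ?_)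
  · refine le_trans natDegree_mul_le ?_
    rw [natDegree_RR]
    have := natDegree_X_mul_derivative_le G
    omega
  · refine le_trans natDegree_mul_le ?_
    have := natDegree_X_mul_SS_le r a
    omega

theorem Phi_ne_zero_of_natDegree_ne (G : k[X]) (hG : G ≠ 0) (hd : G.natDegree ≠ ∑ j, a j) :
    Phi r a G ≠ 0 ∧ (Phi r a G).natDegree + 1 = m + G.natDegree := by
  have hc := coeff_X_mul_Phi r a G
  have hne : ((G.natDegree : k) - ((∑ j, a j : ℕ) : k)) * G.leadingCoeff ≠ 0 := by
    apply mul_ne_zero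
    · rw [sub_ne_zero]
      exact_mod_cast hd
    · exact leadingCoeff_ne_zero.2 hG
  rw [← hc] at hne
  have h0 : Phi r a G ≠ 0 := by
    intro h; rw [h, mul_zero, coeff_zero] at hne; exact hne rfl
  refine ⟨h0, ?_⟩
  have h1 : m + G.natDegree ≤ (X * Phi r a G).natDegree := le_natDegree_of_ne_zero hne
  have h2 := natDegree_X_mul_Phi_le r a G
  rw [natDegree_X_mul h0] at h1 h2
  omega

theorem Phi_mem_degLT (G : k[X]) (n : ℕ) (hG : G ∈ degreeLT k (n + 1)) :
    Phi r a G ∈ degreeLT k (n + m) := by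
  by_cases h0 : Phi r a G = 0
  · rw [h0]; exact zero_mem _
  have hG0 : G ≠ 0 := by
    rintro rfl; exact h0 (map_zero _)
  apply mem_degLT_of_natDegree_lt
  have h1 := natDegree_lt_of_mem_degLT hG hG0
  have h2 := natDegree_X_mul_Phi_le r a G
  rw [natDegree_X_mul h0] at h2
  omega

/-- the kernel of `Φ` is spanned by `E` -/
theorem Phi_eq_zero (G : k[X]) (h : Phi r a G = 0) : ∃ c : k, G = c • EE r a := by
  by_cases hG : G = 0
  · exact ⟨0, by simp [hG]⟩
  have hd : G.natDegree = ∑ j, a j := by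
    by_contra hd
    exact (Phi_ne_zero_of_natDegree_ne r a G hG hd).1 h
  refine ⟨G.leadingCoeff, ?_⟩
  by_contra hne
  have hG₂ : G - G.leadingCoeff • EE r a ≠ 0 := sub_ne_zero.2 hne
  have hΦ₂ : Phi r a (G - G.leadingCoeff • EE r a) = 0 := by rw [Phi_sub_smul_EE, h]
  have hd₂ : (G - G.leadingCoeff • EE r a).natDegree = ∑ j, a j := by
    by_contra hd₂
    exact (Phi_ne_zero_of_natDegree_ne r a _ hG₂ hd₂).1 hΦ₂
  have hlc : G.leadingCoeff ≠ 0 := leadingCoeff_ne_zero.2 hG
  have hdeg : degree G = degree (G.leadingCoeff • EE r a) := by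
    rw [degree_smul_of_smul_regular _ (IsSMulRegular.of_ne_zero hlc)]  -- placeholder
    rw [degree_eq_natDegree hG, degree_eq_natDegree (EE_ne_zero r a), hd, natDegree_EE]
  have hlt := degree_sub_lt_left hdeg hG (by
    rw [leadingCoeff_smul_of_smul_regular _ (IsSMulRegular.of_ne_zero hlc), (monic_EE r a).leadingCoeff,
      smul_eq_mul, mul_one])
  rw [degree_eq_natDegree hG₂, degree_eq_natDegree hG, hd₂, hd] at hlt
  exact lt_irrefl _ hlt

end Groth.Agent.Lib.Helper4.Wronsk2

namespace Groth.Agent.Lib.Helper4.Wronsk2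
open Polynomial

variable {k : Type*} [Field k] [CharZero k] {m : ℕ} (r : Fin m → k) (a : Fin m → ℕ)

/-- the linear system -/
noncomputable def VV (b : ℕ) : Submodule k k[X] :=
  (degreeLT k b).map (LinearMap.mulLeft k (DD r a)) ⊔
    ⨆ i, (degreeLT k (a i)).map (LinearMap.mulLeft k (Di r a i))

/-- the local Euler-type operator `P ↦ (X - r_i) P' - a_i P` -/
noncomputable def Lam (i : Fin m) : k[X] →ₗ[k] k[X] :=
  (LinearMap.mulLeft k (X - C (r i))).comp derivative - (a i : k) • LinearMap.id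

theorem Lam_apply (i : Fin m) (P : k[X]) :
    Lam r a i P = (X - C (r i)) * derivative P - C (a i : k) * P := by
  unfold Lam
  simp [smul_eq_C_mul]

theorem Phi_Ei_mul' (i : Fin m) (P : k[X]) : Phi r a (Ei r a i * P) = Di r a i * Lam r a i P := by
  rw [Phi_Ei_mul, Lam_apply]

theorem natDegree_Lam_le (i : Fin m) (P : k[X]) : (Lam r a i P).natDegree ≤ P.natDegree := by
  rw [Lam_apply]
  refine le_trans (natDegree_sub_le _ _) (max_le ?_ (natDegree_C_mul_le _ _))
  by_cases h : P.natDegree = 0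
  · rw [eq_C_of_natDegree_eq_zero h]; simp
  · refine le_trans natDegree_mul_le ?_
    rw [natDegree_X_sub_C]
    have := natDegree_derivative_lt h
    omega

theorem coeff_Lam (i : Fin m) (P : k[X]) :
    (Lam r a i P).coeff P.natDegree = ((P.natDegree : k) - (a i : k)) * P.leadingCoeff := by
  rw [Lam_apply, coeff_sub, coeff_C_mul, sub_mul, coeff_sub]
  have h1 : (X * derivative P).coeff P.natDegree = (P.natDegree : k) * P.leadingCoeff :=
    coeff_X_mul_derivative P _
  have h2 : (C (r i) * derivative P).coeff P.natDegree = 0 := by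
    rw [coeff_C_mul, coeff_derivative, coeff_eq_zero_of_natDegree_lt (Nat.lt_succ_self _)]
    ring
  rw [h1, h2]
  simp only [coeff_natDegree]
  ring

theorem Lam_mem (i : Fin m) (n : ℕ) (P : k[X]) (hP : P ∈ degreeLT k n) :
    Lam r a i P ∈ degreeLT k n := by
  by_cases h0 : Lam r a i P = 0
  · rw [h0]; exact zero_mem _
  have hP0 : P ≠ 0 := by rintro rfl; exact h0 (map_zero _)
  apply mem_degLT_of_natDegree_lt
  exact lt_of_le_of_lt (natDegree_Lam_le r a i P) (natDegree_lt_of_mem_degLT hP hP0)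

theorem Lam_surj (i : Fin m) (p : k[X]) (hp : p ∈ degreeLT k (a i)) :
    ∃ ρ ∈ degreeLT k (a i), Lam r a i ρ = p := by
  set f : degreeLT k (a i) →ₗ[k] degreeLT k (a i) :=
    (Lam r a i).restrict (fun P hP => Lam_mem r a i (a i) P hP) with hf
  have hinj : Function.Injective f := by
    rw [← LinearMap.ker_eq_bot, LinearMap.ker_eq_bot']
    rintro ⟨P, hP⟩ hfP
    have h1 : Lam r a i P = 0 := congrArg Subtype.val hfP
    by_contra hne
    have hP0 : P ≠ 0 := fun h => hne (Subtype.ext h)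
    have hlt := natDegree_lt_of_mem_degLT hP hP0
    have hc := coeff_Lam r a i P
    rw [h1, coeff_zero] at hc
    have : ((P.natDegree : k) - (a i : k)) * P.leadingCoeff ≠ 0 := by
      apply mul_ne_zero
      · rw [sub_ne_zero]
        have : P.natDegree ≠ a i := by omega
        exact_mod_cast this
      · exact leadingCoeff_ne_zero.2 hP0
    exact this hc.symm
  have hsurj := LinearMap.injective_iff_surjective.1 hinj
  obtain ⟨⟨ρ, hρ⟩, hρ'⟩ := hsurj ⟨p, hp⟩
  exact ⟨ρ, hρ, congrArg Subtype.val hρ'⟩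

theorem VV_le (b N : ℕ) (hN : N = (∑ j, a j) + b) :
    VV r a b ≤ (degreeLT k (N + 1)).map (Phi r a) := by
  classical
  unfold VV
  refine sup_le ?_ (iSup_le fun i => ?_)
  · rw [degreeLT_eq_span_X_pow, Submodule.map_span, Submodule.span_le]
    rintro _ ⟨_, hx, rfl⟩
    rw [Finset.mem_coe, Finset.mem_image] at hx
    obtain ⟨t, ht, rfl⟩ := hx
    rw [Finset.mem_range] at ht
    refine ⟨((t + 1 : ℕ) : k)⁻¹ • (EE r a * X ^ (t + 1)), ?_, ?_⟩
    · apply Submodule.smul_mem
      apply mem_degLT_of_natDegree_lt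
      rw [(monic_EE r a).natDegree_mul (monic_X_pow _), natDegree_EE, natDegree_X_pow]
      omega
    · rw [map_smul, Phi_EE_mul, derivative_X_pow, LinearMap.mulLeft_apply, Nat.add_sub_cancel]
      have hne : ((t + 1 : ℕ) : k) ≠ 0 := by exact_mod_cast Nat.succ_ne_zero t
      rw [smul_eq_C_mul, ← mul_assoc, ← mul_assoc, mul_comm (C _) (DD r a), mul_assoc (DD r a),
        ← C_mul, inv_mul_cancel₀ hne, C_1, mul_one]
  · rintro _ ⟨p, hp, rfl⟩
    obtain ⟨ρ, hρ, rfl⟩ := Lam_surj r a i p hp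
    refine ⟨Ei r a i * ρ, ?_, ?_⟩
    · by_cases h0 : ρ = 0
      · rw [h0, mul_zero]; exact zero_mem _
      apply mem_degLT_of_natDegree_lt
      rw [(monic_Ei r a i).natDegree_mul' h0]
      have h1 := natDegree_lt_of_mem_degLT hρ h0
      have h2 := natDegree_Ei r a i
      omega
    · rw [Phi_Ei_mul', LinearMap.mulLeft_apply]

variable (hr : Function.Injective r)
include hr

theorem le_VV (b N : ℕ) (hN : N = (∑ j, a j) + b) :
    (degreeLT k (N + 1)).map (Phi r a) ≤ VV r a b := by
  classical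
  rintro _ ⟨G, hG, rfl⟩
  have hmon : ∀ i ∈ (Finset.univ : Finset (Fin m)), ((X - C (r i)) ^ (a i)).Monic :=
    fun i _ => (monic_X_sub_C _).pow _
  have hcop : Set.Pairwise (↑(Finset.univ : Finset (Fin m)))
      fun i j => IsCoprime ((X - C (r i)) ^ (a i)) ((X - C (r j)) ^ (a j)) := by
    intro i _ j _ hij
    apply IsCoprime.pow
    apply isCoprime_X_sub_C_of_isUnit_sub
    rw [isUnit_iff_ne_zero, sub_ne_zero]
    exact fun h => hij (hr h)
  obtain ⟨q, ρ, hρ, hG'⟩ := eq_quo_mul_prod_add_sum_rem_mul_prod G hmon hcop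
  have hG'' : G = EE r a * q + ∑ i, Ei r a i * ρ i := by
    rw [hG']
    unfold EE Ei
    rw [mul_comm]
    congr 1
    refine Finset.sum_congr rfl (fun i _ => ?_)
    rw [mul_comm]
  have hρ' : ∀ i, ρ i ∈ degreeLT k (a i) := by
    intro i
    rw [mem_degreeLT]
    have := hρ i (Finset.mem_univ i)
    rwa [degree_pow, degree_X_sub_C, nsmul_eq_mul, mul_one] at this
  -- degree of the remainder part
  have hrem : ∀ i, Ei r a i * ρ i ∈ degreeLT k (∑ j, a j) := by
    intro i
    by_cases h0 : ρ i = 0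
    · rw [h0, mul_zero]; exact zero_mem _
    apply mem_degLT_of_natDegree_lt
    rw [(monic_Ei r a i).natDegree_mul' h0]
    have h1 := natDegree_lt_of_mem_degLT (hρ' i) h0
    have h2 := natDegree_Ei r a i
    omega
  have hremsum : (∑ i, Ei r a i * ρ i) ∈ degreeLT k (∑ j, a j) :=
    Submodule.sum_mem _ (fun i _ => hrem i)
  -- degree of q
  have hq : derivative q ∈ degreeLT k b := by
    by_cases hq0 : q.natDegree = 0
    · rw [eq_C_of_natDegree_eq_zero hq0, derivative_C]; exact zero_mem _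
    have hqne : q ≠ 0 := by rintro rfl; exact hq0 rfl
    apply mem_degLT_of_natDegree_lt
    have h1 := natDegree_derivative_lt hq0
    have h2 : (EE r a * q).natDegree = (∑ j, a j) + q.natDegree := by
      rw [(monic_EE r a).natDegree_mul' hqne, natDegree_EE]
    have hne : EE r a * q ≠ 0 := mul_ne_zero (EE_ne_zero r a) hqne
    have h3 : degree (∑ i, Ei r a i * ρ i) < degree (EE r a * q) := by
      rw [mem_degreeLT] at hremsum
      refine lt_of_lt_of_le hremsum ?_
      rw [degree_eq_natDegree hne, h2]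
      exact_mod_cast Nat.le_add_right _ _
    have h4 : degree G = degree (EE r a * q) := by
      rw [hG'']; exact degree_add_eq_left_of_degree_lt h3
    have hGne : G ≠ 0 := by
      intro h; rw [h, degree_zero] at h4
      exact hne (degree_eq_bot.1 h4.symm)
    have h5 := natDegree_lt_of_mem_degLT hG hGne
    have h6 : G.natDegree = (∑ j, a j) + q.natDegree := by
      rw [← h2]; exact natDegree_eq_of_degree_eq h4
    omega
  rw [hG'', map_add, map_sum, Phi_EE_mul]
  unfold VV
  refine Submodule.add_mem _ (Submodule.mem_sup_left ⟨_, hq, rfl⟩) (Submodule.mem_sup_right ?_)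
  refine Submodule.sum_mem _ (fun i _ => ?_)
  rw [Phi_Ei_mul']
  exact Submodule.mem_iSup_of_mem i ⟨_, Lam_mem r a i _ _ (hρ' i), rfl⟩

theorem VV_eq (b N : ℕ) (hN : N = (∑ j, a j) + b) :
    VV r a b = (degreeLT k (N + 1)).map (Phi r a) :=
  le_antisymm (VV_le r a b N hN) (le_VV r a hr b N hN)

end Groth.Agent.Lib.Helper4.Wronsk2

namespace Groth.Agent.Lib.Helper4.Wronsk2
open Polynomial

variable {k : Type*} [Field k] [CharZero k] {m : ℕ} (r : Fin m → k) (a : Fin m → ℕ)

/-- polynomials divisible by `p`, as a `k`-subspace -/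
noncomputable abbrev YY (p : k[X]) : Submodule k k[X] := (Ideal.span {p}).restrictScalars k

theorem mem_YY (p x : k[X]) : x ∈ YY p ↔ p ∣ x := by
  rw [Submodule.restrictScalars_mem, Ideal.mem_span_singleton]

theorem finrank_degLT (n : ℕ) : Module.finrank k (degreeLT k n) = n := by
  rw [Module.finrank_eq_card_basis (degreeLT.basis k n)]
  simp

/-- rank of the image under `Φ` of a finite-dimensional subspace containing `E` -/
theorem finrank_map_Phi_of_mem (U : Submodule k k[X]) [FiniteDimensional k U] (hE : EE r a ∈ U) :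
    Module.finrank k (U.map (Phi r a)) + 1 = Module.finrank k U := by
  have h := LinearMap.finrank_range_add_finrank_ker ((Phi r a).domRestrict U)
  rw [LinearMap.range_domRestrict] at h
  have hker : LinearMap.ker ((Phi r a).domRestrict U) = Submodule.span k {⟨EE r a, hE⟩} := by
    apply le_antisymm
    · rintro ⟨G, hG⟩ hx
      rw [LinearMap.mem_ker, LinearMap.domRestrict_apply] at hx
      obtain ⟨c, hc⟩ := Phi_eq_zero r a G hx
      rw [Submodule.mem_span_singleton]
      exact ⟨c, Subtype.ext hc.symm⟩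
    · rw [Submodule.span_le, Set.singleton_subset_iff, SetLike.mem_coe, LinearMap.mem_ker,
        LinearMap.domRestrict_apply]
      exact Phi_EE r a
  have h1 : Module.finrank k (LinearMap.ker ((Phi r a).domRestrict U)) = 1 := by
    rw [hker]
    apply finrank_span_singleton
    intro h0
    exact EE_ne_zero r a (congrArg Subtype.val h0)
  omega

/-- rank of the image under `Φ` of a finite-dimensional subspace not containing `E` -/
theorem finrank_map_Phi_of_not_mem (U : Submodule k k[X]) [FiniteDimensional k U]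
    (hE : EE r a ∉ U) : Module.finrank k (U.map (Phi r a)) = Module.finrank k U := by
  have h := LinearMap.finrank_range_add_finrank_ker ((Phi r a).domRestrict U)
  rw [LinearMap.range_domRestrict] at h
  have hker : LinearMap.ker ((Phi r a).domRestrict U) = ⊥ := by
    rw [LinearMap.ker_eq_bot']
    rintro ⟨G, hG⟩ hx
    rw [LinearMap.domRestrict_apply] at hx
    obtain ⟨c, hc⟩ := Phi_eq_zero r a G hx
    by_cases hc0 : c = 0
    · apply Subtype.ext
      show G = 0
      rw [hc, hc0, zero_smul]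
    · exfalso
      apply hE
      have : EE r a = c⁻¹ • G := by rw [hc, smul_smul, inv_mul_cancel₀ hc0, one_smul]
      rw [this]
      exact U.smul_mem _ hG
  rw [hker, finrank_bot] at h
  omega

/-- multiples of `T^n` of degree `< M` -/
theorem degLT_inf_YY (q : k) (M n : ℕ) :
    degreeLT k M ⊓ YY ((X - C q) ^ n) =
      (degreeLT k (M - n)).map (LinearMap.mulLeft k ((X - C q) ^ n)) := by
  have hmon : ((X - C q) ^ n).Monic := (monic_X_sub_C q).pow n
  have hdeg : ((X - C q) ^ n).natDegree = n := by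
    rw [(monic_X_sub_C q).natDegree_pow, natDegree_X_sub_C, mul_one]
  apply le_antisymm
  · rintro x ⟨hx1, hx2⟩
    rw [SetLike.mem_coe, mem_YY] at hx2
    obtain ⟨p, rfl⟩ := hx2
    refine ⟨p, ?_, rfl⟩
    by_cases hp : p = 0
    · rw [hp]; exact zero_mem _
    apply mem_degLT_of_natDegree_lt
    have h1 := natDegree_lt_of_mem_degLT hx1 (mul_ne_zero hmon.ne_zero hp)
    rw [hmon.natDegree_mul' hp, hdeg] at h1
    omega
  · rintro _ ⟨p, hp, rfl⟩
    refine ⟨?_, ?_⟩
    · rw [LinearMap.mulLeft_apply, SetLike.mem_coe]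
      by_cases hp0 : p = 0
      · rw [hp0, mul_zero]; exact zero_mem _
      apply mem_degLT_of_natDegree_lt
      have h1 := natDegree_lt_of_mem_degLT hp hp0
      rw [hmon.natDegree_mul' hp0, hdeg]
      omega
    · rw [SetLike.mem_coe, mem_YY, LinearMap.mulLeft_apply]
      exact dvd_mul_right _ _

theorem finrank_degLT_inf_YY (q : k) (M n : ℕ) :
    Module.finrank k ↥(degreeLT k M ⊓ YY ((X - C q) ^ n)) = M - n := by
  rw [degLT_inf_YY]
  have hinj : Function.Injective (LinearMap.mulLeft k ((X - C q) ^ n)) := by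
    intro x y hxy
    exact mul_left_cancel₀ (pow_ne_zero _ (X_sub_C_ne_zero q)) hxy
  rw [(Submodule.equivMapOfInjective _ hinj (degreeLT k (M - n))).symm.finrank_eq, finrank_degLT]

instance (q : k) (M n : ℕ) : FiniteDimensional k ↥(degreeLT k M ⊓ YY ((X - C q) ^ n)) :=
  Submodule.finiteDimensional_inf_left _ _

variable (hr : Function.Injective r)
include hr

/-- members of `V` divisible by a power at a marked point -/
theorem VV_inf_marked (b N : ℕ) (hN : N = (∑ j, a j) + b) (i : Fin m) (n : ℕ) :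
    VV r a b ⊓ YY ((X - C (r i)) ^ n) =
      (degreeLT k (N + 1) ⊓ YY ((X - C (r i)) ^ n)).map (Phi r a) := by
  rw [VV_eq r a hr b N hN]
  apply le_antisymm
  · rintro _ ⟨⟨G, hG, rfl⟩, hx2⟩
    rw [SetLike.mem_coe, mem_YY] at hx2
    obtain ⟨c, hc⟩ := marked_lemma r a hr i n G hx2
    refine ⟨G - c • EE r a, ⟨?_, ?_⟩, Phi_sub_smul_EE r a G c⟩
    · refine Submodule.sub_mem _ hG (Submodule.smul_mem _ _ ?_)
      apply mem_degLT_of_natDegree_lt
      rw [natDegree_EE]; omega
    · rw [SetLike.mem_coe, mem_YY]; exact hc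
  · rintro _ ⟨G, ⟨hG1, hG2⟩, rfl⟩
    refine ⟨⟨G, hG1, rfl⟩, ?_⟩
    rw [SetLike.mem_coe, mem_YY] at hG2 ⊢
    exact dvd_Phi_of_dvd r a i n G hG2

/-- members of `V` divisible by a power at an unmarked point -/
theorem VV_inf_unmarked (b N : ℕ) (hN : N = (∑ j, a j) + b) (q : k) (hq : ∀ j, q ≠ r j) (n : ℕ) :
    VV r a b ⊓ YY ((X - C q) ^ n) =
      (degreeLT k (N + 1) ⊓ YY ((X - C q) ^ (n + 1))).map (Phi r a) := by
  rw [VV_eq r a hr b N hN]
  apply le_antisymm
  · rintro _ ⟨⟨G, hG, rfl⟩, hx2⟩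
    rw [SetLike.mem_coe, mem_YY] at hx2
    obtain ⟨c, hc⟩ := unmarked_lemma r a q hq n G hx2
    refine ⟨G - c • EE r a, ⟨?_, ?_⟩, Phi_sub_smul_EE r a G c⟩
    · refine Submodule.sub_mem _ hG (Submodule.smul_mem _ _ ?_)
      apply mem_degLT_of_natDegree_lt
      rw [natDegree_EE]; omega
    · rw [SetLike.mem_coe, mem_YY]; exact hc
  · rintro _ ⟨G, ⟨hG1, hG2⟩, rfl⟩
    refine ⟨⟨G, hG1, rfl⟩, ?_⟩
    rw [SetLike.mem_coe, mem_YY] at hG2 ⊢
    exact dvd_Phi_of_dvd_unmarked r a q n G hG2

/-- members of `V` of small degree -/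
theorem VV_inf_degLT (b N : ℕ) (hN : N = (∑ j, a j) + b) (D' : ℕ) :
    VV r a b ⊓ degreeLT k D' =
      (degreeLT k (N + 1) ⊓ degreeLT k (D' + 1 - m)).map (Phi r a) := by
  rw [VV_eq r a hr b N hN]
  apply le_antisymm
  · rintro _ ⟨⟨G, hG, rfl⟩, hx2⟩
    rw [SetLike.mem_coe] at hx2
    by_cases h0 : Phi r a G = 0
    · rw [h0]; exact zero_mem _
    -- normalise `G` so that its degree is not `∑ a`
    obtain ⟨G', hG', hΦ, hd⟩ : ∃ G' ∈ degreeLT k (N + 1), Phi r a G' = Phi r a G ∧
        G'.natDegree ≠ ∑ j, a j := by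
      by_cases hd : G.natDegree = ∑ j, a j
      · refine ⟨G - G.leadingCoeff • EE r a, ?_, Phi_sub_smul_EE r a G _, ?_⟩
        · refine Submodule.sub_mem _ hG (Submodule.smul_mem _ _ ?_)
          apply mem_degLT_of_natDegree_lt
          rw [natDegree_EE]; omega
        · have hG0 : G ≠ 0 := by rintro rfl; exact h0 (map_zero _)
          have hlc : G.leadingCoeff ≠ 0 := leadingCoeff_ne_zero.2 hG0
          have hne : G - G.leadingCoeff • EE r a ≠ 0 := by
            intro h
            apply h0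
            rw [← Phi_sub_smul_EE r a G G.leadingCoeff, h, map_zero]
          have hdeg : degree G = degree (G.leadingCoeff • EE r a) := by
            rw [degree_smul_of_smul_regular _ (IsSMulRegular.of_ne_zero hlc)]
            rw [degree_eq_natDegree hG0, degree_eq_natDegree (EE_ne_zero r a), hd, natDegree_EE]
          have hlt := degree_sub_lt_left hdeg hG0 (by
            rw [leadingCoeff_smul_of_smul_regular _ (IsSMulRegular.of_ne_zero hlc),
              (monic_EE r a).leadingCoeff, smul_eq_mul, mul_one])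
          rw [degree_eq_natDegree hne, degree_eq_natDegree hG0, hd] at hlt
          have : (G - G.leadingCoeff • EE r a).natDegree < ∑ j, a j := by exact_mod_cast hlt
          omega
      · exact ⟨G, hG, rfl, hd⟩
    rw [← hΦ] at h0 hx2 ⊢
    have hG'0 : G' ≠ 0 := by rintro rfl; exact h0 (map_zero _)
    obtain ⟨-, h2⟩ := Phi_ne_zero_of_natDegree_ne r a G' hG'0 hd
    have h3 := natDegree_lt_of_mem_degLT hx2 h0
    refine ⟨G', ⟨hG', ?_⟩, rfl⟩
    rw [SetLike.mem_coe]
    apply mem_degLT_of_natDegree_lt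
    omega
  · rintro _ ⟨G, ⟨hG1, hG2⟩, rfl⟩
    refine ⟨⟨G, hG1, rfl⟩, ?_⟩
    rw [SetLike.mem_coe] at hG2 ⊢
    rcases Nat.eq_zero_or_pos (D' + 1 - m) with h0 | hpos
    · rw [h0] at hG2
      have : G = 0 := by
        rw [mem_degreeLT] at hG2
        have : degree G < 0 := by exact_mod_cast hG2
        exact degree_eq_bot.1 (by
          rcases h : degree G with _ | n
          · rfl
          · rw [h] at this; exact absurd this (by simp))
      rw [this, map_zero]; exact zero_mem _
    · obtain ⟨j, hj⟩ : ∃ j, D' + 1 - m = j + 1 := ⟨D' + 1 - m - 1, by omega⟩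
      rw [hj] at hG2
      have := Phi_mem_degLT r a G j hG2
      have e : j + m = D' := by omega
      rwa [e] at this

end Groth.Agent.Lib.Helper4.Wronsk2
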