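import Groth.Agent.Lib.Helper4.Wronsk2
import Mathlib

set_option autoImplicit false
set_option linter.unusedSectionVars false

namespace Groth.Agent.Lib.Helper4.Wronsk2
open Polynomial

variable {k : Type*} [Field k] [CharZero k] {m : ℕ} (r : Fin m → k) (a : Fin m → ℕ)

/-- a subspace containing `k[X]_{<n}` and a polynomial of degree `≤ n` with nonzero `n`-th
coefficient contains `k[X]_{<n+1}` -/
theorem degLT_succ_le (U : Submodule k k[X]) (n : ℕ) (h1 : degreeLT k n ≤ U) (P : k[X])
    (hP : P ∈ U) (hP' : P ∈ degreeLT k (n + 1)) (hc : P.coeff n ≠ 0) : degreeLT k (n + 1) ≤ U := by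
  intro G hG
  have h2 : G - (G.coeff n / P.coeff n) • P ∈ degreeLT k n := by
    have h3 : G - (G.coeff n / P.coeff n) • P ∈ degreeLT k (n + 1) :=
      Submodule.sub_mem _ hG (Submodule.smul_mem _ _ hP')
    rw [mem_degreeLT, degree_lt_iff_coeff_zero] at h3 ⊢
    intro j hj
    rcases Nat.eq_or_lt_of_le hj with rfl | hlt
    · rw [coeff_sub, coeff_smul, smul_eq_mul, div_mul_cancel₀ _ hc, sub_self]
    · exact h3 j hlt
  have h4 := h1 h2
  have h5 : G = (G - (G.coeff n / P.coeff n) • P) + (G.coeff n / P.coeff n) • P := by ring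
  rw [h5]
  exact U.add_mem h4 (U.smul_mem _ hP)

theorem X_sub_C_pow_mem_degLT (q : k) (N : ℕ) : (X - C q) ^ N ∈ degreeLT k (N + 1) := by
  apply mem_degLT_of_natDegree_lt
  rw [(monic_X_sub_C q).natDegree_pow, natDegree_X_sub_C, mul_one]
  exact Nat.lt_succ_self N

theorem coeff_X_sub_C_pow_self (q : k) (N : ℕ) : ((X - C q) ^ N).coeff N = 1 := by
  have h := ((monic_X_sub_C q).pow N).coeff_natDegree
  rwa [(monic_X_sub_C q).natDegree_pow, natDegree_X_sub_C, mul_one] at h

theorem coeff_X_sub_C_pow_pred (q : k) (N : ℕ) (hN : 1 ≤ N) :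
    ((X - C q) ^ N).coeff (N - 1) = -((N : k) * q) := by
  have e : (X : k[X]) - C q = X + C (-q) := by rw [C_neg]; ring
  rw [e, coeff_X_add_C_pow]
  have h1 : N - (N - 1) = 1 := by omega
  rw [h1, pow_one]
  have h2 : N.choose (N - 1) = N := by
    obtain ⟨t, rfl⟩ : ∃ t, N = t + 1 := ⟨N - 1, by omega⟩
    rw [Nat.add_sub_cancel, Nat.choose_succ_self_right]
  rw [h2]; ring


theorem degLT_inf_degLT (A B : ℕ) : degreeLT k A ⊓ degreeLT k B = degreeLT k (min A B) := by
  apply le_antisymm
  · rintro x ⟨h1, h2⟩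
    rw [SetLike.mem_coe, mem_degreeLT] at h1 h2
    rw [mem_degreeLT]
    rcases le_total A B with h | h
    · rwa [min_eq_left h]
    · rwa [min_eq_right h]
  · exact le_inf (degreeLT_mono (min_le_left _ _)) (degreeLT_mono (min_le_right _ _))

theorem EE_mem_degLT_iff (M : ℕ) : EE r a ∈ degreeLT k M ↔ (∑ j, a j) < M := by
  constructor
  · intro h
    have := natDegree_lt_of_mem_degLT h (EE_ne_zero r a)
    rwa [natDegree_EE] at this
  · intro h
    apply mem_degLT_of_natDegree_lt
    rwa [natDegree_EE]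

theorem finrank_map_degLT (M : ℕ) :
    Module.finrank k ((degreeLT k M).map (Phi r a)) = if (∑ j, a j) < M then M - 1 else M := by
  split_ifs with h
  · have := finrank_map_Phi_of_mem r a (degreeLT k M) ((EE_mem_degLT_iff r a M).2 h)
    rw [finrank_degLT] at this
    omega
  · have := finrank_map_Phi_of_not_mem r a (degreeLT k M) (fun h' => h ((EE_mem_degLT_iff r a M).1 h'))
    rw [finrank_degLT] at this
    exact this

variable (hr : Function.Injective r)
include hr

theorem EE_mem_YY_iff (i : Fin m) (n : ℕ) : EE r a ∈ YY ((X - C (r i)) ^ n) ↔ n ≤ a i := by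
  rw [mem_YY]
  constructor
  · intro h
    by_contra hlt
    push Not at hlt
    have h1 : (X - C (r i)) ^ (a i + 1) ∣ EE r a := dvd_trans (pow_dvd_pow _ hlt) h
    rw [EE_eq r a i, pow_succ] at h1
    have h2 := (mul_dvd_mul_iff_left (pow_ne_zero (a i) (X_sub_C_ne_zero (r i)))).1 h1
    rw [dvd_iff_isRoot] at h2
    exact eval_Ei_ne_zero r a hr i h2
  · intro h
    rw [EE_eq r a i]
    exact dvd_mul_of_dvd_left (pow_dvd_pow _ h) _

theorem finrank_VV (b N : ℕ) (hN : N = (∑ j, a j) + b) : Module.finrank k (VV r a b) = N := by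
  rw [VV_eq r a hr b N hN, finrank_map_degLT, if_pos (by omega)]
  omega

theorem finiteDimensional_VV (b : ℕ) : FiniteDimensional k (VV r a b) := by
  rw [VV_eq r a hr b _ rfl]
  infer_instance

theorem hyp_not_le (b N : ℕ) (hN : N = (∑ j, a j) + b) (V₁ : Submodule k k[X])
    (hV₁ : V₁ ≤ VV r a b) (hfin : Module.finrank k ↥V₁ + 1 = N) :
    ¬ (degreeLT k (N + 1) ≤ V₁.comap (Phi r a)) := by
  intro h
  have h1 : VV r a b ≤ V₁ := by
    rw [VV_eq r a hr b N hN]
    exact Submodule.map_le_iff_le_comap.2 h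
  have := finiteDimensional_VV r a hr b
  have : FiniteDimensional k V₁ := Submodule.finiteDimensional_of_le hV₁
  have h2 := Submodule.finrank_mono h1
  rw [finrank_VV r a hr b N hN] at h2
  omega

theorem hyp_base (b N : ℕ) (hN : N = (∑ j, a j) + b) (V₁ : Submodule k k[X])
    (hU : VV r a (b - 2) ≤ V₁) : degreeLT k (N - 1) ≤ V₁.comap (Phi r a) := by
  rw [VV_eq r a hr (b - 2) _ rfl] at hU
  refine le_trans (degreeLT_mono ?_) (Submodule.map_le_iff_le_comap.1 hU)
  omega

end Groth.Agent.Lib.Helper4.Wronsk2
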