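import Groth.Agent.Lib.Helper4.Wronsk2b
import Mathlib

set_option autoImplicit false
set_option linter.unusedSectionVars false

namespace Groth.Agent.Lib.Helper4.Wronsk2
open Polynomial

/-- expected dimension of `V(-n·point)` at a point where the gap is `e` -/
def fe (N e n : ℕ) : ℕ := if n ≤ e then N - n else N + 1 - n

theorem choose_two_succ (n : ℕ) : (n + 1).choose 2 = n.choose 2 + n := by
  rw [Nat.choose_succ_succ, Nat.choose_one_right]; ring

theorem choose_two_add_two (N : ℕ) (hN : 1 ≤ N) : (N + 1).choose 2 = (N - 1).choose 2 + 2 * N - 1 := by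
  obtain ⟨t, rfl⟩ : ∃ t, N = t + 1 := ⟨N - 1, by omega⟩
  rw [choose_two_succ, choose_two_succ, Nat.add_sub_cancel]
  omega

/-- partial sums of the expected dimensions -/
theorem sum_fe (N e : ℕ) (he : e ≤ N) (d : ℕ) :
    ∑ n ∈ Finset.range d, fe N e (n + 1) + min d e + (N + 1 - d).choose 2 = (N + 1).choose 2 := by
  induction d with
  | zero => simp
  | succ d ih =>
    rw [Finset.sum_range_succ]
    unfold fe at *
    rcases Nat.lt_or_ge N d with h1 | h1
    · -- d > N
      have e1 : N + 1 - d = 0 := by omega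
      have e2 : N + 1 - (d + 1) = 0 := by omega
      rw [e1] at ih
      rw [e2, if_neg (by omega)]
      have e3 : min (d + 1) e = e := by omega
      have e4 : min d e = e := by omega
      rw [e3]; rw [e4] at ih
      omega
    · obtain ⟨t, ht⟩ : ∃ t, N + 1 - d = t + 1 := ⟨N - d, by omega⟩
      have e2 : N + 1 - (d + 1) = t := by omega
      rw [ht, choose_two_succ] at ih
      rw [e2]
      by_cases h2 : d + 1 ≤ e
      · rw [if_pos h2]
        have e3 : min (d + 1) e = d + 1 := by omega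
        have e4 : min d e = d := by omega
        rw [e3]; rw [e4] at ih
        omega
      · rw [if_neg h2]
        have e3 : min (d + 1) e = e := by omega
        have e4 : min d e = e := by omega
        rw [e3]; rw [e4] at ih
        omega

/-- sums vanish beyond the support -/
theorem sum_stable (F : ℕ → ℕ) (N d : ℕ) (hd : N ≤ d) (h : ∀ n, N ≤ n → F (n + 1) = 0) :
    ∑ n ∈ Finset.range d, F (n + 1) = ∑ n ∈ Finset.range N, F (n + 1) := by
  symm
  apply Finset.sum_subset
  · intro x hx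
    rw [Finset.mem_range] at hx ⊢
    omega
  · intro x _ hx
    rw [Finset.mem_range] at hx
    exact h x (by omega)

/-- weight count, pattern A: the hyperplane drops every order up to `N - 1` -/
theorem wtA (N e d : ℕ) (F : ℕ → ℕ) (hN : 1 ≤ N)
    (hcase : (N ≤ d ∧ e + 1 ≤ N) ∨ (d + 1 = N ∧ e = N))
    (h1 : ∀ n, n + 1 ≤ N - 1 → F (n + 1) + 1 = fe N e (n + 1))
    (h2 : F N ≤ 1) (h3 : ∀ n, N + 1 ≤ n → F n = 0) :
    ∃ ε : ℕ, ε ≤ 1 ∧ ∑ n ∈ Finset.range d, F (n + 1) + 1 = (N - 1).choose 2 + (N - e) + ε := by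
  have he : e ≤ N := by omega
  -- partial sums up to `N - 1`
  have hpart : ∀ t, t ≤ N - 1 → ∑ n ∈ Finset.range t, F (n + 1) + t =
      ∑ n ∈ Finset.range t, fe N e (n + 1) := by
    intro t
    induction t with
    | zero => intro _; simp
    | succ t ih =>
      intro ht
      rw [Finset.sum_range_succ, Finset.sum_range_succ, ← ih (by omega), ← h1 t (by omega)]
      ring
  have hS := hpart (N - 1) le_rfl
  have hf := sum_fe N e he (N - 1)
  have e1 : N + 1 - (N - 1) = 2 := by omega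
  rw [e1] at hf
  have hc2 : (2 : ℕ).choose 2 = 1 := by decide
  rw [hc2] at hf
  have hch := choose_two_add_two N hN
  rcases hcase with ⟨hd, he1⟩ | ⟨hd, he1⟩
  · refine ⟨F N, h2, ?_⟩
    rw [sum_stable F N d hd (fun n hn => h3 (n + 1) (by omega))]
    obtain ⟨t, rfl⟩ : ∃ t, N = t + 1 := ⟨N - 1, by omega⟩
    rw [Finset.sum_range_succ]
    rw [Nat.add_sub_cancel] at hS hf hch ⊢
    have e3 : min t e = e := by omega
    rw [e3] at hf
    omega
  · refine ⟨1, le_rfl, ?_⟩
    have hd' : d = N - 1 := by omega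
    rw [hd']
    have e3 : min (N - 1) e = N - 1 := by omega
    rw [e3] at hf
    omega

/-- weight count, pattern B: the hyperplane contains everything of order at least two -/
theorem wtB (N e d : ℕ) (F : ℕ → ℕ) (hN : 1 ≤ N)
    (hcase : (N ≤ d ∧ e + 1 ≤ N ∧ 2 ≤ N) ∨ (d + 1 = N ∧ e = N))
    (h1 : F 1 + 1 = fe N e 1 ∨ F 1 = fe N e 1)
    (h2 : ∀ n, 2 ≤ n → n ≤ d → F n = fe N e n) :
    ∃ ε : ℕ, ε ≤ 1 ∧
      ∑ n ∈ Finset.range d, F (n + 1) = (N - 1).choose 2 + (N - e) + (N - 2) + ε := by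
  have he : e ≤ N := by omega
  have hf := sum_fe N e he d
  have hch := choose_two_add_two N hN
  rcases Nat.eq_zero_or_pos d with hd0 | hdpos
  · -- `d = 0`, so `N = 1`
    subst hd0
    refine ⟨0, by omega, ?_⟩
    rcases hcase with ⟨hd, _, _⟩ | ⟨hd, he1⟩
    · omega
    · have : N = 1 := by omega
      subst this
      subst he1
      simp
  obtain ⟨d', rfl⟩ : ∃ d', d = d' + 1 := ⟨d - 1, by omega⟩
  have hrest : ∑ n ∈ Finset.range d', F (n + 1 + 1) = ∑ n ∈ Finset.range d', fe N e (n + 1 + 1) := by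
    refine Finset.sum_congr rfl (fun n hn => ?_)
    rw [Finset.mem_range] at hn
    exact h2 (n + 1 + 1) (by omega) (by omega)
  rw [Finset.sum_range_succ'] at hf ⊢
  rw [hrest]
  simp only [Nat.zero_add] at hf ⊢
  have hfe1 : fe N e 1 ≤ N := by unfold fe; split_ifs <;> omega
  have hfe1' : 1 ≤ e → fe N e 1 = N - 1 := by
    intro h; unfold fe; rw [if_pos (by omega)]
  have hfe1'' : e = 0 → fe N e 1 = N := by
    intro h; unfold fe; rw [if_neg (by omega)]; omega
  rcases hcase with ⟨hd, he1, hN2⟩ | ⟨hd, he1⟩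
  · have e1 : N + 1 - (d' + 1) = 0 ∨ N + 1 - (d' + 1) = 1 := by omega
    have hc : (N + 1 - (d' + 1)).choose 2 = 0 := by
      rcases e1 with h | h <;> rw [h] <;> decide
    rw [hc] at hf
    have e3 : min (d' + 1) e = e := by omega
    rw [e3] at hf
    rcases h1 with h1 | h1
    · refine ⟨0, by omega, ?_⟩
      rcases Nat.eq_zero_or_pos e with h0 | hpos
      · have := hfe1'' h0; omega
      · have := hfe1' hpos; omega
    · refine ⟨1, le_rfl, ?_⟩
      rcases Nat.eq_zero_or_pos e with h0 | hpos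
      · have := hfe1'' h0; omega
      · have := hfe1' hpos; omega
  · have e1 : N + 1 - (d' + 1) = 2 := by omega
    have hc : (N + 1 - (d' + 1)).choose 2 = 1 := by rw [e1]; decide
    rw [hc] at hf
    have e3 : min (d' + 1) e = d' + 1 := by omega
    rw [e3] at hf
    have := hfe1' (by omega)
    rcases h1 with h1 | h1
    · refine ⟨0, by omega, ?_⟩
      omega
    · refine ⟨1, le_rfl, ?_⟩
      omega


variable {k : Type*} [Field k] [CharZero k] {m : ℕ} (r : Fin m → k) (a : Fin m → ℕ)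

theorem hyp_inf_of_le {V V₁ Y : Submodule k k[X]} (hV₁ : V₁ ≤ V) (h : V ⊓ Y ≤ V₁) :
    V₁ ⊓ Y = V ⊓ Y :=
  le_antisymm (inf_le_inf_right _ hV₁) (le_inf h inf_le_right)

theorem hyp_finrank_of_not_le {V V₁ Y : Submodule k k[X]} [FiniteDimensional k V] (hV₁ : V₁ ≤ V)
    (hfin : Module.finrank k V₁ + 1 = Module.finrank k V) (h : ¬ V ⊓ Y ≤ V₁) :
    Module.finrank k ↥(V₁ ⊓ Y) + 1 = Module.finrank k ↥(V ⊓ Y) := by
  have hfdA : FiniteDimensional k ↥(V ⊓ Y) := Submodule.finiteDimensional_of_le inf_le_left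
  have hfdB : FiniteDimensional k V₁ := Submodule.finiteDimensional_of_le hV₁
  have hsup : (V ⊓ Y) ⊔ V₁ ≤ V := sup_le inf_le_left hV₁
  have hfdS : FiniteDimensional k ↥((V ⊓ Y) ⊔ V₁) := Submodule.finiteDimensional_of_le hsup
  have hlt : V₁ < (V ⊓ Y) ⊔ V₁ := by
    refine lt_of_le_of_ne le_sup_right ?_
    intro heq
    apply h
    rw [heq]
    exact le_sup_left
  have h1 := Submodule.finrank_lt_finrank_of_lt hlt
  have h2 := Submodule.finrank_mono hsup
  have h3 := Submodule.finrank_sup_add_finrank_inf_eq (V ⊓ Y) V₁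
  have h4 : (V ⊓ Y) ⊓ V₁ = V₁ ⊓ Y := by
    rw [inf_comm V Y, inf_assoc, inf_eq_right.2 hV₁, inf_comm]
  rw [h4] at h3
  omega

theorem coprime_sq_EE (p : k) (hp : ∀ j, p ≠ r j) : IsCoprime ((X - C p) ^ 2) (EE r a) := by
  apply IsCoprime.pow_left
  rw [(irreducible_X_sub_C p).coprime_iff_not_dvd, dvd_iff_isRoot]
  exact eval_EE_ne_zero r a p hp

/-- membership of `Φ G` in `V(-p)` gives a double root of `G - cE` at `p` -/
theorem sq_dvd_of_mem (p : k) (hp : ∀ j, p ≠ r j) (G : k[X])
    (h : Phi r a G ∈ YY (X - C p)) : ∃ c : k, (X - C p) ^ 2 ∣ G - c • EE r a := by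
  rw [mem_YY] at h
  have h' : (X - C p) ^ 1 ∣ Phi r a G := by rwa [pow_one]
  exact unmarked_lemma r a p hp 1 G h'

/-- if `P` and `(X - q) P` are both congruent to multiples of `E` modulo `(X - p)^2`, then
`(X - p)^2` divides `P` -/
theorem dbl (p : k) (hp : ∀ j, p ≠ r j) (q : k) (P : k[X]) (c₁ c₂ : k)
    (h1 : (X - C p) ^ 2 ∣ P - c₁ • EE r a) (h2 : (X - C p) ^ 2 ∣ (X - C q) * P - c₂ • EE r a) :
    (X - C p) ^ 2 ∣ P := by
  have h3 : (X - C p) ^ 2 ∣ (C c₂ - C c₁ * (X - C q)) * EE r a := by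
    have := dvd_sub (dvd_mul_of_dvd_right h1 (X - C q)) h2
    have e : (X - C q) * (P - c₁ • EE r a) - ((X - C q) * P - c₂ • EE r a)
        = (C c₂ - C c₁ * (X - C q)) * EE r a := by
      simp only [smul_eq_C_mul]; ring
    rwa [e] at this
  have h4 := (coprime_sq_EE r a p hp).dvd_of_dvd_mul_right h3
  have h5 : C c₂ - C c₁ * (X - C q) = 0 := by
    apply eq_zero_of_dvd_of_degree_lt h4
    rw [degree_pow, degree_X_sub_C]
    refine lt_of_le_of_lt (degree_sub_le _ _) (max_lt ?_ ?_)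
    · exact lt_of_le_of_lt degree_C_le (by norm_num)
    · refine lt_of_le_of_lt (degree_mul_le _ _) ?_
      rw [degree_X_sub_C]
      refine lt_of_le_of_lt (add_le_add_left degree_C_le _) ?_
      norm_num
  have hc₁0 : c₁ = 0 := by
    have := congrArg (fun f => coeff f 1) h5
    simp only [coeff_sub, coeff_C_mul, coeff_X_one, coeff_zero] at this
    simpa using this
  rwa [hc₁0, zero_smul, sub_zero] at h1

end Groth.Agent.Lib.Helper4.Wronsk2
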