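import Groth.Agent.Lib.Helper4.Wronsk2c
import Mathlib

set_option autoImplicit false
set_option linter.unusedSectionVars false

namespace Groth.Agent.Lib.Helper4.Wronsk3
open Polynomial Groth.Agent.Lib.Helper4.Wronsk2

variable {k : Type*} [Field k] [CharZero k]

/-- multiples of a monic `M` of degree `< K` -/
theorem degLT_inf_YY_monic (M : k[X]) (hM : M.Monic) (K : ℕ) :
    degreeLT k K ⊓ YY M = (degreeLT k (K - M.natDegree)).map (LinearMap.mulLeft k M) := by
  apply le_antisymm
  · rintro x ⟨hx1, hx2⟩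
    rw [SetLike.mem_coe, mem_YY] at hx2
    obtain ⟨p, rfl⟩ := hx2
    refine ⟨p, ?_, rfl⟩
    by_cases hp : p = 0
    · rw [hp]; exact zero_mem _
    rw [SetLike.mem_coe, mem_degreeLT] at hx1 ⊢
    have h1 : (M * p).natDegree < K := (natDegree_lt_iff_degree_lt (mul_ne_zero hM.ne_zero hp)).2 hx1
    rw [hM.natDegree_mul' hp] at h1
    refine lt_of_le_of_lt degree_le_natDegree ?_
    exact_mod_cast (by omega : p.natDegree < K - M.natDegree)
  · rintro _ ⟨p, hp, rfl⟩
    refine ⟨?_, ?_⟩
    · rw [LinearMap.mulLeft_apply, SetLike.mem_coe]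
      by_cases hp0 : p = 0
      · rw [hp0, mul_zero]; exact zero_mem _
      rw [SetLike.mem_coe] at hp; rw [mem_degreeLT] at hp ⊢
      have h1 : p.natDegree < K - M.natDegree := (natDegree_lt_iff_degree_lt hp0).2 hp
      refine lt_of_le_of_lt degree_le_natDegree ?_
      rw [hM.natDegree_mul' hp0]
      exact_mod_cast (by omega : M.natDegree + p.natDegree < K)
    · rw [SetLike.mem_coe, mem_YY, LinearMap.mulLeft_apply]
      exact dvd_mul_right _ _

theorem finrank_degLT' (n : ℕ) : Module.finrank k (degreeLT k n) = n := by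
  rw [Module.finrank_eq_card_basis (degreeLT.basis k n)]
  simp

theorem finrank_degLT_inf_YY_monic (M : k[X]) (hM : M.Monic) (K : ℕ) :
    Module.finrank k ↥(degreeLT k K ⊓ YY M) = K - M.natDegree := by
  rw [degLT_inf_YY_monic M hM]
  have hinj : Function.Injective (LinearMap.mulLeft k M) := by
    intro x y hxy
    exact mul_left_cancel₀ hM.ne_zero hxy
  rw [(Submodule.equivMapOfInjective _ hinj (degreeLT k (K - M.natDegree))).symm.finrank_eq,
    finrank_degLT']

end Groth.Agent.Lib.Helper4.Wronsk3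

namespace Groth.Agent.Lib.Helper4.Wronsk3
open Polynomial Groth.Agent.Lib.Helper4.Wronsk2

variable {k : Type*} [Field k] [CharZero k]

/-- the functional `h ↦ h(0) - h(-1)` -/
noncomputable def lam : k[X] →ₗ[k] k := leval (0 : k) - leval (-1 : k)

theorem lam_apply (h : k[X]) : lam h = h.eval 0 - h.eval (-1) := rfl

/-- the system `c + X (X+1) F`, `deg F ≤ a - 1` -/
noncomputable def V2 (a : ℕ) : Submodule k k[X] :=
  Submodule.span k {(1 : Polynomial k)} ⊔
    ((Ideal.span {(X : Polynomial k) * (X + 1)}).restrictScalars k ⊓ Polynomial.degreeLE k ↑(a + 1))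

theorem V2_eq (a : ℕ) : V2 (k := k) a = degreeLT k (a + 2) ⊓ LinearMap.ker lam := by
  apply le_antisymm
  · unfold V2
    refine sup_le ?_ ?_
    · rw [Submodule.span_le, Set.singleton_subset_iff]
      refine ⟨?_, ?_⟩
      · apply mem_degLT_of_natDegree_lt
        rw [natDegree_one]; omega
      · rw [SetLike.mem_coe, LinearMap.mem_ker, lam_apply]; simp
    · rintro x ⟨hx1, hx2⟩
      refine ⟨?_, ?_⟩
      · rw [SetLike.mem_coe, degreeLT_succ_eq_degreeLE]; exact hx2
      · rw [SetLike.mem_coe, mem_YY] at hx1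
        obtain ⟨g, rfl⟩ := hx1
        rw [SetLike.mem_coe, LinearMap.mem_ker, lam_apply]; simp
  · rintro h ⟨h1, h2⟩
    rw [SetLike.mem_coe, LinearMap.mem_ker, lam_apply, sub_eq_zero] at h2
    have hdecomp : h = (h.eval 0) • (1 : k[X]) + (h - C (h.eval 0)) := by
      rw [smul_eq_C_mul, mul_one]; ring
    rw [hdecomp]
    unfold V2
    refine Submodule.add_mem _ (Submodule.mem_sup_left
      (Submodule.smul_mem _ _ (Submodule.subset_span rfl))) (Submodule.mem_sup_right ⟨?_, ?_⟩)
    · rw [SetLike.mem_coe, mem_YY]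
      have hX : (X : k[X]) ∣ h - C (h.eval 0) := by
        have : (X : k[X]) = X - C 0 := by simp
        rw [this, dvd_iff_isRoot]; simp
      have hX1 : (X + 1 : k[X]) ∣ h - C (h.eval 0) := by
        have : (X + 1 : k[X]) = X - C (-1) := by simp
        rw [this, dvd_iff_isRoot, IsRoot.def, eval_sub, eval_C, ← h2, sub_self]
      have hcop : IsCoprime (X : k[X]) (X + 1) := by
        refine ⟨-1, 1, ?_⟩
        ring
      exact hcop.mul_dvd hX hX1
    · rw [SetLike.mem_coe, ← degreeLT_succ_eq_degreeLE]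
      refine Submodule.sub_mem _ h1 ?_
      apply mem_degLT_of_natDegree_lt
      rw [natDegree_C]; omega

end Groth.Agent.Lib.Helper4.Wronsk3
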