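import Groth.Agent.Lib.Helper4.Wronsk3
import Mathlib

set_option autoImplicit false
set_option linter.unusedSectionVars false

namespace Groth.Agent.Lib.Helper4.Wronsk3
open Polynomial Groth.Agent.Lib.Helper4.Wronsk2

variable {k : Type*} [Field k] [CharZero k]

/-- the two-root polynomial -/
noncomputable def PP (u q : k) (i j : ℕ) : k[X] := (X - C u) ^ i * (X - C q) ^ j

theorem PP_ode (u q : k) (i j : ℕ) :
    (X - C u) * (X - C q) * derivative (PP u q i j) =
      (C (i : k) * (X - C q) + C (j : k) * (X - C u)) * PP u q i j := by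
  unfold PP
  rw [derivative_mul, derivative_X_sub_C_pow, derivative_X_sub_C_pow]
  rcases Nat.eq_zero_or_pos i with hi | hi <;> rcases Nat.eq_zero_or_pos j with hj | hj
  · subst hi; subst hj; simp
  · subst hi
    obtain ⟨t, rfl⟩ : ∃ t, j = t + 1 := ⟨j - 1, by omega⟩
    rw [Nat.add_sub_cancel, pow_succ]
    simp only [Nat.cast_zero, map_zero, zero_mul, pow_zero, one_mul, zero_add]
    ring
  · subst hj
    obtain ⟨t, rfl⟩ : ∃ t, i = t + 1 := ⟨i - 1, by omega⟩
    rw [Nat.add_sub_cancel, pow_succ]
    simp only [Nat.cast_zero, map_zero, zero_mul, pow_zero, mul_one, mul_zero, add_zero]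
    ring
  · obtain ⟨t, rfl⟩ : ∃ t, i = t + 1 := ⟨i - 1, by omega⟩
    obtain ⟨s, rfl⟩ : ∃ s, j = s + 1 := ⟨j - 1, by omega⟩
    rw [Nat.add_sub_cancel, Nat.add_sub_cancel, pow_succ, pow_succ]
    ring

theorem PP_monic (u q : k) (i j : ℕ) : (PP u q i j).Monic :=
  ((monic_X_sub_C u).pow i).mul ((monic_X_sub_C q).pow j)

theorem PP_natDegree (u q : k) (i j : ℕ) : (PP u q i j).natDegree = i + j := by
  unfold PP
  rw [((monic_X_sub_C u).pow i).natDegree_mul ((monic_X_sub_C q).pow j),
    (monic_X_sub_C u).natDegree_pow, (monic_X_sub_C q).natDegree_pow, natDegree_X_sub_C,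
    natDegree_X_sub_C, mul_one, mul_one]

/-- three-term recurrence consequence -/
theorem PP_step (u q : k) (hu : u ≠ 0) (hq : q ≠ 0) (i j s : ℕ)
    (h0 : (PP u q i j).coeff s = 0) (h1 : (PP u q i j).coeff (s + 1) = 0) :
    (PP u q i j).coeff (s + 2) = 0 := by
  have ode := PP_ode u q i j
  have ode' : X * (X * derivative (PP u q i j)) - C (u + q) * (X * derivative (PP u q i j))
      + C (u * q) * derivative (PP u q i j) =
      C ((i : k) + j) * (X * PP u q i j) - C ((i : k) * q + j * u) * PP u q i j := by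
    have e1 : (X - C u) * (X - C q) * derivative (PP u q i j) =
        X * (X * derivative (PP u q i j)) - C (u + q) * (X * derivative (PP u q i j))
          + C (u * q) * derivative (PP u q i j) := by
      simp only [map_add, map_mul]; ring
    have e2 : (C (i : k) * (X - C q) + C (j : k) * (X - C u)) * PP u q i j =
        C ((i : k) + j) * (X * PP u q i j) - C ((i : k) * q + j * u) * PP u q i j := by
      simp only [map_add, map_mul]; ring
    rw [← e1, ← e2, ode]
  have hs := congrArg (fun f => coeff f (s + 1)) ode'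
  simp only [coeff_sub, coeff_add, coeff_C_mul, coeff_X_mul, coeff_X_mul_derivative,
    coeff_derivative, h0, h1] at hs
  have hne : u * q * ((s : k) + 1 + 1) ≠ 0 := by
    apply mul_ne_zero (mul_ne_zero hu hq)
    have : ((s + 2 : ℕ) : k) ≠ 0 := by exact_mod_cast (by omega : s + 2 ≠ 0)
    push_cast at this
    have e : (s : k) + 1 + 1 = (s : k) + 2 := by ring
    rw [e]; exact this
  have h2 : (PP u q i j).coeff (s + 2) * (u * q * ((s : k) + 1 + 1)) = 0 := by
    have e : (s + 1 + 1 : ℕ) = s + 2 := rfl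
    simp only [mul_zero, sub_zero, zero_add, zero_mul, Nat.cast_add, Nat.cast_one] at hs
    linear_combination hs
  exact (mul_eq_zero.1 h2).resolve_right hne

/-- no two consecutive vanishing coefficients -/
theorem PP_tcz (u q : k) (hu : u ≠ 0) (hq : q ≠ 0) (i j t : ℕ) (ht : t + 1 ≤ i + j)
    (h0 : (PP u q i j).coeff t = 0) (h1 : (PP u q i j).coeff (t + 1) = 0) : False := by
  have hall : ∀ n, (PP u q i j).coeff (t + n) = 0 ∧ (PP u q i j).coeff (t + n + 1) = 0 := by
    intro n
    induction n with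
    | zero => exact ⟨h0, h1⟩
    | succ n ih =>
      refine ⟨ih.2, ?_⟩
      exact PP_step u q hu hq i j (t + n) ih.1 ih.2
  have hlc := (PP_monic u q i j).coeff_natDegree
  rw [PP_natDegree] at hlc
  obtain ⟨n, hn⟩ : ∃ n, i + j = t + n := ⟨i + j - t, by omega⟩
  rw [hn, (hall n).1] at hlc
  exact zero_ne_one hlc

end Groth.Agent.Lib.Helper4.Wronsk3
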