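import Groth.Agent.Lib.Helper4.Wronsk3b
set_option autoImplicit false
set_option linter.unusedSectionVars false

namespace Groth.Agent.Lib.Helper4.Wronsk3
open Polynomial Groth.Agent.Lib.Helper4.Wronsk2

variable {k : Type*} [Field k] [CharZero k]

/-- marked points `0, 1` -/
def r2 : Fin 2 → k := ![0, 1]
/-- multiplicities `a, b` -/
def a2 (a b : ℕ) : Fin 2 → ℕ := ![a, b]

theorem r2_inj : Function.Injective (r2 (k := k)) := by
  intro x y h
  fin_cases x <;> fin_cases y <;> simp [r2] at h ⊢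

/-- the three-pointed-line system as given in the statements -/
noncomputable def V3 (a b : ℕ) : Submodule k k[X] :=
  ((Ideal.span {(X : Polynomial k) ^ (a + 1)}).restrictScalars k ⊓ Polynomial.degreeLE k ↑(a + b)) ⊔
      ((Ideal.span {((X : Polynomial k) - 1) ^ (b + 1)}).restrictScalars k ⊓ Polynomial.degreeLE k ↑(a + b)) ⊔
      Submodule.span k {(X : Polynomial k) ^ (a + 1) * (X - 1) ^ (b + 1)}

theorem DD_r2 (a b : ℕ) : DD (r2 (k := k)) (a2 a b) = X ^ (a + 1) * (X - 1) ^ (b + 1) := by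
  unfold DD
  rw [Fin.prod_univ_two]
  simp [r2, a2]

theorem Di_r2_zero (a b : ℕ) : Di (r2 (k := k)) (a2 a b) 0 = (X - 1) ^ (b + 1) := by
  unfold Di
  have : (Finset.univ : Finset (Fin 2)).erase 0 = {1} := by decide
  rw [this, Finset.prod_singleton]
  simp [r2, a2]

theorem Di_r2_one (a b : ℕ) : Di (r2 (k := k)) (a2 a b) 1 = X ^ (a + 1) := by
  unfold Di
  have : (Finset.univ : Finset (Fin 2)).erase 1 = {0} := by decide
  rw [this, Finset.prod_singleton]
  simp [r2, a2]

theorem V3_eq (a b : ℕ) : V3 (k := k) a b = VV r2 (a2 a b) 1 := by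
  classical
  unfold V3 VV
  have h1 : (degreeLT k 1).map (LinearMap.mulLeft k (DD (r2 (k := k)) (a2 a b))) =
      Submodule.span k {(X : Polynomial k) ^ (a + 1) * (X - 1) ^ (b + 1)} := by
    rw [degreeLT_eq_span_X_pow, Submodule.map_span, DD_r2]
    congr 1
    simp
  have h2 : (⨆ i : Fin 2, (degreeLT k (a2 a b i)).map (LinearMap.mulLeft k (Di (r2 (k := k)) (a2 a b) i)))
      = (degreeLT k a).map (LinearMap.mulLeft k ((X - 1) ^ (b + 1))) ⊔
        (degreeLT k b).map (LinearMap.mulLeft k (X ^ (a + 1))) := by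
    apply le_antisymm
    · refine iSup_le ?_
      intro i
      fin_cases i
      · simp only [Fin.zero_eta, Di_r2_zero]
        exact le_sup_left
      · simp only [Fin.mk_one, Di_r2_one]
        exact le_sup_right
    · refine sup_le ?_ ?_
      · have := le_iSup (fun i : Fin 2 => (degreeLT k (a2 a b i)).map
          (LinearMap.mulLeft k (Di (r2 (k := k)) (a2 a b) i))) 0
        rw [Di_r2_zero] at this
        exact this
      · have := le_iSup (fun i : Fin 2 => (degreeLT k (a2 a b i)).map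
          (LinearMap.mulLeft k (Di (r2 (k := k)) (a2 a b) i))) 1
        rw [Di_r2_one] at this
        exact this
  have h3 : (Ideal.span {(X : Polynomial k) ^ (a + 1)}).restrictScalars k ⊓ Polynomial.degreeLE k ↑(a + b)
      = (degreeLT k b).map (LinearMap.mulLeft k (X ^ (a + 1))) := by
    rw [← degreeLT_succ_eq_degreeLE, inf_comm]
    have := degLT_inf_YY_monic (k := k) (X ^ (a + 1)) (monic_X_pow _) (a + b + 1)
    rw [natDegree_X_pow] at this
    have e : a + b + 1 - (a + 1) = b := by omega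
    rw [e] at this
    exact this
  have h4 : (Ideal.span {((X : Polynomial k) - 1) ^ (b + 1)}).restrictScalars k ⊓ Polynomial.degreeLE k ↑(a + b)
      = (degreeLT k a).map (LinearMap.mulLeft k ((X - 1) ^ (b + 1))) := by
    rw [← degreeLT_succ_eq_degreeLE, inf_comm]
    have hm : ((X : k[X]) - 1) ^ (b + 1) = (X - C 1) ^ (b + 1) := by simp
    have hmon : (((X : k[X]) - 1) ^ (b + 1)).Monic := by rw [hm]; exact (monic_X_sub_C 1).pow _
    have := degLT_inf_YY_monic (k := k) ((X - 1) ^ (b + 1)) hmon (a + b + 1)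
    have hd : (((X : k[X]) - 1) ^ (b + 1)).natDegree = b + 1 := by
      rw [hm, (monic_X_sub_C 1).natDegree_pow, natDegree_X_sub_C, mul_one]
    rw [hd] at this
    have e : a + b + 1 - (b + 1) = a := by omega
    rw [e] at this
    exact this
  rw [h1, h2, h3, h4]
  rw [sup_comm, sup_comm ((degreeLT k b).map _)]

theorem sum_a2 (a b : ℕ) : ∑ j, a2 a b j = a + b := by
  rw [Fin.sum_univ_two]; rfl

end Groth.Agent.Lib.Helper4.Wronsk3

namespace Groth.Agent.Lib.Helper4.Wronsk3
open Polynomial Groth.Agent.Lib.Helper4.Wronsk2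

variable {k : Type*} [Field k] [CharZero k] {m : ℕ} (r : Fin m → k) (a : Fin m → ℕ)

theorem point_lemma (hr : Function.Injective r) (q : k) (n : ℕ) (G : k[X])
    (h : (X - C q) ^ n ∣ Phi r a G) : ∃ c : k, (X - C q) ^ n ∣ G - c • EE r a := by
  by_cases hq : ∃ j, q = r j
  · obtain ⟨j, rfl⟩ := hq
    exact marked_lemma r a hr j n G h
  · push Not at hq
    obtain ⟨c, hc⟩ := unmarked_lemma r a q hq n G h
    exact ⟨c, dvd_trans (pow_dvd_pow _ (Nat.le_succ n)) hc⟩

theorem Phi_eq_zero_of_dvd (N : ℕ) (hN : ∑ j, a j ≤ N) (G : k[X]) (hG : G ∈ degreeLT k (N + 1))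
    (c : k) (D : k[X]) (_hD : D.Monic) (hdeg : N + 1 ≤ D.natDegree) (h : D ∣ G - c • EE r a) :
    Phi r a G = 0 := by
  have hmem : G - c • EE r a ∈ degreeLT k (N + 1) := by
    refine Submodule.sub_mem _ hG (Submodule.smul_mem _ _ ?_)
    apply mem_degLT_of_natDegree_lt
    rw [natDegree_EE]; omega
  have h0 : G - c • EE r a = 0 := by
    by_contra hne
    have h1 := natDegree_lt_of_mem_degLT hmem hne
    have h2 := natDegree_le_of_dvd h hne
    omega
  rw [← Phi_sub_smul_EE r a G c, h0, map_zero]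

end Groth.Agent.Lib.Helper4.Wronsk3
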