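import Mathlib
import Groth.Prelude.Def_ZClos
import Groth.Agent.Lib.Helper4.ZClosStalk
import Groth.Agent.Lib.Helper4.ZClosDepth1
import Groth.Agent.Lib.Helper4.ZClosDepth2
import Groth.Agent.Lib.Helper4.ZClosH0Depth
import Groth.Agent.Lib.Helper4.CohSk1
import Groth.Agent.S5849

/-!
# associated points of F outside Z: codim >= 2 of Z-points in their closure when the Z-closure is coherent (EGA IV 5.10.10; helper4) (helper4)
-/

set_option backward.isDefEq.respectTransparency.types false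
set_option synthInstance.maxHeartbeats 400000
set_option autoImplicit false
set_option linter.unusedSectionVars false
set_option linter.style.haveILetI false
set_option linter.unusedSimpArgs false
universe u v w
open CategoryTheory CategoryTheory.Limits AlgebraicGeometry TopologicalSpace Topology

namespace Groth.Agent.Lib.Helper4.ZClosAssDim

open Opposite ZClos Groth.Agent.Lead Groth.Agent.Lib.Helper4 Groth.Agent.Lib.Helper4.ZClosStalk
open Groth.Agent.Lib.Helper4.Hartogs1

section Alg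

open IsLocalRing

theorem two_le_krullDim_of_lt {α : Type*} [Preorder α] {a b c : α} (hab : a < b) (hbc : b < c) :
    (2 : WithBot ℕ∞) ≤ Order.krullDim α := by
  let l : LTSeries α :=
    { length := 2
      toFun := ![a, b, c]
      step := by
        intro i
        fin_cases i
        · exact hab
        · exact hbc }
  exact Order.LTSeries.length_le_krullDim l

variable {R : Type u} [CommRing R] [IsLocalRing R] [IsNoetherianRing R]
  {N : Type v} [AddCommGroup N] [Module R N] [Module.Finite R N]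

open Pointwise in
/-- an associated prime of a module of depth at least two has coheight at least two -/
theorem two_le_dim_quot_of_ass (𝔭 : Ideal R) (hass : 𝔭 ∈ associatedPrimes R N)
    (hd : (2 : ℕ∞) ≤ LocCoh.depth R N) :
    (2 : WithBot ℕ∞) ≤ ringKrullDim (R ⧸ 𝔭) := by
  have hass' : IsAssociatedPrime 𝔭 N := hass
  rw [isAssociatedPrime_iff] at hass'
  obtain ⟨h𝔭, z, hz⟩ := hass'
  have hmem : ∀ c : R, c ∈ 𝔭 ↔ c • z = 0 := by
    intro c
    rw [hz, Submodule.mem_colon_singleton, Submodule.mem_bot]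
  have hz0 : z ≠ 0 := by
    intro h0
    apply h𝔭.ne_top
    rw [Ideal.eq_top_iff_one, hmem, h0, smul_zero]
  rw [two_le_depth_iff] at hd
  rcases hd with hs | ⟨r, hr, r', hr', hreg, hreg'⟩
  · exact absurd (Subsingleton.elim z 0) hz0
  have hr𝔭 : r ∉ 𝔭 := by
    intro h
    rw [hmem] at h
    exact hz0 (hreg (by simpa using h))
  -- a prime containing `𝔭 + (r)` other than the maximal ideal
  have hQ : ∃ Q : Ideal R, Q.IsPrime ∧ 𝔭 ⊔ Ideal.span {r} ≤ Q ∧ Q ≠ maximalIdeal R := by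
    by_contra hcon
    push Not at hcon
    have hrad : maximalIdeal R ≤ (𝔭 ⊔ Ideal.span {r}).radical := by
      rw [Ideal.radical_eq_sInf]
      apply le_sInf
      rintro Q ⟨hQle, hQprime⟩
      rw [hcon Q hQprime hQle]
    obtain ⟨k, hk⟩ := Ideal.exists_pow_le_of_le_radical_of_fg hrad
      ((isNoetherianRing_iff_ideal_fg R).1 inferInstance _)
    have hr'k : r' ^ k ∈ 𝔭 ⊔ Ideal.span {r} := hk (Ideal.pow_mem_pow hr' k)
    obtain ⟨c, hc, d', hd', hcd⟩ := Submodule.mem_sup.1 hr'k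
    obtain ⟨d, rfl⟩ := Ideal.mem_span_singleton'.1 hd'
    -- the submodule killed by `𝔭`
    obtain ⟨L, hL⟩ : ∃ L : Submodule R N, ∀ n : N, n ∈ L ↔ ∀ c ∈ 𝔭, c • n = 0 := by
      refine ⟨{ carrier := {n | ∀ c ∈ 𝔭, c • n = 0}
                add_mem' := ?_
                zero_mem' := ?_
                smul_mem' := ?_ }, fun n => Iff.rfl⟩
      · intro a b ha hb c hc
        rw [smul_add, ha c hc, hb c hc, add_zero]
      · intro c _
        rw [smul_zero]
      · intro a n hn c hc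
        rw [smul_comm, hn c hc, smul_zero]
    have hregk : IsSMulRegular (QuotSMulTop r N) (r' ^ k) := hreg'.pow k
    rw [regular_quot_iff] at hregk
    have hLle : L ≤ maximalIdeal R • L := by
      intro n hn
      have h1 : r' ^ k • n ∈ r • (⊤ : Submodule R N) := by
        rw [← hcd, add_smul, (hL n).1 hn c hc, zero_add, mul_smul, mem_smul_top_iff]
        exact ⟨d • n, by rw [smul_comm]⟩
      have h2 := hregk n h1
      rw [mem_smul_top_iff] at h2
      obtain ⟨n₁, rfl⟩ := h2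
      have hn₁ : n₁ ∈ L := by
        rw [hL]
        intro c' hc'
        apply hreg
        simp only [smul_zero]
        rw [smul_comm]
        exact (hL _).1 hn c' hc'
      exact Submodule.smul_mem_smul hr hn₁
    have hbot := Submodule.eq_bot_of_le_smul_of_le_jacobson_bot (maximalIdeal R) L
      (IsNoetherian.noetherian L) hLle
      (by rw [IsLocalRing.jacobson_eq_maximalIdeal ⊥ bot_ne_top])
    have hzL : z ∈ L := by
      rw [hL]; intro c hc; exact (hmem c).1 hc
    rw [hbot, Submodule.mem_bot] at hzL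
    exact hz0 hzL
  obtain ⟨Q, hQprime, hQle, hQne⟩ := hQ
  have h𝔭Q : 𝔭 ≤ Q := le_sup_left.trans hQle
  have hrQ : r ∈ Q := hQle (Ideal.mem_sup_right (Ideal.mem_span_singleton_self r))
  have hQm : Q ≤ maximalIdeal R := IsLocalRing.le_maximalIdeal hQprime.ne_top
  rw [ringKrullDim_quotient]
  have h1 : (⟨⟨𝔭, h𝔭⟩, by rw [PrimeSpectrum.mem_zeroLocus]⟩ :
      PrimeSpectrum.zeroLocus (R := R) (𝔭 : Set R)) < ⟨⟨Q, hQprime⟩, by
        rw [PrimeSpectrum.mem_zeroLocus]; exact h𝔭Q⟩ := by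
    refine lt_of_le_of_ne h𝔭Q ?_
    intro heq
    apply hr𝔭
    have : 𝔭 = Q := congrArg (fun t => t.1.asIdeal) heq
    rw [this]; exact hrQ
  have h2 : (⟨⟨Q, hQprime⟩, by rw [PrimeSpectrum.mem_zeroLocus]; exact h𝔭Q⟩ :
      PrimeSpectrum.zeroLocus (R := R) (𝔭 : Set R)) < ⟨⟨maximalIdeal R, inferInstance⟩, by
        rw [PrimeSpectrum.mem_zeroLocus]; exact h𝔭Q.trans hQm⟩ := by
    refine lt_of_le_of_ne hQm ?_
    intro heq
    apply hQne
    exact congrArg (fun t => t.1.asIdeal) heq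
  exact two_le_krullDim_of_lt h1 h2

end Alg


section Geo

variable {X : Scheme.{u}} [IsLocallyNoetherian X] (Z : Set X) (hZ : StableUnderSpecialization Z)
  (F : X.Modules) (hF : Coh.IsCoh F)

attribute [local instance] SD.stalkModule

include hZ hF in
/-- an associated point of `F` outside `Z` is an associated point of the `Z`-closure (on a chart) -/
theorem ass_H0_of_ass {W₀ : X.Opens} (hW₀ : IsAffineOpen W₀) (x : W₀) (hxZ : x.1 ∉ Z)
    (h : (hW₀.primeIdealOf x).asIdeal ∈ associatedPrimes Γ(X, W₀) Γ(F, W₀)) :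
    (hW₀.primeIdealOf x).asIdeal ∈ associatedPrimes Γ(X, W₀) Γ((H0 Z).obj F, W₀) := by
  haveI : F.IsQuasicoherent := hF.1
  haveI : IsNoetherianRing Γ(X, W₀) := IsLocallyNoetherian.component_noetherian ⟨W₀, hW₀⟩
  have hcl : IsZClosedAt Z F x.1 := Groth.Agent.S5849.result X Z hZ F x.1 hxZ
  have h' : IsAssociatedPrime (hW₀.primeIdealOf x).asIdeal Γ(F, W₀) := h
  rw [isAssociatedPrime_iff] at h'
  obtain ⟨hprime, z, hz⟩ := h'
  have hmem : ∀ c, c ∈ (hW₀.primeIdealOf x).asIdeal ↔ c • z = 0 := by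
    intro c
    have := Submodule.mem_colon_singleton (N := (⊥ : Submodule Γ(X, W₀) Γ(F, W₀))) (x := z) (r := c)
    rw [← hz, Submodule.mem_bot] at this
    exact this
  refine isAssociatedPrime_iff.2 ⟨hprime, (rhoApp Z F).app W₀ z, ?_⟩
  ext c
  rw [Submodule.mem_colon_singleton, Submodule.mem_bot]
  constructor
  · intro hc
    rw [← Scheme.Modules.Hom.app_smul, (hmem c).1 hc, map_zero]
  · intro hc
    rw [← Scheme.Modules.Hom.app_smul] at hc
    have h1 : rhoStalk Z F x.1 (F.presheaf.germ W₀ x.1 x.2 (c • z)) = 0 := by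
      have := Phi_map_germ x.1 (rhoApp Z F) W₀ x.2 (c • z)
      rw [hc, map_zero] at this
      exact this
    have h2 : F.presheaf.germ W₀ x.1 x.2 (c • z) = 0 := by
      apply hcl.1
      rw [h1, map_zero]
    obtain ⟨s, hs, hscz⟩ := (ZClosDepth1.germ_eq_zero_iff F hW₀ x (c • z)).1 h2
    rw [← mul_smul, ← hmem] at hscz
    rcases hprime.mem_or_mem hscz with h3 | h3
    · exact absurd h3 hs
    · exact h3

include hZ hF in
theorem main_aux (hH : Coh.IsCoh ((ZClos.H0 Z).obj F)) {W₀ : X.Opens} (hW₀ : IsAffineOpen W₀)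
    (x y : W₀) (hx : Curv2.IsAssPoint F x.1) (hxZ : x.1 ∉ Z) (hy : y.1 ∈ Z) (h : x.1 ⤳ y.1) :
    (2 : WithBot ℕ∞) ≤ ringKrullDim (X.presheaf.stalk y.1 ⧸
      (IsLocalRing.maximalIdeal (X.presheaf.stalk x.1)).comap
        (X.presheaf.stalkSpecializes h).hom) := by
  haveI : F.IsQuasicoherent := hF.1
  haveI : ((H0 Z).obj F).IsQuasicoherent := hH.1
  haveI : IsNoetherianRing Γ(X, W₀) := IsLocallyNoetherian.component_noetherian ⟨W₀, hW₀⟩
  haveI : Module.Finite Γ(X, W₀) Γ((H0 Z).obj F, W₀) :=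
    Groth.Agent.Helper1.FinPush.finite_sections _ hH hW₀
  have h1 : (hW₀.primeIdealOf x).asIdeal ∈ associatedPrimes Γ(X, W₀) Γ(F, W₀) :=
    (CohSk1.ass_iff F hW₀ x).1 hx
  have h2 := ass_H0_of_ass Z hZ F hF hW₀ x hxZ h1
  haveI := SD.isLocalizedModule_germ ((H0 Z).obj F) hW₀ y
  haveI := hW₀.isLocalization_stalk y
  haveI := hW₀.isLocalization_stalk x
  obtain ⟨𝔭, h𝔭⟩ : ∃ 𝔭 : Ideal (X.presheaf.stalk y.1), 𝔭 =
      (IsLocalRing.maximalIdeal (X.presheaf.stalk x.1)).comap
        (X.presheaf.stalkSpecializes h).hom := ⟨_, rfl⟩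
  rw [← h𝔭]
  have hcomap : 𝔭.comap (algebraMap Γ(X, W₀) (X.presheaf.stalk y.1)) =
      (hW₀.primeIdealOf x).asIdeal := by
    rw [← IsLocalization.AtPrime.comap_maximalIdeal (X.presheaf.stalk x.1)
      (hW₀.primeIdealOf x).asIdeal, h𝔭]
    ext r
    rw [Ideal.mem_comap, Ideal.mem_comap, Ideal.mem_comap]
    have e : (X.presheaf.stalkSpecializes h).hom (algebraMap Γ(X, W₀) (X.presheaf.stalk y.1) r) =
        algebraMap Γ(X, W₀) (X.presheaf.stalk x.1) r :=
      TopCat.Presheaf.germ_stalkSpecializes_apply X.presheaf y.2 h r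
    rw [e]
  have h3 : 𝔭 ∈ associatedPrimes (X.presheaf.stalk y.1) (((H0 Z).obj F).presheaf.stalk y.1) :=
    Module.associatedPrimes.mem_associatedPrimes_of_comap_mem_associatedPrimes_of_isLocalizedModule
      (hW₀.primeIdealOf y).asIdeal.primeCompl (SD.germₗ ((H0 Z).obj F) y) 𝔭
      (by rw [hcomap]; exact h2)
  haveI : Module.Finite (X.presheaf.stalk y.1) (((H0 Z).obj F).presheaf.stalk y.1) :=
    SD.finite_stalk_of_finite_sections ((H0 Z).obj F) hW₀ y inferInstance
  exact two_le_dim_quot_of_ass 𝔭 h3 (ZClosH0Depth.main Z hZ F hF hH y.1 hy)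

include hZ hF in
theorem main (hH : Coh.IsCoh ((ZClos.H0 Z).obj F))
    (x : X) (hx : x ∈ AssSch.Ass F) (hxZ : x ∉ Z) (y : X) (hy : y ∈ Z) (h : x ⤳ y) :
    (2 : WithBot ℕ∞) ≤ ringKrullDim (X.presheaf.stalk y ⧸
      (IsLocalRing.maximalIdeal (X.presheaf.stalk x)).comap
        (X.presheaf.stalkSpecializes h).hom) := by
  obtain ⟨W₀, hW₀, hyW₀⟩ : ∃ W₀ : X.Opens, IsAffineOpen W₀ ∧ y ∈ W₀ := by
    obtain ⟨_, ⟨W₀, hW₀, rfl⟩, h1, -⟩ :=
      X.isBasis_affineOpens.exists_subset_of_mem_open (Set.mem_univ y) isOpen_univ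
    exact ⟨W₀, hW₀, h1⟩
  have hxW₀ : x ∈ W₀ := h.mem_open W₀.2 hyW₀
  exact main_aux Z hZ F hF hH hW₀ ⟨x, hxW₀⟩ ⟨y, hyW₀⟩ hx hxZ hy h

end Geo

end Groth.Agent.Lib.Helper4.ZClosAssDim
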