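import Mathlib
import Groth.Prelude.Def_ZClos
import Groth.Prelude.Def_FDesc
import Groth.Agent.Lib.Helper4.ZClosStalk
import Groth.Agent.Lib.Helper4.ZClosDepth1
import Groth.Agent.Lib.Helper4.CohIso1
import Groth.Agent.Lib.Helper4.CohSk1
import Groth.Agent.Lib.Helper1.FinPush
import Groth.Agent.Lib.Helper1.CohRestr
import Groth.Agent.Lib.Helper1.PushQc

/-!
# coherence of the direct images i_*(F|X-T) when the Z-closure is coherent and F has no associated points in Z (EGA IV 5.11.4 a=>d; helper4) (helper4)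
-/

set_option backward.isDefEq.respectTransparency.types false
set_option synthInstance.maxHeartbeats 400000
set_option autoImplicit false
set_option linter.unusedSectionVars false
set_option linter.style.haveILetI false
set_option linter.unusedSimpArgs false
universe u v w
open CategoryTheory CategoryTheory.Limits AlgebraicGeometry TopologicalSpace Topology

namespace Groth.Agent.Lib.Helper4.ZClosResPushCoh

open Opposite ZClos Groth.Agent.Lead Groth.Agent.Lib.Helper4 Groth.Agent.Lib.Helper4.ZClosStalk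
open Groth.Agent.S5849 (Phi)

variable {X : Scheme.{u}} [IsLocallyNoetherian X] (Z : Set X) (hZ : StableUnderSpecialization Z)
  (F : X.Modules) (hF : Coh.IsCoh F)

/-- sections in the kernel of the colimit injection have vanishing germs outside `Z` -/
theorem germ_eq_zero_of_ι_eq_zero (T : Cl Z) (V : X.Opens) (t : Γ(R Z F T, V))
    (ht : (colimit.ι ((diagram Z).obj F) T).app V t = 0) (y : X)
    (hy : y ∈ T.U.ι ''ᵁ T.U.ι ⁻¹ᵁ V) (hyZ : y ∉ Z) :
    F.presheaf.germ _ y hy t = 0 := by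
  have hyV : y ∈ V := by
    have := hy
    rw [ι_image_preimage] at this
    exact this.2
  have h1 : (D Z F y).ι.app T ((R Z F T).presheaf.germ V y hyV t) =
      (D Z F y).ι.app T ((R Z F T).presheaf.germ V y hyV 0) := by
    have e : (D Z F y).ι.app T ((R Z F T).presheaf.germ V y hyV t) =
        ((H0 Z).obj F).presheaf.germ V y hyV ((colimit.ι ((diagram Z).obj F) T).app V t) :=
      Phi_map_germ y (colimit.ι ((diagram Z).obj F) T) V hyV t
    have e0 : (D Z F y).ι.app T ((R Z F T).presheaf.germ V y hyV 0) =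
        ((H0 Z).obj F).presheaf.germ V y hyV ((colimit.ι ((diagram Z).obj F) T).app V 0) :=
      Phi_map_germ y (colimit.ι ((diagram Z).obj F) T) V hyV 0
    rw [e, e0, ht, map_zero]
  obtain ⟨T', h, h₂, W, hW, hW₂, hyW, heq⟩ := (rep_eq_iff Z F y T T V V hyV hyV t 0).1 h1
  have heq' : F.presheaf.map (homOfLE (le_aux h hW)).op t = 0 :=
    heq.trans (map_zero (F.presheaf.map (homOfLE (le_aux h₂ hW₂)).op).hom)
  have hyT' : y ∈ T'.U := fun hmem => hyZ (T'.2 hmem)
  have hyim : y ∈ T'.U.ι ''ᵁ T'.U.ι ⁻¹ᵁ W := by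
    rw [ι_image_preimage]; exact ⟨hyT', hyW⟩
  have := congrArg (fun z => F.presheaf.germ _ y hyim z) heq'
  simp only at this
  rw [TopCat.Presheaf.germ_res_apply, map_zero] at this
  exact this

include hF in
/-- a section of a module without associated points in `Z` whose germs vanish outside `Z` is zero -/
theorem section_eq_zero_of_germs (hass : ∀ x ∈ AssSch.Ass F, x ∉ Z) (O : X.Opens) (t : Γ(F, O))
    (h : ∀ (y : X) (hy : y ∈ O), y ∉ Z → F.presheaf.germ O y hy t = 0) : t = 0 := by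
  haveI : F.IsQuasicoherent := hF.1
  apply TopCat.Presheaf.section_ext ⟨F.presheaf, F.isSheaf⟩
  intro y hy
  rw [map_zero]
  by_contra hne
  obtain ⟨W, hW, hyW, hWO⟩ : ∃ W : X.Opens, IsAffineOpen W ∧ y ∈ W ∧ W ≤ O := by
    obtain ⟨_, ⟨W, hW, rfl⟩, h1, h2⟩ := X.isBasis_affineOpens.exists_subset_of_mem_open hy O.2
    exact ⟨W, hW, h1, h2⟩
  haveI : IsNoetherianRing Γ(X, W) := IsLocallyNoetherian.component_noetherian ⟨W, hW⟩
  obtain ⟨m, hm⟩ : ∃ m : Γ(F, W), m = F.presheaf.map (homOfLE hWO).op t := ⟨_, rfl⟩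
  have hgm : ∀ (z : X) (hz : z ∈ W), F.presheaf.germ W z hz m = F.presheaf.germ O z (hWO hz) t := by
    intro z hz
    rw [hm, TopCat.Presheaf.germ_res_apply]
  have h1 : ∀ c : Γ(X, W), c ∉ (hW.primeIdealOf ⟨y, hyW⟩).asIdeal → c • m ≠ 0 := by
    intro c hc hcm
    apply hne
    rw [← hgm y hyW]
    exact (ZClosDepth1.germ_eq_zero_iff F hW ⟨y, hyW⟩ m).2 ⟨c, hc, hcm⟩
  obtain ⟨P, hP, hPp, hPm⟩ := ZClosDepth1.exists_ass_le (hW.primeIdealOf ⟨y, hyW⟩).asIdeal m h1
  haveI hPprime : P.IsPrime := IsAssociatedPrime.isPrime hP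
  obtain ⟨η, hη⟩ : ∃ η : X, η = hW.fromSpec ⟨P, hPprime⟩ := ⟨_, rfl⟩
  have hηW : η ∈ W := by rw [hη]; exact SD.fromSpec_mem hW _
  have hPη : hW.primeIdealOf ⟨η, hηW⟩ = ⟨P, hPprime⟩ := by
    have := SD.primeIdealOf_fromSpec hW ⟨P, hPprime⟩
    convert this
  have hηass : η ∈ AssSch.Ass F := by
    apply (CohSk1.ass_iff F hW ⟨η, hηW⟩).2
    rw [hPη]
    exact hP
  have hg := h η (hWO hηW) (hass η hηass)
  rw [← hgm η hηW] at hg
  obtain ⟨c, hc, hcm⟩ := (ZClosDepth1.germ_eq_zero_iff F hW ⟨η, hηW⟩ m).1 hg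
  rw [hPη] at hc
  exact hPm c hc hcm

include hF in
theorem main (hass : ∀ x ∈ AssSch.Ass F, x ∉ Z) (hH : Coh.IsCoh ((ZClos.H0 Z).obj F))
    (T : ZClos.Cl Z) : Coh.IsCoh ((ZClos.resPush T.U).obj F) := by
  haveI : F.IsQuasicoherent := hF.1
  haveI : ((Scheme.Modules.restrictFunctor T.U.ι).obj F).IsQuasicoherent :=
    (Groth.Agent.Helper1.FinPush.isCoh_restrict T.U.ι F hF).1
  haveI hq : ((ZClos.resPush T.U).obj F).IsQuasicoherent :=
    Groth.Agent.Helper1.PushQc.isQuasicoherent_pushforward (f := T.U.ι)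
      (F := (Scheme.Modules.restrictFunctor T.U.ι).obj F)
  refine ⟨hq, Groth.Agent.Helper1.FinPush.isFiniteType_of_finite_sections _ fun V hV => ?_⟩
  haveI : IsNoetherianRing Γ(X, V) := IsLocallyNoetherian.component_noetherian ⟨V, hV⟩
  haveI : Module.Finite Γ(X, V) Γ(colimit ((diagram Z).obj F), V) :=
    Groth.Agent.Helper1.FinPush.finite_sections _ hH hV
  apply Module.Finite.of_injective
    (CohIso1.appₗ (colimit.ι ((diagram Z).obj F) T) V)
  rw [injective_iff_map_eq_zero]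
  intro t ht
  exact section_eq_zero_of_germs Z F hF hass (T.U.ι ''ᵁ T.U.ι ⁻¹ᵁ V)
    (show Γ(F, T.U.ι ''ᵁ T.U.ι ⁻¹ᵁ V) from t)
    (fun y hy hyZ => germ_eq_zero_of_ι_eq_zero Z F T V t ht y hy hyZ)

end Groth.Agent.Lib.Helper4.ZClosResPushCoh
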