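import Mathlib
import Groth.Prelude.Def_ZClos
import Groth.Prelude.Def_FDesc
import Groth.Agent.Lib.Helper4.ZClosStalk
import Groth.Agent.Lib.Helper4.ZClosDepth1
import Groth.Agent.Lib.Helper4.ZClosDepth2
import Groth.Agent.Lib.Helper4.ZClosH0Depth
import Groth.Agent.Lib.Helper4.ZClosOpenLocus
import Groth.Agent.Lib.Helper4.CohIso1
import Groth.Agent.Lib.Helper4.CohHartogs1
import Groth.Agent.Lib.Helper1.FinPush
import Groth.Agent.Lib.Helper8.Depth23
import Groth.Agent.Lib.Helper8.Loc1
import Groth.Agent.S5849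

/-!
# the Z^(2)-closure of a coherent module is (S2); the (S2)-locus is open with complement of codimension >= 2 (EGA IV 5.10.14-15; helper4) (helper4)
-/

set_option backward.isDefEq.respectTransparency.types false
set_option synthInstance.maxHeartbeats 400000
set_option autoImplicit false
set_option linter.unusedSectionVars false
set_option linter.style.haveILetI false
set_option linter.unusedSimpArgs false
universe u v w
open CategoryTheory CategoryTheory.Limits AlgebraicGeometry TopologicalSpace Topology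

namespace Groth.Agent.Lib.Helper4.ZClosS2

open Opposite ZClos Groth.Agent.Lead Groth.Agent.Lib.Helper4 Groth.Agent.Lib.Helper4.ZClosStalk
open Groth.Agent.Lib.Helper4.Hartogs1

section Alg

open IsLocalRing

theorem le_zero_of_not_two_le (d : WithBot ℕ∞) (h2 : ¬ (2 : WithBot ℕ∞) ≤ d) (h1 : d ≠ 1) :
    d ≤ 0 := by
  induction d using WithBot.recBotCoe with
  | bot => exact bot_le
  | coe n =>
    have hn : n < 2 := by
      by_contra hcon
      push Not at hcon
      have h2' : ((2 : ℕ∞) : WithBot ℕ∞) ≤ (n : WithBot ℕ∞) := WithBot.coe_le_coe.2 hcon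
      exact h2 h2'
    have hn1 : n ≠ 1 := by
      intro h; apply h1; rw [h]; rfl
    have hntop : n ≠ ⊤ := ne_top_of_lt hn
    lift n to ℕ using hntop
    have hn' : n < 2 := by exact_mod_cast hn
    have hn1' : n ≠ 1 := by
      intro h; apply hn1; rw [h]; rfl
    have : n = 0 := by omega
    rw [this]
    rfl

variable {R : Type u} [CommRing R] [IsLocalRing R] [IsNoetherianRing R]
  {N : Type v} [AddCommGroup N] [Module R N] [Module.Finite R N]

theorem one_le_depth_of_not_ass (h : maximalIdeal R ∉ associatedPrimes R N) :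
    (1 : ℕ∞) ≤ LocCoh.depth R N := by
  rw [one_le_depth_iff]
  right
  rw [exists_regular_mem_iff]
  intro P hP hle
  have hPprime : P.IsPrime := IsAssociatedPrime.isPrime hP
  have hEq : P = maximalIdeal R :=
    le_antisymm (IsLocalRing.le_maximalIdeal hPprime.ne_top) hle
  rw [hEq] at hP
  exact h hP

theorem s2_of_dim_lt_two (hdim : ¬ (2 : WithBot ℕ∞) ≤ ringKrullDim R)
    (hass : ringKrullDim R = 1 → maximalIdeal R ∉ associatedPrimes R N) :
    min (2 : WithBot ℕ∞) (Module.supportDim R N) ≤ ((LocCoh.depth R N : ℕ∞) : WithBot ℕ∞) := by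
  have h1 := Module.supportDim_le_ringKrullDim (R := R) (M := N)
  by_cases hd : ringKrullDim R = 1
  · have h2 := one_le_depth_of_not_ass (hass hd)
    refine (min_le_right _ _).trans (h1.trans ?_)
    rw [hd]
    exact_mod_cast h2
  · have h0 := le_zero_of_not_two_le _ hdim hd
    refine (min_le_right _ _).trans (h1.trans (h0.trans ?_))
    have : ((0 : ℕ∞) : WithBot ℕ∞) ≤ ((LocCoh.depth R N : ℕ∞) : WithBot ℕ∞) :=
      WithBot.coe_le_coe.2 (zero_le (a := LocCoh.depth R N))
    exact this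

end Alg


section Geo

variable {X : Scheme.{u}} [IsLocallyNoetherian X]

theorem stable_dimGe (n : ℕ) : StableUnderSpecialization (ZClos.dimGe X n) := by
  intro x y hxy hx
  change (n : WithBot ℕ∞) ≤ ringKrullDim (X.presheaf.stalk y)
  have hx' : (n : WithBot ℕ∞) ≤ ringKrullDim (X.presheaf.stalk x) := hx
  rw [ringKrullDim_stalk_eq_coheight] at hx' ⊢
  refine hx'.trans ?_
  have h : Order.coheight x ≤ Order.coheight y := Order.coheight_anti (show y ≤ x from hxy)
  exact_mod_cast h

theorem finite_stalk (F : X.Modules) (hF : Coh.IsCoh F) (x : X) :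
    Module.Finite (X.presheaf.stalk x) (F.presheaf.stalk x) := by
  haveI : F.IsQuasicoherent := hF.1
  obtain ⟨V, hV, hxV⟩ : ∃ V : X.Opens, IsAffineOpen V ∧ x ∈ V := by
    obtain ⟨_, ⟨V, hV, rfl⟩, h1, -⟩ :=
      X.isBasis_affineOpens.exists_subset_of_mem_open (Set.mem_univ x) isOpen_univ
    exact ⟨V, hV, h1⟩
  exact SD.finite_stalk_of_finite_sections F hV ⟨x, hxV⟩
    (Groth.Agent.Helper1.FinPush.finite_sections F hF hV)

/-- (S₂) at a point of codimension at most one, in the absence of associated points of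
codimension one -/
theorem s2_at_of_dim_lt_two (F : X.Modules) (hF : Coh.IsCoh F)
    (hass : ∀ x ∈ AssSch.Ass F, ringKrullDim (X.presheaf.stalk x) ≠ 1) (x : X)
    (hx : x ∉ ZClos.dimGe X 2) :
    min (2 : WithBot ℕ∞) (Module.supportDim (X.presheaf.stalk x) (F.presheaf.stalk x)) ≤
      ((LocCoh.depth (X.presheaf.stalk x) (F.presheaf.stalk x) : ℕ∞) : WithBot ℕ∞) := by
  haveI := finite_stalk F hF x
  exact s2_of_dim_lt_two hx (fun hd hmem => hass x hmem hd)

theorem S5860_main (F : X.Modules) (hF : Coh.IsCoh F)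
    (hass : ∀ x ∈ AssSch.Ass F, ringKrullDim (X.presheaf.stalk x) ≠ 1)
    (hH : Coh.IsCoh ((ZClos.H0 (ZClos.dimGe X 2)).obj F)) (x : X) :
    min (2 : WithBot ℕ∞) (Module.supportDim (X.presheaf.stalk x)
        (((ZClos.H0 (ZClos.dimGe X 2)).obj F).presheaf.stalk x)) ≤
      ((LocCoh.depth (X.presheaf.stalk x)
        (((ZClos.H0 (ZClos.dimGe X 2)).obj F).presheaf.stalk x) : ℕ∞) : WithBot ℕ∞) := by
  have hZ := stable_dimGe (X := X) 2
  by_cases hx : x ∈ ZClos.dimGe X 2
  · have h2 := ZClosH0Depth.main _ hZ F hF hH x hx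
    refine (min_le_left _ _).trans ?_
    have : ((2 : ℕ∞) : WithBot ℕ∞) ≤ ((LocCoh.depth (X.presheaf.stalk x)
        (((ZClos.H0 (ZClos.dimGe X 2)).obj F).presheaf.stalk x) : ℕ∞) : WithBot ℕ∞) :=
      WithBot.coe_le_coe.2 h2
    exact this
  · have hcl : IsZClosedAt (ZClos.dimGe X 2) F x :=
      Groth.Agent.S5849.result X _ hZ F x hx
    obtain ⟨e, -⟩ : ∃ e : F.presheaf.stalk x ≃ₗ[X.presheaf.stalk x]
        ((ZClos.H0 (ZClos.dimGe X 2)).obj F).presheaf.stalk x, True :=
      ⟨LinearEquiv.ofBijective (CohIso1.stalkMapₗ (rhoApp (ZClos.dimGe X 2) F) x) hcl, trivial⟩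
    have hd := Groth.Agent.Helper8.Depth.depth_eq_of_semilinear
      (RingEquiv.refl (X.presheaf.stalk x)) e.toAddEquiv
      (fun (r : X.presheaf.stalk x) (y : F.presheaf.stalk x) => map_smul e r y)
    rw [← Module.supportDim_eq_of_equiv e, hd]
    exact s2_at_of_dim_lt_two F hF hass x hx

attribute [local instance] SD.stalkModule

/-- if all stalks are nonzero, the dimension of a stalk is the dimension of the local ring -/
theorem supportDim_stalk_eq (F : X.Modules) (hF : Coh.IsCoh F)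
    (hsupp : ∀ x : X, Nontrivial (F.presheaf.stalk x)) (x : X) :
    Module.supportDim (X.presheaf.stalk x) (F.presheaf.stalk x) =
      ringKrullDim (X.presheaf.stalk x) := by
  haveI : F.IsQuasicoherent := hF.1
  obtain ⟨V, hV, hxV⟩ : ∃ V : X.Opens, IsAffineOpen V ∧ x ∈ V := by
    obtain ⟨_, ⟨V, hV, rfl⟩, h1, -⟩ :=
      X.isBasis_affineOpens.exists_subset_of_mem_open (Set.mem_univ x) isOpen_univ
    exact ⟨V, hV, h1⟩
  have hs : Module.support Γ(X, V) Γ(F, V) = Set.univ := by
    rw [Set.eq_univ_iff_forall]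
    intro P
    rw [Module.mem_support_iff]
    obtain ⟨y, hy⟩ : ∃ y : V, hV.primeIdealOf y = P :=
      ⟨⟨hV.fromSpec P, SD.fromSpec_mem hV P⟩, SD.primeIdealOf_fromSpec hV P⟩
    haveI := SD.isLocalizedModule_germ F hV y
    haveI : Nontrivial (F.presheaf.stalk y.1) := hsupp y.1
    rw [← hy]
    exact (IsLocalizedModule.iso (hV.primeIdealOf y).asIdeal.primeCompl
      (SD.germₗ F y)).toEquiv.nontrivial
  obtain ⟨y, hy⟩ : ∃ y : V, y.1 = x := ⟨⟨x, hxV⟩, rfl⟩
  subst hy
  haveI := SD.isLocalizedModule_germ F hV y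
  haveI := hV.isLocalization_stalk y
  have h1 := Groth.Agent.Helper8.Loc.supportDim_eq (hV.primeIdealOf y).asIdeal Γ(F, V)
    (X.presheaf.stalk y.1) (F.presheaf.stalk y.1) (SD.germₗ F y)
  rw [h1, Hartogs1.supportDim_localized hs,
    IsLocalization.AtPrime.ringKrullDim_eq_height (hV.primeIdealOf y).asIdeal
      (X.presheaf.stalk y.1)]

theorem S5861_main (F : X.Modules) (hF : Coh.IsCoh F)
    (hsupp : ∀ x : X, Nontrivial (F.presheaf.stalk x))
    (hass : ∀ x ∈ AssSch.Ass F, ringKrullDim (X.presheaf.stalk x) ≠ 1)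
    (hH : Coh.IsCoh ((ZClos.H0 (ZClos.dimGe X 2)).obj F)) :
    IsOpen {x : X | ∀ x' : X, x' ⤳ x →
        min (2 : WithBot ℕ∞) (Module.supportDim (X.presheaf.stalk x') (F.presheaf.stalk x')) ≤
          ((LocCoh.depth (X.presheaf.stalk x') (F.presheaf.stalk x') : ℕ∞) : WithBot ℕ∞)} ∧
      ∀ x : X, (¬ ∀ x' : X, x' ⤳ x →
        min (2 : WithBot ℕ∞) (Module.supportDim (X.presheaf.stalk x') (F.presheaf.stalk x')) ≤
          ((LocCoh.depth (X.presheaf.stalk x') (F.presheaf.stalk x') : ℕ∞) : WithBot ℕ∞)) →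
        (2 : WithBot ℕ∞) ≤ ringKrullDim (X.presheaf.stalk x) := by
  have hZ := stable_dimGe (X := X) 2
  have hopen := ZClosOpenLocus.isOpen_closedAt (ZClos.dimGe X 2) F hF hH
  have hset : {x : X | ∀ x' : X, x' ⤳ x →
        min (2 : WithBot ℕ∞) (Module.supportDim (X.presheaf.stalk x') (F.presheaf.stalk x')) ≤
          ((LocCoh.depth (X.presheaf.stalk x') (F.presheaf.stalk x') : ℕ∞) : WithBot ℕ∞)} =
      {x : X | IsZClosedAt (ZClos.dimGe X 2) F x} := by
    ext x
    constructor
    · intro h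
      rw [Set.mem_setOf_eq, ZClosDepth2.main _ hZ F hF x]
      intro x' hsp hx'Z
      have h1 := h x' hsp
      have hx'Z' : (2 : WithBot ℕ∞) ≤ ringKrullDim (X.presheaf.stalk x') := hx'Z
      rw [supportDim_stalk_eq F hF hsupp x', min_eq_left hx'Z'] at h1
      exact WithBot.coe_le_coe.1 h1
    · intro h x' hsp
      have hx' : IsZClosedAt (ZClos.dimGe X 2) F x' := hopen.stableUnderGeneralization hsp h
      by_cases hx'Z : x' ∈ ZClos.dimGe X 2
      · have h2 := (ZClosDepth2.main _ hZ F hF x').1 hx' x' specializes_rfl hx'Z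
        refine (min_le_left _ _).trans ?_
        have : ((2 : ℕ∞) : WithBot ℕ∞) ≤ ((LocCoh.depth (X.presheaf.stalk x')
            (F.presheaf.stalk x') : ℕ∞) : WithBot ℕ∞) := WithBot.coe_le_coe.2 h2
        exact this
      · exact s2_at_of_dim_lt_two F hF hass x' hx'Z
  constructor
  · rw [hset]; exact hopen
  · intro x hx
    by_contra hxZ
    apply hx
    have hmem : x ∈ {x : X | IsZClosedAt (ZClos.dimGe X 2) F x} :=
      Groth.Agent.S5849.result X _ hZ F x hxZ
    rw [← hset] at hmem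
    exact hmem

end Geo

end Groth.Agent.Lib.Helper4.ZClosS2
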